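import Cfsg.Agent.H14.UX0
import Cfsg.Agent.H14.UX1
import Cfsg.Agent.H14.UX2
import Cfsg.Agent.H14.UX3
import Cfsg.Agent.H14.UX4
import Cfsg.Agent.H14.UX5
import Cfsg.Agent.H14.UX6
import Cfsg.Agent.H14.UX7
import Cfsg.Agent.H14.UX8
import Cfsg.Agent.H14.UX9
import Cfsg.Agent.H14.UXF

/-!
# Frames: check
-/

set_option autoImplicit false
set_option maxRecDepth 100000

namespace H14.UM

noncomputable def PF0 : List (ℕ × Ins) := [(3, .gn 200),
  (11, .gn 206),
  (19, .gn 210),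
  (27, .gn 214),
  (35, .gn 218),
  (43, .gn 222),
  (51, .gn 226),
  (59, .gn 230),
  (67, .gn 204),
  (75, .gn 208),
  (83, .gn 212),
  (91, .gn 216),
  (99, .gn 220),
  (107, .gn 224),
  (115, .gn 228),
  (123, .gn 232),
  (7, .fr 262 262 [242, 210, 246, 250, 206, 222, 250]),
  (15, .fr 278 278 [238, 206, 210, 214, 246, 250, 222]),
  (23, .fr 258 258 [218, 222, 210, 210, 218])]
theorem kF0 : run PF0 (.nd (.nd X9 X0) (.nd (mkT 1) (mkT 5))) (fun s => eqT XF0 (rt (rt s))) = true := by decide +kernel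
noncomputable def PF1 : List (ℕ × Ins) := [(3, .gn 236),
  (11, .gn 666),
  (19, .gn 670),
  (27, .gn 674),
  (35, .gn 678),
  (43, .gn 682),
  (51, .gn 686),
  (59, .gn 690),
  (67, .gn 240),
  (75, .gn 244),
  (83, .gn 248),
  (91, .gn 252),
  (99, .gn 256),
  (107, .gn 260),
  (115, .gn 264),
  (123, .gn 268),
  (7, .fr 470 470 [682, 682, 682, 682]),
  (15, .fr 406 406 [698, 690, 698, 702, 718]),
  (23, .fr 270 274 []),
  (31, .fr 370 370 [682, 682, 682, 682]),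
  (39, .fr 378 378 [678, 686, 706])]
theorem kF1 : run PF1 (.nd (.nd X9 X0) (.nd (mkT 1) (mkT 5))) (fun s => eqT XF1 (rt (rt s))) = true := by decide +kernel
noncomputable def PF2 : List (ℕ × Ins) := [(3, .gn 544),
  (11, .gn 570),
  (19, .gn 578),
  (27, .gn 586),
  (35, .gn 594),
  (43, .gn 602),
  (51, .gn 610),
  (59, .gn 618),
  (67, .gn 552),
  (75, .gn 560),
  (83, .gn 568),
  (91, .gn 576),
  (99, .gn 584),
  (107, .gn 592),
  (115, .gn 600),
  (123, .gn 608),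
  (7, .fr 4 4 [626, 634, 634, 586, 634, 586, 570]),
  (15, .fr 188 188 [578, 642, 578, 578, 650, 602]),
  (23, .fr 484 484 [650, 578, 594, 578, 594, 634, 602]),
  (31, .fr 1442 1442 [586, 578, 586, 634, 610]),
  (39, .fr 212 212 [626, 594, 578, 594, 586]),
  (47, .fr 682 794 []),
  (55, .fr 746 802 []),
  (63, .fr 38 38 [626, 610, 578, 650, 610, 602, 610]),
  (71, .fr 1130 1130 [626, 586, 626, 586, 570, 642, 578])]
theorem kF2 : run PF2 (.nd (.nd (.nd X9 X1) (.nd X0 X2)) (.nd (mkT 1) (mkT 5))) (fun s => eqT XF2 (rt (rt s))) = true := by decide +kernel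
noncomputable def PF3 : List (ℕ × Ins) := [(3, .gn 1232),
  (11, .gn 2914),
  (19, .gn 2930),
  (27, .gn 2946),
  (35, .gn 2962),
  (43, .gn 2978),
  (51, .gn 2994),
  (59, .gn 3010),
  (67, .gn 1248),
  (75, .gn 1264),
  (83, .gn 1280),
  (91, .gn 1296),
  (99, .gn 1312),
  (107, .gn 1328),
  (115, .gn 1344),
  (123, .gn 1360),
  (7, .fr 148 148 [2914, 2914, 2914, 3042, 2914, 2914]),
  (15, .fr 566 566 [3026, 2946, 2978, 3042, 2978, 3122]),
  (23, .fr 326 568 []),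
  (31, .fr 1896 1896 [2914, 3122, 3026, 2978]),
  (39, .fr 598 598 [2930, 2962, 3106, 2962, 3106]),
  (47, .fr 2106 2106 [3026, 3026, 3122, 2994, 2978, 3122]),
  (55, .fr 1928 1928 [2930, 2930, 2930, 2930, 2930, 2930]),
  (63, .fr 80 80 [3026, 3074, 3026, 2962, 2914, 2994]),
  (71, .fr 1002 1002 [2914, 3090, 3106, 3122, 3042, 3010]),
  (79, .fr 936 1880 [3042, 2962, 2978, 2962, 2930]),
  (87, .fr 488 488 [3042, 2914, 2994, 3010]),
  (95, .fr 504 504 [2914, 3058, 2930, 3090, 2914]),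
  (103, .fr 536 536 [3042, 2914, 2978]),
  (111, .fr 1634 1858 []),
  (119, .fr 552 408 [3042, 3042, 2962, 3090]),
  (127, .fr 2898 3250 [2962, 2962, 3090])]
theorem kF3 : run PF3 (.nd (.nd (.nd (.nd X9 X1) (.nd X4 (.lf nil))) (.nd (.nd X0 X3) (.nd X2 (.lf nil)))) (.nd (mkT 1) (mkT 5))) (fun s => eqT XF3 (rt (rt s))) = true := by decide +kernel
noncomputable def PF4 : List (ℕ × Ins) := [(3, .gn 1376),
  (11, .gn 66),
  (19, .gn 82),
  (27, .gn 98),
  (35, .gn 114),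
  (43, .gn 130),
  (51, .gn 146),
  (59, .gn 162),
  (67, .gn 1392),
  (75, .gn 1408),
  (83, .gn 1424),
  (91, .gn 1440),
  (99, .gn 1456),
  (107, .gn 1472),
  (115, .gn 1488),
  (123, .gn 1504),
  (7, .fr 160 160 [66, 146, 146, 66, 146, 146]),
  (15, .fr 1316 1316 [66, 146, 146, 66, 146, 146]),
  (23, .fr 630 630 [82, 178, 194, 210, 114]),
  (31, .fr 1810 1810 [114, 130, 66, 274, 274]),
  (39, .fr 180 180 [98, 258, 130, 82, 274]),
  (47, .fr 1906 1842 [82, 178, 178, 210, 226]),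
  (55, .fr 784 784 [210, 178, 130, 66, 146]),
  (63, .fr 1348 1348 [66, 98, 66, 66, 210, 66]),
  (71, .fr 1858 1858 [178, 274, 66, 82]),
  (79, .fr 2024 2232 []),
  (87, .fr 746 746 [98, 98]),
  (95, .fr 50 50 [114, 146, 226, 258]),
  (103, .fr 434 34 []),
  (111, .fr 466 466 [178, 226, 226])]
theorem kF4 : run PF4 (.nd (.nd (.nd (.nd X9 X0) (.nd X4 (.lf nil))) (.nd (.nd X1 X3) (.nd X2 (.lf nil)))) (.nd (mkT 1) (mkT 5))) (fun s => eqT XF4 (rt (rt s))) = true := by decide +kernel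
noncomputable def PF5 : List (ℕ × Ins) := [(3, .gn 1520),
  (11, .gn 626),
  (19, .gn 642),
  (27, .gn 658),
  (35, .gn 674),
  (43, .gn 690),
  (51, .gn 706),
  (59, .gn 722),
  (67, .gn 1536),
  (75, .gn 1552),
  (83, .gn 1568),
  (91, .gn 1584),
  (99, .gn 1600),
  (107, .gn 1616),
  (115, .gn 1632),
  (123, .gn 1648),
  (7, .fr 1954 1954 [690, 818, 674, 674, 706, 802]),
  (15, .fr 660 4 [626, 786, 754, 706, 706, 722]),
  (23, .fr 128 128 [738, 770, 834, 706, 738, 834]),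
  (31, .fr 1382 1382 [786, 770, 770, 722, 738, 834]),
  (39, .fr 214 214 [722, 722, 722, 722, 722, 722]),
  (47, .fr 692 578 [658, 802, 642, 690]),
  (55, .fr 946 946 [642, 658, 674, 722]),
  (63, .fr 184 184 [738, 642, 770, 706, 770]),
  (71, .fr 2474 610 [754, 818, 802, 642]),
  (79, .fr 594 514 [])]
theorem kF5 : run PF5 (.nd (.nd (.nd (.nd X9 X3) (.nd X2 (.lf nil))) (.nd (.nd X1 X0) (.nd X4 (.lf nil)))) (.nd (mkT 1) (mkT 5))) (fun s => eqT XF5 (rt (rt s))) = true := by decide +kernel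
noncomputable def PF6 : List (ℕ × Ins) := [(3, .gn 3328),
  (11, .gn 1986),
  (19, .gn 2018),
  (27, .gn 2050),
  (35, .gn 2082),
  (43, .gn 2114),
  (51, .gn 2146),
  (59, .gn 2178),
  (67, .gn 3360),
  (75, .gn 3392),
  (83, .gn 3424),
  (91, .gn 3456),
  (99, .gn 3488),
  (107, .gn 3520),
  (115, .gn 3552),
  (123, .gn 3584),
  (7, .fr 1156 1156 [1986, 2402, 1986, 2146, 2050, 1986, 2146]),
  (15, .fr 2822 1896 []),
  (23, .fr 1376 1376 [1986, 2178, 2370, 2018, 2402, 2018, 1986]),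
  (31, .fr 2886 234 []),
  (39, .fr 684 684 [2210, 2402, 2402, 2242, 2210, 2050]),
  (47, .fr 14 14 [2242, 2178, 2178, 2178, 2178, 2018]),
  (55, .fr 780 1604 []),
  (63, .fr 356 236 []),
  (71, .fr 868 1030 []),
  (79, .fr 46 1608 []),
  (87, .fr 78 1424 []),
  (95, .fr 548 548 [2018, 2050, 2370, 2370, 2242, 2370]),
  (103, .fr 142 298 []),
  (111, .fr 2950 1284 []),
  (119, .fr 1388 708 []),
  (127, .fr 1190 174 []),
  (135, .fr 206 302 []),
  (143, .fr 3014 3014 [1986, 2146, 2018, 2146, 1986, 2050]),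
  (151, .fr 1444 486 []),
  (159, .fr 3078 3078 [2146, 2210, 2242, 2210, 2178]),
  (167, .fr 448 362 []),
  (175, .fr 238 518 []),
  (183, .fr 2434 3362 []),
  (191, .fr 1448 3938 []),
  (199, .fr 1480 40 []),
  (207, .fr 3874 104 []),
  (215, .fr 1544 264 []),
  (223, .fr 232 232 [1986, 2146, 2242, 2370, 2178]),
  (231, .fr 72 3650 []),
  (239, .fr 592 426 []),
  (247, .fr 784 784 [1986, 2402, 2146, 2242, 2274, 2178, 2050]),
  (255, .fr 10 932 []),
  (263, .fr 110 490 []),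
  (271, .fr 270 554 []),
  (279, .fr 74 1672 []),
  (287, .fr 228 1704 []),
  (295, .fr 170 170 [2210, 2178, 2210, 2146, 1986, 2146, 2018])]
theorem kF6 : run PF6 (.nd (.nd (.nd (.nd (.nd X9 X6) (.nd X2 (.lf nil))) (.nd (.nd X8 (.lf nil)) (.nd X7 (.lf nil)))) (.nd (.nd (.nd X1 (.lf nil)) (.nd X5 (.lf nil))) (.nd (.nd X4 (.lf nil)) (.nd X3 (.lf nil))))) (.nd (mkT 1) (mkT 7))) (fun s => eqT XF6 (rt (rt s))) = true := by decide +kernel
noncomputable def PF7 : List (ℕ × Ins) := [(3, .gn 1808),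
  (11, .gn 338),
  (19, .gn 354),
  (27, .gn 370),
  (35, .gn 386),
  (43, .gn 402),
  (51, .gn 418),
  (59, .gn 434),
  (67, .gn 1824),
  (75, .gn 1840),
  (83, .gn 1856),
  (91, .gn 1872),
  (99, .gn 1888),
  (107, .gn 1904),
  (115, .gn 1920),
  (123, .gn 1936),
  (7, .fr 308 454 []),
  (15, .fr 340 358 [338, 434, 338, 514, 450]),
  (23, .fr 866 390 [338, 402, 434, 386, 450]),
  (31, .fr 882 786 [338, 370, 546, 370, 530]),
  (39, .fr 192 192 [418, 370, 434, 434]),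
  (47, .fr 372 372 [466, 466, 370, 370]),
  (55, .fr 914 914 [402, 482, 450, 498, 402]),
  (63, .fr 404 404 [466, 546, 370, 370, 434, 354]),
  (71, .fr 930 436 [450, 466, 386, 546, 498, 450]),
  (79, .fr 486 486 [354, 418, 418, 418, 418, 466]),
  (87, .fr 294 294 [338, 386, 482, 450, 546, 450]),
  (95, .fr 818 818 [338, 514, 514, 434, 530, 434]),
  (103, .fr 168 168 [338, 482, 498, 434]),
  (111, .fr 468 468 [338, 546, 530, 482, 418, 498]),
  (119, .fr 326 326 [338, 338, 338, 338]),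
  (127, .fr 642 962 [450, 466, 530, 530]),
  (135, .fr 978 978 [370, 466, 466, 370]),
  (143, .fr 898 146 [482, 434, 514, 434]),
  (151, .fr 578 1042 []),
  (159, .fr 98 1010 [386, 402]),
  (167, .fr 754 674 [450, 530, 338, 354]),
  (175, .fr 994 610 [530, 434, 402]),
  (183, .fr 306 706 [498, 482])]
theorem kF7 : run PF7 (.nd (.nd (.nd (.nd X9 X3) (.nd X5 (.lf nil))) (.nd (.nd X2 (.lf nil)) (.nd X4 (.lf nil)))) (.nd (mkT 1) (mkT 6))) (fun s => eqT XF7 (rt (rt s))) = true := by decide +kernel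
noncomputable def PF8 : List (ℕ × Ins) := [(3, .gn 1952),
  (11, .gn 626),
  (19, .gn 642),
  (27, .gn 658),
  (35, .gn 674),
  (43, .gn 690),
  (51, .gn 706),
  (59, .gn 722),
  (67, .gn 1968),
  (75, .gn 1984),
  (83, .gn 2000),
  (91, .gn 2016),
  (99, .gn 2032),
  (107, .gn 2048),
  (115, .gn 2064),
  (123, .gn 2080),
  (7, .fr 484 484 [770, 786, 626, 802, 722, 690]),
  (15, .fr 1490 678 [642, 722, 706, 754, 706, 642]),
  (23, .fr 338 68 [626, 802, 834, 642]),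
  (31, .fr 502 502 [626, 658, 786, 770, 626, 818]),
  (39, .fr 534 710 [834, 786, 722, 738, 706]),
  (47, .fr 70 70 [658, 738, 818, 802, 674, 802]),
  (55, .fr 566 566 [738, 642, 674, 674, 658, 834]),
  (63, .fr 598 598 [642, 626, 642, 626, 834, 674]),
  (71, .fr 134 774 [802, 658, 738, 818, 818]),
  (79, .fr 630 630 [642, 674, 802, 754, 802]),
  (87, .fr 662 1554 [706, 802, 802, 642, 818]),
  (95, .fr 418 36 [626, 786, 770, 642, 738]),
  (103, .fr 742 198 [738, 738, 658, 690, 706]),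
  (111, .fr 806 306 [738, 722, 770, 674, 738]),
  (119, .fr 822 1362 [786, 626, 754, 626]),
  (127, .fr 838 370 [658, 802, 642, 626, 674]),
  (135, .fr 870 870 [658, 786, 834, 658, 674]),
  (143, .fr 274 274 [626, 818, 722, 738, 786]),
  (151, .fr 392 712 []),
  (159, .fr 4 1394 []),
  (167, .fr 20 162 [770, 802, 706]),
  (175, .fr 402 402 [738, 738, 770, 818, 626]),
  (183, .fr 1298 1298 [658, 674, 834, 706, 770, 786])]
theorem kF8 : run PF8 (.nd (.nd (.nd (.nd X9 X3) (.nd X6 (.lf nil))) (.nd (.nd X4 (.lf nil)) (.nd X5 (.lf nil)))) (.nd (mkT 1) (mkT 6))) (fun s => eqT XF8 (rt (rt s))) = true := by decide +kernel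
noncomputable def PF9 : List (ℕ × Ins) := [(3, .gn 524),
  (11, .gn 68),
  (19, .gn 72),
  (27, .gn 76),
  (35, .gn 80),
  (43, .gn 84),
  (51, .gn 88),
  (59, .gn 92),
  (67, .gn 528),
  (75, .gn 532),
  (83, .gn 536),
  (91, .gn 540),
  (99, .gn 544),
  (107, .gn 548),
  (115, .gn 552),
  (123, .gn 556),
  (7, .fr 144 152 [112, 72, 72, 76]),
  (15, .fr 184 184 [72, 108, 104, 108, 116, 116]),
  (23, .fr 180 192 [96, 84, 88, 88, 112, 68]),
  (31, .fr 160 160 [88, 84, 100, 92, 104, 92]),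
  (39, .fr 168 168 [100, 96, 96, 120, 72]),
  (47, .fr 124 124 [68, 84, 96, 80, 104]),
  (55, .fr 132 136 [76, 100, 120]),
  (63, .fr 218 246 [])]
theorem kF9 : run PF9 (.nd (.nd X9 X3) (.nd (mkT 1) (mkT 5))) (fun s => eqT XF9 (rt (rt s))) = true := by decide +kernel
noncomputable def PF10 : List (ℕ × Ins) := [(3, .gn 2240),
  (11, .gn 850),
  (19, .gn 866),
  (27, .gn 882),
  (35, .gn 898),
  (43, .gn 914),
  (51, .gn 930),
  (59, .gn 946),
  (67, .gn 2256),
  (75, .gn 2272),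
  (83, .gn 2288),
  (91, .gn 2304),
  (99, .gn 2320),
  (107, .gn 2336),
  (115, .gn 2352),
  (123, .gn 2368),
  (7, .fr 84 308 [866, 1010, 930, 1010, 994, 1058]),
  (15, .fr 116 214 [978, 882, 866, 946, 882]),
  (23, .fr 148 660 [914, 882, 866, 962, 962]),
  (31, .fr 164 166 [850, 930, 1010, 994, 978, 994]),
  (39, .fr 196 196 [1010, 1058, 898, 946]),
  (47, .fr 212 498 [850, 1010, 994, 946, 882]),
  (55, .fr 244 372 [1010, 882, 898, 994, 1058]),
  (63, .fr 260 54 [850, 978, 946, 914, 1042, 898]),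
  (71, .fr 276 70 [850, 1058, 866, 1010, 930, 994]),
  (79, .fr 324 324 [850, 898, 898, 1026, 882]),
  (87, .fr 404 752 [930, 1010, 914, 946]),
  (95, .fr 420 420 [850, 866, 898, 882, 978, 1010, 994]),
  (103, .fr 436 552 [962, 946, 898, 882]),
  (111, .fr 468 358 [914, 978, 1010, 930]),
  (119, .fr 500 6 [962, 898, 1058, 1058, 850, 994]),
  (127, .fr 532 740 [898, 930, 978, 898, 1026]),
  (135, .fr 564 278 [1010, 994, 1042, 866, 1042]),
  (143, .fr 596 102 [914, 1010, 1026, 1058, 1026]),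
  (151, .fr 628 628 [898, 1026, 898, 1026]),
  (159, .fr 692 264 [962, 946, 882, 898, 850]),
  (167, .fr 724 326 [866, 850, 994, 1058, 930]),
  (175, .fr 772 580 [978, 898, 994, 1058, 994]),
  (183, .fr 804 434 [882, 850, 930, 898]),
  (191, .fr 38 38 [898, 866, 1058, 930]),
  (199, .fr 134 374 [850, 898, 882, 946]),
  (207, .fr 182 182 [962, 1058, 1042, 1010]),
  (215, .fr 246 560 [882, 1010, 946, 850]),
  (223, .fr 310 562 [1058, 978, 978]),
  (231, .fr 406 530 [1042, 962, 1026, 1058]),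
  (239, .fr 422 424 [978, 978, 914, 1058]),
  (247, .fr 1458 792 [978, 850, 882]),
  (255, .fr 438 438 [1010, 866, 866, 914]),
  (263, .fr 512 518 [962, 914, 1042, 1058]),
  (271, .fr 470 470 [898, 978, 1026, 1010]),
  (279, .fr 486 466 []),
  (287, .fr 1210 2058 []),
  (295, .fr 502 1330 [994, 914, 898]),
  (303, .fr 534 194 [])]
theorem kF10 : run PF10 (.nd (.nd (.nd (.nd X9 X5) (.nd X6 (.lf nil))) (.nd (.nd X4 X3) (.nd X7 (.lf nil)))) (.nd (mkT 1) (mkT 7))) (fun s => eqT XF10 (rt (rt s))) = true := by decide +kernel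
noncomputable def PF11 : List (ℕ × Ins) := [(3, .gn 2384),
  (11, .gn 1074),
  (19, .gn 1090),
  (27, .gn 1106),
  (35, .gn 1122),
  (43, .gn 1138),
  (51, .gn 1154),
  (59, .gn 1170),
  (67, .gn 2400),
  (75, .gn 2416),
  (83, .gn 2432),
  (91, .gn 2448),
  (99, .gn 2464),
  (107, .gn 2480),
  (115, .gn 2496),
  (123, .gn 2512),
  (7, .fr 196 598 [1186, 1090, 1106, 1250, 1106]),
  (15, .fr 104 104 [1074, 1202, 1282, 1106, 1234, 1170]),
  (23, .fr 548 520 [1202, 1154, 1138, 1234, 1138, 1234]),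
  (31, .fr 580 566 [1186, 1106, 1122, 1186, 1090, 1218]),
  (39, .fr 792 292 [1074, 1170, 1250, 1122, 1218, 1154]),
  (47, .fr 596 552 [1074, 1122, 1186, 1202, 1122, 1282]),
  (55, .fr 628 344 [1074, 1282, 1250, 1202, 1122, 1218]),
  (63, .fr 644 708 [1074, 1106, 1122, 1170, 1186, 1202]),
  (71, .fr 676 214 [1106, 1186, 1090, 1154]),
  (79, .fr 260 592 [1186, 1154, 1106, 1202]),
  (87, .fr 724 724 [1186, 1218, 1266, 1106, 1138]),
  (95, .fr 740 648 [1186, 1234, 1186, 1282, 1186]),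
  (103, .fr 756 656 [1074, 1138, 1266, 1090, 1138]),
  (111, .fr 660 660 [1186, 1154, 1138, 1090, 1138, 1202]),
  (119, .fr 184 184 [1074, 1074, 1074, 1234, 1090, 1218]),
  (127, .fr 612 760 [1202, 1106, 1202, 1106, 1170]),
  (135, .fr 20 564 [1074, 1090, 1074, 1282, 1250, 1170]),
  (143, .fr 234 84 [1106, 1282, 1266, 1138]),
  (151, .fr 6 26 [1090, 1282, 1090, 1282]),
  (159, .fr 38 38 [1074, 1154, 1186, 1170, 1266, 1170]),
  (167, .fr 136 70 [1106, 1234, 1170, 1202]),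
  (175, .fr 54 624 [1074, 1250, 1266, 1218, 1090]),
  (183, .fr 616 166 [1074, 1106, 1154, 1122, 1138, 1218]),
  (191, .fr 680 680 [1090, 1074, 1170, 1090]),
  (199, .fr 232 422 [1074, 1202, 1138, 1266]),
  (207, .fr 86 228 [1202, 1106, 1202, 1186, 1090, 1106]),
  (215, .fr 586 774 [1266, 1090, 1186]),
  (223, .fr 102 102 [1074, 1170, 1250, 1090, 1074]),
  (231, .fr 134 326 [1074, 1106, 1250, 1234, 1266, 1090]),
  (239, .fr 394 294 [1234, 1266, 1266, 1266]),
  (247, .fr 198 342 [1090, 1138, 1266, 1170]),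
  (255, .fr 618 240 [1154, 1218]),
  (263, .fr 230 452 [1074, 1154, 1282]),
  (271, .fr 246 246 [1218, 1090, 1106, 1282, 1154]),
  (279, .fr 262 822 [1090, 1074, 1218, 1170, 1090]),
  (287, .fr 310 310 [1074, 1074, 1138, 1186, 1186]),
  (295, .fr 522 256 [1170, 1202, 1154, 1234]),
  (303, .fr 362 858 [1074, 1250, 1170, 1218]),
  (311, .fr 374 694 [1202, 1106, 1138, 1138]),
  (319, .fr 406 144 [1106, 1202, 1202]),
  (327, .fr 22 454 [1074, 1170, 1266, 1106, 1122]),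
  (335, .fr 486 390 [1106, 1186, 1282, 1266]),
  (343, .fr 170 578 [1218, 1154, 1218, 1218]),
  (351, .fr 518 758 [1074, 1122, 1282, 1202, 1106]),
  (359, .fr 298 298 [1074, 1282, 1234, 1202, 1266]),
  (367, .fr 550 490 [1106, 1090, 1234, 1250]),
  (375, .fr 502 678 [1186, 1282, 1202, 1074]),
  (383, .fr 330 824 [1186, 1106, 1266, 1106]),
  (391, .fr 1522 742 [1218, 1074, 1122]),
  (399, .fr 614 650 [1234, 1106, 1202, 1154]),
  (407, .fr 630 698 [1122, 1266, 1282]),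
  (415, .fr 458 1426 [1186, 1218, 1138, 1202]),
  (423, .fr 662 106 [1090, 1170, 1234, 1218, 1266]),
  (431, .fr 710 56 [1282, 1074, 1234]),
  (439, .fr 762 208 [1090, 1282, 1186]),
  (447, .fr 456 730 [1074, 1106, 1282, 1234, 1266]),
  (455, .fr 148 790 [1074, 1138, 1138, 1154]),
  (463, .fr 2268 130 []),
  (471, .fr 0 176 [1106, 1186, 1266]),
  (479, .fr 534 534 [1202, 1186, 1234, 1154, 1282]),
  (487, .fr 16 32 []),
  (495, .fr 48 64 [1170, 1074]),
  (503, .fr 546 546 [1074, 1234, 1250, 1282]),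
  (511, .fr 96 112 [1218, 1154]),
  (519, .fr 226 610 [])]
theorem kF11 : run PF11 (.nd (.nd (.nd (.nd X9 X6) (.nd X7 X3)) (.nd (.nd X4 X5) (.nd X8 (.lf nil)))) (.nd (mkT 1) (mkT 8))) (fun s => eqT XF11 (rt (rt s))) = true := by decide +kernel

end H14.UM
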