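import Cfsg.Agent.H14.UX0
import Cfsg.Agent.H14.UX1
import Cfsg.Agent.H14.UX2
import Cfsg.Agent.H14.UX5
import Cfsg.Agent.H14.UX6
import Cfsg.Agent.H14.UX8
import Cfsg.Agent.H14.UX9
import Cfsg.Agent.H14.UXT

/-!
# Distinct orbits
-/

set_option autoImplicit false
set_option maxRecDepth 100000

namespace H14.UM

noncomputable def PH0 : List (ℕ × Ins) := [(1, .ev 560 2 [2] 680 [1052]),
  (5, .co 560 1)]
theorem kH0 : run PH0 (.nd (.nd (.nd X0 XT) (.nd (.lf (cQ 2 2 ZD)) (.lf nil))) (.nd (mkT 1) (mkT 0))) (fun s => fA s 5) = true := by decide +kernel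
noncomputable def PH1 : List (ℕ × Ins) := [(1, .ev 384 3 [2] 400 [2100]),
  (5, .co 384 1),
  (9, .ev 1126 2 [5] 1366 [8, 100]),
  (13, .co 1126 9)]
theorem kH1 : run PH1 (.nd (.nd (.nd (.nd X1 (.lf (cT XF B3))) (.nd XT (.lf nil))) (.nd (.nd (.lf (cQ 3 3 ZD)) (.lf nil)) (.nd X0 (.lf nil)))) (.nd (mkT 2) (mkT 0))) (fun s => fA s 13) = true := by decide +kernel
noncomputable def PH2 : List (ℕ × Ins) := [(1, .ev 16 4 [2] 32 [2100]),
  (5, .co 16 1),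
  (9, .ev 1126 2 [5] 1366 [8]),
  (13, .co 1126 9)]
theorem kH2 : run PH2 (.nd (.nd (.nd (.nd X1 (.lf (cT XF B3))) (.nd XT (.lf nil))) (.nd (.nd (.lf (cQ 4 4 ZD)) (.lf nil)) (.nd X0 (.lf nil)))) (.nd (mkT 2) (mkT 0))) (fun s => fA s 13) = true := by decide +kernel
noncomputable def PH3 : List (ℕ × Ins) := [(1, .ev 1136 5 [2] 1232 [1052]),
  (5, .co 1136 1),
  (9, .ev 560 2 [5] 792 [916, 1052]),
  (13, .co 560 9),
  (17, .qi 13),
  (21, .qm 568 13),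
  (25, .qm 17 21)]
theorem kH3 : run PH3 (.nd (.nd (.nd X0 XT) (.nd (.lf (cQ 5 5 ZD)) (.lf nil))) (.nd (mkT 3) (mkT 0))) (fun s => fA s 25) = true := by decide +kernel
noncomputable def PH4 : List (ℕ × Ins) := [(1, .ev 976 6 [2] 1216 [2100]),
  (5, .co 976 1),
  (9, .ev 1126 2 [5] 1366 [8, 292, 2100]),
  (13, .co 1126 9)]
theorem kH4 : run PH4 (.nd (.nd (.nd (.nd X1 (.lf (cT XF B3))) (.nd XT (.lf nil))) (.nd (.nd (.lf (cQ 6 6 ZD)) (.lf nil)) (.nd X0 (.lf nil)))) (.nd (mkT 2) (mkT 0))) (fun s => fA s 13) = true := by decide +kernel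
noncomputable def PH5 : List (ℕ × Ins) := [(1, .ev 40 7 [2] 48 [1052]),
  (5, .co 40 1),
  (9, .ev 566 2 [5] 798 [52]),
  (13, .co 566 9),
  (17, .qi 13),
  (21, .qm 574 13),
  (25, .qm 17 21)]
theorem kH5 : run PH5 (.nd (.nd (.nd X2 XT) (.nd (.lf (cQ 7 7 ZD)) X0)) (.nd (mkT 3) (mkT 0))) (fun s => fA s 25) = true := by decide +kernel
noncomputable def PH6 : List (ℕ × Ins) := [(1, .ev 48 8 [2] 64 [2100]),
  (5, .co 48 1),
  (9, .ev 982 6 [5] 1686 [740]),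
  (13, .co 982 9),
  (17, .qi 13),
  (21, .qm 998 13),
  (25, .qm 17 21),
  (29, .ev 1128 2 [25, 1272, 1192, 1224, 1192, 1336, 1304] 966 [1604, 1556, 2404, 116]),
  (33, .co 1128 29),
  (37, .qi 33),
  (41, .qm 998 33),
  (45, .qm 37 41)]
theorem kH6 : run PH6 (.nd (.nd (.nd (.nd X5 X0) (.nd XT (.lf nil))) (.nd (.nd (.lf (cQ 8 8 ZD)) (.lf nil)) (.nd X1 (.lf nil)))) (.nd (mkT 4) (mkT 0))) (fun s => fA s 45) = true := by decide +kernel
noncomputable def PH7 : List (ℕ × Ins) := [(1, .ev 704 9 [2] 720 [2100]),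
  (5, .co 704 1),
  (9, .ev 982 6 [5] 1222 [100]),
  (13, .co 982 9),
  (17, .ev 1128 2 [13, 1336, 1192, 1272, 1224, 1208, 1192] 6 [148, 1508, 116]),
  (21, .co 1128 17),
  (25, .qi 21),
  (29, .qm 70 21),
  (33, .qm 25 29)]
theorem kH7 : run PH7 (.nd (.nd (.nd (.nd X9 X0) (.nd XT (.lf nil))) (.nd (.nd (.lf (cQ 9 9 ZD)) (.lf nil)) (.nd X1 (.lf nil)))) (.nd (mkT 4) (mkT 0))) (fun s => fA s 33) = true := by decide +kernel
noncomputable def PH8 : List (ℕ × Ins) := [(1, .ev 352 10 [2] 368 [2100]),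
  (5, .co 352 1),
  (9, .ev 982 6 [5] 1686 [4068, 2868]),
  (13, .co 982 9),
  (17, .qi 13),
  (21, .qm 998 13),
  (25, .qm 17 21),
  (29, .ev 1128 2 [25, 1192, 1176, 1176, 1336, 1336, 1160, 1256] 966 [2180, 3284, 2468, 1332]),
  (33, .co 1128 29),
  (37, .qi 33),
  (41, .qm 998 33),
  (45, .qm 37 41)]
theorem kH8 : run PH8 (.nd (.nd (.nd (.nd X6 X0) (.nd XT (.lf nil))) (.nd (.nd (.lf (cQ 10 10 ZD)) (.lf nil)) (.nd X1 (.lf nil)))) (.nd (mkT 4) (mkT 0))) (fun s => fA s 45) = true := by decide +kernel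
noncomputable def PH9 : List (ℕ × Ins) := [(1, .ev 144 11 [2] 160 [2100]),
  (5, .co 144 1),
  (9, .ev 982 6 [5] 1222 [8, 996, 1076]),
  (13, .co 982 9),
  (17, .ev 1130 2 [13, 1210, 1226, 1290, 1162, 1194, 1338, 1210] 966 [260, 3604, 1572, 628]),
  (21, .co 1130 17),
  (25, .qi 21),
  (29, .qm 998 21),
  (33, .qm 25 29)]
theorem kH9 : run PH9 (.nd (.nd (.nd (.nd X8 (.lf (cT XF B3))) (.nd XT (.lf nil))) (.nd (.nd (.lf (cQ 11 11 ZD)) X0) (.nd X1 (.lf nil)))) (.nd (mkT 4) (mkT 0))) (fun s => fA s 33) = true := by decide +kernel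
noncomputable def PH10 : List (ℕ × Ins) := [(1, .ev 528 1 [1384, 1432, 2, 1376, 1328] 536 [948, 1308]),
  (5, .co 528 1)]
theorem kH10 : run PH10 (.nd (.nd (.nd X0 XT) (.nd (.lf (cQ 1 1 (qel 12355020))) (.lf nil))) (.nd (mkT 1) (mkT 0))) (fun s => fA s 5) = true := by decide +kernel
noncomputable def PH11 : List (ℕ × Ins) := [(1, .ev 528 1 [1328, 1336, 2, 1392, 1384] 536 [4, 822, 1950]),
  (5, .co 528 1)]
theorem kH11 : run PH11 (.nd (.nd (.nd X0 (.lf (cT XF B3))) (.nd (.lf (cQ 1 1 (qel 9893199))) XT)) (.nd (mkT 1) (mkT 0))) (fun s => fA s 5) = true := by decide +kernel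
noncomputable def PH12 : List (ℕ × Ins) := [(1, .ev 528 1 [2] 536 [4, 1974, 62]),
  (5, .co 528 1)]
theorem kH12 : run PH12 (.nd (.nd (.nd X0 (.lf (cT XF B3))) (.nd (.lf (cQ 1 1 (qel (12355020 ^^^ 9893199)))) XT)) (.nd (mkT 1) (mkT 0))) (fun s => fA s 5) = true := by decide +kernel

end H14.UM
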