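import Cfsg.Agent.H14.UXT
import Cfsg.Agent.H14.UDR

/-!
# The sign of the triality image and the relation of length three
-/

set_option autoImplicit false
set_option maxRecDepth 100000

namespace H14.UM

noncomputable def PY : List (ℕ × Ins) := [(1, .tk 0),
  (5, .tm 2 1),
  (9, .tm 5 5),
  (13, .tm 9 9),
  (17, .tm 13 13),
  (21, .tm 17 17),
  (25, .tz),
  (29, .tm 21 13),
  (33, .tm 29 9),
  (37, .tm 33 5),
  (41, .ty 25 [25]),
  (45, .tm 37 41),
  (49, .tm 45 25)]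
theorem kY : mul B3 ZD (fun d => run PY (.nd (.nd BT (.lf (cT XF d))) (.nd (mkT 4) (mkT 0))) (fun s => fT s 49 0)) = true := by decide +kernel
def LL : List (ℕ × List ℕ × List ℕ × List ℕ) := [(1, [1], [328, 146, 164, 78], [328, 402, 164, 78]),
  (0, [], [], []),
  (4, [1, 28], [408, 274, 484, 174], [232, 1, 116]),
  (8, [1, 60], [312, 386, 404, 230], [72, 146, 428, 486]),
  (18, [116], [208, 386, 348, 422], [320, 18, 164, 14]),
  (34, [1, 244], [488, 116, 334], [264, 146, 268, 486]),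
  (66, [1, 508], [280, 394, 300, 494], [184, 394, 348, 326]),
  (128, [1, 484, 14], [280, 26, 108, 262], [280, 282, 396, 14]),
  (256, [460, 30], [48, 314, 348, 430], [48, 58, 284, 286]),
  (512, [404, 62], [272, 490, 404, 486], [272, 490, 222]),
  (1026, [300, 382], [448, 362, 396, 166], [80, 234, 300, 374]),
  (2048, [1, 396, 430], [1, 396, 174], [262]),
  (4096, [], [28, 78], [48, 146, 28, 334]),
  (8192, [], [28, 78], [48, 146, 28, 334]),
  (16384, [], [28, 78], [48, 146, 28, 334]),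
  (32768, [], [1, 324, 486], [400, 146, 204, 78]),
  (65536, [], [1, 508, 486], [224, 146, 116, 334]),
  (131072, [], [1, 324, 486], [400, 146, 204, 78]),
  (262144, [], [1, 404, 238], [48, 130, 28, 326]),
  (524288, [], [1, 404, 238], [48, 130, 28, 326]),
  (1048576, [], [], []),
  (2097152, [], [1, 308, 166], [368, 18, 188, 270]),
  (4194304, [], [1, 308, 166], [368, 18, 188, 270]),
  (0, [], [], []),
  (16777216, [262], [1, 396, 430], [1, 396, 174])]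
theorem kL : inv B4 (fun y => lch (.nd XT (.lf (cT XF B3))) B4 y B5 LL) = true := by decide +kernel
noncomputable def PR0 : List (ℕ × Ins) := [(1, .lr 0),
  (5, .eq 8519680),
  (9, .eq 0),
  (13, .eq 2),
  (17, .em 5 66),
  (21, .em 17 132),
  (25, .df 6 9),
  (29, .rv 25),
  (33, .gh 29),
  (37, .df 38 21),
  (41, .gh 37),
  (45, .rv 37),
  (49, .gh 45),
  (53, .em 13 21),
  (57, .tr 1 53 1 [] 33 [1924, 3092, 1700, 2164] [] 41 [68, 8, 2404, 3892]),
  (61, .rv 57),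
  (65, .gh 61),
  (69, .tr 1 45 3 [] 65 [1860, 3092, 1316, 564] [] 33 [3460, 8, 2788, 1396]),
  (73, .ev 69 3 [] 49 []),
  (77, .co 69 73)]
theorem kR0 : qk 16777216 (fun w => mul B5 w fun d => run PR0 (.nd (.nd (.nd (.nd (.lf ⟨6, 0, 0, B4, B4, d⟩) (.lf (cT XF B3))) (.nd XT (.lf nil))) (.nd (.nd BT (.lf nil)) (.nd DR (.lf nil)))) (.nd (mkT 5) (mkT 0))) (fun s => fQ s 77 2)) = true := by decide +kernel
noncomputable def PR1 : List (ℕ × Ins) := [(1, .lr 0),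
  (5, .eq 8519680),
  (9, .eq 0),
  (13, .eq 2),
  (17, .em 5 66),
  (21, .em 17 132),
  (25, .df 6 9),
  (29, .rv 25),
  (33, .gh 29),
  (37, .df 38 21),
  (41, .gh 37),
  (45, .rv 37),
  (49, .gh 45),
  (53, .em 13 21),
  (57, .tr 1 53 1 [] 33 [1924, 1044, 2788, 3380] [] 41 [68, 8, 2404, 1844]),
  (61, .rv 57),
  (65, .gh 61),
  (69, .tr 1 45 3 [] 65 [1860, 3092, 1316, 2612] [] 33 [3460, 1700]),
  (73, .ev 69 3 [] 49 []),
  (77, .co 69 73)]
theorem kR1 : qk 2048 (fun w => mul B5 w fun d => run PR1 (.nd (.nd (.nd (.nd (.lf ⟨6, 0, 0, B4, B4, d⟩) (.lf (cT XF B3))) (.nd XT (.lf nil))) (.nd (.nd BT (.lf nil)) (.nd DR (.lf nil)))) (.nd (mkT 5) (mkT 0))) (fun s => fQ s 77 2)) = true := by decide +kernel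
noncomputable def PR2 : List (ℕ × Ins) := [(1, .lr 0),
  (5, .eq 8519680),
  (9, .eq 0),
  (13, .eq 2),
  (17, .em 5 34),
  (21, .em 17 68),
  (25, .df 6 9),
  (29, .rv 25),
  (33, .gh 29),
  (37, .df 22 21),
  (41, .gh 37),
  (45, .rv 37),
  (49, .gh 45),
  (53, .em 13 21),
  (57, .tr 1 53 1 [] 33 [964, 524, 1396, 668] [] 41 [36, 660, 316]),
  (61, .rv 57),
  (65, .gh 61),
  (69, .tr 1 45 3 [] 65 [932, 524, 1204, 956] [] 33 [1732, 852, 1052]),
  (73, .ev 69 3 [] 49 []),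
  (77, .co 69 73)]
theorem kR2 : qk 16779264 (fun w => mul B5 w fun d => run PR2 (.nd (.nd (.nd (.lf ⟨6, 0, 0, B4, B4, d⟩) XT) (.nd BT DR)) (.nd (mkT 5) (mkT 0))) (fun s => fQ s 77 8388608)) = true := by decide +kernel
noncomputable def PR3 : List (ℕ × Ins) := [(1, .lr 0),
  (5, .l0),
  (9, .lr 5),
  (13, .eq 8519680),
  (17, .eq 0),
  (21, .eq 2),
  (25, .em 130 21),
  (29, .em 13 68),
  (33, .em 29 130),
  (37, .df 6 17),
  (41, .rv 37),
  (45, .gh 41),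
  (49, .df 22 13),
  (53, .gh 49),
  (57, .rv 49),
  (61, .gh 57),
  (65, .tr 9 17 1 [] 45 [] [] 53 []),
  (69, .rv 65),
  (73, .gh 69),
  (77, .df 38 33),
  (81, .gh 77),
  (85, .rv 77),
  (89, .gh 85),
  (93, .em 21 33),
  (97, .tr 1 93 1 [] 45 [1922, 1042, 2786, 3378] [] 81 [66, 1314, 2674]),
  (101, .gh 97),
  (105, .tr 1 33 2 [] 73 [1922, 3090, 4066, 3954] [] 101 [2722, 3442]),
  (109, .rv 105),
  (113, .gh 109),
  (117, .em 25 85),
  (121, .tr 1 117 3 [] 113 [2690, 1042, 3298, 1906] [] 61 [1922, 1170, 1506, 2098]),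
  (125, .ev 121 3 [] 89 [130, 8, 98]),
  (129, .co 121 125)]
theorem kR3 : qk 4661248 (fun w => mul B5 w fun d => run PR3 (.nd (.nd (.nd (.nd (.lf ⟨6, 0, 0, B4, B4, d⟩) (.lf (cT XF B3))) (.nd BT (.lf nil))) (.nd (.nd XT (.lf nil)) (.nd DR (.lf nil)))) (.nd (mkT 6) (mkT 0))) (fun s => fQ s 129 2)) = true := by decide +kernel
noncomputable def PR4 : List (ℕ × Ins) := [(1, .lr 0),
  (5, .eq 8519680),
  (9, .eq 0),
  (13, .eq 2),
  (17, .em 5 66),
  (21, .em 17 132),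
  (25, .df 6 9),
  (29, .rv 25),
  (33, .gh 29),
  (37, .df 38 21),
  (41, .gh 37),
  (45, .rv 37),
  (49, .gh 45),
  (53, .em 13 21),
  (57, .tr 1 53 1 [] 33 [1924, 1044, 2788, 1332] [] 41 [68, 8, 2404, 3892]),
  (61, .rv 57),
  (65, .gh 61),
  (69, .tr 1 45 3 [] 65 [1860, 3092, 1316, 564] [] 33 [3460, 8, 2788, 1396]),
  (73, .ev 69 3 [] 49 []),
  (77, .co 69 73)]
theorem kR4 : qk 21438464 (fun w => mul B5 w fun d => run PR4 (.nd (.nd (.nd (.nd (.lf ⟨6, 0, 0, B4, B4, d⟩) (.lf (cT XF B3))) (.nd XT (.lf nil))) (.nd (.nd BT (.lf nil)) (.nd DR (.lf nil)))) (.nd (mkT 5) (mkT 0))) (fun s => fQ s 77 2)) = true := by decide +kernel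
noncomputable def PR5 : List (ℕ × Ins) := [(1, .lr 0),
  (5, .eq 8519680),
  (9, .eq 0),
  (13, .eq 2),
  (17, .em 5 66),
  (21, .em 17 132),
  (25, .df 6 9),
  (29, .rv 25),
  (33, .gh 29),
  (37, .df 38 21),
  (41, .gh 37),
  (45, .rv 37),
  (49, .gh 45),
  (53, .em 13 21),
  (57, .tr 1 53 1 [] 33 [1924, 3092, 1700, 116] [] 41 [68, 8, 2404, 1844]),
  (61, .rv 57),
  (65, .gh 61),
  (69, .tr 1 45 3 [] 65 [1860, 3092, 1316, 2612] [] 33 [3460, 1700]),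
  (73, .ev 69 3 [] 49 []),
  (77, .co 69 73)]
theorem kR5 : qk 4663296 (fun w => mul B5 w fun d => run PR5 (.nd (.nd (.nd (.nd (.lf ⟨6, 0, 0, B4, B4, d⟩) (.lf (cT XF B3))) (.nd XT (.lf nil))) (.nd (.nd BT (.lf nil)) (.nd DR (.lf nil)))) (.nd (mkT 5) (mkT 0))) (fun s => fQ s 77 2)) = true := by decide +kernel
noncomputable def PR6 : List (ℕ × Ins) := [(1, .lr 0),
  (5, .eq 8519680),
  (9, .eq 0),
  (13, .eq 2),
  (17, .em 5 34),
  (21, .em 17 68),
  (25, .df 6 9),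
  (29, .rv 25),
  (33, .gh 29),
  (37, .df 22 21),
  (41, .gh 37),
  (45, .rv 37),
  (49, .gh 45),
  (53, .em 13 21),
  (57, .tr 1 53 1 [] 33 [964, 1548, 852, 1084] [] 41 [36, 660, 316]),
  (61, .rv 57),
  (65, .gh 61),
  (69, .tr 1 45 3 [] 65 [932, 524, 1204, 956] [] 33 [1732, 852, 1052]),
  (73, .ev 69 3 [] 49 []),
  (77, .co 69 73)]
theorem kR6 : qk 21440512 (fun w => mul B5 w fun d => run PR6 (.nd (.nd (.nd (.lf ⟨6, 0, 0, B4, B4, d⟩) XT) (.nd BT DR)) (.nd (mkT 5) (mkT 0))) (fun s => fQ s 77 8388608)) = true := by decide +kernel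

end H14.UM
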