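import Cfsg.Agent.H14.TabSmall
import Cfsg.Prelude.Def_ChevB2

/-! The tabulated datum of type B2 is a root system with Chevalley constants. -/

namespace H14

open Cfsg.Lie

set_option maxRecDepth 100000

/-- packed tables of type B2 -/
def tabB2 : Tab where
  cfT := 0x8888889a88888899888888898888889888888878888888878888887788888876
  coT := 0x88888899888888a9888888898888889888888878888888878888886788888877
  wtT := 0x8888888a888888988888887a888888a68888886a888888968888887888888886
  dT := 0xa99aa99a
  srT := 0x7040000000000000506000000000000060200000000000003070000000000000400000000000000010500000000000002010000000000000003
  fT := 0x8000000000418000000000218000000000208000000000017fffffffffff7fffffffffe07fffffffffdf7fffffffffbf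
  invT := [[2, 2], [1, 2]]
  det := 2

theorem okB2 : tabB2.Ok chevB2 := Tab.ok_of (by decide +kernel) (by decide +kernel)

theorem ok3B2 : tabB2.Ok3 chevB2 2 := Tab.ok3_of (par := [0, 0]) (rk := [0, 1]) (by decide +kernel)

/-- structure constants of type B2 -/
def nTB2 : ℕ := 0x88888888888888888888888888888888888888888888888888888888888887988888888888888888888888888888888888888888888888888888888888687a89888888888888888888888888888888888888888888888888888888888a8788a78888888888888888888888888888888888888888888888888888888888988878888888888888888888888888888888888888888888888888888888888988878888888888888888888888888888888888888888888888888888888888968898688888888888888888888888888888888888888888888888888888888878698a888888888888888888888888888888888888888888888888888888888887988888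

/-- sums of roots of type B2 -/
def pTB2 : ℕ := 0x70707070706050700000000000000000000000000000000000000000000000000000000000000000000000000000000000000000000000000000000000000000606070605040602000000000000000000000000000000000000000000000000000000000000000000000000000000000000000000000000000000000000000005070506050503010000000000000000000000000000000000000000000000000000000000000000000000000000000000000000000000000000000000000000040406040404020400000000000000000000000000000000000000000000000000000000000000000000000000000000000000000000000000000000000000000305030303010303000000000000000000000000000000000000000000000000000000000000000000000000000000000000000000000000000000000000000006040202010200020000000000000000000000000000000000000000000000000000000000000000000000000000000000000000000000000000000000000000050103020100010100000000000000000000000000000000000000000000000000000000000000000000000000000000000000000000000000000000000000000002010000000000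

theorem okSB2 : tabB2.okS chevB2 nTB2 pTB2 4 2 = true := by
  decide +kernel

theorem okJB2 : tabB2.okJ chevB2 nTB2 pTB2 = true := by
  decide +kernel

/-- the datum of type B2 is good -/
noncomputable def goodB2 : Good chevB2 := okB2.goodS ok3B2 okSB2 okJB2

end H14
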