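import Cfsg.Agent.H14.Poin
import Cfsg.Agent.H14.GoodSt

/-! Orders of the tori and of the Chevalley groups. -/

namespace H14

open Cfsg.Lie Matrix

set_option maxRecDepth 100000

/-- a square matrix from a list of rows -/
def lmat (l : ℕ) (L : List (List ℤ)) : Matrix (Fin l) (Fin l) ℤ := Matrix.of fun i j => (L.getD i []).getD j 0

theorem Good.card_group {D : ChevalleyDatum} (G : Good D) (F : Type*) [Field F] [Finite F] :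
    Nat.card (D.group F) = Nat.card F ^ (D.nroots / 2) * Nat.card (D.diagonalSubgroup F) *
      G.R.poin 1 Set.univ (Nat.card F) := by
  rw [G.group_eq, ← St.P_univ, St.card_P (G.sep F), St.card_B (G.sep F), St.card_Up (G.sep F), G.card_pos,
    G.diagonalSubgroup_eq, RootSys.poin_one]

theorem Good.card_H {D : ChevalleyDatum} (G : Good D) (F : Type*) [Field F] [Finite F] :
    Nat.card (mpow Fˣ G.R.A).ker * Nat.card (D.diagonalSubgroup F) = (Nat.card F - 1) ^ D.rank := by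
  rw [G.diagonalSubgroup_eq, G.C.ad_card_H, Fintype.card_fin]

theorem Good.card_group' {D : ChevalleyDatum} (G : Good D) (F : Type*) [Field F] [Finite F] :
    Nat.card (mpow Fˣ G.R.A).ker * Nat.card (D.group F) = Nat.card F ^ (D.nroots / 2) * (Nat.card F - 1) ^ D.rank *
      G.R.poin 1 Set.univ (Nat.card F) := by
  rw [G.card_group, ← G.card_H]; ring

variable (Γ : Type*) [CommGroup Γ] [Finite Γ] [IsCyclic Γ]

theorem card_kerG2 : Nat.card (mpow Γ goodG2.R.A).ker = 1 := by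
  rw [card_ker_mpow (d := fun i => [1, 1].getD i 1)
    (P := lmat _ [[0, -1], [1, 2]])
    (P' := lmat _ [[2, 1], [-1, 0]])
    (Q := lmat _ [[1, 2], [0, 1]])
    (Q' := lmat _ [[1, -2], [0, 1]])
    (by decide +kernel) (by decide +kernel) (by decide +kernel)]
  change ∏ i : Fin 2, _ = _
  simp [Fin.prod_univ_succ]

theorem card_kerB2 : Nat.card (mpow Γ goodB2.R.A).ker = Nat.gcd 2 (Nat.card Γ) := by
  rw [card_ker_mpow (d := fun i => [1, 2].getD i 1)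
    (P := lmat _ [[0, -1], [1, 2]])
    (P' := lmat _ [[2, 1], [-1, 0]])
    (Q := lmat _ [[1, 2], [0, 1]])
    (Q' := lmat _ [[1, -2], [0, 1]])
    (by decide +kernel) (by decide +kernel) (by decide +kernel)]
  change ∏ i : Fin 2, _ = _
  simp [Fin.prod_univ_succ]

theorem card_kerD4 : Nat.card (mpow Γ goodD4.R.A).ker = Nat.gcd 2 (Nat.card Γ) ^ 2 := by
  rw [card_ker_mpow (d := fun i => [1, 1, 2, 2].getD i 1)
    (P := lmat _ [[-1, 0, 0, 0], [-2, -1, 0, 0], [-3, -2, -1, 0], [2, 2, 1, 1]])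
    (P' := lmat _ [[-1, 0, 0, 0], [2, -1, 0, 0], [-1, 2, -1, 0], [-1, 0, 1, 1]])
    (Q := lmat _ [[0, 0, 0, 1], [1, 0, 0, 2], [0, 1, -1, 1], [0, 0, 1, 2]])
    (Q' := lmat _ [[-2, 1, 0, 0], [-3, 0, 1, 1], [-2, 0, 0, 1], [1, 0, 0, 0]])
    (by decide +kernel) (by decide +kernel) (by decide +kernel)]
  change ∏ i : Fin 4, _ = _
  simp [Fin.prod_univ_succ, pow_two]

theorem card_kerF4 : Nat.card (mpow Γ goodF4.R.A).ker = 1 := by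
  rw [card_ker_mpow (d := fun i => [1, 1, 1, 1].getD i 1)
    (P := lmat _ [[-1, 0, 0, 0], [1, 0, -1, 0], [-2, -1, 0, 0], [-2, -2, -2, -1]])
    (P' := lmat _ [[-1, 0, 0, 0], [2, 0, -1, 0], [-1, -1, 0, 0], [0, 2, 2, -1]])
    (Q := lmat _ [[0, 0, 1, -2], [1, 0, 2, -4], [0, 0, 2, -3], [0, 1, 2, -2]])
    (Q' := lmat _ [[-2, 1, 0, 0], [2, 0, -2, 1], [-3, 0, 2, 0], [-2, 0, 1, 0]])
    (by decide +kernel) (by decide +kernel) (by decide +kernel)]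
  change ∏ i : Fin 4, _ = _
  simp [Fin.prod_univ_succ]

theorem card_kerE6 : Nat.card (mpow Γ goodE6.R.A).ker = Nat.gcd 3 (Nat.card Γ) := by
  rw [card_ker_mpow (d := fun i => [1, 1, 1, 1, 1, 3].getD i 1)
    (P := lmat _ [[-1, 0, 0, 0, 0, 0], [0, -1, 0, 0, 0, 0], [1, -2, 0, -1, 0, 0], [2, -3, 0, -2, -1, 0], [-2, 1, -1, 0, 0, 0], [-5, 0, -4, -3, -2, -1]])
    (P' := lmat _ [[-1, 0, 0, 0, 0, 0], [0, -1, 0, 0, 0, 0], [2, -1, 0, 0, -1, 0], [-1, 2, -1, 0, 0, 0], [0, -1, 2, -1, 0, 0], [0, 0, -1, 2, 4, -1]])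
    (Q := lmat _ [[0, 0, 0, 0, 1, -2], [0, 0, 0, 0, 2, -3], [1, 0, 0, 0, 2, -4], [0, 1, 0, 0, 4, -6], [0, 0, 1, 0, 4, -5], [0, 0, 0, 1, 4, -4]])
    (Q' := lmat _ [[-2, 0, 1, 0, 0, 0], [0, -2, 0, 1, 0, 0], [2, -3, 0, 0, 1, 0], [4, -4, 0, 0, 0, 1], [-3, 2, 0, 0, 0, 0], [-2, 1, 0, 0, 0, 0]])
    (by decide +kernel) (by decide +kernel) (by decide +kernel)]
  change ∏ i : Fin 6, _ = _
  simp [Fin.prod_univ_succ]

theorem card_kerE7 : Nat.card (mpow Γ goodE7.R.A).ker = Nat.gcd 2 (Nat.card Γ) := by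
  rw [card_ker_mpow (d := fun i => [1, 1, 1, 1, 1, 1, 2].getD i 1)
    (P := lmat _ [[-1, 0, 0, 0, 0, 0, 0], [0, -1, 0, 0, 0, 0, 0], [1, -2, 0, -1, 0, 0, 0], [2, -3, 0, -2, -1, 0, 0], [3, -4, 0, -3, -2, -1, 0], [-2, 1, -1, 0, 0, 0, 0], [-4, -1, -4, -4, -3, -2, -1]])
    (P' := lmat _ [[-1, 0, 0, 0, 0, 0, 0], [0, -1, 0, 0, 0, 0, 0], [2, -1, 0, 0, 0, -1, 0], [-1, 2, -1, 0, 0, 0, 0], [0, -1, 2, -1, 0, 0, 0], [0, 0, -1, 2, -1, 0, 0], [0, 0, 0, -1, 2, 4, -1]])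
    (Q := lmat _ [[0, 0, 0, 0, 0, 1, -2], [0, 0, 0, 0, 0, 2, -3], [1, 0, 0, 0, 0, 2, -4], [0, 1, 0, 0, 0, 4, -6], [0, 0, 1, 0, 0, 4, -5], [0, 0, 0, 1, 0, 4, -4], [0, 0, 0, 0, 1, 4, -3]])
    (Q' := lmat _ [[-2, 0, 1, 0, 0, 0, 0], [0, -2, 0, 1, 0, 0, 0], [2, -3, 0, 0, 1, 0, 0], [4, -4, 0, 0, 0, 1, 0], [6, -5, 0, 0, 0, 0, 1], [-3, 2, 0, 0, 0, 0, 0], [-2, 1, 0, 0, 0, 0, 0]])
    (by decide +kernel) (by decide +kernel) (by decide +kernel)]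
  change ∏ i : Fin 7, _ = _
  simp [Fin.prod_univ_succ]

theorem card_kerE8 : Nat.card (mpow Γ goodE8.R.A).ker = 1 := by
  rw [card_ker_mpow (d := fun i => [1, 1, 1, 1, 1, 1, 1, 1].getD i 1)
    (P := lmat _ [[-1, 0, 0, 0, 0, 0, 0, 0], [0, -1, 0, 0, 0, 0, 0, 0], [1, -2, 0, -1, 0, 0, 0, 0], [2, -3, 0, -2, -1, 0, 0, 0], [3, -4, 0, -3, -2, -1, 0, 0], [4, -5, 0, -4, -3, -2, -1, 0], [-2, 1, -1, 0, 0, 0, 0, 0], [-3, -2, -4, -5, -4, -3, -2, -1]])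
    (P' := lmat _ [[-1, 0, 0, 0, 0, 0, 0, 0], [0, -1, 0, 0, 0, 0, 0, 0], [2, -1, 0, 0, 0, 0, -1, 0], [-1, 2, -1, 0, 0, 0, 0, 0], [0, -1, 2, -1, 0, 0, 0, 0], [0, 0, -1, 2, -1, 0, 0, 0], [0, 0, 0, -1, 2, -1, 0, 0], [0, 0, 0, 0, -1, 2, 4, -1]])
    (Q := lmat _ [[0, 0, 0, 0, 0, 0, 1, -2], [0, 0, 0, 0, 0, 0, 2, -3], [1, 0, 0, 0, 0, 0, 2, -4], [0, 1, 0, 0, 0, 0, 4, -6], [0, 0, 1, 0, 0, 0, 4, -5], [0, 0, 0, 1, 0, 0, 4, -4], [0, 0, 0, 0, 1, 0, 4, -3], [0, 0, 0, 0, 0, 1, 4, -2]])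
    (Q' := lmat _ [[-2, 0, 1, 0, 0, 0, 0, 0], [0, -2, 0, 1, 0, 0, 0, 0], [2, -3, 0, 0, 1, 0, 0, 0], [4, -4, 0, 0, 0, 1, 0, 0], [6, -5, 0, 0, 0, 0, 1, 0], [8, -6, 0, 0, 0, 0, 0, 1], [-3, 2, 0, 0, 0, 0, 0, 0], [-2, 1, 0, 0, 0, 0, 0, 0]])
    (by decide +kernel) (by decide +kernel) (by decide +kernel)]
  change ∏ i : Fin 8, _ = _
  simp [Fin.prod_univ_succ]

end H14
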