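import Cfsg.Agent.H14.Inv4
import Cfsg.Agent.H14.TwF4

/-!
Involutions of F₄(q), q even.
-/

namespace H14

open Matrix RootSys Cfsg.Lie PreSt St Good

set_option maxRecDepth 100000

namespace F4

/-- the collection process -/
noncomputable def col : Col := ⟨Nat.blt, ctab chevF4, 2⟩

/-- representatives -/
def invReps : List (List ℕ) := [[47], [44], [47, 44], [39, 45]]

/-- certificates -/
def tbl : List (List Let × List (List ℕ ⊕ List Let)) :=
  List.map (fun a : List ℕ × List ℕ × ℕ => (Col.one a.1, .inl a.2.1 :: List.getD [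
    [],
    [.inr (Col.one [25]), .inl [0, 1, 2]],
    [.inr (Col.one [27]), .inl [3, 2, 1]],
    [.inr (Col.one [27]), .inl [2, 1, 0, 3, 2, 1], .inr (Col.one [24]), .inl [2, 3], .inr (Col.one [25])],
    [.inr (Col.one [24]), .inl [2, 1, 2, 3], .inr (Col.one [27]), .inl [0, 1], .inr (Col.one [27])],
    [.inr (Col.one [25]), .inr (Col.one [24]), .inl [2, 3], .inr (Col.one [25])],
    [.inr (Col.one [27]), .inl [0, 1], .inr (Col.one [27]), .inl [0, 1], .inr (Col.one [27])],
    [.inr (Col.one [24]), .inl [3], .inr (Col.one [27]), .inl [0, 1], .inr (Col.one [27]), .inl [0, 3, 2, 1], .inr (Col.one [27]), .inl [2, 1], .inr (Col.one [24]), .inl [2, 3], .inr (Col.one [25])],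
    [.inr (Col.one [27]), .inl [1, 0, 2, 1], .inr (Col.one [27]), .inl [0, 1], .inr (Col.one [27]), .inl [0, 3, 2, 1], .inr (Col.one [27]), .inl [2, 1], .inr (Col.one [24]), .inl [2, 3], .inr (Col.one [25])],
    [.inr (Col.one [24]), .inl [2, 1, 2, 3], .inr (Col.one [25]), .inr (Col.one [24]), .inl [1, 2, 3], .inr (Col.one [25]), .inl [2], .inr (Col.one [27]), .inl [0, 1], .inr (Col.one [27])]] a.2.2 [])) [
    ([44], [], 0), ([47], [], 0), ([29, 44], [1, 0], 1), ([32, 44], [1, 0], 0), ([37, 47], [2, 3], 0),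
    ([41, 47], [2, 3], 2), ([24, 32, 44], [0, 1, 2, 1, 0, 2], 3), ([25, 37, 47], [0, 2, 1, 3], 3),
    ([27, 32, 44], [2, 1, 0, 2], 4), ([28, 29, 44], [1, 0], 5), ([28, 41, 47], [2, 3], 3),
    ([29, 30, 44], [2, 1, 0, 3], 4), ([30, 41, 47], [2, 3], 6), ([33, 37, 47], [1, 2, 1, 3], 4),
    ([24, 27, 32, 44], [2, 1, 0, 2], 7), ([25, 29, 30, 44], [2, 1, 0, 3], 7), ([25, 30, 41, 47], [3], 8),
    ([25, 33, 37, 47], [1, 2, 1, 3], 7), ([27, 28, 29, 44], [0], 9), ([27, 28, 41, 47], [1, 0, 2, 3], 7)]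

variable {K : Type*} [Field K] [CharP K 2]

theorem colOk : col.Ok (goodF4.xn (goodF4.SG K).toPreSt) := goodF4.colOk _ _ two_eq

theorem oc : (goodF4.SG K).OC := goodF4.oc_of okF4 rfl (by decide +kernel)

theorem inv_order : ∀ L ∈ invReps, orderOf (goodF4.pw K L) = 2 := fun L hL =>
  goodF4.invol okF4 rfl colOk ((by decide +kernel : ∀ L ∈ invReps, col.invol tabF4 chevF4 L = true) L hL)

theorem inv_conj [Finite K] : ∀ g, orderOf g = 2 → ∃ L ∈ invReps, ∃ k, k * g * k⁻¹ = goodF4.pw K L :=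
  goodF4.of_chk okF4 rfl colOk (tbl := tbl) (n := 5) (by decide +kernel) oc (by decide)

theorem inv_sep : invReps.Pairwise fun L L' => ∀ k, k * goodF4.pw K L * k⁻¹ ≠ goodF4.pw K L' := by
  have h := fun L L' A B h => conj_ne_symm (goodF4.sepI (K := K) (L := L) (L' := L') okF4 rfl A B h)
  simp only [invReps, List.pairwise_cons, List.forall_mem_cons, List.not_mem_nil, IsEmpty.forall_iff, implies_true, and_true,
    List.Pairwise.nil]
  exact ⟨⟨h _ _ [44] [47] (by decide +kernel), h _ _ [44, 47] [47] (by decide +kernel),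
    h _ _ [39, 45, 40, 44, 46, 47] [47] (by decide +kernel)⟩, ⟨h _ _ [44, 47] [44] (by decide +kernel),
    h _ _ [39, 45, 40, 44, 46, 47] [44] (by decide +kernel)⟩, h _ _ [39, 45, 40, 44, 46, 47] [44, 47] (by decide +kernel)⟩

end F4
end H14
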