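import Cfsg.Agent.H14.GoodSt
import Cfsg.Agent.H14.Tw6
import Cfsg.Agent.H14.Eval
import Cfsg.Agent.H11.Cl7

/-! The Chevalley groups of types D4 and B2 as orthogonal groups. -/

open Matrix
set_option linter.unusedSectionVars false
set_option maxRecDepth 100000
set_option synthInstance.maxSize 10000

namespace H14
open RootSys PreSt St Cfsg Cfsg.Lie

theorem Rep.U_le {ι κ ι' κ' ν : Type*} [Fintype κ] [DecidableEq κ] [Fintype ι] [DecidableEq ι] [Fintype κ'] [DecidableEq κ']
    [Fintype ι'] [DecidableEq ι'] [Fintype ν] [DecidableEq ν] {R : RootSys ι κ} {R' : RootSys ι' κ'} {C : Chev R} {C' : Chev R'}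
    (V : Rep C.toPreChev ν) (V' : Rep C'.toPreChev ν) (h : ∀ r, ∃ r', ∃ e : ℤ, V.E1 r = e • V'.E1 r') (K : Type*) [Field K] :
    (V.st K).U Set.univ ≤ (V'.st K).U Set.univ := PreSt.U_le.2 fun r _ t => by
  obtain ⟨r', e, h1⟩ := h r
  have h2 : V.E2 r = e ^ 2 • V'.E2 r' := nsmul_right_injective two_ne_zero (by
    simp only [← V.dp2, h1, smul_comm 2, ← V'.dp2, smul_mul_smul_comm, sq])
  have h3 : V.E3 r = e ^ 3 • V'.E3 r' := nsmul_right_injective three_ne_zero (by
    simp only [← V.dp3, h1, h2, smul_comm 3, ← V'.dp3, smul_mul_smul_comm, pow_succ' e 2])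
  convert x_mem_U (S := (V'.st K).toPreSt) (Set.mem_univ r') (t * e) using 1
  exact Units.ext (by simp only [Rep.coe_st_x, Rep.X, xexp, h1, h2, h3, cm_zsmul, smul_smul, mul_pow, Int.cast_pow])

namespace Good
variable {D : ChevalleyDatum} (G : Good D) {ν : Type*} [Fintype ν] [DecidableEq ν]

theorem plus_val (r s : Fin D.nroots) : (G.R.plus r s).val = (D.chainRoot r s 1).getD r := by
  rw [G.chainRoot_one]
  by_cases h : G.R.IsSum r s
  · simp [c1_of_isSum h]
  · simp [c1_of_not h, plus_of_not h]

theorem equiv_of_rep (V : Rep G.C.toPreChev ν) (h : ∀ r, ∃ a b, V.E1 r a b ^ 2 = 1) {K Γ : Type*} [Field K] [Group Γ]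
    {j : Γ →* GL ν K} (hj : Function.Injective j) (e : j.range = (V.st K).U Set.univ) :
    Nonempty (D.group K ≃* Γ ⧸ Subgroup.center Γ) := by
  have h1 := H11.stPull_sep _ hj e (V.model K fun r => have ⟨a, b, h⟩ := h r
    ⟨a, b, fun e => by simpa [e] using congrArg (Int.cast (R := K)) h⟩).sep
  obtain ⟨θ, h2⟩ := exists_isHom_of_center h1 (H11.stPull_top _ hj e) (G.SG_center K)
  exact ⟨((QuotientGroup.quotientMulEquivOfEq (ker_eq_center (G.SG_sep K) (H11.stPull_top _ hj e) (G.SG_top K)
    (G.center_eq_bot K) h2).symm).trans (QuotientGroup.quotientKerEquivOfSurjective θ (h2.surjective (G.SG_top K)))).symm⟩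

end Good

/-- evaluation of a commutator relation -/
noncomputable def brChk {ν : Type} (L : List ν) (A B C : Matrix ν ν ℤ) : Bool :=
  forceM (L.map fun i => L.map (A i)) fun A1 => forceM (L.map fun i => L.map (Aᵀ i)) fun A2 =>
    forceM (L.map fun i => L.map (B i)) fun B1 => forceM (L.map fun i => L.map (Bᵀ i)) fun B2 =>
      decide (List.zipWith (List.zipWith Int.sub) (A1.map fun v => B2.map (dotZ v)) (B1.map fun v => A2.map (dotZ v)) =
        L.map fun i => L.map (C i))

theorem brChk_spec {ν : Type} [Fintype ν] {L : List ν} (h1 : ∀ a, a ∈ L) (h2 : ∀ f : ν → ℤ, (L.map f).sum = ∑ a, f a)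
    {A B C : Matrix ν ν ℤ} (h : brChk L A B C = true) : A * B - B * A = C := by
  simp only [brChk, forceM_eq, List.map_map, Function.comp_def, dotZ_map, h2] at h
  simpa [List.zipWith_map, List.zipWith_self, h1, ← Matrix.ext_iff, mul_apply, isub_def] using of_decide_eq_true h

/-- matrices from a table -/
def tmat {ν : Type*} (i : ν → ℕ) (T r : ℕ) : Matrix ν ν ℤ := Matrix.of fun a b => sd4 T (64 * r + 8 * i a + i b)

/-- numbering of the basis -/
def ixD : Fin 4 ⊕ Fin 4 → ℕ := Sum.elim Fin.val (4 + ·.val)

/-- numbering of the basis -/
def ixB : Unit ⊕ (Fin 2 ⊕ Fin 2) → ℕ := Sum.elim (fun _ => 0) (Sum.elim (1 + ·.val) (3 + ·.val))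

/-- table -/
def e1D4 : ℕ := 0x888888888888888888888888888888888888888888888888888788888898888888888888888888888888888888888888888888888887888888888888898888888887888888888888888888888888888888888888888888888888888888889888888888888888888888888888888888888887888888888888888888889888888888888888888988888888888888888888888888888888888888888888888887888888888888888888888788888888888888888888888888888888888888888898888888888888888888888888888888888888888888988888878888888888888888988888888888888888888888888888888888888888888888887888888888888888888888888888888888888888888888988888888888887888888888888888888888888878888888888888888888888888888888888888888889888888888887888888888888888888888888888888888888888888988888888888888888888888888888888888888888888888888887888888988888888888888888888888888889888888788888888888888888888888888888888888888888888888888888888888788888888888888888888888888889888888888888888888888888888888888888888888878888888888888888888888888888988888888888888888888888788888888888889888888888888888888888888888888888888888888888888888888888889888888888888888888888788888888888888888888888888888888888888878888889888888888888888888888888888888888888888888888888888888888888888888887888888888888888888888888888898888888888888888888888888888888889888888888888888888888788888888888888888888888988888888888888888888788888888888888888888888888888888888888888888888888888888888788888888888888988888888888888888888888888888888888888898888888888888788888888888888888888888888888888888888888888888888888888898888887888888888888888888888888888888888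

/-- table -/
def e1B2 : ℕ := 0x88888888888888888888888888888888888888888888788888898888888888888888888888888888888888888888888888888888888888888888888a8888788888888888888888888888888888888888888888888888888a888888888887888888888888888888888888888888887888888888888888888888888988888888888888888888888888888888888888888888878888888888988888888888888888888888888888888888888888888888868888888888888888888888888888898888888888888888888888888888888888888888868888888888888888888888988888888888888888888888888888889888888788888888888888888888888888

/-- table -/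
def e2B2 : ℕ := 0x88888888888888888888888888888888888888888888888888888888888888888888888888888888888888888888888888888888888888888888788888888888888888888888888888888888888888888888888888878888888888888888888888888888888888888888888888888888888888888888888888888888888888888888888888888888888888888888888888888888888888888888888888888888888888888888888888888888888887888888888888888888888888888888888888888888888888888888888888888888888888788888888888888888888888888888888888888888888888888888888888888888888888888888888888888888

/-- the natural representation -/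
noncomputable def repD4 : Rep goodD4.C.toPreChev (Fin 4 ⊕ Fin 4) where
  E1 r := tmat ixD e1D4 r
  E2 _ := 0
  E3 _ := 0
  wt a := vec 0 (List.getD [[1, 0, 0, 0], [-1, 1, 0, 0], [0, -1, 1, 1], [0, 0, -1, 1], [-1, 0, 0, 0], [1, -1, 0, 0], [0, 1, -1, -1], [0, 0, 1, -1]] (ixD a) [])
  grade r a b h := by change sd4 _ _ ≠ 0 at h; revert r a b; decide +kernel
  dp2 := by decide +kernel
  dp3 r := by simp
  dp4 r := Matrix.mul_zero _
  br r s h := by
    rw [goodD4.plus_val, ← goodD4.chainM_one]
    refine brChk_spec (L := [.inl 0, .inl 1, .inl 2, .inl 3, .inr 0, .inr 1, .inr 2, .inr 3])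
      (by rintro (a | a) <;> fin_cases a <;> simp)      (fun f => by simp [Fin.sum_univ_four, add_assoc]) ?_
    revert r s; decide +kernel
  br_neg := by decide +kernel

/-- the natural representation -/
noncomputable def repB2 : Rep goodB2.C.toPreChev (Unit ⊕ (Fin 2 ⊕ Fin 2)) where
  E1 r := tmat ixB e1B2 r
  E2 r := tmat ixB e2B2 r
  E3 _ := 0
  wt a := vec 0 (List.getD [[0, 0], [0, 1], [2, -1], [0, -1], [-2, 1]] (ixB a) [])
  grade r a b h := by change sd4 _ _ ≠ 0 at h; revert r a b; decide +kernel
  dp2 := by decide +kernel
  dp3 := by decide +kernel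
  dp4 r := Matrix.mul_zero _
  br r s h := by
    rw [goodB2.plus_val, ← goodB2.chainM_one]
    revert r s; decide +kernel
  br_neg := by decide +kernel

theorem U_eq {D : ChevalleyDatum} {G : Good D} {m ν κ : Type*} [Fintype m] [DecidableEq m] [Fintype ν] [DecidableEq ν]
    [Fintype κ] [DecidableEq κ] (V : Rep G.C.toPreChev ν) (B : H11.Wb m ν κ)
    (h1 : ∀ a b, B.μ a - B.μ b ≠ 0 ∧ (B.μ a - B.μ b) ⬝ᵥ (B.μ a - B.μ b) ≤ B.N →
      ∃ r, ∃ e ∈ [(1 : ℤ), -1], B.wd.E B.s (B.μ a - B.μ b) = e • V.E1 r)
    (h2 : ∀ r, ∃ a b, (B.μ a - B.μ b ≠ 0 ∧ (B.μ a - B.μ b) ⬝ᵥ (B.μ a - B.μ b) ≤ B.N) ∧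
      ∃ e ∈ [(1 : ℤ), -1], V.E1 r = e • B.wd.E B.s (B.μ a - B.μ b)) (K : Type*) [Field K] :
    (B.nat.st K).U Set.univ = (V.st K).U Set.univ :=
  le_antisymm (Rep.U_le _ _ (fun ⟨_, ⟨a, b, rfl⟩, h⟩ => have ⟨r, e, _, h⟩ := h1 a b h; ⟨r, e, h⟩) K)
    (Rep.U_le _ _ (fun r => have ⟨a, b, h, e, _, h'⟩ := h2 r; ⟨⟨_, ⟨a, b, rfl⟩, h⟩, e, h'⟩) K)

theorem equiv_D4 (F : Type*) [Field F] : Nonempty (chevD4.group F ≃* POmega F (quadFormPlus 4 F)) :=
  goodD4.equiv_of_rep repD4 (fun r => by change ∃ a b, sd4 _ _ ^ 2 = 1; revert r; decide +kernel) (H11.omToGL_injective F _)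
    ((H11.range_omD 4 F (by decide) (.inr (by simp))).trans (U_eq _ _ (by decide +kernel) (by decide +kernel) F))

theorem U_B2 (F : Type*) [Field F] : ((H11.wbB 2).nat.st F).U Set.univ = (repB2.st F).U Set.univ :=
  U_eq _ _ (by decide +kernel) (by decide +kernel) F

end H14
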