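import Cfsg.Agent.H14.StS2
import Cfsg.Agent.H14.MinusE
import Cfsg.Agent.H14.OmRep

/-! Semisimple elements of the adjoint groups; the Steinberg character of the tabulated Chevalley groups. -/

open Matrix
set_option linter.unusedSectionVars false
set_option maxRecDepth 100000

namespace H14
open RootSys PreSt St Cfsg.Lie

theorem Good.stb_tor_injective' {D : ChevalleyDatum} (G : Good D) (K : Type*) [Field K] {ν : Type*} [Fintype ν]
    [DecidableEq ν] (V : Fin D.rank → Rep G.C.toPreChev ν) (a : Fin D.rank → ν) (B : Matrix (Fin D.rank) (Fin D.rank) ℤ)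
    (h : (Matrix.of fun i j => (V j).wt (a j) i) * B = 1) : Function.Injective (G.stb_hmul K).tor := by
  refine (injective_iff_map_eq_one _).2 fun c hc => (mpow_ker_eq_bot Kˣ h).le (funext fun j => ?_)
  obtain ⟨θ, hθ⟩ := G.stb_lift ((V j).hmul K)
  exact ((V j).tor_eq_one K).1 (by rw [← (G.stb_hmul K).map ((V j).hmul K) hθ, hc, map_one]) (a j)

/-- the weights of the three 8-dimensional modules -/
noncomputable def minD4 (j : Fin chevD4.rank) : Minus goodD4.R (Fin 8) where
  lam i := if i.val = j - (if j.val = 1 then 1 else 0) then 1 else 0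
  γ a i := sd4 (List.getD [0, 0, 0x8888766788887767888877778888777888888777888887788888878888888888,
    0x8888676788887767888877778888777888887877888878788888788888888888] (if j.val < 2 then 5 else j)
      0x8888776688887767888877778888787788888777888888778888888788888888) (8 * a + i)
  sref i a := Fin.ofNat 8 (dig 8 (List.getD [0, 0,
    0x70607070000000006070506000000000305060400000000020404050000000005030302000000000402010300000000010002010000000000010000,
    0x60707070000000007060506000000000503060400000000040204050000000003050302000000000204010300000000000102010000000001000000]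
      (if j.val < 2 then 5 else j)
    0x70707060000000006060507000000000304060500000000020504040000000005020303000000000403010200000000010102000000000000000001)
      (8 * a + i))
  γ_inj := by revert j; decide +kernel
  small := by revert j; decide +kernel
  γ_sref := by revert j; decide +kernel

theorem stb_tor_injectiveD4 (K : Type*) [Field K] : Function.Injective (goodD4.stb_hmul K).tor :=
  goodD4.stb_tor_injective' K (fun j => (minD4 j).rep (okD4.epsData ok3D4 okED4)) (fun j => if j.val = 1 then 1 else 0)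
    (lmat _ [[1, 1, 0, 0], [0, 1, 0, 0], [0, 0, 1, 0], [0, 0, 0, 1]]) (by decide +kernel)

/-- the 4-dimensional module -/
noncomputable def spB2 : Rep goodB2.C.toPreChev (Fin 4) where
  E1 r := tmat Fin.val 0x88888888888888888888888888888888888888888888888888888888888898888888888888888888888888888888888888888888888888888888988888888788888888888888888888888888888888888888888888889888888888888888889888888888888888888888888888888888888888888888888888888988888888888888888888888888888888888888888888888888888888988888888888888888888888888888888888888888888888888888898888888888888888898888888888888888888888888888888888888888888888988888888788888888888888888888888888888888888888888888888888888889888888888888888888888888 r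
  E2 _ := 0
  E3 _ := 0
  wt a := vec 0 (List.getD [[1, 0], [-1, 1], [1, -1], [-1, 0]] a [])
  grade r a b h := by change sd4 _ _ ≠ 0 at h; revert r a b; decide +kernel
  dp2 := by decide +kernel
  dp3 r := by simp
  dp4 r := Matrix.mul_zero _
  br r s h := by
    rw [goodB2.plus_val, ← goodB2.chainM_one]
    revert r s; decide +kernel
  br_neg := by decide +kernel

theorem stb_tor_injectiveB2 (K : Type*) [Field K] : Function.Injective (goodB2.stb_hmul K).tor :=
  goodB2.stb_tor_injective K spB2 (fun j => j.castLE (by decide)) (lmat _ [[1, 1], [0, 1]]) (by decide +kernel)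

theorem good_sc {D : ChevalleyDatum} (hD : D ∈ [chevG2, chevB2, chevD4, chevF4, chevE6, chevE7, chevE8]) :
    ∃ G : Good D, ∀ (K : Type*) [Field K], Function.Injective (G.stb_hmul K).tor ∧
      ∀ c, mpow Kˣ G.R.A c = 1 → c ^ 6 = 1 := by
  simp only [List.mem_cons, List.not_mem_nil, or_false] at hD
  have h : ∀ {M : Type _} [Monoid M] {c : M} (a b : ℕ), c ^ a = 1 → c ^ (a * b) = 1 := fun a b h => by rw [pow_mul, h, one_pow]
  rcases hD with rfl | rfl | rfl | rfl | rfl | rfl | rfl
  exacts [⟨goodG2, fun K _ => ⟨goodG2.stb_tor_inj kerG2, fun c e => by simp [kerG2 c e]⟩⟩,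
    ⟨goodB2, fun K _ => ⟨stb_tor_injectiveB2 K, fun c e => h 2 3 (kerB2 c e)⟩⟩,
    ⟨goodD4, fun K _ => ⟨stb_tor_injectiveD4 K, fun c e => h 2 3 (kerD4 c e)⟩⟩,
    ⟨goodF4, fun K _ => ⟨goodF4.stb_tor_inj kerF4, fun c e => by simp [kerF4 c e]⟩⟩,
    ⟨goodE6, fun K _ => ⟨stb_tor_injectiveE6 K, fun c e => h 3 2 (kerE6 c e)⟩⟩,
    ⟨goodE7, fun K _ => ⟨stb_tor_injectiveE7 K, fun c e => h 2 3 (kerE7 c e)⟩⟩,
    ⟨goodE8, fun K _ => ⟨goodE8.stb_tor_inj kerE8, fun c e => by simp [kerE8 c e]⟩⟩]

theorem exists_coprime_exp {K α : Type*} [Field K] (p : ℕ) [hp : Fact p.Prime] [CharP K p] {e : ℕ} (he : e ≠ 0) :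
    ∃ e', p.Coprime e' ∧ ∀ c : α → Kˣ, c ^ e = 1 → c ^ e' = 1 := by
  obtain ⟨k, m, h, rfl⟩ := Nat.exists_eq_pow_mul_and_not_dvd he p hp.1.ne_one
  refine ⟨m, hp.1.coprime_iff_not_dvd.2 h, fun c hc => ?_⟩
  clear he
  induction k with
  | zero => simpa using hc
  | succ k ih => exact ih (eq_one_of_pow_char p (by rwa [← pow_mul, mul_right_comm, ← pow_succ]))

namespace Good
variable {D : ChevalleyDatum} (G : Good D) (F : Type*) [Field F] [Fintype F] (p : ℕ) [hp : Fact p.Prime] [CharP F p]

local notation "K" => AlgebraicClosure F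

theorem exists_conj_tor (hi : Function.Injective (G.stb_hmul K).tor) {e : ℕ} (he : p.Coprime e)
    (h : ∀ c, mpow Kˣ G.R.A c = 1 → c ^ e = 1) {s : D.group K} {m : ℕ} (hm : ¬ p ∣ m) (hs : s ^ m = 1) :
    ∃ y c, s = y * (G.SG_hmul K).tor c * y⁻¹ := by
  have h1 : (G.stb K).Alg p := ⟨G.stb_sep _, G.pres_top _, G.stb_hmul _,
    (G.alg F p (by rintro rfl; simp [hp.1.ne_one] at he) h).fin, fun φ => G.stb_lift ((G.stb_hmul _).base φ),
    1, one_ne_zero, fun c hc => (pow_one c).trans (hi (hc.trans (map_one _).symm))⟩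
  obtain ⟨θ, hθ⟩ := G.stb_lift (G.SG_hmul K)
  obtain ⟨t, -, rfl⟩ := (hθ.map_U Set.univ).ge ((G.SG_top K).ge (Subgroup.mem_top s))
  obtain ⟨y, c, rfl⟩ := h1.exists_conj (m := m * e) (fun a => (hp.1.dvd_mul.1 a).elim hm (hp.1.coprime_iff_not_dvd.1 he))
    (fun c _ => h1.hmul.cn_of_inj hi (h1.finOrder c)) (s := t) (by
      obtain ⟨c, a, b⟩ := (G.stb_center K).le (ker_le_center (G.SG_sep K) h1.top hθ (show θ (t ^ m) = 1 by rwa [map_pow]))
      rw [pow_mul, ← b, ← map_pow, h c a, map_one])
  exact ⟨θ y, c, by rw [map_mul, map_mul, map_inv, (G.stb_hmul K).map (G.SG_hmul K) hθ]⟩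

theorem steinberg_ss (hi : Function.Injective (G.stb_hmul K).tor) {e : ℕ} (he : e ≠ 0)
    (h : ∀ c, mpow Kˣ G.R.A c = 1 → c ^ e = 1) {g : D.group F} (hg : ¬ p ∣ orderOf g) :
    D.steinbergCharacter F g = (p ^ (Nat.card (Subgroup.centralizer {g})).factorization p : ℕ) ∨
      D.steinbergCharacter F g = -(p ^ (Nat.card (Subgroup.centralizer {g})).factorization p : ℕ) := by
  obtain ⟨e', h1, h2⟩ := @exists_coprime_exp K (Fin D.rank) _ p _ _ _ he
  obtain ⟨Φ, T, φ, h3, h4, h5, h6, -⟩ := G.exists_fr F (G.SG_sep _) (G.SG_top _) (G.SG_hmul _) fun φ => ⟨_, G.mapG_x φ⟩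
  obtain ⟨y, c, h7⟩ := G.exists_conj_tor F p hi h1 (fun c a => h2 c (h c a)) hg (s := G.mapG (algebraMap F K) g)
    (by rw [← map_pow, pow_orderOf_eq_one, map_one])
  rw [G.steinberg_eq]
  exact stc_semisimple (S0 := G.SG F) (S := G.SG K) (ε := G.mapG _) (by exact G.mapG_x _) h3 (G.SG_top F) (G.SG_sep F) (G.SG_hmul F) p Φ h5 h4 (by simpa using h6) (G.mapG_inj _)
    (fun c a => h2 c (h c (G.SG_tor_eq_one.1 a))) h1 hg h7

end Good
end H14
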