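import Cfsg.Agent.H14.F4M2
import Cfsg.Agent.H14.StS3
import Cfsg.Agent.H14.Fold
import Cfsg.Agent.H14.Fld
import Cfsg.Agent.H23.SzCent
import Cfsg.Agent.H11.SylSL2

/-! The Schur multiplier of the large Ree groups. -/

namespace H14

open Subgroup H11 H11.TM RootSys PreSt St St.Tw Good Cfsg Cfsg.Lie
open scoped commutatorElement

set_option linter.unusedSectionVars false
set_option maxRecDepth 100000
set_option synthInstance.maxSize 10000

section

variable {ι κ : Type*} [Fintype κ] [DecidableEq κ] [Fintype ι] [DecidableEq ι] {R : RootSys ι κ}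
variable {C : Chev R} {K G E : Type*} [Field K] [Group G] [Group E] {S : St C K G}

theorem PreChev.IntoK.comm {A B B' : Set ι} (h : C.IntoK K A B B') (h' : C.IntoK K A B' B') (h'' : C.IntoK K B B' B')
    {a b : G} (ha : a ∈ S.U A) (hb : b ∈ S.U B) : ⁅b, a⁆ ∈ S.U B' := by
  simpa [commutatorElement_def, mul_assoc] using comm_memK h h' h'' (inv_mem ha) (inv_mem hb)

theorem PreChev.IntoK.commute {A B : Set ι} (h : C.IntoK K A B ∅) {a b : G} (ha : a ∈ S.U A) (hb : b ∈ S.U B) :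
    Commute a b := by
  have := h.comm (by simp [PreChev.IntoK]) (by simp [PreChev.IntoK]) ha hb
  rw [U_empty, mem_bot] at this
  exact (commutatorElement_eq_one_iff_commute.1 this).symm

variable (S) in
/-- there are commuting lifts with prescribed coordinates -/
def CL (π : E →* G) (a : ι) (A : Set ι) (b : ι) (B : Set ι) : Prop :=
  ∀ t u, ∃ x y, (S.x a t)⁻¹ * π x ∈ S.U A ∧ (S.x b u)⁻¹ * π y ∈ S.U B ∧ Commute x y

theorem CL.tr {π : E →* G} {a b : ι} {A B A' B' : Set ι} (h : CL S π a A b B) {n : E} {w : Equiv.Perm ι}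
    (hw : (π n, w) ∈ S.NW) (hA : ∀ r ∈ A, w r ∈ A') (hB : ∀ r ∈ B, w r ∈ B') : CL S π (w a) A' (w b) B' := fun t u => by
  have key : ∀ a A A' t, (∀ r ∈ A, w r ∈ A') → ∃ s, ∀ x, (S.x a s)⁻¹ * π x ∈ S.U A →
      (S.x (w a) t)⁻¹ * π (n * x * n⁻¹) ∈ S.U A' := fun a A A' t hA => by
    obtain ⟨c, c0, hc⟩ := NW.act hw a
    refine ⟨t / c, fun x hx => ?_⟩
    convert NW.conj_mem_U hw hA hx using 1
    rw [← mul_div_cancel₀ t c0, ← mul_inv_eq_iff_eq_mul.2 (hc _), mul_div_cancel₀ t c0, map_mul, map_mul, map_inv]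
    group
  obtain ⟨s, hs⟩ := key a A A' t hA
  obtain ⟨v, hv⟩ := key b B B' u hB
  obtain ⟨x, y, h1, h2, h3⟩ := h s v
  exact ⟨_, _, hs x h1, hv y h2, h3.map (MulAut.conj n)⟩

end

namespace F4

/-- levels of the roots -/
def lv (r : Fin chevF4.nroots) : ℕ := [0, 0, 0, 0, 0, 0, 0, 0, 0, 0, 0, 0, 0, 0, 0, 0, 0, 0, 0, 0, 0, 0, 0, 0, 1, 2, 3, 2, 4, 6,
  4, 5, 7, 1, 3, 5, 8, 7, 9, 10, 11, 6, 8, 9, 12, 10, 11, 12].getD r 0

/-- the short root of a level -/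
def al (j : ℕ) : Fin chevF4.nroots := [33, 27, 34, 28, 35, 29, 37, 36, 38, 39, 40, 44].getD j 0

/-- the exponent with which a torus element centralizing `r` acts on `s` -/
noncomputable def dt (r s : Fin chevF4.nroots) : ℤ × ℤ :=
  (goodF4.R.wt r 1 * goodF4.R.wt s 0 - goodF4.R.wt r 0 * goodF4.R.wt s 1 - 2 * goodF4.R.wt r 3 * goodF4.R.wt s 2 +
    2 * goodF4.R.wt r 2 * goodF4.R.wt s 3, goodF4.R.wt r 2 * goodF4.R.wt s 0 - goodF4.R.wt r 3 * goodF4.R.wt s 1 -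
      goodF4.R.wt r 0 * goodF4.R.wt s 2 + goodF4.R.wt r 1 * goodF4.R.wt s 3)

/-- the exponent is invertible -/
abbrev Dt (r s : Fin chevF4.nroots) : Prop := (dt r s).1 ^ 2 - 2 * (dt r s).2 ^ 2 ∣ 4

/-- an orbit of commuting roots -/
abbrev YOk (a b : Fin chevF4.nroots) : Prop := (okgrF4.rho a = b ∧ okgrF4.rho b = a) ∧
  (b.val ≠ chevF4.neg a ∧ nl 2 (chevF4.commTerms a b) = []) ∧ (grF4.gam a = 1 ∧ grF4.ex a = 2) ∧ grF4.gam b = 1 ∧ grF4.ex b = 1

variable {K : Type*} [Field K] [CharP K 2] {φ : K →+* K} (h2 : ∀ t, φ (φ t) ^ 2 = t)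

theorem lev : Lev (T φ h2) lv al 12 where
  pos := by decide +kernel
  le := by decide +kernel
  rho := by change ∀ r, lv (okgrF4.rho r) = _; decide +kernel
  eq := by change ∀ j < 12, ∀ r, _ ↔ _ ∨ r = okgrF4.rho _; decide +kernel
  into r s hr hs := (goodF4.intoK_of two_eq (A := {r}) (B := {s}) (B' := {k | lv s < lv k}) (fun _ e _ e' => e ▸ e' ▸
    (by decide +kernel : ∀ r s, goodF4.R.pos r → goodF4.R.pos s → s.val ≠ chevF4.neg r ∧
      ∀ c ∈ nl 2 (chevF4.commTerms r s), ∀ h : c.1 < chevF4.nroots, lv s < lv ⟨c.1, h⟩) r s hr hs) r rfl s rfl).2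

include h2 in
theorem exists_act [Finite K] {r s : Fin chevF4.nroots} (h : Dt r s) {c : K} (hc : c ≠ 0) :
    ∃ k ∈ (goodF4.SG K).H ⊓ (T φ h2).fix, (∀ a, dt r a = 0 → Act (goodF4.SG K) k a 1) ∧ Act (goodF4.SG K) k s c := by
  let θ : Kˣ →* Kˣ := (powMonoidHom 2).comp (Units.map φ.toMonoidHom)
  have h3 : ∀ x, θ (θ x) = x ^ (2 : ℤ) := fun x => Units.ext (by simp [θ, h2, zpow_ofNat])
  have h4 : ∀ x : Kˣ, x = φ (θ x) := fun x => by simp [θ, h2]
  let P : ℤ × ℤ → Kˣ →* Kˣ := fun e => zpowGroupHom e.1 * (zpowGroupHom e.2).comp θ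
  have h5 : ∀ e x, P e x = x ^ e.1 * θ x ^ e.2 := fun _ _ => rfl
  obtain ⟨x, hx⟩ := Finite.injective_iff_surjective.1 ((injective_iff_map_eq_one (P (dt r s))).2 fun x e => by
    obtain ⟨m, hm⟩ := h
    have : x ^ (4 : ℤ) = (P (dt r s) x ^ (dt r s).1 * θ (P (dt r s) x) ^ (-(dt r s).2)) ^ m := Additive.ofMul.injective (by
      simp only [hm, h5, map_mul, map_zpow, h3, ofMul_mul, ofMul_zpow]; module)
    replace this : (x : K) ^ 2 ^ 2 = 1 := by simpa [e, zpow_ofNat] using congrArg Units.val this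
    exact Units.ext (sub_eq_zero.1 (pow_eq_zero_iff (n := 2 ^ 2) (by simp) |>.1 (by
      rw [sub_pow_char_pow, this, Units.val_one, one_pow, sub_self])))) (Units.mk0 c hc)
  let e0 := (goodF4.R.wt r 1, goodF4.R.wt r 2)
  let e1 := (-goodF4.R.wt r 0, -goodF4.R.wt r 3)
  have key : ∀ a, Act (goodF4.SG K) ((goodF4.SG_hmul K).tor (vec 1 [P e0 x, P e1 x, θ (P e1 x), θ (P e0 x)])) a
      (P (dt r a) x) := fun a u => by
    rw [(goodF4.SG_hmul K).tor_mul_x, prod_vec (w := goodF4.R.wt a) [goodF4.R.wt a 0, goodF4.R.wt a 1, goodF4.R.wt a 2,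
      goodF4.R.wt a 3] (funext fun i => by fin_cases i <;> rfl) rfl]
    congr 4
    refine Additive.ofMul.injective ?_
    simp only [List.zipWith, List.prod_cons, List.prod_nil, mul_one, h5, map_mul, map_zpow, h3, ofMul_mul, ofMul_zpow, e0,
      e1, dt]
    module
  refine ⟨_, tor_mem (goodF4.SG_hmul K) tw_ψ ((mem_tor (h2 := h2) (c := vec 1 [P e0 x, P e1 x, θ (P e1 x), θ (P e0 x)])).2
    ⟨h4 (P e0 x), h4 (P e1 x)⟩), fun a e => ?_, ?_⟩
  · simpa only [e, h5, Prod.fst_zero, Prod.snd_zero, zpow_zero, mul_one, Units.val_one] using key a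
  · simpa only [hx, Units.val_mk0] using key s

variable (φ) in
/-- the elements of an abelian root group -/
noncomputable def Y (a b : Fin chevF4.nroots) (t : K) : chevF4.group K := (goodF4.SG K).x a (φ t) * (goodF4.SG K).x b t

section
variable {a b : Fin chevF4.nroots} (h : YOk a b)
include h

theorem Y_comm (t u : K) : Commute ((goodF4.SG K).x a t) ((goodF4.SG K).x b u) :=
  goodF4.commute_of_nl _ two_eq h.2.1.1 h.2.1.2 t u

theorem Y_add (t u : K) : Y φ a b (t + u) = Y φ a b t * Y φ a b u := by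
  simp only [Y, map_add, (goodF4.SG K).x_add, (Y_comm h _ _).symm.mul_mul_mul_comm]

theorem σ_a (t : K) : (T φ h2).σ ((goodF4.SG K).x a (φ t)) = (goodF4.SG K).x b t := by
  rw [(T φ h2).σ_x, goodF4.tw_f _ _ _ _ h.2.2.1, map_pow, h2]; exact congrArg (· |> ((goodF4.SG K).x · t)) h.1.1

theorem σ_b (t : K) : (T φ h2).σ ((goodF4.SG K).x b t) = (goodF4.SG K).x a (φ t) := by
  rw [(T φ h2).σ_x, goodF4.tw_f _ _ _ _ h.2.2.2, pow_one]; exact congrArg (· |> ((goodF4.SG K).x · (φ t))) h.1.2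

theorem Y_fix (t : K) : Y φ a b t ∈ (T φ h2).fix := by
  rw [mem_fix, Y, map_mul, σ_a h2 h, σ_b h2 h, (Y_comm h _ _).eq]

theorem Y_conj {k : chevF4.group K} (hk : k ∈ (T φ h2).fix) {c : K} (hc : Act (goodF4.SG K) k b c) (t : K) :
    k * Y φ a b t * k⁻¹ = Y φ a b (c * t) := by
  have := congrArg (T φ h2).σ (hc.conj t)
  rw [map_mul, map_mul, map_inv, mem_fix.1 hk, σ_b h2 h, σ_b h2 h] at this
  rw [Y, Y, ← this, ← hc.conj]
  group

variable {E : Type*} [Group E] {π : E →* chevF4.group K} (hr : π.range = (T φ h2).fix) (hc : π.ker ≤ center E)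
  [Finite K] {v : K} (h0 : v ≠ 0) (h1 : 1 - v ≠ 0)
include hr hc h0 h1

theorem comm_Y {A : List ℕ} (r : Fin chevF4.nroots) (hA : (∀ s ∈ fs A, dt r s = 0) ∧ Dt r b ∧
    okInto chevF4 2 A [a, b] [] = true) {x y : E} (hx : π x ∈ (goodF4.SG K).U (fs A)) {t : K} (hy : π y = Y φ a b t) :
    Commute x y := by
  obtain ⟨k, hk, a1, a2⟩ := exists_act h2 hA.2.1 h0
  obtain ⟨k, rfl⟩ := hr.ge hk.2
  obtain ⟨z, hz⟩ := hr.ge (Y_fix h2 h (t / (v - 1)))
  refine commute_of_comm hc (g := k) (x := z) (mem_centralizer_singleton_iff.1 (U_le.2 (fun s hs u => by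
    rw [mem_centralizer_singleton_iff, a1 s (hA.1 s hs), one_mul]) hx)) (hz ▸ PreChev.IntoK.commute
      (((goodF4.intoK two_eq hA.2.2)).mono subset_rfl subset_rfl (by simp [fs])) hx
        (mul_mem (x_mem_U (by simp [fs]) _) (x_mem_U (by simp [fs]) _))) ?_
  have := sub_ne_zero.2 (sub_ne_zero.1 h1).symm
  rw [map_commutatorElement, commutatorElement_def, hz, Y_conj h2 h hk.2 a2, hy, mul_inv_eq_iff_eq_mul, ← Y_add h]
  congr 1
  field_simp
  ring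

end

/-- a rotation of the relative root system -/
noncomputable abbrev rot (k : ℕ) : Fin chevF4.nroots → Fin chevF4.nroots :=
  (List.foldr goodF4.R.sref · [0, 3, 1, 2, 1, 2])^[k]

/-- the layers `i` and `j` form a root group of Suzuki type -/
abbrev Sp (j i k : ℕ) : Prop := (rot k 28 = al j ∧ rot k 27 = al i) ∧ (j < lv (rot k 30) ∧ rot k 30 ≠ al j) ∧
  ∀ r ∈ [25, 28, 30], i < lv (rot k r) ∧ rot k r ≠ al i

section
variable {E : Type*} [Group E] {π : E →* chevF4.group K} (hr : π.range = (T φ h2).fix) (hc : π.ker ≤ center E)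
  [Finite K] {v : K} (h0 : v ≠ 0) (h1 : 1 - v ≠ 0)
include hr hc h0 h1

theorem comm_sz {a b : E} (ha : π a ∈ (goodF4.SG K).U (fs [27, 25, 28, 30])) {t : K} (hb : π b = Y φ 28 30 t) :
    Commute a b := by
  have y1 : YOk 11 5 := by decide +kernel
  obtain ⟨g, hg⟩ := hr.ge (Y_fix h2 (a := 39) (b := 45) (by decide +kernel) 1)
  obtain ⟨x, hx⟩ := hr.ge (Y_fix h2 y1 t)
  have a1 : π ⁅g, x⁆ = Y φ 28 30 t := by
    have := (goodF4.colOk (goodF4.SG K).toPreSt Nat.blt two_eq).eqv (t := φ t) (u := t)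
      (L := [(39, 1, 0, 0), (45, 1, 0, 0), (11, 1, 1, 0), (5, 1, 0, 1)])
      (L' := [(28, 1, 1, 0), (30, 1, 0, 1), (11, 1, 1, 0), (5, 1, 0, 1), (39, 1, 0, 0), (45, 1, 0, 0)]) (by decide +kernel)
    rw [map_commutatorElement, commutatorElement_def, hg, hx, mul_inv_eq_iff_eq_mul, mul_inv_eq_iff_eq_mul]
    simpa [evl, xn, Y, mul_assoc] using! this
  have a2 : π ⁅a, g⁆ ∈ (goodF4.SG K).U (fs [40, 46]) := map_commutatorElement π a g ▸ PreChev.IntoK.comm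
    (A := fs [39, 45]) (goodF4.intoK two_eq (by decide +kernel)) (goodF4.intoK two_eq (by decide +kernel))
    (goodF4.intoK two_eq (by decide +kernel)) (hg ▸ mul_mem (x_mem_U (by decide) _) (x_mem_U (by decide) _)) ha
  have a3 := comm_Y h2 y1 hr hc h0 h1 27 (by decide +kernel) ha hx
  have a4 := comm_Y h2 y1 hr hc h0 h1 40 (by decide +kernel) a2 hx
  have a5 := comm_Y h2 (a := 28) (b := 30) (by decide +kernel) hr hc h0 h1 40 (by decide +kernel) a2 a1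
  refine commute_congr hc rfl (a1.trans hb.symm) (mul_inv_eq_iff_eq_mul.1 ?_)
  rw [conjugate_commutatorElement, a3.mul_inv_cancel, show a * g * a⁻¹ = ⁅a, g⁆ * g by simp [commutatorElement_def],
    comm_mul_left a5, a4.commutator_eq, mul_one]

theorem cl {j i k : ℕ} (h : Sp j i k) :
    CL (goodF4.SG K) π (al j) ({r | j < lv r} \ {al j}) (al i) ({r | i < lv r} \ {al i}) := by
  obtain ⟨n, hn, hw⟩ := (ex (φ := φ) (h2 := h2)).exists_cox (L := [0, 3, 1, 2, 1, 2]) (by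
    change ∀ r, okgrF4.rho _ = List.foldr _ (okgrF4.rho r) _
    decide +kernel)
  obtain ⟨n, rfl⟩ := hr.ge hn
  obtain ⟨w, a1, a2⟩ := NW.pow hw k
  suffices CL (goodF4.SG K) π 28 {r | r ∈ [30]} 27 {r | r ∈ [25, 28, 30]} by
    have := this.tr (A' := {r | j < lv r} \ {al j}) (B' := {r | i < lv r} \ {al i}) (map_pow π n k ▸ a1)
      (List.forall_mem_singleton.2 (a2 _ ▸ h.2.1)) fun r hr => a2 r ▸ h.2.2 r hr
    rwa [(a2 _).trans h.1.1, (a2 _).trans h.1.2] at this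
  intro t u
  obtain ⟨t, rfl⟩ := tits_surj h2 t
  obtain ⟨u, rfl⟩ := tits_surj h2 u
  obtain ⟨x, hx⟩ := hr.ge (Y_fix h2 (a := 28) (b := 30) (by decide +kernel) t)
  obtain ⟨y, hy⟩ := hr.ge ((p1 (h2 := h2)).2 ⟨u, 0, rfl⟩).2
  refine ⟨x, y, ?_, ?_, (comm_sz h2 hr hc h0 h1 ?_ hx).symm⟩ <;> simp only [hx, hy, Y, wd_cons, wd_nil, inv_mul_cancel_left]
  · exact x_mem_U (by decide) t
  all_goals refine mul_mem (x_mem_U (by decide) _) (mul_mem (x_mem_U (by decide) _) (mul_mem (x_mem_U (by decide) _) ?_))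
  exacts [one_mem _, mul_mem (x_mem_U (by decide) _) (one_mem _)]

theorem exists_cpl (h3 : 1 - v + v ^ 2 ≠ 0) : ∃ V, Cpl π V ((goodF4.SG K).U {r | goodF4.R.pos r}) := by
  refine (lev h2).exists_cpl (goodF4.SG_hmul K) hr hc h0 h1 h3 (fun j hj t => ?_) (fun j hj c hc => ?_) fun j hj i hi => ?_
  · rcases (by decide +kernel : ∀ j < 12, (YOk (al j) (okgrF4.rho (al j)) ∧ j < lv (okgrF4.rho (al j)) ∧
      okgrF4.rho (al j) ≠ al j) ∨ ∃ i < 12, ∃ k < 8, Sp i j k) j hj with ⟨a1, a2⟩ | ⟨i, -, k, -, a1⟩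
    · obtain ⟨t, rfl⟩ := tits_surj h2 t
      exact ⟨_, Y_fix h2 a1 t, by rw [Cr, Y, inv_mul_cancel_left]; exact x_mem_U (A := {r | j < lv r} \ {al j}) (r := okgrF4.rho _) a2 t⟩
    · obtain ⟨_, y, -, a2, -⟩ := cl h2 hr hc h0 h1 a1 0 t
      exact ⟨_, hr.le ⟨y, rfl⟩, a2⟩
  · obtain ⟨k, a1, -, a2⟩ := exists_act h2 ((by decide +kernel : ∀ j < 12, Dt (if j = 0 then 27 else 33) (al j)) j hj) hc
    exact ⟨k, a1, a2⟩
  · refine ((by decide +kernel : ∀ j < 12, ∀ i < j, Dt (al j) (al i) ∨ ∃ k < 8, Sp j i k) j hj i hi).imp (fun a1 => ?_)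
      fun ⟨k, _, a1⟩ => cl h2 hr hc h0 h1 a1
    obtain ⟨k, a2, a3, a4⟩ := exists_act h2 a1 h0
    exact ⟨k, a2, v, (sub_ne_zero.1 h1).symm, a3 _ (Prod.mk_eq_zero.2 ⟨by ring, by ring⟩), a4⟩

end

theorem sl2_hom [Finite K] : ∃ ψ : Matrix.SpecialLinearGroup (Fin 2) K →* chevF4.group K,
    (T φ h2).Up (orb 0) ≤ ψ.range ∧ (T φ h2).Um (orb 0) ≤ ψ.range := by
  have a1 := st_r1 (goodF4.SG K) 33
  have a2 := st_r1 (goodF4.SG K) 24
  rw [show goodF4.R.neg 33 = 14 by decide +kernel] at a1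
  rw [show goodF4.R.neg 24 = 23 by decide +kernel] at a2
  let X := fun a b (h : a ∈ fs [33, 14] ∧ b ∈ fs [24, 23]) t =>
    ((⟨_, x_mem_U h.1 (φ t)⟩, ⟨_, x_mem_U h.2 t⟩) : (goodF4.SG K).U (fs [33, 14]) × (goodF4.SG K).U (fs [24, 23]))
  have a3 : R1 (X 33 24 (by decide)) (X 14 23 (by decide)) :=
    ⟨fun s t => Prod.ext (Subtype.ext ((congrArg _ (map_add φ s t)).trans (a1.1 _ _))) (Subtype.ext (a2.1 s t)),
      fun s t => Prod.ext (Subtype.ext ((congrArg _ (map_add φ s t)).trans (a1.2 _ _))) (Subtype.ext (a2.2 s t)), fun t ht u =>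
      Prod.ext (Subtype.ext (by simpa [X] using a1.3 (φ t) (by simpa) (φ u))) (Subtype.ext (a2.3 t ht u))⟩
  obtain ⟨ψ, b1, b2⟩ := (a3.map ((Subgroup.subtype _).noncommCoprod (Subgroup.subtype _) fun a b => PreChev.IntoK.commute
    ((goodF4.intoK (B' := []) two_eq (by decide +kernel)).mono subset_rfl subset_rfl (by simp [fs])) a.2 b.2)).exists_hom
  refine ⟨ψ, fun g hg => ?_, fun g hg => ?_⟩
  · obtain ⟨t, rfl⟩ := p0.1 hg
    exact ⟨_, (b1 t).trans (by simp [X])⟩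
  · obtain ⟨t, rfl⟩ := m0.1 hg
    exact ⟨_, (b2 t).trans (by simp [X])⟩

omit [CharP K 2] in
theorem sp_X (r : Fin chevB2.nroots) (t : K) : spB2.X r t = [!![1, 0, 0, 0; 0, 1, 0, 0; 0, 0, 1, 0; t, 0, 0, 1],
    !![1, 0, 0, 0; 0, 1, 0, 0; -t, 0, 1, 0; 0, t, 0, 1], !![1, 0, 0, 0; t, 1, 0, 0; 0, 0, 1, 0; 0, 0, t, 1],
    !![1, 0, 0, 0; 0, 1, 0, 0; 0, t, 1, 0; 0, 0, 0, 1], !![1, 0, 0, 0; 0, 1, t, 0; 0, 0, 1, 0; 0, 0, 0, 1],
    !![1, t, 0, 0; 0, 1, 0, 0; 0, 0, 1, t; 0, 0, 0, 1], !![1, 0, -t, 0; 0, 1, 0, t; 0, 0, 1, 0; 0, 0, 0, 1],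
    !![1, 0, 0, t; 0, 1, 0, 0; 0, 0, 1, 0; 0, 0, 0, 1]].getD r 0 := by
  have hE : ∀ r, spB2.E1 r = [!![0, 0, 0, 0; 0, 0, 0, 0; 0, 0, 0, 0; 1, 0, 0, 0],
      !![0, 0, 0, 0; 0, 0, 0, 0; -1, 0, 0, 0; 0, 1, 0, 0], !![0, 0, 0, 0; 1, 0, 0, 0; 0, 0, 0, 0; 0, 0, 1, 0],
      !![0, 0, 0, 0; 0, 0, 0, 0; 0, 1, 0, 0; 0, 0, 0, 0], !![0, 0, 0, 0; 0, 0, 1, 0; 0, 0, 0, 0; 0, 0, 0, 0],
      !![0, 1, 0, 0; 0, 0, 0, 0; 0, 0, 0, 1; 0, 0, 0, 0], !![0, 0, -1, 0; 0, 0, 0, 1; 0, 0, 0, 0; 0, 0, 0, 0],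
      !![0, 0, 0, 1; 0, 0, 0, 0; 0, 0, 0, 0; 0, 0, 0, 0]].getD r 0 := by decide +kernel
  have hX : ∀ r (t : K), spB2.X r t = 1 + t • (spB2.E1 r).map Int.cast := fun r t => by
    simp [Rep.X, xexp, show spB2.E2 r = 0 from rfl, show spB2.E3 r = 0 from rfl, H14.cm]
  rw [hX, hE]
  ext i j
  fin_cases r <;> fin_cases i <;> fin_cases j <;> simp

open H23 H23.Sz in
theorem sz_hom [Finite K] : ∃ (Γ : Subgroup ((spB2.st K).U Set.univ)) (ψ : Γ →* chevF4.group K),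
    (T φ h2).Up (orb 1) ≤ ψ.range ∧ (T φ h2).Um (orb 1) ≤ ψ.range ∧
      ∀ (r : ℕ) [Fact r.Prime], r ≠ 2 → ∀ P : Subgroup Γ, IsPGroup r P → IsCyclic P := by
  let : Tits K := ⟨(frobenius K 2).comp φ, fun x => by simp [frobenius_def, h2]⟩
  have hθ : ∀ t : K, θ (φ t) = t := h2
  have := goodB2.nontrivial_rank
  let S := (spB2.st K).restrict _ le_rfl
  obtain ⟨ψ, hψ⟩ := exists_section (S := S) goodB2.conn (restrict_sep (spB2.model K fun r =>
    have ⟨a, b, h⟩ := (by change ∀ r, ∃ a b, sd4 _ _ ^ 2 = 1; decide +kernel : ∀ r, ∃ a b, spB2.E1 r a b ^ 2 = 1) r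
    ⟨a, b, fun e => by simpa [e] using congrArg (Int.cast (R := K)) h⟩).sep _ _) (restrict_top _)
    ((injective_iff_map_eq_one _).2 fun c hc => (mpow_ker_eq_bot Kˣ 
      (A := Matrix.of fun i (j : Fin chevB2.rank) => spB2.wt (j.castLE (by decide)) i)
      (B := lmat _ [[1, 1], [0, 1]]) (by decide +kernel)).le (funext fun j => (spB2.tor_eq_one K).1 (by
        rw [← (hmul_of_finite S).map (spB2.hmul K) (St.isHom_restrict _ _), hc, map_one]) (j.castLE (by decide))))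
    (goodB2.fold (fw := fun r => [([17, 19, 20, 22, 25, 27, 28, 30].getD r 0, 1)])
      (fun lt => goodF4.colOk (goodF4.SG K).toPreSt lt Int.cast_zero) (by decide +kernel))
  have key : ∀ L : List (Fin chevB2.nroots × K), IsSz ((spB2.st K).wd L).1 → (goodF4.SG K).wd (L.map fun p =>
      ([17, 19, 20, 22, 25, 27, 28, 30].getD p.1 0, p.2)) ∈ (ψ.comp ((SzG K).subgroupOf _).subtype).range := fun L hL => by
    have e : ∀ L, (S.wd L).1 = (spB2.st K).wd L := fun L => by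
      induction L with
      | nil => rfl
      | cons p L ih => exact congrArg (_ * ·) ih
    refine ⟨⟨S.wd L, mem_subgroupOf.2 (e L ▸ hL)⟩, ?_⟩
    change ψ (S.wd L) = _
    clear hL
    induction L with
    | nil => exact map_one ψ
    | cons p L ih =>
      rw [wd_cons, map_mul, ih, hψ]
      obtain ⟨r, t⟩ := p
      fin_cases r <;> simp [Good.fold, fx', xn] <;> rfl
  have hn : ∀ t u : K, nf (φ t) (φ t * t + u) = φ t * (φ t * t + u) + φ u ^ 2 := fun t u => by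
    rw [nf, map_add, map_mul, hθ, show θ t = φ t ^ 2 from rfl, show θ u = φ u ^ 2 from rfl]
    linear_combination t * φ t ^ 2 * two (F := K)
  refine ⟨(SzG K).subgroupOf ((spB2.st K).U Set.univ), ψ.comp (Subgroup.subtype _),
    fun g hg => ?_, fun g hg => ?_, fun r _ hr P hP => ?_⟩
  · obtain ⟨t, u, rfl⟩ := p1.1 hg
    refine key [(5, φ t), (4, t), (6, φ t * t + u), (7, φ u ^ 2)] ?_
    convert isSz_Tm (φ t) (φ t * t + u) using 1
    simp only [wd_cons, wd_nil, mul_one, Units.val_mul, Rep.coe_st_x, sp_X, Tm, hn, hθ]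
    simp [show chevB2.nroots = 8 from rfl, CharTwo.neg_eq, add_comm]
  · obtain ⟨t, u, rfl⟩ := m1.1 hg
    refine key [(2, φ t), (3, t), (1, φ t * t + u), (0, φ u ^ 2)] ?_
    convert (isSz_J.mul (isSz_Tm (φ t) (φ t * t + u))).mul isSz_J using 1
    simp only [wd_cons, wd_nil, mul_one, Units.val_mul, Rep.coe_st_x, sp_X, Tm, hn, hθ, suzukiForm]
    simp [show chevB2.nroots = 8 from rfl, CharTwo.neg_eq, add_comm]
  · let f : (SzG K).subgroupOf ((spB2.st K).U Set.univ) →* SzG K :=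
      (((spB2.st K).U Set.univ).subtype.comp (Subgroup.subtype _)).codRestrict _ fun x => x.2
    have := isCyclic_of_isPGroup K hr (hP.map f)
    exact (P.equivMapOfInjective f fun a b e => Subtype.ext (Subtype.ext (congrArg Subtype.val e :))).isCyclic.2 this

theorem schur [Finite K] (h5 : 5 ≤ Nat.card K) {Γ : Type*} [Group Γ] {e : Γ →* chevF4.group K} (he : (T φ h2).Emb e) :
    HasCyclicSchurMultiplier Γ 1 := by
  have := Fintype.ofFinite K
  have := finite_of_st (T φ h2).sep (T φ h2).top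
  have := Finite.of_injective e he.inj
  obtain ⟨v, h0, h1, h3⟩ := exists_steinberg_v (K := K) (Nat.card_eq_fintype_card (α := K) ▸ h5)
  refine H23.schur_one_iff.2 fun Δ _ _ τ hτ => ?_
  have hr : (e.comp τ).range = (T φ h2).fix := by
    rw [MonoidHom.range_comp, MonoidHom.range_eq_top.2 hτ.1, ← MonoidHom.range_eq_map, he.range]
  have hk : (e.comp τ).ker = τ.ker := MonoidHom.ker_comp_of_injective _ _ he.inj
  obtain ⟨V, hV⟩ := exists_cpl h2 hr (hk ▸ hτ.2.1) h0 h1 h3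
  obtain ⟨P, hP⟩ := he.exists_sylow 2 (goodF4.SG_hmul K)
  have a3 := not_dvd_card_ker_of_noStem hτ Nat.prime_two P.not_dvd_index (noStem_of_le (S := V)
    (fun s hs h => hV.inj s hs ((congrArg e h).trans (map_one e))) fun a b ha hb => by
      rw [hP] at ha hb
      exact (hV.mem_pairSub (hk ▸ hτ.2.1) (hV.mem_normalizer (hk ▸ hτ.2.1) ha) hb).2)
  have a4 : ∀ z ∈ (e.comp τ).ker, z ^ 2 = 1 → z = 1 := fun z hz h => by_contra fun h' =>
    a3 (orderOf_eq_prime h h' ▸ orderOf_dvd_natCard _ (hk ▸ hz))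
  have a5 : PX (T φ h2) 2 (e.comp τ) := ⟨hr, hk ▸ hτ.2.1, a4, exists_root_of_finite a4 (hk ▸ hτ.2.1)⟩
  refine eq_bot_iff.2 fun z hz => a5.eq_one ex gen (cok_good _) (goodF4.SG_hmul K) (goodF4.tor_inj kerF4) (fun i => ?_)
    (hτ.2.2 hz) (hk.ge hz)
  obtain ⟨j, b1, b2⟩ := reps i
  rw [L, (T φ h2).orb_eq b2]
  simp only [List.mem_cons, List.not_mem_nil, or_false] at b1
  rcases b1 with rfl | rfl
  · obtain ⟨ψ, b3, b4⟩ := sl2_hom h2
    exact px_inj_of_cyc a5 ψ b3 b4 fun r _ h => sl2_isCyclic_of_isPGroup 2 r h h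
  · obtain ⟨_, ψ, b3, b4, b5⟩ := sz_hom h2
    exact px_inj_of_cyc a5 ψ b3 b4 b5

end F4

end H14
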