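import Cfsg.Agent.H14.Inv4
import Cfsg.Agent.H14.TwE6

/-!
Involutions of E₆(q) and ²E₆(q), q even.
-/

namespace H14

open Matrix RootSys Cfsg.Lie PreSt St Good

set_option maxRecDepth 100000

namespace E6

/-- the collection process -/
noncomputable def col : Col := ⟨Nat.blt, tabE6.ct2 chevE6, 2⟩

/-- representatives -/
def invReps : List (List ℕ) := [[71], [68, 66], [55, 65, 67]]

/-- certificates -/
def tbl : List (List Let × List (List ℕ ⊕ List Let)) :=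
  List.map (fun a : List ℕ × List ℕ × ℕ => (Col.one a.1, .inl a.2.1 :: List.getD [
    [],
    [.inr (Col.one [39, 44, 60, 69]), .inl [3, 4, 5, 2, 3, 4, 0, 2, 3, 0, 2, 0]]] a.2.2 [])) [
    ([71], [], 0), ([60, 71], [2, 3, 1], 0), ([44, 60, 71], [4, 5, 4, 3, 1], 0), ([39, 44, 60, 71], [1], 1)]

theorem hd (r : Fin chevE6.nroots) : goodE6.R.d r = 1 := (goodE6.hd r).elim id id

variable {K : Type*} [Field K] [CharP K 2]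

theorem colOk : col.Ok (goodE6.xn (goodE6.SG K).toPreSt) := goodE6.colOk2 okE6 rfl hd _

theorem oc : (goodE6.SG K).OC := oc_of_d hd

theorem inv_order : ∀ L ∈ invReps, orderOf (goodE6.pw K L) = 2 := fun L hL =>
  goodE6.invol okE6 rfl colOk ((by decide +kernel : ∀ L ∈ invReps, col.invol tabE6 chevE6 L = true) L hL)

theorem inv_conj [Finite K] : ∀ g, orderOf g = 2 → ∃ L ∈ invReps, ∃ k, k * g * k⁻¹ = goodE6.pw K L :=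
  goodE6.of_chk okE6 rfl colOk (tbl := tbl) (n := 7) (by decide +kernel) oc (by decide)

theorem inv_sep : invReps.Pairwise fun L L' => ∀ k, k * goodE6.pw K L * k⁻¹ ≠ goodE6.pw K L' :=
  goodE6.pairwise_up okE6 rfl (by decide +kernel)

/-- certificates -/
def tbl2 : List (List Let × List (List ℕ ⊕ List Let)) :=
  List.map (fun a : List ℕ × List ℕ × ℕ => (Col.one a.1, .inl a.2.1 :: List.getD [
    [],
    [.inr (Col.one [42, 37]), .inl [4, 2], .inr [(42, 1, 1, 0), (42, 1, 0, 0), (37, 1, 1, 0)]],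
    [.inr (Col.one [42, 37]), .inl [5, 0, 4, 2], .inr [(57, 1, 1, 0), (57, 1, 0, 0), (38, 1, 1, 0)]],
    [.inr (Col.one [36, 56, 39]), .inl [1, 3, 4, 2, 5, 0, 3], .inr [(58, 1, 1, 0), (58, 1, 0, 0), (41, 1, 1, 0)]],
    [.inr (Col.one [42, 37]), .inl [4, 2, 5, 0, 3, 4, 2], .inr [(59, 1, 1, 0), (59, 1, 0, 0), (45, 1, 1, 0)], .inl [2, 1, 3, 4, 3, 2, 1], .inr (Col.one [36, 56, 39]), .inl [1, 3, 4, 2, 5, 0, 3], .inr [(58, 1, 1, 0), (58, 1, 0, 0), (41, 1, 1, 0)]]] a.2.2 [])) [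
    ([39], [1, 3, 4, 2, 5, 0, 3, 1, 4, 2], 0), ([44], [1, 3, 4, 2, 5, 0, 3, 1], 0),
    ([46], [1, 3, 4, 2, 5, 0, 3, 4, 2, 3], 0), ([47], [1, 3, 4, 2, 5, 0, 3, 4, 2], 0),
    ([51], [1, 3, 4, 2, 5, 0, 3], 0), ([53], [1, 3, 4, 2, 5, 0], 0), ([60], [1, 3, 4, 2, 3, 1], 0),
    ([63], [1, 3, 4, 2, 3], 0), ([65], [1, 3, 4, 2], 0), ([69], [1, 3], 0), ([70], [1], 0), ([71], [], 0),
    ([36, 56], [5, 0, 4, 2, 3, 1, 4, 2, 3, 4, 2], 0), ([37, 42], [5, 0, 4, 2, 3, 1, 4, 2, 5, 0, 3], 0),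
    ([38, 57], [5, 0, 4, 2, 3, 1, 4, 2, 3], 0), ([39, 44], [5, 0, 4, 2, 3, 1, 4, 2, 5, 0], 1),
    ([39, 60], [5, 0, 4, 2, 3, 1, 4, 2], 1), ([39, 71], [5, 0, 3, 1, 4, 2], 1),
    ([40, 43], [5, 0, 4, 2, 3, 1, 4, 2, 5, 0], 0), ([41, 58], [5, 0, 4, 2, 3, 1, 4, 2], 0),
    ([44, 60], [5, 0, 4, 2, 3, 1], 1), ([44, 71], [5, 0, 3, 1], 1), ([45, 59], [5, 0, 4, 2, 3, 1], 0),
    ([46, 53], [5, 0, 4, 2, 3, 4, 2, 5, 0, 3], 1), ([46, 65], [5, 0, 4, 2, 3, 4, 2, 3], 1),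
    ([46, 69], [5, 0, 3, 4, 2, 3], 1), ([47, 51], [5, 0, 4, 2, 3, 4, 2, 5, 0], 1),
    ([47, 63], [5, 0, 4, 2, 3, 4, 2], 1), ([47, 70], [5, 0, 3, 4, 2], 1),
    ([48, 50], [5, 0, 4, 2, 3, 4, 2, 5, 0], 0), ([49, 61], [5, 0, 4, 2, 3, 4, 2], 0),
    ([51, 63], [5, 0, 4, 2, 3], 1), ([51, 70], [5, 0, 3], 1), ([52, 62], [5, 0, 4, 2, 3], 0),
    ([53, 65], [5, 0, 4, 2], 1), ([53, 69], [5, 0], 1), ([54, 64], [5, 0, 4, 2], 0), ([55, 67], [5, 0], 0),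
    ([60, 71], [3, 1], 1), ([63, 70], [3], 1), ([65, 69], [], 1), ([66, 68], [], 0),
    ([36, 39, 56], [3, 4, 2, 5, 0, 3, 1, 4, 2, 3, 1, 4, 2], 0),
    ([36, 46, 56], [3, 1, 4, 2, 5, 0, 3, 1, 4, 2, 3, 4, 2], 0),
    ([36, 47, 56], [3, 4, 2, 5, 0, 3, 1, 4, 2, 3, 4, 2], 0), ([36, 56, 69], [4, 2, 3, 1, 4, 2, 3, 1, 4, 2, 3], 0),
    ([36, 56, 70], [4, 2, 3, 1, 4, 2, 3, 1, 4, 2], 0), ([36, 56, 71], [4, 2, 3, 1, 4, 2, 3, 4, 2], 0),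
    ([37, 42, 46], [3, 1, 4, 2, 5, 0, 3, 1, 4, 2, 5, 0, 3], 0),
    ([37, 42, 53], [3, 1, 4, 2, 3, 1, 4, 2, 5, 0, 3], 0),
    ([37, 42, 60], [4, 2, 3, 4, 2, 5, 0, 3, 1, 4, 2, 3, 1], 0),
    ([37, 42, 63], [4, 2, 3, 4, 2, 5, 0, 3, 1, 4, 2, 3], 0), ([37, 42, 70], [4, 2, 3, 1, 4, 2, 5, 0, 3, 1], 0),
    ([37, 42, 71], [4, 2, 3, 1, 4, 2, 5, 0, 3], 0), ([38, 44, 57], [3, 4, 2, 5, 0, 3, 1, 4, 2, 3, 1], 0),
    ([38, 46, 57], [3, 1, 4, 2, 5, 0, 3, 1, 4, 2, 3], 0), ([38, 51, 57], [3, 4, 2, 5, 0, 3, 1, 4, 2, 3], 0),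
    ([38, 57, 65], [3, 1, 4, 2, 3, 1, 4, 2, 3], 0), ([38, 57, 70], [4, 2, 3, 1, 4, 2, 3, 1], 0),
    ([38, 57, 71], [4, 2, 3, 1, 4, 2, 3], 0), ([39, 44, 60], [3, 4, 2, 5, 0, 3, 4, 2, 3, 1], 2),
    ([39, 44, 71], [3, 1, 4, 2, 5, 0], 2), ([39, 45, 59], [5, 0, 3, 4, 2, 5, 0, 3, 4, 2, 3, 1], 0),
    ([39, 48, 50], [3, 1, 4, 2, 5, 0, 3, 4, 2, 5, 0], 0), ([39, 49, 61], [3, 1, 4, 2, 5, 0, 3, 4, 2], 0),
    ([39, 55, 67], [5, 0, 3, 1, 4, 2, 5, 0], 0), ([39, 60, 71], [3, 1, 4, 2], 2),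
    ([39, 66, 68], [5, 0, 3, 1, 4, 2], 0), ([40, 43, 47], [3, 1, 4, 2, 5, 0, 3, 1, 4, 2, 5, 0], 0),
    ([40, 43, 51], [3, 1, 4, 2, 3, 1, 4, 2, 5, 0], 0), ([40, 43, 60], [4, 2, 3, 4, 2, 5, 0, 3, 4, 2, 3, 1], 0),
    ([40, 43, 65], [4, 2, 3, 4, 2, 5, 0, 3, 1, 4, 2], 0), ([40, 43, 69], [4, 2, 3, 4, 2, 5, 0, 3, 1], 0),
    ([40, 43, 71], [4, 2, 3, 1, 4, 2, 5, 0], 0), ([41, 44, 58], [3, 4, 2, 5, 0, 3, 4, 2, 3, 1], 0),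
    ([41, 47, 58], [3, 1, 4, 2, 5, 0, 3, 1, 4, 2], 0), ([41, 53, 58], [3, 4, 2, 5, 0, 3, 1, 4, 2], 0),
    ([41, 58, 63], [3, 1, 4, 2, 3, 1, 4, 2], 0), ([41, 58, 69], [4, 2, 3, 4, 2, 3, 1], 0),
    ([41, 58, 71], [4, 2, 3, 1, 4, 2], 0), ([44, 48, 50], [3, 1, 4, 2, 3, 4, 2, 5, 0], 0),
    ([44, 52, 62], [3, 1, 4, 2, 5, 0, 3], 0), ([44, 54, 64], [3, 1, 4, 2, 5, 0], 0), ([44, 60, 71], [3, 1], 2),
    ([44, 66, 68], [5, 0, 3, 1], 0), ([45, 51, 59], [3, 1, 4, 2, 5, 0, 3, 1], 0),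
    ([45, 53, 59], [3, 4, 2, 5, 0, 3, 1], 0), ([45, 59, 63], [3, 1, 4, 2, 3, 1], 0),
    ([45, 59, 65], [3, 4, 2, 3, 1], 0), ([45, 59, 71], [4, 2, 3, 1], 0),
    ([46, 53, 65], [3, 4, 2, 5, 0, 3, 4, 2], 2), ([46, 53, 69], [3, 4, 2, 5, 0, 3], 2),
    ([46, 54, 64], [5, 0, 3, 4, 2, 5, 0, 3, 4, 2], 0), ([46, 55, 67], [5, 0, 3, 4, 2, 5, 0, 3], 0),
    ([46, 65, 69], [3, 4, 2, 3], 2), ([46, 66, 68], [5, 0, 3, 4, 2, 3], 0),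
    ([47, 51, 63], [3, 4, 2, 5, 0, 3, 4, 2, 3], 2), ([47, 51, 70], [3, 4, 2, 5, 0], 2),
    ([47, 52, 62], [5, 0, 3, 4, 2, 5, 0, 3, 4, 2, 3], 0), ([47, 55, 67], [5, 0, 3, 4, 2, 5, 0], 0),
    ([47, 63, 70], [3, 4, 2], 2), ([47, 66, 68], [5, 0, 3, 4, 2], 0),
    ([48, 50, 63], [4, 2, 3, 4, 2, 5, 0, 3, 4, 2, 3], 0), ([48, 50, 65], [4, 2, 3, 4, 2, 5, 0, 3, 4, 2], 0),
    ([48, 50, 69], [4, 2, 3, 4, 2, 5, 0, 3], 0), ([48, 50, 70], [4, 2, 3, 4, 2, 5, 0], 0),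
    ([49, 51, 61], [3, 4, 2, 5, 0, 3, 4, 2, 3], 0), ([49, 53, 61], [3, 4, 2, 5, 0, 3, 4, 2], 0),
    ([49, 60, 61], [3, 1, 4, 2, 3, 4, 2], 0), ([49, 61, 69], [4, 2, 3, 4, 2, 3], 0),
    ([49, 61, 70], [4, 2, 3, 4, 2], 0), ([51, 54, 64], [3, 4, 2, 5, 0], 0), ([51, 63, 70], [3], 2),
    ([51, 66, 68], [5, 0, 3], 0), ([52, 53, 62], [3, 4, 2, 5, 0, 3], 0), ([52, 60, 62], [3, 1, 4, 2, 3], 0),
    ([52, 62, 65], [3, 4, 2, 3], 0), ([52, 62, 70], [4, 2, 3], 0), ([53, 65, 69], [], 2),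
    ([53, 66, 68], [5, 0], 0), ([54, 60, 64], [3, 1, 4, 2], 0), ([54, 63, 64], [3, 4, 2], 0),
    ([54, 64, 69], [4, 2], 0), ([55, 60, 67], [3, 1], 0), ([55, 63, 67], [3], 0), ([55, 65, 67], [], 0),
    ([36, 39, 56, 71], [2, 1, 3, 4, 3, 2, 1], 3), ([36, 46, 56, 69], [2, 1, 3, 4, 2, 3, 2], 3),
    ([36, 47, 56, 70], [2, 1, 3, 4, 3, 2], 3), ([37, 42, 46, 53], [1, 3, 4, 5, 2, 3, 0], 3),
    ([37, 42, 60, 71], [4, 5, 2, 1, 3, 1, 0], 3), ([37, 42, 63, 70], [4, 5, 2, 1, 3, 0], 3),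
    ([38, 44, 57, 71], [4, 2, 1, 3, 1], 3), ([38, 46, 57, 65], [1, 3, 4, 2, 3], 3),
    ([38, 51, 57, 70], [4, 2, 1, 3], 3), ([39, 44, 48, 50], [1, 3, 4, 5, 2, 1, 0], 3), ([39, 44, 60, 71], [], 4),
    ([39, 44, 66, 68], [3, 4, 5, 2, 1, 0], 3), ([39, 45, 59, 71], [2, 3, 4, 3, 2, 1], 3),
    ([39, 49, 60, 61], [1, 3, 4, 2, 1], 3), ([39, 55, 60, 67], [3, 4, 2, 1], 3),
    ([40, 43, 47, 51], [1, 3, 4, 5, 2, 0], 3), ([40, 43, 60, 71], [4, 5, 2, 3, 1, 0], 3),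
    ([40, 43, 65, 69], [4, 5, 2, 1, 0], 3), ([41, 44, 58, 71], [4, 2, 3, 1], 3),
    ([41, 47, 58, 63], [1, 3, 4, 2], 3), ([41, 53, 58, 69], [4, 2, 1], 3), ([44, 52, 60, 62], [1, 3, 1], 3),
    ([44, 54, 60, 64], [3, 1], 3), ([45, 51, 59, 63], [1, 3], 3), ([45, 53, 59, 65], [1], 3),
    ([46, 53, 65, 69], [1, 3], 4), ([46, 53, 66, 68], [3, 4, 5, 2, 3, 0], 3),
    ([46, 54, 64, 69], [2, 3, 4, 2, 3, 2], 3), ([46, 55, 65, 67], [3, 4, 2, 3], 3), ([47, 51, 63, 70], [1], 4),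
    ([47, 51, 66, 68], [3, 4, 5, 2, 0], 3), ([47, 52, 62, 70], [2, 3, 4, 3, 2], 3),
    ([47, 55, 63, 67], [3, 4, 2], 3), ([48, 50, 63, 70], [4, 5, 2, 3, 0], 3), ([48, 50, 65, 69], [4, 5, 2, 0], 3),
    ([49, 51, 61, 70], [4, 2, 3], 3), ([49, 53, 61, 69], [4, 2], 3), ([51, 54, 63, 64], [3], 3),
    ([52, 53, 62, 65], [], 3)]

theorem f_two {φ : K →+* K} (h2 : ∀ t, φ (φ t) = t) (r : Fin chevE6.nroots) (t : K) : (T φ h2).f r t = φ t :=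
  (goodE6.tw_f2 _ _ _ _ r t).trans (by rw [GrD.ex_eq_one rfl, pow_one])

theorem two {φ : K →+* K} (h2 : ∀ t, φ (φ t) = t) (h3 : ∃ c, c + φ c = 1) : (T φ h2).Two φ := by
  have h4 : ∀ r s, goodE6.R.pair r s = tabE6.pr chevE6 r s := goodE6.pair_eq okE6 rfl
  refine ⟨fun r t => ?_, oc, pair_le_two fun r => .inl (hd r), ?_, fun r s => ?_, ?_, fun a ha => ⟨hd, ?_, h2, h3, ?_⟩⟩
  · rw [Tw.σ_x, f_two]
  · exact (by decide +kernel : ∀ r, goodE6.R.ht (okgrE6.rho r) = goodE6.R.ht r)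
  · rw [h4, h4]
    exact ieq_iff.1 (allB_iff.1 (allB_iff.1 (by decide +kernel : (allB 72 fun r => allB 72 fun s =>
      ieq (tabE6.pr chevE6 (dig 8 grE6.ρ r) (dig 8 grE6.ρ s)) (tabE6.pr chevE6 r s)) = true) r r.2) s s.2)
  · exact (by decide +kernel : ∀ r, okgrE6.rho (okgrE6.rho r) = r)
  · rw [h4]
    exact (by decide +kernel : ∀ a, okgrE6.rho a ≠ a → tabE6.pr chevE6 a (okgrE6.rho a) = 0) a ha
  · simp only [h4]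
    exact fun r h => funext fun j => (by decide +kernel : ∀ a, okgrE6.rho a ≠ a → ∀ r : Fin chevE6.nroots,
      tabE6.pr chevE6 a r + tabE6.pr chevE6 (okgrE6.rho a) r = 0 → ∀ j : Fin chevE6.rank, tabE6.cf (okgrE6.rho r) j =
        tabE6.cf r j - tabE6.pr chevE6 (okgrE6.rho a) r * tabE6.cf (okgrE6.rho a) j - tabE6.pr chevE6 a r * tabE6.cf a j)
      a ha r h j

theorem inv_count [Fintype K] {q : ℕ} (hK : Fintype.card K = q ^ 2) :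
    (ConjClasses.mk '' {g : twistedE6 K q | orderOf g = 2}).ncard = 3 := by
  have hq : IsPrimePow q := (isPrimePow_pow_iff two_ne_zero).1 (hK ▸ FiniteField.isPrimePow_card K)
  obtain ⟨φ, h2, hφ⟩ := exists_hom hq hK
  have h1 := f_two h2
  obtain ⟨c, hc⟩ : ∃ c, c + φ c = 1 := by
    obtain ⟨t, ht⟩ : ∃ t : K, t ≠ t ^ q := by
      by_contra! h
      have := card_pow_eq (K := K) hq.one_lt (by rw [Nat.card_eq_fintype_card, hK]; exact Nat.sub_one_dvd_pow_sub_one q 2)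
      rw [Nat.card_congr (Equiv.subtypeUnivEquiv h), Nat.card_eq_fintype_card, hK] at this
      nlinarith [hq.one_lt]
    have h3 : t + φ t ≠ 0 := fun h => ht (by rw [← hφ, ← CharTwo.neg_eq (φ t)]; exact eq_neg_of_add_eq_zero_left h)
    exact ⟨t / (t + φ t), by rw [map_div₀, map_add, h2, add_comm (φ t), ← add_div, div_self h3]⟩
  refine (isTw (h2 := h2) hφ).ncard (reps := invReps) (fun L hL => ⟨goodE6.pw_fix (ρ := dig 8 grE6.ρ) (fun _ => rfl)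
    (fun r => (h1 r 1).trans (map_one φ)) colOk ((by decide +kernel : ∀ L ∈ invReps, col.okX chevE6.nroots 0 (dig 8 grE6.ρ)
      (Col.one L) = true) L hL), inv_order L hL⟩) (fun g hg h3 => ?_) inv_sep
  obtain ⟨k, hk, L, h4, h5, h6⟩ := (two h2 ⟨c, hc⟩).exists_orth (goodE6.SG_hmul K) ex (goodE6.center_eq_bot K) hg h3
  exact goodE6.of_dfs okE6 rfl (π := dig 8 grE6.π) (ρ := dig 8 grE6.ρ) (fun _ => rfl) (fun _ => rfl)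
    (fun r => (h1 r 1).trans (map_one φ)) colOk (t := c) (.inr ⟨rfl, fun r => by
      rw [h1, ← hc, add_comm c, add_assoc, CharTwo.add_self_eq_zero, add_zero]⟩) (tbl := tbl2) (n := 40)
    (M := chevE6.posRoots) (by decide +kernel) (by decide +kernel) oc (by rintro rfl; simp at h3) hk h4
    (fun r hr => ⟨Set.ext_iff.1 goodE6.fs_pos r |>.1 (h5 r hr).1, (h5 r hr).2⟩) h6

end E6
end H14
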