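/-
Standard subgroups of type `F₄` in characteristic two, part 0: tables, relations, and the parts of the proof as statements
(see notes/F4S.md).
-/
import Cfsg.Agent.H20.EN7
import Cfsg.Agent.H15.TE4
import Cfsg.Agent.H14.InvF4

set_option autoImplicit false
set_option linter.unusedSectionVars false
set_option maxRecDepth 100000

namespace H14.F4S
open Cfsg Subgroup H19 H14 H14.RootSys H14.PreSt H14.St Cfsg.Lie H20.EN
universe u

/-- root indices -/
abbrev I : Type := Fin chevF4.nroots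
/-- the root system -/
noncomputable abbrev R : RootSys I (Fin chevF4.rank) := goodF4.R
/-- the length reversing symmetry -/
noncomputable abbrev ρ4 : Equiv.Perm I := okgrF4.rho
/-- short roots -/
abbrev Sh (r : I) : Prop := tabF4.d r = 1
/-- long roots -/
abbrev Lg (r : I) : Prop := tabF4.d r = 2
/-- table of pairings -/
def prT : ℕ := 0xa999998999898889989889897878878778887877787777769a999899989898898989889797887878788787877787776799a989998998898899889778899788778878877877787677aaaaaaa999999998888888888888888887777777766666669989a998988998987788799887798899878778878776787798999a988989899787878879798898989778787887677787899999a88898999778788787989889899777878886777778aaa9888a9998887aaa999888888777666988877768887666aa89a889a889978a88997aa8866977886897788678867866a8a98a898a897988a897986a6a87978688797868786876868aa988a988a799888a799686a8a779688877968876887668a889aa88997a889886977a8a686997a8878869778866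78868a89a8a89798a898687978a6a689798a878687978686786888a98aa879988a96887796688aa79988a7688779866876888889aaa7888999a666777888888999aaa677788896667888998887799888877a999989988778777769988887799888779898787989887879a998987979878776798988787989878789987789889788799a899787989778677988978878998778a88888699979777aa8a88a8a68688686699979777a8888868a8886899797977a8a8a88a6a68868686997979778a8886888a8688979977978aa88a6688aa6886689799779788a8688987898789879878987987a997769879878987987898789878978978897889789788979a796797889789788978897897897888978897978889797897a697897978889797889788897798887988797988879798796a798797988879798879888798798798879887987988797697a979887987988798879879878987898789789878978967799a7897898789789878987898868a8879779979866886aa8866a88aa8797799798868a8886888a87797979968686886a6a88a8a8a7797979986888a8688888a77797999668688686a8a88a8aa77797999688888a877899878879889776877989787998a997887988987789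987878989787889897677878979789899a978788989787898977888997788889967777877889989999a778888997788899888766698887776aaa999888888777666a9998887aaa9888886786689778867a88997aa88669778869a889978aa89a888687686879786878a897986a6a879786898a89798a8a98a868876688779688788a799686a8a779688988a79988aa988a866788678869778886977a8a686997a888997a889a889aa86867868786879788687978a6a689798a889798a898a89a8a6687688768877986887796688aa79988a879988a988a98aa666788867778889666777888888999aaa7888999a8889aaa87777768887877799898898978788787799989888a999998787776788787877989898897978878787998989889a999897787677878877878998897788997887789899889899a989966666667777777788888888888888888899999999aaaaaaa776787778778878877887998877988998898899899989a997677787778787887878788797988989898898989998999a967777787778788877878878798988989988898999899999a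
/-- table of sums -/
def smT : ℕ := 0xffffffffffffffffffffffffffffffffffffbbfb7ffecfebabffffa3f9e693f81f75a63fffffffffffffffffffffffffffffffffffeffedfffb3faffa7ffe8fe7fe58e0fde719fd7fffffffffffffffffffffffffffffffefbbfffffecfffaa9fffa3ffe697f89f7bf6ff595fffffffffffffffffffffffffffbeeb7ffffffffebaa9ffffe89e69648e285d71bfd44d2ffffffffffffffffffffffffbeefffb3fffffeaa7ffffffffe7fe48fffe1fda67f53f450ffffffffffffffffffffffeffedfecfffaffa7fffffffffffe693f8bf87ffd8fd64d1fcfffffffffffffffffffffffeeb7fb3ffebfeafffffffffffffe58e2fe1ffffff5d54903ffffffffffffffffffefbadb3fffffffffffffffffe79a59238bf81f79d71bffffff38d30bfffffffffffffefbbffecaffffffffa3fffffe697f923fff860fdd71a67f53ffce37f289ffffffffffffbffb7fb3fabfffffe8fff9ff97ffe4fe2fe1fdf77f6d8fd64ff3bf30afc8ffffffffffffbadfecfffa7ffffa3ffe7fe6ffffe38bf87ffde71bfff5d548efff2c923fffffffffffeffffb3faeaffffe8fe79bffff8ff8bffe1ffffdd698fff51347f34c2bffc7ffffffffffe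efecfebfe9fffa3f9ff97ffe4fe2fff87fffffdc67f5d4fd240dfcb27f1ffffffffffffedb3ffeaa7ffe8fff9a5fe48ffffffe1fffffffdbfd65534bf3cc2ff207fffffffffffffecaeaa7fffffe79a59238bfffffffffffffffffff51349140ffca2481ffffffffffffefbbffffffffe89fffffffffffffffdf7bf75c699ffffffffffce37fffffff185ffffffbffb7fffffffa3f9bffffffffff83f7bffddfdb63f5bfffffff3bf33fffffc6fc4ffffffbadfffffffe8fff97ffffffffe0fdfffffdc6fffd757fffffcefff2ffffffc513fffffeffffb3ffffa3f9e693fffffe07fffff73f6da63ffd44fffff3bf34c2bffff1bffc3ffffeefecffffe8fe7fe58fffff83f7bffddfdbfd9fd753f4bffcefcdfcb27ffff17f0ffffffedb3ffffa3ffe697f8bffff7defdd73fffffff5954d2fff3bffcc2ff23ffff103ffffffbfffffafffff9fffe4ffffe0fff77ffff658ffffd4fff47ffff37ffcaffffc6ffffc2fffbbffebffffe7ffffe3fff83ffff73ffdafff5ff53ffff43ffcdffffc9ffffc5fff0bffefffffffabffff9bf93fffffdffddfff6bffff5bffd3fd1ffffff33f2bffff1bfffffc1bbfffffe9ffffe5fe3ffffff7bf73ffd9ffffd5fff4bf43fffffcbfc9ffff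c5ffffff03ffedfffabffff9bffff8bffdfffffdbfd8fff57ffd3ffffcffff33ffff23ffff13ffc1fffb7ffffa7ffff97ffe2ffffdefff6fffff5d6ffffd2fff3fffff2fffc8ffffc4ffffc0ffffffb2bffffe7fe48fffe1fff75c699fffffffd34bf450ffffcdfca27ffc7ffffc30bfffffecfeaffffe693f8bf87ffddfdb63f5bf53f4bffd1fcfffffcc2bf23f1fffff0ff07ffffb3ffe9ffffe58e2fe1ffffdc6fffd7554fd3ffffd03ffffffcb248fc7ffffc3fff03fffffebabfffffe4fff87fffffda63ffd44fffff43f3fffffffffcafff1ffffffff081ffffffaffa7fffffe3fe1fffffffd9fd753f4bffd1fcfffffffffffc9fc7fffffffc2fc0ffffffaa9fffffffe287ffffffffff5954d2fd143ffffffffffffffc81fffffffffc103fffffffffffe89e697f81f79d71bfffffffffffffffffffcd30b28923fffffc61440ffffffffffffffa27fe48e0fdd71a67f53fffffff3bfffffcc2ff289fff1fffc617ffc30bfffffffffffe8fe693f89f77f6d8fd64ffffffcefff37f2fffcafc8fc7fff1bf13f0ff07ffffffffffa3ffe58e2fde71bfff5d54bffff3bffcdfccffffc923f1fffff144fc3fff03fffffffffffe79a4fff85d698fff51347ffcefcd33ffff27f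23ffc7ffffc6fff0ff081ffffffffffff9ff963fe1fdc67f5d4fd243f3bf37f2fffcafc8fff1ffffffc5fc3fc2fc0ffffffffffff9a5fe287ffdbfd65534bf3cefff30bfca27fffffc7fffffffc40fffc103fffffffffffff9238a1ffffff51349140ffcd30b28923fffffffffffffffffc308103fffffffffffffffffe07dd698ffffff3bf34c2bfffffffffffff17f13ffc3fc207ffffffffffffffffffffff83f79c67f5fffcefcdfcb27fffffffffffc6fc4fff0ff0bf03ffffffffffffffffffffff7defdbfd657f3bffcc2ff23ffffffffc617fffffc3fff040ffffffffffffffffffffffff75c6ff51348e34c2ca2481fffff18513ffffffffc2040fffffffffffffffffffffffffff699fd4fd140dfca27ffc7fff185fff0ffffffc103fffffffffffffffffffffffffffffff63f59347f3cc2bf23f1fffc6fc4fc3fff0bf03fffffffffffffffffffffffffffffffffffd755240ffcb248fc7ffffc513f0fffc2fc1ffffffffffffffffffffffffffffffffffff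
/-- table of reflections -/
def rfT : ℕ := 0x1755240fa4b2489478e284511e0dc6c2641b96b544ec46ba8e34ca0a9e690681f75a62f60159346a3cc2a62241e28467c47436da0af02d554b12ad0a4e3682e72658e015e719b97699094ad140d9ca2648c786018575c0efb985c102c4d2aa93cea0c2e694889f7846ed59518510308100e34c2ca2481e07de75c6da6585d65544d24503e89e69648e286fbadb2baa97deb5b1165683a694c2e2220bee75cb061585eaa434d20403e73648ca2611da66b50245082e79c6455e89ce94d8cb26f7ed76c6daac6a445540d209002690c88a8481d8a964d104fbe07dd6981a89e63a434c2aeb5eb1c6eb66a1561144c34420658e22e12481e95d54903c04503e1aeaa475134a48e2b0204028921a6585d65679a5beeb4334c2dd71ba061443a07de595b623eaa5b2269534ac8447de30ba010185efb87923450ace0dd70a26750616034269966e5e3ad0a5c9c9954b1286015e3682dabc2b405641e246a3ce7436ca9884c67c4318056bda624aea45d9e62ac5138607c6a0d32e66d096063887a503ce71b0e524849e1442d75407aeb655d5a6871bb0b8e24a07ef3a7985644ad6a892210103dd34c9035131c6698282051bdfb6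662a5a876c6e43224e0b9e9ce95a1ab12954a8484413dc3632d40d21d9157242400bee827ada668b1d7248cd52d7de9a53aaa585c616128945009b88c2d34831d654420f040beeb6881f7ac9e695d71b3abaa992389a6585d654d30b18512151348a2480d140f1c2040aa9b6caefba28669648e89cf5954d26d14185df79475c6998081cc2ca24e3410040c2185aeea6cbeab639e1964a2299941751c49a81178f55d4db61f5893472ca3883021400c6044bebaacbada649e68688e295a6117544e065f4163dc6d279754a34c1ce2482c60810c5100a6eb6caeabe58e2a219e691755e49c6d064f8167d44dd45a60b24838734c2801440c2046beab6caeea669288a78658d87d67536da4603de5547126505cc28e20d1cb2460440c2140beeaecb6aa67a248e69618a069975c51f7985d141b4d25953cd38a24c2c72061420c4040b6ebeca6aae89669e28e485e7e06dc7555d66586924d43d044e2cc34824a1c41460c0042bedbacaaba689a79648a385f81e75b71859a5595d351244f40e30d2ca2091c61050c1080bafb6cae9aa89e59a392286079f71d6d96976155944934113ce34b3092881c51840c2001bafb6cae9aa89e59a392286079f71d6d96976155944934113ce34b3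092881c51840c2001bedbacaaba689a79648a385f81e75b71859a5595d351244f40e30d2ca2091c61050c1080b6ebeca6aae89669e28e485e7e06dc7555d66586924d43d044e2cc34824a1c41460c0042beeaecb6aa67a248e69618a069975c51f7985d141b4d25953cd38a24c2c72061420c4040beab6caeea669288a78658d87d67536da4603de5547126505cc28e20d1cb2460440c2140a6eb6caeabe58e2a219e691755e49c6d064f8167d44dd45a60b24838734c2801440c2046bebaacbada649e68688e295a6117544e065f4163dc6d279754a34c1ce2482c60810c5100aeea6cbeab639e1964a2299941751c49a81178f55d4db61f5893472ca3883021400c6044aa9b6caefba28669648e89cf5954d26d14185df79475c6998081cc2ca24e3410040c2185beeb6881f7ac9e695d71b3abaa992389a6585d654d30b18512151348a2480d140f1c2040bee827ada668b1d7248cd52d7de9a53aaa585c616128945009b88c2d34831d654420f040bdfb6662a5a876c6e43224e0b9e9ce95a1ab12954a8484413dc3632d40d21d91572424007aeb655d5a6871bb0b8e24a07ef3a7985644ad6a892210103dd34c9035131c6698282051bda624aea45d9e62ac5138607c6a0d32e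66d096063887a503ce71b0e524849e1442d754066e5e3ad0a5c9c9954b1286015e3682dabc2b405641e246a3ce7436ca9884c67c4318056595b623eaa5b2269534ac8447de30ba010185efb87923450ace0dd70a2675061603426994503e1aeaa475134a48e2b0204028921a6585d65679a5beeb4334c2dd71ba061443a07debe07dd6981a89e63a434c2aeb5eb1c6eb66a1561144c34420658e22e12481e95d54903c082e79c6455e89ce94d8cb26f7ed76c6daac6a445540d209002690c88a8481d8a964d104f7deb5b1165683a694c2e2220bee75cb061585eaa434d20403e73648ca2611da66b50245018510308100e34c2ca2481e07de75c6da6585d65544d24503e89e69648e286fbadb2baa9699094ad140d9ca2648c786018575c0efb985c102c4d2aa93cea0c2e694889f7846ed59560159346a3cc2a62241e28467c47436da0af02d554b12ad0a4e3682e72658e015e719b9701755240fa4b2489478e284511e0dc6c2641b96b544ec46ba8e34ca0a9e690681f75a62f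
/-- the pairing of `s` with the coroot of `r` -/
def pr (r s : I) : ℤ := sd4 prT (Nat.add (Nat.mul 48 r) s)
/-- the sum of two roots, `63` if it is not a root -/
def sm (r s : ℕ) : ℕ := dig 6 smT (Nat.add (Nat.mul 48 r) s)
/-- the sum of two roots, if it is a root -/
def sf (r s : I) : I := ⟨sm r s % 48, Nat.mod_lt _ (by decide)⟩
/-- the reflection of `s` in `r` -/
def rf (r s : I) : I := ⟨dig 6 rfT (Nat.add (Nat.mul 48 r) s) % 48, Nat.mod_lt _ (by decide)⟩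
/-- `k = r + s` -/
abbrev Sm (k r s : I) : Prop := sm r s = k.1
/-- the level for the highest short root `44` -/
abbrev lv (r : I) : ℤ := tabF4.cf r 0
/-- the level for the highest root `47` -/
abbrev lθ (r : I) : ℤ := tabF4.cf r 3
/-- positive roots -/
abbrev Ps : Set I := {r | R.pos r}
/-- the roots of the centralizer of `x 44 1` -/
abbrev Xb : Set I := {r | 0 ≤ lv r}
/-- the roots of its unipotent radical -/
abbrev Q1 : Set I := {r | 1 ≤ lv r}
/-- the roots of the centre of the radical -/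
abbrev V2 : Set I := {r | 2 ≤ lv r}
/-- the roots commuting with the double of `x 44` -/
abbrev X1 : Set I := {r | 0 < lv r ∨ lv r = 0 ∧ Lg r}
/-- the roots of the centralizer of `x 47 1` -/
abbrev Xa : Set I := {r | 0 ≤ lθ r}
/-- the exponents of the graph automorphism -/
def ex (r : I) : ℕ := if Sh r then 2 else 1

theorem sm_iff {k r s : I} : Sm k r s ↔ R.cf k = R.cf r + R.cf s := by
  have : (allB 48 fun r => allB 48 fun s => (fun (z : ℤ) (m : ℕ) => allB 48 fun k => bif' (Nat.beq m k) (ieq (tabF4.f k) z)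
    (bif' (ieq (tabF4.f k) z) false true)) (Int.add (tabF4.f r) (tabF4.f s)) (sm r s)) = true := by decide +kernel
  have := allB_iff.1 (allB_iff.1 (allB_iff.1 this r r.2) s s.2) k k.2
  refine Iff.trans ?_ okF4.cf_add_iff.symm
  by_cases h : sm r s = k <;> simpa [bif'_eq, h, Sm] using this
theorem Sm.eq {k r s : I} (h : Sm k r s) : sf r s = k := Fin.ext ((congrArg (· % 48) h).trans (Nat.mod_eq_of_lt k.2))
theorem Sm.symm {k r s : I} (h : Sm k r s) : Sm k s r := sm_iff.2 ((sm_iff.1 h).trans (add_comm _ _))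
/-- statements about sums are checked on pairs -/
theorem allS {P : I → I → I → Prop} (h : ∀ r s : I, sm r s < 48 → P r s (sf r s)) (r s k : I) (e : Sm k r s) : P r s k :=
  e.eq ▸ h r s (e ▸ k.2)
theorem pr_eq (r s : I) : R.pair r s = pr r s :=
  (goodF4.pair_eq okF4 rfl r s).trans ((by decide +kernel : ∀ r s : I, tabF4.pr chevF4 r s = pr r s) r s)
theorem rf_eq (r s : I) : R.refl r s = rf r s := okF4.strictMono.injective (by
  have := congrArg (lexf chevF4.rank) (R.cf_refl r s)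
  rw [map_sub, map_zsmul, pr_eq] at this
  exact ((okF4.lexf_cf _).symm.trans this).trans (by
    rw [(by decide +kernel : ∀ r s : I, tabF4.f (rf r s) = tabF4.f s - pr r s * tabF4.f r), ← okF4.lexf_cf, ← okF4.lexf_cf]; rfl))
theorem pos_iff : ∀ r : I, R.pos r ↔ 24 ≤ r.1 := by decide +kernel
theorem neg_val (r : I) : (R.neg r).1 = 47 - r.1 := rfl
theorem sh_or : ∀ r, Sh r ∨ Lg r := by decide +kernel
theorem simple4 : R.simple 0 = 33 ∧ R.simple 1 = 27 ∧ R.simple 2 = 25 ∧ R.simple 3 = 24 := by decide +kernel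
theorem tb : ∀ r s : I, s = R.neg r ∨ s.1 ≠ chevF4.neg r ∧ nl 2 (chevF4.commTerms r s) = if 0 ≤ pr r s then [] else
    if tabF4.d r = tabF4.d s then [(sm r s, 1, 1, 1)] else if Lg r then [(sm r s, 1, 1, 1), (sm (sm r s) s, 1, 1, 2)] else
    [(sm r s, 1, 1, 1), (sm (sm r s) r, 1, 2, 1)] := by decide +kernel
theorem tb0 (r s : I) (h : 0 ≤ pr r s) : s.1 ≠ chevF4.neg r ∧ nl 2 (chevF4.commTerms r s) = [] := by
  simpa [h] using (tb r s).resolve_left fun e => by rw [e, ← pr_eq] at h; simp at h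
theorem tb1' : ∀ r s k : I, Sm k r s → tabF4.d r = tabF4.d k → tabF4.d s = tabF4.d k →
    s ≠ R.neg r ∧ pr r s = -1 ∧ pr r k = 1 ∧ pr s k = 1 := allS (by decide +kernel)
theorem tb1 (r s k : I) (h : Sm k r s) (h1 : tabF4.d r = tabF4.d k) (h2 : tabF4.d s = tabF4.d k) :
    (s.1 ≠ chevF4.neg r ∧ nl 2 (chevF4.commTerms r s) = [(k.1, 1, 1, 1)]) ∧ 0 ≤ pr r k ∧ 0 ≤ pr s k := by
  obtain ⟨a, b, c, d⟩ := tb1' r s k h h1 h2
  exact ⟨by simpa [b, h1, h2, h] using (tb r s).resolve_left a, by omega, by omega⟩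
theorem tb2' : ∀ r s k : I, Sm k r s → Lg r → Sh s → sm k s < 48 ∧ (s ≠ R.neg r ∧ r ≠ R.neg s ∧ pr r s = -1 ∧ pr s r = -2) ∧
    pr r k = 1 ∧ pr r (sf k s) = 0 ∧ pr s k = 0 ∧ pr s (sf k s) = 2 ∧ pr k (sf k s) = 2 ∧ Sh k ∧ Lg (sf k s) :=
  allS (by decide +kernel)
theorem tb2 (r s k : I) (h : Sm k r s) (h1 : Lg r) (h2 : Sh s) (m : I) (h' : Sm m k s) :
    (s.1 ≠ chevF4.neg r ∧ nl 2 (chevF4.commTerms r s) = [(k.1, 1, 1, 1), (m.1, 1, 1, 2)]) ∧
    (r.1 ≠ chevF4.neg s ∧ nl 2 (chevF4.commTerms s r) = [(k.1, 1, 1, 1), (m.1, 1, 2, 1)]) ∧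
    0 ≤ pr r k ∧ 0 ≤ pr r m ∧ 0 ≤ pr s k ∧ 0 ≤ pr s m ∧ 0 ≤ pr k m ∧ Sh k ∧ Lg m := by
  obtain ⟨-, ⟨a, b, c, d⟩, e⟩ := tb2' r s k h h1 h2
  rw [h'.eq] at e
  exact ⟨by simpa [c, h1, h2, h, h', Lg] using (tb r s).resolve_left a, by simpa [d, h1, h2, h.symm, h', Lg] using (tb s r).resolve_left b,
    by omega, by omega, by omega, by omega, by omega, e.2.2.2.2.2⟩
theorem tri' : ∀ r s : I, s = R.neg r ∨ 0 ≤ pr r s ∨ Sm (sf r s) r s ∧ (tabF4.d r = tabF4.d (sf r s) ∧ tabF4.d s = tabF4.d (sf r s) ∨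
    (Lg r ∧ Sh s ∧ Sm (sf (sf r s) s) (sf r s) s) ∨ Sh r ∧ Lg s ∧ Sm (sf (sf r s) r) (sf r s) r) := by decide +kernel
theorem tri (r s : I) : s = R.neg r ∨ 0 ≤ pr r s ∨ ∃ k, Sm k r s ∧ (tabF4.d r = tabF4.d k ∧ tabF4.d s = tabF4.d k ∨
    (Lg r ∧ Sh s ∧ ∃ m, Sm m k s) ∨ Sh r ∧ Lg s ∧ ∃ m, Sm m k r) :=
  (tri' r s).imp_right (Or.imp_right fun h => ⟨_, h.1, h.2.imp_right (Or.imp (fun h => ⟨h.1, h.2.1, _, h.2.2⟩) fun h => ⟨h.1, h.2.1, _, h.2.2⟩)⟩)

section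
variable {F G : Type*} [Field F] [CharP F 2] [Group G] {S : St goodF4.C F G} {r s k m : I}

theorem cmt {T : List Let} (S : PreSt goodF4.C.toPreChev F G) (h : s.1 ≠ chevF4.neg r ∧ nl 2 (chevF4.commTerms r s) = T) (a b : F) :
    S.x s b * S.x r a = S.x r a * S.x s b * evl (goodF4.xn S) a b T := by
  have k := goodF4.colOk S Nat.blt (p := 2) two_eq
  have := k.comm r s (chevF4.commTerms r s) (by simp [Good.ctab, h.1, Bool.cond_eq_ite]) a b
  rwa [← k.ev_nl, h.2, Good.xn_val, Good.xn_val, CharTwo.neg_eq] at this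
/-- roots at an acute or right angle commute -/
theorem cm (h : 0 ≤ pr r s) (a b : F) : S.x r a * S.x s b = S.x s b * S.x r a := by
  rw [cmt _ (tb0 r s h), evl_nil, mul_one]
theorem cmj (h : 0 ≤ pr r s) (a b : F) : S.x r a * S.x s b * (S.x r a)⁻¹ = S.x s b := by rw [cm h, mul_inv_cancel_right]
/-- roots of the same length -/
theorem cx (h : Sm k r s) (h1 : tabF4.d r = tabF4.d k) (h2 : tabF4.d s = tabF4.d k) (a b : F) :
    S.x r a * S.x s b * (S.x r a)⁻¹ = S.x s b * S.x k (a * b) := by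
  obtain ⟨e, -, e2⟩ := tb1 s r k h.symm h2 h1
  rw [cmt _ e, evl_cons, evl_nil, mul_assoc, mul_assoc, mul_one, ← mul_assoc (S.x r a), Good.xn_val, cm e2, mul_inv_cancel_right]
  simp [mul_comm]
/-- a long root acts on a short root -/
theorem cy (h : Sm k r s) (h1 : Lg r) (h2 : Sh s) (h' : Sm m k s) (a b : F) :
    S.x r a * S.x s b * (S.x r a)⁻¹ = S.x s b * S.x k (a * b) * S.x m (a * b ^ 2) := by
  obtain ⟨-, e, e1, e2, -⟩ := tb2 r s k h h1 h2 m h'
  rw [cmt _ e, evl_cons, evl_cons, evl_nil, mul_one, Good.xn_val, Good.xn_val, mul_assoc (S.x s b), ← mul_assoc (S.x r a), cm e1,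
    mul_assoc (S.x k _), cm e2, ← mul_assoc, ← mul_assoc, mul_inv_cancel_right]
  simp [mul_comm]
/-- a short root acts on a long root -/
theorem cy' (h : Sm k r s) (h1 : Lg r) (h2 : Sh s) (h' : Sm m k s) (a b : F) :
    S.x s b * S.x r a * (S.x s b)⁻¹ = S.x r a * S.x k (a * b) * S.x m (a * b ^ 2) := by
  obtain ⟨e, -, -, -, e1, e2, -⟩ := tb2 r s k h h1 h2 m h'
  rw [cmt _ e, evl_cons, evl_cons, evl_nil, mul_one, Good.xn_val, Good.xn_val, mul_assoc (S.x r a), ← mul_assoc (S.x s b), cm e1,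
    mul_assoc (S.x k _), cm e2, ← mul_assoc, ← mul_assoc, mul_inv_cancel_right]
  simp [mul_comm]
theorem nx4 (r s : I) (a : F) : S.n r 1 * S.x s a * (S.n r 1)⁻¹ = S.x (rf r s) a := rf_eq r s ▸ nx r s a
theorem hx4 (r s : I) {c : F} (hc : c ≠ 0) (a : F) : S.h r c * S.x s a * (S.h r c)⁻¹ = S.x s (c ^ pr r s * a) :=
  pr_eq r s ▸ hx r s hc a

/-- a Steinberg system from the relations in characteristic two -/
noncomputable def mk4 (x : I → F → G) (add : ∀ r a b, x r (a + b) = x r a * x r b)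
    (h0 : ∀ r s, 0 ≤ pr r s → ∀ a b, x r a * x s b = x s b * x r a)
    (h1 : ∀ r s k, Sm k r s → tabF4.d r = tabF4.d k → tabF4.d s = tabF4.d k → ∀ a b,
      x r a * x s b * (x r a)⁻¹ = x s b * x k (a * b))
    (h2 : ∀ r s k m, Sm k r s → Lg r → Sh s → Sm m k s → ∀ a b,
      x r a * x s b * (x r a)⁻¹ = x s b * x k (a * b) * x m (a * b ^ 2)) : St goodF4.C F G :=
  haveI := goodF4.nontrivial_rank
  PreSt.toSt ⟨x, add, fun r s _ n2 a b => by
    let y : ℕ → F → G := fun r t => if h : r < chevF4.nroots then x ⟨r, h⟩ t else 1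
    have yv : ∀ r : I, y r = x r := fun r => funext fun _ => dif_pos r.2
    have z : ∀ r, x r 0 = 1 := fun r => by simpa using add r 0 0
    have sq : ∀ r a, (x r a)⁻¹ = x r a := fun r a => inv_eq_of_mul_eq_one_right (by rw [← add, CharTwo.add_self_eq_zero, z])
    have : ((goodF4.C.terms r s).map fun c => x c.1 (PreChev.tval a b c)).prod = evl y a b (nl 2 (chevF4.commTerms r s)) := by
      rw [evl, prod_nl two_eq y (fun r => by simp only [y]; split_ifs <;> simp [z]), goodF4.commTerms_eq]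
      simp [Function.comp_def, PreChev.tval, yv, CharTwo.neg_eq]
    rw [this]
    rcases tri r s with e | e | ⟨k, e, ⟨e1, e2⟩ | ⟨e1, e2, m, e3⟩ | ⟨e1, e2, m, e3⟩⟩
    · exact (n2 e).elim
    · rw [(tb0 r s e).2, h0 r s e, evl_nil, mul_one]
    · obtain ⟨⟨-, t⟩, -, t2⟩ := tb1 r s k e e1 e2
      rw [t, evl_cons, evl_nil, yv, mul_one, mul_assoc, h0 s k t2, ← mul_assoc, ← mul_inv_eq_iff_eq_mul,
        h1 s r k e.symm e2 e1]
      simp [mul_comm]
    · obtain ⟨⟨-, t⟩, -, t1, t2, -⟩ := tb2 r s k e e1 e2 m e3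
      have := h2 r s k m e e1 e2 e3 a b
      rw [mul_inv_eq_iff_eq_mul] at this
      rw [t, evl_cons, evl_cons, evl_nil, yv, yv, mul_one, this]
      simp only [Int.cast_one, one_mul, pow_one, mul_assoc]
      rw [← mul_assoc (x r a), h0 r k t1, mul_assoc, h0 r m t2, ← mul_assoc (x m _), ← h0 k m (tb2 r s k e e1 e2 m e3).2.2.2.2.2.2.1,
        mul_assoc, ← mul_assoc (x m _), ← add, ← mul_assoc (x k _), ← add]
      simp [CharTwo.add_self_eq_zero, z]
    · have e' : Sm k s r := e.symm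
      obtain ⟨-, ⟨-, t⟩, t1, t2, -⟩ := tb2 s r k e' e2 e1 m e3
      rw [t, evl_cons, evl_cons, evl_nil, yv, yv, mul_one, mul_assoc, ← mul_assoc (x s b), h0 s k t1, mul_assoc (x k _), h0 s m t2,
        ← mul_assoc, ← mul_assoc, ← mul_inv_eq_iff_eq_mul, h2 s r k m e' e2 e1 e3]
      simp [mul_comm]⟩ goodF4.conn
theorem mk4_x (x : I → F → G) (add h0 h1 h2) : (mk4 x add h0 h1 h2).x = x := rfl

/-- the dual system -/
def Dual (S S' : St goodF4.C F G) : Prop := ∀ r a, S'.x r a = S.x (ρ4 r) (a ^ ex r)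

/-- the group generated by `L` and the doubles of the short root groups -/
noncomputable def G0 (S : St goodF4.C F G) (θ : I → F → G) : Subgroup G := S.U Set.univ ⊔ closure {g | ∃ s c, Sh s ∧ g = θ s c}

/-- the structure of `L` and of its normalizer -/
structure TK (S : St goodF4.C F G) : Prop where
  zl : ∀ l ∈ S.U Set.univ, l ∈ C(S.U Set.univ) → l = 1
  dual : ∃ S', Dual S S' ∧ S'.Sep ∧ ∀ A, S'.U A = S.U (ρ4 '' A)
  act : ∀ g ∈ N(S.U Set.univ), ∃ l ∈ S.U Set.univ, ∃ δ, g = l * δ ∧ ∃ σ : F ≃+* F,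
    (∀ r a, δ * S.x r a * δ⁻¹ = S.x r (σ a)) ∨ ∀ r a, δ * S.x r a * δ⁻¹ = S.x (ρ4 r) (σ a ^ ex r)
  out : ∀ g ∈ N(S.U Set.univ), ∀ h ∈ N(S.U Set.univ), g * g ∈ S.U Set.univ ⊔ C(S.U Set.univ) →
    h * h ∈ S.U Set.univ ⊔ C(S.U Set.univ) → g ∈ S.U Set.univ ⊔ C(S.U Set.univ) ∨ h ∈ S.U Set.univ ⊔ C(S.U Set.univ) ∨
      g * h ∈ S.U Set.univ ⊔ C(S.U Set.univ)
  der : ⁅N(S.U Set.univ), N(S.U Set.univ)⁆ ≤ S.U Set.univ ⊔ C(S.U Set.univ)
  cls : ∀ v ∈ S.U Set.univ, v * v = 1 → v ≠ 1 → ∃ l ∈ S.U Set.univ, l * v * l⁻¹ = S.x 47 1 ∨ l * v * l⁻¹ = S.x 44 1 ∨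
    l * v * l⁻¹ = S.x 47 1 * S.x 44 1 ∨ l * v * l⁻¹ = S.x 39 1 * S.x 45 1
  sep : [S.x 47 1, S.x 44 1, S.x 47 1 * S.x 44 1, S.x 39 1 * S.x 45 1].Pairwise fun a b => ∀ l ∈ S.U Set.univ, l * a * l⁻¹ ≠ b
  ca : ∀ a ≠ 0, S.U Set.univ ⊓ C[S.x 47 a] = S.U Xa
  cb : ∀ a ≠ 0, S.U Set.univ ⊓ C[S.x 44 a] = S.U Xb
  cc : ∀ a ≠ 0, ∀ b ≠ 0, S.U Set.univ ⊓ C[S.x 47 a * S.x 44 b] = S.U (Xa ∩ Xb)
  cd : S.U Set.univ ⊓ C[S.x 39 1 * S.x 45 1] = S.U (Ps \ {25, 26, 27, 34} ∪ {14, 23})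
  zU : S.U Ps ⊓ C(S.U Ps) = S.U {44, 47}
  nU : ∀ g ∈ N(S.U Ps), (g ∈ N(S.U {47}) ∧ g ∈ N(S.U {44})) ∨ (cj g (S.U {47}) = S.U {44} ∧ cj g (S.U {44}) = S.U {47})
  cenU : ∀ y ∈ N(S.U Set.univ), y ∈ C(S.U Ps) → ∃ k ∈ C(S.U Set.univ), ∃ a b, y = k * (S.x 47 a * S.x 44 b)
  cenQ : ∀ y ∈ N(S.U Set.univ), y ∈ C(S.U Q1) → ∃ k ∈ C(S.U Set.univ), ∃ v ∈ S.U V2, y = k * v
  cenX : ∀ y ∈ N(S.U Set.univ), y ∈ C(S.U X1) → ∃ k ∈ C(S.U Set.univ), ∃ e, y = k * S.x 44 e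
  cenA : ∀ y ∈ N(S.U Set.univ), y ∈ C(S.U (ρ4 '' X1)) → ∃ k ∈ C(S.U Set.univ), ∃ e, y = k * S.x 47 e
  cenW : ∀ y ∈ N(S.U Set.univ), y ∈ C(S.U {r | r ∈ X1 ∧ rf 33 r ∈ X1}) →
    ∃ k ∈ C(S.U Set.univ), ∃ b e, y = k * (S.x 40 b * S.x 44 e)

/-- an element moving `t` to `t * x 44 c` in normal form -/
structure Mv (S : St goodF4.C F G) (t y : G) (c μ : F) : Prop where
  cen : y ∈ C(S.U X1)
  c0 : c ≠ 0
  mv : y * t * y⁻¹ = t * S.x 44 c
  sh : ∀ r k, Sh r → lv r = 0 → Sm k 44 r → ∀ d, y * S.x r d * y⁻¹ = S.x r d * S.x k (μ * d)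

/-- the doubling of the short root groups -/
structure Full (S : St goodF4.C F G) (t : G) (θ : I → F → G) (l ρ : F) : Prop where
  add : ∀ s, Sh s → ∀ c d, θ s (c + d) = θ s c * θ s d
  tc : ∀ s, Sh s → ∀ c, t * θ s c * t⁻¹ = θ s c * S.x s c
  x0 : ∀ r s, Sh s → Lg r ∧ 0 ≤ pr r s ∨ 0 < pr r s → ∀ a c, S.x r a * θ s c = θ s c * S.x r a
  x1 : ∀ r s k, Sm k r s → Sh r → Sh s → Lg k → ∀ a c, S.x r a * θ s c * (S.x r a)⁻¹ = θ s c * S.x k (l * a * c)
  x2 : ∀ r s k, Sm k r s → Sh r → Sh s → Sh k → ∀ a c,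
    S.x r a * θ s c * (S.x r a)⁻¹ = θ s c * θ k (a * c) * S.x k (l * a * c)
  t0 : ∀ r s, Sh r → Sh s → 0 ≤ pr r s → ∀ c d, θ r c * θ s d = θ s d * θ r c
  t1 : ∀ r s k, Sm k r s → Sh r → Sh s → Sh k → ∀ c d,
    θ r c * θ s d = θ s d * θ r c * (θ k (c * d) * S.x k ((ρ + l) * c * d))
  l01 : l = 0 ∨ l = 1
  nw : ∀ r s, Sh s → ∀ c, S.n r 1 * θ s c * (S.n r 1)⁻¹ = θ (rf r s) c * S.x (rf r s) (if Sh r then l * c else 0)
  tor : ∀ r s, Sh s → ∀ m ≠ 0, ∀ c, S.h r m * θ s c * (S.h r m)⁻¹ = θ s (m ^ pr r s * c)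
  hk : ∀ k ∈ C(S.U Set.univ), k * t = t * k →
    (∀ s, Sh s → ∀ c, k * θ s c = θ s c * k) ∨ ∀ s, Sh s → ∀ c, t * k * θ s c = θ s c * (t * k)

/-- the defect of the action of a long root element on a double -/
noncomputable def Df (S : St goodF4.C F G) (θ : I → F → G) (r s k : I) (a c : F) : G :=
  (θ s c)⁻¹ * S.x r a * θ s c * (S.x r a)⁻¹ * (θ k (a * c))⁻¹

/-- the action of long root elements on the doubles for `l = 1` -/
def X3 (S : St goodF4.C F G) (θ : I → F → G) (ρ : F) : Prop := ∀ r s k m, Sm k r s → Lg r → Sh s → Sm m k s → ∀ a c,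
  S.x r a * θ s c * (S.x r a)⁻¹ = θ s c * θ k (a * c) * S.x m (ρ * a * c ^ 2)

/-- `u` centralizes a conjugate of `t` modulo `Z` -/
def DC (L Z : Subgroup G) (t u : G) : Prop := ∃ p ∈ L ⊓ N(Z), u * (p * t * p⁻¹) * u⁻¹ * (p * t * p⁻¹)⁻¹ ∈ Z
/-- the conjugates of `z` -/
def Cs (L : Subgroup G) (z y : G) : Prop := ∃ m ∈ L, m * z * m⁻¹ = y

/-- the local structure of `L⟨t⟩` at a long root group `Z` with `Q = O₂(N(Z))` -/
structure Loc (L U Z Q : Subgroup G) (t z : G) : Prop where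
  syl : Syl 2 U L
  QU : Q ≤ U
  ZQ : Z ≤ Q
  UZ : U ≤ C(Z)
  zZ : z ∈ Z
  z1 : z ≠ 1
  zz : z * z = 1
  tz : t * z = z * t
  tZ : t ∈ N(Z)
  tQ : t ∈ N(Q)
  NQ : L ⊓ N(Z) ≤ N(Q)
  inv : ∀ y ∈ U, y * y = 1 → ∃ m ∈ L, m * y * m⁻¹ ∈ C[t]
  nZ : ∀ g ∈ N(U), g * g ∈ N(Z)
  tr : ∀ a ∈ Z, a ≠ 1 → Cs L z a
  ti : ∀ g ∈ L, ∀ a ∈ Z, a ≠ 1 → g * a * g⁻¹ ∈ Z → g ∈ N(Z)
  PR : ∀ u ∈ U, Cs L z u → Cs L z (z * u) → u ∈ Z ∨ u ∈ Q ∧ ∃ g ∈ L ⊓ C[z], g * u * g⁻¹ ∈ C[t]
  wq : Q ≤ closure {y | y ∈ Q ∧ ∀ a ∈ Z, Cs L z (y * a)} ⊔ Z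
  q2 : ∀ x ∈ Q, x * x ∈ Z
  vsq : ∀ v ∈ Q ⊓ C(Q), v * v = 1
  se : ∀ x ∈ Q, x ∉ C(Q) → ∀ a ∈ Z, ∃ y ∈ Q, a = x * y * x⁻¹ * y⁻¹
  x4 : ∃ x ∈ Q, x * x ≠ 1
  b1 : ∃ m ∈ Q, t * m * t * m⁻¹ * (t * m * t * m⁻¹) = 1 ∧ t * m * t * m⁻¹ ∉ C(Q)
  max : ∀ B, Z ≤ B → B ≤ Q → (∀ p ∈ L ⊓ C(Z), p * t * p⁻¹ ∈ N(B)) → B ≤ C(Q) ∨ B = Q
  s2 : ∀ u ∈ U, u ∉ Q → u * u ∈ Z → DC L Z t u ∨ Q ⊓ C(Q) ≤ Z ∧ (∀ x ∈ Q, x * u * x⁻¹ * u⁻¹ * (x * u * x⁻¹ * u⁻¹) = 1) ∧
    ∀ x ∈ Q, x * u * x⁻¹ * u⁻¹ ∈ Z → x ∈ closure {y | y ∈ Q ∧ y * u * y⁻¹ * u⁻¹ ∈ Z ∧ ((∀ a ∈ Z, Cs L z (y * a)) ∨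
      y * y = 1 ∧ ∀ v ∈ U, v ∉ Q → v * v = 1 → DC L Z t v)} ⊔ Z
  gen : ∀ K : Subgroup G, (∀ m ∈ L, m * z * m⁻¹ ∈ Q → cj m Q ≤ K) → L ≤ K
  nU : ¬ L ≤ N(U)
  big : #L ≤ #Z(L) * #U ^ 3 ∧ 2 ^ 30 ≤ #U
end

/-- the toolkit -/
def TKs : Prop := ∀ (F : Type) (G : Type u) [Field F] [Finite F] [CharP F 2] [Group G] [Finite G] (S : St goodF4.C F G),
  S.Sep → TK S
/-- the common quantifiers -/
def All (P : ∀ {F : Type} {G : Type u} [Field F] [Finite F] [CharP F 2] [Group G] [Finite G], St goodF4.C F G → G → Prop) : Prop :=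
  ∀ {F : Type} {G : Type u} [Field F] [Finite F] [CharP F 2] [Group G] [Finite G] (S : St goodF4.C F G) (t : G), Hyp S t → P S t

/-- `t` is conjugate to its product with a root element -/
def C1 : Prop := All.{u} fun S t => ∀ g, g * t * g⁻¹ ≠ t → g * t * g⁻¹ * t = t * (g * t * g⁻¹) →
  ∃ k, k * t * k⁻¹ = t * S.x 47 1 ∨ k * t * k⁻¹ = t * S.x 44 1
/-- the conjugating element acts trivially on the Levi factor -/
def CA : Prop := All.{u} fun S t => ∀ g, g * t * g⁻¹ = t * S.x 44 1 →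
  ∃ y c, c ≠ 0 ∧ (∀ l ∈ S.U Xb, y * l * y⁻¹ * l⁻¹ ∈ S.U Q1) ∧ y * t * y⁻¹ = t * S.x 44 c
/-- normal form of the conjugating element -/
def CB : Prop := All.{u} fun S t => ∀ y c, c ≠ 0 → (∀ l ∈ S.U Xb, y * l * y⁻¹ * l⁻¹ ∈ S.U Q1) → y * t * y⁻¹ = t * S.x 44 c →
  ∃ y c μ, Mv S t y c μ
/-- the doubling exists -/
def DF : Prop := All.{u} fun S t => ∀ y c μ, Mv S t y c μ → ∃ θ l ρ, Full S t θ l ρ
/-- the defect centralizes the centralizer of a long root group -/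
def ZD : Prop := All.{u} fun S t => ∀ θ l ρ, Full S t θ l ρ → ∀ r s k m, Sm k r s → Lg r → Sh s → Sm m k s → ∀ a c,
  Df S θ r s k a c ∈ C(S.U {β | 0 ≤ pr m β}) ∧ t * Df S θ r s k a c * t⁻¹ = Df S θ r s k a c * S.x m ((1 + l) * a * c ^ 2) ∧
    ∀ β, Sh β → 0 ≤ pr m β → ∀ d, Df S θ r s k a c * θ β d = θ β d * Df S θ r s k a c
/-- the defect for `l = 1` -/
def R8 : Prop := All.{u} fun S t => ∀ θ ρ, Full S t θ 1 ρ → X3 S θ ρ
/-- for `l = 1` the long root groups are not doubled -/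
def NT : Prop := All.{u} fun S t => ∀ S' θ ρ Θ l' ρ', Dual S S' → Full S t θ 1 ρ → Full S' t Θ l' ρ' → False
/-- the centralizer of `t` normalizes the new group -/
def NOR : Prop := All.{u} fun S t => ∀ θ l ρ, Full S t θ l ρ → (l = 0 ∨ ∀ g, g * t * g⁻¹ ≠ t * S.x 47 1) →
  C[t] ≤ N(G0 S θ) ∧ PiG {2}ᶜ C(G0 S θ)
/-- the split construction for `l = 0` -/
def SC : Prop := All.{u} fun {F G} _ _ _ _ _ S t => ∀ θ r, Full S t θ 0 (r ^ 2 + r) →
  ∃ S₁ : St goodF4.C F G, S₁.Sep ∧ S₁.U Set.univ ≤ C(cj t (S₁.U Set.univ)) ∧ S₁.U Set.univ ⊔ cj t (S₁.U Set.univ) = G0 S θ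
/-- the field construction for `l = 0` -/
def FC : Prop := All.{u} fun {F G} _ _ _ _ _ S t => ∀ θ ρ, Full S t θ 0 ρ → (∀ r, r ^ 2 + r ≠ ρ) →
  ∃ (K : Type) (_ : Field K) (_ : Finite K) (_ : CharP K 2) (S₁ : St goodF4.C K G) (σ : K ≃+* K), Nat.card K = Nat.card F ^ 2 ∧
    S₁.Sep ∧ σ ≠ 1 ∧ (∀ r a, t * S₁.x r a * t⁻¹ = S₁.x r (σ a)) ∧ S₁.U Set.univ = G0 S θ
/-- the construction of `E₆` -/
def RE : Prop := All.{u} fun {F G} _ _ _ _ _ S t => ∀ θ r, Full S t θ 1 (r ^ 2 + r) → X3 S θ (r ^ 2 + r) →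
  ∃ S₁ : St goodE6.C F G, S₁.Sep ∧ (∀ a c, t * S₁.x a c * t⁻¹ = S₁.x (okgrE6.rho a) c) ∧ S₁.U Set.univ = G0 S θ ∧
    S₁.x 71 1 = S.x 47 1

open H12.TE in
/-- `L` is a perfect central extension of `²E₆(q)` on which `t` acts as a graph automorphism -/
structure Tw {G : Type u} [Group G] (K : Type) [Field K] [Qd K] (L : Subgroup G) (p : G → Λ K) (t z : G) : Prop where
  hm : H28.SF.Hm p L
  sur : ∀ y, ∃ x ∈ L, p x = y
  ker : ∀ x ∈ L, p x = 1 ↔ x ∈ C(L)
  perf : L ≤ ⁅L, L⁆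
  tN : t ∈ N(L)
  act : ∀ x ∈ L, e (p (t * x * t⁻¹)) = H15.TE.γ K (H15.TE.fa K) (e (p x))
  zL : z ∈ L
  zz : z * z = 1
  pz : e (p z) = (H12.TE.S K).x 71 1

/-- the construction of `²E₆` -/
def RT : Prop := All.{u} fun {F G} _ _ _ _ _ S t => ∀ θ ρ, Full S t θ 1 ρ → X3 S θ ρ → (∀ r, r ^ 2 + r ≠ ρ) →
  ∃ (K : Type) (_ : Field K) (_ : H12.TE.Qd K) (p : G → H12.TE.Λ K), H12.TE.Qd.q K = Nat.card F ∧ Tw K (G0 S θ) p t (S.x 47 1)

/-- the common hypotheses of the endgames -/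
structure End {G : Type u} [Group G] (L X : Subgroup G) (t : G) : Prop where
  tt : t * t = 1
  ct : C[t] ≤ N(L)
  odd : PiG {2}ᶜ C(L)
  nX : X.Normal
  sim : H17.GS.Sim X
  le : L ≤ X
/-- uniqueness and Sylow subgroups -/
def Fin2 {G : Type u} [Group G] (L X : Subgroup G) (t : G) : Prop := H28.SF.Uq t N(L) ∧ ∀ U, Syl 2 U L → Syl 2 U X

/-- the split endgame -/
def ES4 : Prop := H20.EN.ES.{u} goodF4
/-- field automorphism of `F₄` -/
def UQ4 : Prop := ∀ (G : Type u) [Group G] [Finite G] (K : Type) [Field K] [Finite K] [CharP K 2] (S : St goodF4.C K G) (t : G)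
  (σ : K ≃+* K) (X : Subgroup G), S.Sep → σ ≠ 1 → (∀ r a, t * S.x r a * t⁻¹ = S.x r (σ a)) → End (S.U Set.univ) X t →
    Fin2 (S.U Set.univ) X t
/-- graph automorphism of `E₆` -/
def UQ6 : Prop := ∀ (G : Type u) [Group G] [Finite G] (F : Type) [Field F] [Finite F] [CharP F 2] (S : St goodE6.C F G) (t : G)
  (X : Subgroup G), S.Sep → (∀ r a, t * S.x r a * t⁻¹ = S.x (okgrE6.rho r) a) → (∀ g, g * t * g⁻¹ ≠ t * S.x 71 1) →
    End (S.U Set.univ) X t → Fin2 (S.U Set.univ) X t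
/-- graph automorphism of `²E₆` -/
def UQ2 : Prop := ∀ (G : Type u) [Group G] [Finite G] (K : Type) [Field K] [H12.TE.Qd K] (L X : Subgroup G) (p : G → H12.TE.Λ K)
  (t z : G), Tw K L p t z → (∀ g, g * t * g⁻¹ ≠ t * z) → End L X t → Fin2 L X t
/-- local structure for `F₄` -/
def LC4 : Prop := ∀ (G : Type u) [Group G] [Finite G] (K : Type) [Field K] [Finite K] [CharP K 2] (S : St goodF4.C K G) (t : G)
  (σ : K ≃+* K), S.Sep → σ ≠ 1 → (∀ r a, t * S.x r a * t⁻¹ = S.x r (σ a)) → t * t = 1 →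
    ∃ U Z Q z, Loc (S.U Set.univ) U Z Q t z
/-- local structure for `E₆` -/
def LC6 : Prop := ∀ (G : Type u) [Group G] [Finite G] (F : Type) [Field F] [Finite F] [CharP F 2] (S : St goodE6.C F G) (t : G),
  S.Sep → (∀ r a, t * S.x r a * t⁻¹ = S.x (okgrE6.rho r) a) → t * t = 1 → ∃ U Z Q z, Loc (S.U Set.univ) U Z Q t z
/-- local structure for `²E₆` -/
def LC2 : Prop := ∀ (G : Type u) [Group G] [Finite G] (K : Type) [Field K] [H12.TE.Qd K] (L : Subgroup G) (p : G → H12.TE.Λ K)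
  (t z : G), Tw K L p t z → t * t = 1 → PiG {2}ᶜ C(L) → ∃ U Z Q z, Loc L U Z Q t z
/-- the type-free endgame -/
def GE : Prop := ∀ (G : Type u) [Group G] [Finite G] (L X U Z Q : Subgroup G) (t z : G), Loc L U Z Q t z → t * t = 1 → t ∈ N(L) →
  H28.SF.Uq t N(L) → Syl 2 U X → X.Normal → H17.GS.Sim X → L ≤ X → X = L

end H14.F4S
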