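import Cfsg.Agent.H14.Inv4
import Cfsg.Agent.H14.GoodE7

/-!
Involutions of E₇(q), q even.
-/

namespace H14

open Matrix RootSys Cfsg.Lie PreSt St Good

set_option maxRecDepth 100000

namespace E7

/-- the collection process -/
noncomputable def col : Col := ⟨Nat.blt, tabE7.ct2 chevE7, 2⟩

/-- representatives -/
def invReps : List (List ℕ) := [[125], [118, 121], [92, 107, 111], [114, 116, 119], [92, 107, 111, 119]]

/-- certificates -/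
def tbl : List (List Let × List (List ℕ ⊕ List Let)) :=
  List.map (fun a : List ℕ × List ℕ × ℕ => (Col.one a.1, .inl a.2.1 :: List.getD [
    [],
    [.inr (Col.one [73, 87, 92, 123]), .inl [2, 3, 4, 5, 6, 5, 4, 3, 2, 1, 3, 4, 5, 2, 3, 4, 3, 2, 1, 3, 2]],
    [.inr (Col.one [63, 78, 87, 119]), .inl [6, 1, 3, 4, 3, 2, 1, 3, 1]],
    [.inr (Col.one [83, 90, 77, 118]), .inl [6, 1, 3, 4, 5, 3, 2, 1, 3, 4, 1, 3, 2]],
    [.inr (Col.one [77, 83, 90, 119]), .inl [6, 1, 3, 4, 5, 3, 2, 1, 3, 4, 1, 3, 2]],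
    [.inr (Col.one [83, 77, 90, 118]), .inl [6, 1, 3, 4, 5, 3, 2, 1, 3, 4, 1, 3, 2]],
    [.inr (Col.one [72, 81, 103, 119]), .inl [6, 1, 3, 4, 5, 0, 2, 3, 4, 1, 3], .inr (Col.one [81, 65, 83, 111]), .inl [6, 2, 1, 3, 4, 5, 2, 3, 2, 1]],
    [.inr (Col.one [65, 99, 81, 119]), .inl [6, 1, 3, 4, 5, 0, 2, 3, 1], .inr (Col.one [81, 65, 83, 111]), .inl [6, 2, 1, 3, 4, 5, 2, 3, 2, 1]],
    [.inr (Col.one [65, 94, 67, 112]), .inl [6, 1, 3, 4, 5, 0, 2], .inr (Col.one [81, 65, 83, 111]), .inl [6, 2, 1, 3, 4, 5, 2, 3, 2, 1]],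
    [.inr (Col.one [72, 76, 96, 112]), .inl [5, 6, 2, 3, 4, 5, 0, 2, 3, 4], .inr (Col.one [75, 67, 72, 108]), .inl [6, 1, 3, 4, 5, 0, 2, 3, 4], .inr (Col.one [81, 65, 83, 111]), .inl [6, 2, 1, 3, 4, 5, 2, 3, 2, 1]]] a.2.2 [])) [
    ([125], [], 0), ([92, 125], [4, 3, 2, 0], 0), ([63, 92, 125], [5, 4, 3, 2, 1, 3, 4, 5, 4, 3, 2, 0], 0),
    ([87, 92, 125], [5, 6, 4, 5, 4, 3, 2, 0], 0), ([63, 87, 92, 125], [5, 4, 3, 2, 1, 3, 4, 5, 4, 3, 2, 0], 0),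
    ([66, 87, 92, 125], [4, 5, 6, 3, 4, 5, 3, 2, 1, 3, 2, 0], 0), ([73, 87, 92, 125], [0], 1),
    ([78, 87, 92, 125], [4, 5, 6, 3, 4, 5, 3, 4, 2, 3, 2, 0], 0),
    ([63, 66, 87, 92, 125], [0, 2, 3, 4, 5, 1, 3, 2, 0], 2), ([63, 73, 87, 92, 125], [1, 3, 4, 5, 0], 3),
    ([63, 78, 87, 92, 125], [0, 2, 3, 4, 5], 4), ([66, 73, 87, 92, 125], [6, 5, 1, 3, 0], 5),
    ([66, 78, 87, 92, 125], [6, 5, 0, 2, 3], 4), ([73, 78, 87, 92, 125], [6, 5, 4, 3, 0], 4),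
    ([63, 66, 73, 87, 92, 125], [2, 3, 4, 5, 1, 3, 0], 6),
    ([63, 66, 78, 87, 92, 125], [2, 3, 4, 5, 4, 0, 2, 1, 3, 2, 0], 7),
    ([63, 73, 78, 87, 92, 125], [2, 3, 4, 5, 1, 3, 4, 2, 3, 2, 0], 7),
    ([66, 73, 78, 87, 92, 125], [2, 3, 4, 5, 6, 1, 3, 4, 5, 2, 3, 2, 0], 8),
    ([63, 66, 73, 78, 87, 92, 125], [1, 3, 4, 5, 2, 3, 0], 9)]

theorem hd (r : Fin chevE7.nroots) : goodE7.R.d r = 1 := (goodE7.hd r).elim id id

variable {K : Type*} [Field K] [CharP K 2]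

theorem colOk : col.Ok (goodE7.xn (goodE7.SG K).toPreSt) := goodE7.colOk2 okE7 rfl hd _

theorem oc : (goodE7.SG K).OC := oc_of_d hd

theorem inv_order : ∀ L ∈ invReps, orderOf (goodE7.pw K L) = 2 := fun L hL =>
  goodE7.invol okE7 rfl colOk ((by decide +kernel : ∀ L ∈ invReps, col.invol tabE7 chevE7 L = true) L hL)

theorem inv_conj [Finite K] : ∀ g, orderOf g = 2 → ∃ L ∈ invReps, ∃ k, k * g * k⁻¹ = goodE7.pw K L :=
  goodE7.of_chk okE7 rfl colOk (tbl := tbl) (n := 8) (by decide +kernel) oc (by decide)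

theorem inv_sep : invReps.Pairwise fun L L' => ∀ k, k * goodE7.pw K L * k⁻¹ ≠ goodE7.pw K L' :=
  goodE7.pairwise_up okE7 rfl (by decide +kernel)

end E7
end H14
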