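import Cfsg.Agent.H14.Inv4
import Cfsg.Agent.H14.GoodE8

/-!
Involutions of E₈(q), q even.
-/

namespace H14

open Matrix RootSys Cfsg.Lie PreSt St Good

set_option maxRecDepth 100000

namespace E8

/-- the collection process -/
noncomputable def col : Col := ⟨Nat.blt, tabE8.ct2 chevE8, 2⟩

/-- representatives -/
def invReps : List (List ℕ) := [[239], [232, 233], [228, 222, 218], [226, 220, 213, 216]]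

/-- certificates -/
def tbl : List (List Let × List (List ℕ ⊕ List Let)) :=
  List.map (fun a : List ℕ × List ℕ × ℕ => (Col.one a.1, .inl a.2.1 :: List.getD [
    [],
    [.inr (Col.one [121, 159, 226, 237]), .inl [6, 5, 4, 3, 2, 1, 3, 4, 5, 6, 0, 2, 3, 4, 5, 1, 3, 4, 2, 3, 0, 2, 1, 3, 4, 5, 6, 5, 4, 3, 2, 1, 3, 4, 5, 4, 3, 2, 0]],
    [.inr (Col.one [145, 186, 200, 232]), .inl [6, 7, 2, 1, 3, 4, 5, 6, 0, 2, 3, 4, 5, 1, 3, 4, 2, 3, 0, 2, 1, 3, 4, 5, 6, 4, 5, 3, 4, 3, 2]],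
    [.inr (Col.one [141, 152, 159, 224]), .inl [6, 7, 2, 3, 0, 2, 1, 3, 4, 5, 6, 3, 2, 1, 3, 4, 5, 2, 1, 3, 4, 2, 1, 3, 1]],
    [.inr (Col.one [122, 163, 174, 226]), .inl [7, 1, 3, 4, 5, 6, 2, 3, 4, 1, 3, 2, 0], .inr (Col.one [145, 169, 178, 227]), .inl [6, 7, 2, 1, 3, 4, 5, 6, 0, 2, 1, 3, 4, 5, 2, 1, 3, 4, 2, 3, 1, 0]],
    [.inr (Col.one [160, 171, 194, 226]), .inl [7, 1, 3, 4, 5, 6, 2, 3, 4, 5, 1, 3, 4, 2, 3, 0, 2, 1, 3, 4, 5], .inr (Col.one [145, 169, 178, 227]), .inl [6, 7, 2, 1, 3, 4, 5, 6, 0, 2, 1, 3, 4, 5, 2, 1, 3, 4, 2, 3, 1, 0]],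
    [.inr (Col.one [146, 169, 178, 226]), .inl [7, 1, 3, 4, 5, 6, 2, 3, 4, 5, 1, 3, 4, 2, 3, 1, 0], .inr (Col.one [145, 169, 178, 227]), .inl [6, 7, 2, 1, 3, 4, 5, 6, 0, 2, 1, 3, 4, 5, 2, 1, 3, 4, 2, 3, 1, 0]],
    [.inr (Col.one [166, 159, 204, 225]), .inl [7, 1, 3, 4, 5, 6, 2, 3, 4, 5, 1, 3, 4, 2, 3, 0, 2, 1, 3, 4, 5], .inr (Col.one [145, 169, 178, 227]), .inl [6, 7, 2, 1, 3, 4, 5, 6, 0, 2, 1, 3, 4, 5, 2, 1, 3, 4, 2, 3, 1, 0]],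
    [.inr (Col.one [140, 167, 185, 226]), .inl [6, 7, 0, 2, 3, 4, 5, 6, 4, 5, 1, 3, 4, 2, 1, 3, 0, 2], .inr (Col.one [166, 170, 129, 212]), .inl [7, 1, 3, 4, 5, 6, 2, 3, 4, 5, 0, 2, 1, 3, 4, 2, 0], .inr (Col.one [145, 174, 171, 227]), .inl [6, 7, 2, 1, 3, 4, 5, 6, 0, 2, 3, 4, 5, 1, 3, 4, 2, 3, 1, 0]],
    [.inr (Col.one [155, 176, 185, 226]), .inl [6, 7, 0, 2, 3, 4, 5, 6, 4, 5, 1, 3, 4, 2, 3, 0, 2, 1, 3, 2], .inr (Col.one [166, 170, 129, 212]), .inl [7, 1, 3, 4, 5, 6, 2, 3, 4, 5, 0, 2, 1, 3, 4, 2, 0], .inr (Col.one [145, 174, 171, 227]), .inl [6, 7, 2, 1, 3, 4, 5, 6, 0, 2, 3, 4, 5, 1, 3, 4, 2, 3, 1, 0]],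
    [.inr (Col.one [129, 171, 167, 226]), .inl [6, 7, 0, 2, 3, 4, 5, 6, 4, 5, 1, 3, 4, 2, 1, 0], .inr (Col.one [166, 170, 129, 212]), .inl [7, 1, 3, 4, 5, 6, 2, 3, 4, 5, 0, 2, 1, 3, 4, 2, 0], .inr (Col.one [145, 174, 171, 227]), .inl [6, 7, 2, 1, 3, 4, 5, 6, 0, 2, 3, 4, 5, 1, 3, 4, 2, 3, 1, 0]],
    [.inr (Col.one [129, 144, 133, 214]), .inl [6, 7, 0, 2, 3, 4, 5, 6, 4, 5, 1, 3, 4, 1], .inr (Col.one [166, 170, 129, 212]), .inl [7, 1, 3, 4, 5, 6, 2, 3, 4, 5, 0, 2, 1, 3, 4, 2, 0], .inr (Col.one [145, 174, 171, 227]), .inl [6, 7, 2, 1, 3, 4, 5, 6, 0, 2, 3, 4, 5, 1, 3, 4, 2, 3, 1, 0]],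
    [.inr (Col.one [151, 154, 156, 214]), .inl [4, 5, 6, 7, 3, 4, 5, 6, 2, 3, 4, 5, 1, 3, 4, 2, 3, 1], .inr (Col.one [153, 150, 146, 212]), .inl [6, 7, 0, 2, 3, 4, 5, 6, 4, 5, 1, 3, 4, 2, 1, 3, 1], .inr (Col.one [166, 170, 129, 212]), .inl [7, 1, 3, 4, 5, 6, 2, 3, 4, 5, 0, 2, 1, 3, 4, 2, 0], .inr (Col.one [145, 174, 171, 227]), .inl [6, 7, 2, 1, 3, 4, 5, 6, 0, 2, 3, 4, 5, 1, 3, 4, 2, 3, 1, 0]]] a.2.2 [])) [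
    ([239], [], 0), ([226, 239], [2, 3, 4, 5, 6, 7], 0),
    ([159, 226, 239], [2, 3, 0, 2, 1, 3, 4, 5, 6, 7, 1, 3, 2, 0], 0), ([121, 159, 226, 239], [7], 1),
    ([152, 159, 226, 239], [5, 4, 2, 3, 0, 2, 1, 3, 4, 5, 6, 7, 1, 3, 4, 5, 1, 3, 2, 0], 0),
    ([121, 152, 159, 226, 239], [7, 1, 3, 4, 5, 2, 0], 2), ([126, 152, 159, 226, 239], [7, 6, 5, 1, 3, 2, 0], 2),
    ([135, 152, 159, 226, 239], [7, 6, 5, 4, 3, 2, 1, 3, 4, 5, 6, 7, 0], 3),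
    ([141, 152, 159, 226, 239], [7, 6, 5, 4, 3, 2, 0], 2),
    ([121, 126, 152, 159, 226, 239], [6, 5, 4, 3, 0, 2, 1, 3, 4, 5, 6, 7, 0, 2, 3, 4, 5, 1, 3, 2, 0], 4),
    ([121, 135, 152, 159, 226, 239], [6, 7, 5, 4, 3, 2, 1, 3, 4, 5, 0], 5),
    ([121, 141, 152, 159, 226, 239], [6, 5, 4, 3, 0, 2, 1, 3, 4, 5, 6, 7, 0, 2, 3, 4, 5], 6),
    ([126, 135, 152, 159, 226, 239], [6, 7, 5, 6, 4, 5, 3, 2, 1, 3, 0], 5),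
    ([126, 141, 152, 159, 226, 239], [6, 5, 4, 3, 0, 2, 1, 3, 4, 5, 6, 7, 6, 5, 0, 2, 3], 6),
    ([135, 141, 152, 159, 226, 239], [6, 7, 5, 6, 4, 5, 3, 4, 2, 3, 0], 7),
    ([121, 126, 135, 152, 159, 226, 239], [4, 5, 3, 4, 2, 3, 0, 2, 1, 3, 4, 5, 6, 7, 2, 3, 4, 5, 1, 3, 0], 8),
    ([121, 126, 141, 152, 159, 226, 239], [4, 5, 6, 7, 3, 2, 1, 3, 4, 5, 0, 2, 3, 2, 0], 9),
    ([121, 135, 141, 152, 159, 226, 239], [4, 5, 3, 4, 2, 3, 0, 2, 1, 3, 4, 5, 6, 7, 2, 3, 4, 5, 1, 3, 4, 2, 3, 2, 0], 10),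
    ([126, 135, 141, 152, 159, 226, 239], [4, 5, 3, 4, 2, 3, 0, 2, 1, 3, 4, 5, 6, 7, 2, 3, 4, 5, 6, 1, 3, 4, 5, 2, 3, 2, 0], 11),
    ([121, 126, 135, 141, 152, 159, 226, 239], [1, 3, 4, 2, 3, 0, 2, 1, 3, 4, 5, 6, 7, 1, 3, 4, 5, 2, 3, 0], 12)]

theorem hd (r : Fin chevE8.nroots) : goodE8.R.d r = 1 := (goodE8.hd r).elim id id

variable {K : Type*} [Field K] [CharP K 2]

theorem colOk : col.Ok (goodE8.xn (goodE8.SG K).toPreSt) := goodE8.colOk2 okE8 rfl hd _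

theorem oc : (goodE8.SG K).OC := oc_of_d hd

theorem inv_order : ∀ L ∈ invReps, orderOf (goodE8.pw K L) = 2 := fun L hL =>
  goodE8.invol okE8 rfl colOk ((by decide +kernel : ∀ L ∈ invReps, col.invol tabE8 chevE8 L = true) L hL)

theorem inv_conj [Finite K] : ∀ g, orderOf g = 2 → ∃ L ∈ invReps, ∃ k, k * g * k⁻¹ = goodE8.pw K L :=
  goodE8.of_chk okE8 rfl colOk (tbl := tbl) (n := 9) (by decide +kernel) oc (by decide)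

theorem inv_sep : invReps.Pairwise fun L L' => ∀ k, k * goodE8.pw K L * k⁻¹ ≠ goodE8.pw K L' :=
  goodE8.pairwise_up okE8 rfl (by decide +kernel)

end E8
end H14
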