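import Cfsg.Agent.H14.P89
import Cfsg.Agent.H10.O.E

/-! The model and the main theorem. -/

set_option autoImplicit false
set_option linter.unusedSectionVars false
set_option synthInstance.maxSize 4000

open Subgroup
namespace H14.P8
open H10.Y (F4 w bar tr M NW Et cy cube barbar f4 U)
open Equiv (Perm swap)
open H19 hiding eq_bot_mono
open H17.GS (OG O_og og_iff Sim)
open scoped H17.GS commutatorElement

section
variable {A G : Type*} [Group A] [Finite A] [Group G] [Finite G] {Q D : Subgroup A} {z g0 x' : A} {π : A → V}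
  {ρ : A → V →+ V} {ι : A →* G}

theorem cjm (ι : A →* G) (g : A) (Q : Subgroup A) : cj (ι g) (Q.map ι) = (cj g Q).map ι := by
  simp only [cj, map_map]; congr 1; ext; simp
theorem cji (ι : A →* G) (g z : A) : ι g * ι z * (ι g)⁻¹ = ι (g * z * g⁻¹) := by simp
theorem cmi (hi : Function.Injective ι) {a b : A} : Commute (ι a) (ι b) ↔ Commute a b :=
  ⟨fun c => hi (by simpa using c.eq), fun c => c.map ι⟩

namespace Rp
variable (h : Rp ⊤ Q z π ρ g0 D x') (hi : Function.Injective ι)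
include h hi

theorem map (le : H0.LE (Q.map ι) (ι z)) : ∃ π' ρ', Rp ι.range (Q.map ι) (ι z) π' ρ' (ι g0) (D.map ι) (ι x') := by
  classical
  let π' := fun x => π (Function.invFun ι x)
  have e : ∀ a, π' (ι a) = π a := fun a => congrArg π (Function.leftInverse_invFun hi a)
  have mm : ∀ {a : A} {B : Subgroup A}, ι a ∈ B.map ι ↔ a ∈ B := mem_map_iff_mem hi
  have add : ∀ x ∈ Q.map ι, ∀ y ∈ Q.map ι, π' (x * y) = π' x + π' y := by
    rintro _ ⟨x, hx, rfl⟩ _ ⟨y, hy, rfl⟩; rw [← map_mul, e, e, e, h.add x hx y hy]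
  have ker : ∀ x ∈ Q.map ι, π' x = 0 ↔ x = 1 ∨ x = ι z := by
    rintro _ ⟨x, hx, rfl⟩; rw [e, h.ker x hx, ← map_one ι, hi.eq_iff, hi.eq_iff]
  have surj : ∀ v, ∃ x ∈ Q.map ι, π' x = v := fun v => let ⟨x, m, k⟩ := h.surj v; ⟨_, mm.2 m, (e x).trans k⟩
  choose f hf using fun (g : G) (c : Commute (ι z) g) => exr add ker surj
    (fun x hx => conj_mem_of_norm (le.norm (mem_cent1.2 c.symm)) hx) c
  let ρ' := fun g => if c : Commute (ι z) g then f g c else 0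
  have m : M (Q.map ι) (ι z) π' ρ' qv bv := ⟨le, qsV, (card_map_of_injective hi).trans h.card, add, ker, surj, by
    rintro _ ⟨x, hx, rfl⟩; rw [e, ← h.sq x hx, ← map_mul, ← map_one ι, hi.eq_iff], by
    rintro _ ⟨x, hx, rfl⟩ _ ⟨y, hy, rfl⟩; rw [e, e, ← h.cm x hx y hy, cmi hi], fun g c x hx => by
    simp only [ρ', dif_pos c]; exact hf g c x hx⟩
  have r : ∀ a, Commute z a → ∀ v, ρ' (ι a) v = ρ a v := fun a c v => by
    obtain ⟨x, hx, rfl⟩ := h.surj v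
    rw [← h.conj a c x hx, ← e x, ← m.conj _ (c.map ι) _ (mm.2 hx), cji, e]
  refine ⟨π', ρ', m, ⟨cji ι g0 z ▸ mm.2 h.tt.mem, by rw [cji, e, h.tt.pt], fun γ k => ?_, ?_, fun v => ?_⟩,
    ⟨?_, h.td.pg.dvd (card_map_dvd _ _), ?_, fun d hd => ?_, ?_, by rw [← map_mul, ← map_mul, h.td.x3, map_one],
      fun k => h.td.x1 (hi (k.trans ι.map_one.symm)), by rw [cji, h.td.zx, map_inv]⟩, ?_, ⟨_, rfl⟩,
    by rw [← map_mul, h.g2, map_one], by rw [cjm, ← Subgroup.map_sup, ← Subgroup.map_sup, ← h.gen, MonoidHom.range_eq_map]⟩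
  · obtain ⟨y, hy, k⟩ := h.tt.ex γ k
    exact ⟨ι y, ⟨cjm ι g0 Q ▸ mm.2 hy.1, mem_cent1.2 ((cy hy).map ι).symm⟩, fun v => by rw [r y (cy hy), k]⟩
  · rw [cjm]
    rintro _ ⟨⟨y, hy, rfl⟩, c⟩
    replace c := (cmi hi).1 (mem_cent1.1 c)
    obtain ⟨γ, k, l⟩ := h.tt.all y ⟨hy, mem_cent1.2 c⟩
    exact ⟨γ, k, fun v => by rw [r y c.symm, l]⟩
  · rw [← h.tt.et, cjm, Et, Et, ← map_inf _ _ _ hi]
    exact ⟨by rintro ⟨_, ⟨x, hx, rfl⟩, k⟩; exact ⟨x, hx, (e x).symm.trans k⟩, fun ⟨x, hx, k⟩ => ⟨_, mm.2 hx, (e x).trans k⟩⟩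
  · rintro _ ⟨x, hx, rfl⟩; exact mem_cent1.2 ((h.cd hx).map ι).symm
  · rintro _ ⟨x, hx, rfl⟩ _ ⟨y, hy, rfl⟩; rw [← map_mul, h.td.ab hx y hy, map_mul]
  · obtain ⟨g, m, k⟩ := h.td.ex d hd
    exact ⟨_, mm.2 m, fun v => by rw [r g (h.cd m), k]⟩
  · rintro _ ⟨y, hy, rfl⟩; rw [← map_mul, h.td.xc y hy, map_mul]
  · rintro _ ⟨b, rfl⟩
    rw [cji, mm, e, hi.ne_iff]
    exact h.zs b trivial

omit h hi in
theorem lc' {L : Subgroup A} (h : Rp L Q z π ρ g0 D x') [L.Normal] : ∃ S, Syl 2 S ⊤ ∧ S ≤ C[z] ∧ cj g0 Q ⊓ C[z] ≤ S ∧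
    Lc Q z π ρ := by
  obtain ⟨S, hS, l⟩ := (h.nw.lp.r.es.pg.infl C[z]).exists_syl inf_le_right
  exact ⟨S, h.le.syl_top hS, hS.le, l, h.lc hS (by rw [normalizer_eq_top]; exact le_top) l⟩

theorem leN [n : ι.range.Normal] (hc : C(ι.range) = ⊥) : H0.LE (Q.map ι) (ι z) := by
  obtain ⟨-, -, -, -, lc⟩ := h.lc'
  have ex : ∀ y : G, ∃ α : A ≃* A, ∀ a, ι (α a) = y * ι a * y⁻¹ := fun y =>
    ⟨(MonoidHom.ofInjective hi).trans ((MulAut.conjNormal y).trans (MonoidHom.ofInjective hi).symm), fun a =>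
      MonoidHom.apply_ofInjective_symm hi _⟩
  refine ⟨h.le.es.map ι fun x _ e => hi (e.trans ι.map_one.symm), fun y hy => ?_, fun y hy => ?_⟩ <;>
    obtain ⟨α, e⟩ := ex y
  · have fx : ∀ x ∈ Q, α x = x := fun x hx => hi (by rw [e, ← hy _ ⟨x, hx, rfl⟩, mul_inv_cancel_right])
    obtain ⟨u, hu, k⟩ := h.a2 α fx fun x => (lc.J g0).a1 α (fx _ h.tt.mem)
    have : (ι u)⁻¹ * y ∈ C(ι.range) := by
      rintro _ ⟨a, rfl⟩
      rw [mul_assoc, mul_inv_eq_iff_eq_mul.1 (e a).symm, show α a = _ from k a trivial, ← cji]; group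
    rw [hc, mem_bot, inv_mul_eq_one] at this
    exact ⟨u, hu, this⟩
  · refine mem_norm_of_cj_le ?_
    rintro _ ⟨_, ⟨x, hx, rfl⟩, rfl⟩
    exact ⟨_, lc.a1 α (hi (by rw [e, cjx (mem_cent1.1 hy)])) hx, e x⟩

end Rp

theorem main [IsSimpleGroup A] (h : Rp ⊤ Q z π ρ g0 D x') (hc : Nat.card A = 174182400)
    (hG : Cfsg.IsOfParabolicCharacteristic 2 G) {H : Subgroup G} (hx : ¬ 2 ∣ H.index)
    (e : A ≃* Cfsg.generalizedFittingSubgroup H) : Nonempty (A ≃* Cfsg.generalizedFittingSubgroup G) ∨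
      Nonempty (Cfsg.generalizedFittingSubgroup G ≃* Cfsg.POmega (ZMod 3) (Cfsg.quadFormPlus 4 (ZMod 3))) := by
  let κ : A →* H := (Cfsg.generalizedFittingSubgroup H).subtype.comp e.toMonoidHom
  have ki : Function.Injective κ := Subtype.val_injective.comp e.injective
  have kr : κ.range = Cfsg.generalizedFittingSubgroup H := by
    rw [MonoidHom.range_comp, MonoidHom.range_eq_top.2 e.surjective, ← MonoidHom.range_eq_map, range_subtype]
  have kn : κ.range.Normal := kr ▸ inferInstance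
  have sA : Sim (⊤ : Subgroup A) := ⟨topEquiv.isSimpleGroup, fun k => h.tt.ne h.toM
    (cjx (comm_iff_le_cent.1 k (mem_top z) g0 trivial))⟩
  have sm : ∀ {X : Type _} [Group X] [Finite X] (f : A →* X), Function.Injective f → Sim f.range := fun f i =>
    ⟨(MonoidHom.ofInjective i).symm.isSimpleGroup, fun k => h.tt.ne h.toM
      (cjx ((cmi i).1 (comm_iff_le_cent.1 k ⟨z, rfl⟩ _ ⟨g0, rfl⟩)))⟩
  obtain ⟨_, _, hH⟩ := h.map ki (h.leN ki (le_bot_iff.1 ((sm κ ki).center ▸ le_inf (kr ▸ H1.centralizer_gf_le) le_rfl)))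
  obtain ⟨S, s1, s2, s3, lH⟩ := hH.lc'
  obtain ⟨-, -, -, -, lA⟩ := h.lc'
  let ι : A →* G := H.subtype.comp κ
  have hi : Function.Injective ι := Subtype.val_injective.comp ki
  have nH : H ≤ N(ι.range) := fun y hy => mem_norm_of_cj_le (by
    rintro _ ⟨_, ⟨a, rfl⟩, rfl⟩
    obtain ⟨b, k⟩ := kn.conj_mem _ ⟨a, rfl⟩ ⟨y, hy⟩
    exact ⟨b, congrArg Subtype.val k⟩)
  have t1 := s1.map_subtype.of_idx le_top (by rw [relIndex_top_right]; exact .of_not_dvd hx)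
  have t2 : S.map H.subtype ≤ C[ι z] := by rintro _ ⟨s, m, rfl⟩; exact mem_cent1.2 (congrArg Subtype.val (mem_cent1.1 (s2 m)))
  have t3 := t1.of_le t2 le_top
  have es := h.le.es.map ι fun x _ e => hi (e.trans ι.map_one.symm)
  have nz : N(zpowers (ι z)) = C[ι z] := le_antisymm (fun y hy => mem_cent1.2 (mul_inv_eq_iff_eq_mul.1
    ((es.mem_zp.1 (conj_mem_of_norm hy (mem_zpowers _))).resolve_left (by simpa using es.z1)))) (cent1_le_norm_zpowers _)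
  have ch : ∀ y ∈ C[ι z], y ∈ C(Oc {2} C[ι z]) → y ∈ Oc {2} C[ι z] := fun y m k => by
    obtain ⟨T, hT⟩ := t1.exists_sylow_top
    have := hG _ (H0.pg_zpowers es.zz).isPGroup (by simpa using es.z1) ⟨T, by rw [nz]; exact hT.le.trans t2⟩
    rw [nz] at this
    rw [← pCore_map_eq Nat.prime_two] at k ⊢
    exact ⟨⟨y, m⟩, this fun r hr => Subtype.ext (k _ ⟨r, hr, rfl⟩), rfl⟩
  have RH : Oc {2} C[ι z] ≤ H := (Oc_le_hall t3).trans (map_subtype_le _)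
  have RQ : Oc {2} C[ι z] ≤ Q.map ι := fun r hr => by
    obtain ⟨a, m, k⟩ := lH.o2 (le_Oc (K := (Oc {2} C[ι z]).subgroupOf H) ⟨fun y hy => mem_cent1.2 (Subtype.ext
      (mem_cent1.1 (Oc_le _ _ hy))), fun c hc => mem_normalizer_iff.2 fun y => mem_normalizer_iff.1
        (Oc_norm _ _ (mem_cent1.2 (congrArg Subtype.val (mem_cent1.1 hc)))) y.1⟩
      (by rw [PiG, card_subgroupOf' RH]; exact Oc_pi _ _) (show ⟨r, RH hr⟩ ∈ _ from hr))
    exact ⟨a, m, congrArg Subtype.val k⟩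
  have QR : Q.map ι ≤ Oc {2} C[ι z] := map_le_iff_le_comap.2 (lA.irr (fun a ha => (mem_map_iff_mem hi).1 (RQ ha))
    (fun c hc => mem_normalizer_iff.2 fun y => by
      rw [mem_comap, mem_comap, ← cji]
      exact mem_normalizer_iff.1 (Oc_norm _ _ (mem_cent1.2 ((show Commute c z from mem_cent1.1 hc).map ι))) _)
    fun a ha k => ch _ (es.le_cent ⟨a, ha, rfl⟩) fun r hr => by
      obtain ⟨b, -, rfl⟩ := RQ hr
      exact (show Commute b a from k b hr).map ι)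
  obtain ⟨π', ρ', hg⟩ := h.map hi ⟨es, fun y hy => RQ (ch y (cent_le_cent1 es.zQ hy) (cent_mono RQ hy)),
    RQ.antisymm QR ▸ Oc_norm _ _⟩
  have lc := hg.lc t3 ((map_subtype_le _).trans nH) (by
    rw [cjm]
    rintro _ ⟨⟨y, hy, rfl⟩, c⟩
    exact ⟨κ y, s3 ⟨cjm κ g0 Q ▸ ⟨y, hy, rfl⟩, mem_cent1.2 (Subtype.ext (mem_cent1.1 c))⟩, rfl⟩)
  refine lc.dich.imp (fun z0 => ?_) fun k => L81.fin ⟨lc, fun v => (k v).2⟩ hg.td hg.tt
  have c : Nat.card ι.range = 174182400 := by rw [← hc]; exact (Nat.card_congr (MonoidHom.ofInjective hi).toEquiv).symm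
  have QL' : cj (ι g0) (Q.map ι) ≤ ι.range := cj_le_of_mem hg.gL hg.QL
  rw [lc.fin hg.tt (sm ι hi) (nalt (m := 9) (by rw [c]; decide) (by rw [c]; decide)) hg.QL (lc.o0 hg.tt z0 (sm ι hi) hg.QL QL'
    (fun d hd => let ⟨g, m, k⟩ := hg.td.ex d hd; ⟨g, hg.DL m, hg.cd m, k⟩) (hg.gen.le.trans (sup_le (sup_le
      (le_sup_of_le_left (le_inf hg.QL es.le_cent)) le_sup_right) (le_sup_of_le_left (le_inf hg.DL hg.td.le))))) hg.gL rfl]
  exact ⟨MonoidHom.ofInjective hi⟩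

end

section
open H16 H0.TR H10.O
open H0.PM (flat evA_flat)
open H0.Am (okH)

/-- the pure types with their words -/
def L8 : List (List ℕ × Γ) := [([], 1), ([3], (swap 0 1 * swap 2 3, -1)), ([4], (swap 0 2 * swap 1 3, -1)),
  ([5], (swap 0 3 * swap 1 2, -1)), ([3, 4], (swap 0 3 * swap 1 2, 1)), ([3, 5], (swap 0 2 * swap 1 3, 1)),
  ([4, 5], (swap 0 1 * swap 2 3, 1)), ([3, 4, 5], io)]
/-- the diagonal generators -/
def dG (k : ℕ) : V := bif k.beq 0 then vec w w (bar w) (bar w) else bif k.beq 1 then vec w (bar w) w (bar w) else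
  vec w (bar w) (bar w) w
theorem w1 : (∀ γ : Γ, K4 γ.1 → ∃ p ∈ L8, p.2 = γ) ∧ (∀ k : T3, k * s0 = s0 * k → ∃ p ∈ L8, k = evA gn p.1) ∧
    ∀ p ∈ L8, K4 p.2.1 ∧ evA gn p.1 * s0 = s0 * evA gn p.1 ∧ ∀ v, toU.symm (aU p.1 (toU v)) = pu p.2 v := by decide +kernel
theorem w2 : (∀ k < 3, ∀ v : V, toU.symm (aU [k] (toU v)) = fun i => dG k i * v i) ∧
    (∀ d : V, pr d = 1 → ∃ a < 3, ∃ b < 3, ∃ c < 3, ∀ i, d i = dG 0 i ^ a * dG 1 i ^ b * dG 2 i ^ c) ∧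
    (∀ k < 6, ∀ v : V, pr v = 1 → pr (toU.symm (fU k (toU v))) = 1) ∧ ∀ i < 3, ∀ k : T3, k * k * k = 1 → k ≠ 1 →
      (∀ j < 3, j ≠ i → k * evA gn (nth [] TL (2 + j)) = evA gn (nth [] TL (2 + j)) * k) → gn i = k ∨ gn i = k * k := by
  decide +kernel
/-- words for the torus -/
def DW (i : ℕ) : List ℕ := [2 + i, 8, 10 + i, 8]
/-- a word for the element of order three -/
def XW : List ℕ := [0, 8, 9, 11, 10, 9, 12, 9, 11, 10, 9, 0, 9, 10, 11, 9, 12, 9, 10, 11, 9, 8]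
theorem w3 : (∀ i < 3, okH 16 9 (DW i) = 0 ∧ EA (DW i ++ DW i ++ DW i) [] = 0 ∧ NE (DW i) [] = 0 ∧ EA (DW i ++ XW) (XW ++ DW i) = 0 ∧
    ∀ j < 3, EA (DW i ++ DW j) (DW j ++ DW i) = 0 ∧ (j ≠ i → EQ ([2 + j] ++ DW i) (DW i ++ [2 + j]) = 0)) ∧
    (EA (XW ++ XW ++ XW) [] = 0 ∧ NE XW [] = 0 ∧ EA (XW ++ [0] ++ XW) [0] = 0 ∧ EA ([8, 9, 8] ++ [8, 9, 8]) [] = 0) ∧
    (∀ u ∈ [1, 2, 3, 4, 9], ∃ v ∈ [0, 1, 13, 14, 15, 5, 6, 7, 8], (u = 1 → v = 0) ∧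
      EA ([8, 9, 8] ++ [u]) ([v] ++ [8, 9, 8]) = 0) ∧
    ∀ k < 8, eqL H15.XW8p.P 8 H15.XW8p.B [k] (flat J_W (nth [] Wp k)) = 0 ∧ ltAll 16 (nth [] Wp k) = 0 := by decide +kernel

theorem pa (W : List ℕ) : ∀ v : U, pr (toU.symm v) = 1 → pr (toU.symm (aU W v)) = 1 := by
  induction W with
  | nil => exact fun _ => id
  | cons k W ih =>
    intro v hv
    have A := fun k l => toU.apply_symm_apply v ▸ w2.2.2.1 k l (toU.symm v) hv
    refine ih (fU k v) ((lt_or_ge k 6).elim (A k) fun l => ?_)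
    obtain ⟨k, rfl⟩ := Nat.exists_eq_add_of_le' l
    rw [show fU (k + 6) v = fU 5 v from rfl]
    exact A 5 (by decide)

theorem model {A Ω : Type*} [Group A] [MulAction A Ω] {g : ℕ → A} {pt : ℕ → Ω}
    (M : Md g pt H15.XW8p.P 256 8 H15.XW8p.B 174182400) : ∃ Q z π ρ g0 D x', Rp (⊤ : Subgroup A) Q z π ρ g0 D x' := by
  have := M.fin
  obtain ⟨θ, s, k, e⟩ := th0 M
  obtain ⟨a1, ⟨a2, a3, a4, a5⟩, a6, a7⟩ := w3
  have n := fun U V e => (cK M).ne U V e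
  have cj' : ∀ u ∈ [1, 2, 3, 4, 9], ∃ v ∈ [0, 1, 13, 14, 15, 5, 6, 7, 8], (u = 1 → v = 0) ∧
      evA (wds g J_W) [8, 9, 8] * wds g J_W v * (evA (wds g J_W) [8, 9, 8])⁻¹ = wds g J_W u := fun u hu =>
    let ⟨v, a, b, c⟩ := a6 u hu; ⟨v, a, b, mul_inv_eq_of_eq_mul (by simpa only [evA_append, evA_cons, evA_nil, one_mul] using
      (ea M _ _ c).symm)⟩
  obtain ⟨_, -, v0, t1⟩ := cj' 1 (.head _)
  obtain rfl := v0 rfl
  obtain ⟨γ, π, ρ, h⟩ := ex_kt (le0 M) (Qp M).2 s k (t1 ▸ qm (by decide)) (t1 ▸ by simpa using n [1] [0] (by decide +kernel))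
  have m := h.toM.congr qsV toU fun _ => rfl
  let d := fun i => evA (wds g J_W) (DW i)
  have dz : ∀ i < 3, d i ∈ C[wds g J_W 0] := fun i hi =>
    Set.mem_of_eq_of_mem (jW M (a1 i hi).1).symm (evA (H10.O.jj (wds g J_W)) (DW i)).2
  have d3 : ∀ i < 3, d i * d i * d i = 1 := fun i hi => by
    simpa only [evA_append, evA_nil, mul_assoc] using ea M _ _ (a1 i hi).2.1
  have dc : ∀ i < 3, ∀ j < 3, zpowers (d i) ≤ C(zpowers (d j)) := fun i hi j hj => zpowers_le.2 fun y hy =>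
    (zpc ((evA_append ..).symm.trans ((ea M _ _ ((a1 j hj).2.2.2.2 i hi).1).trans (evA_append ..))) hy).symm
  have p3 : ∀ i < 3, PG 3 (zpowers (d i)) := fun i hi => pg_of_pow Nat.prime_three (by
    rintro _ ⟨k, rfl⟩
    rw [← zpow_natCast, ← zpow_mul, mul_comm, zpow_mul, zpow_natCast, pow_three', d3 i hi, one_zpow])
  set D := zpowers (d 0) ⊔ zpowers (d 1) ⊔ zpowers (d 2)
  have DL : ∀ {X}, (∀ i < 3, zpowers (d i) ≤ X) → D ≤ X := fun k =>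
    sup_le (sup_le (k 0 (by decide)) (k 1 (by decide))) (k 2 (by decide))
  have dD : ∀ i < 3, d i ∈ D := fun i hi => by
    interval_cases i
    exacts [mem_sup_left (mem_sup_left (mem_zpowers _)), mem_sup_left (mem_sup_right (mem_zpowers _)), mem_sup_right (mem_zpowers _)]
  have g1 : ∀ i < 3, gn i ∈ (D.subgroupOf C[wds g J_W 0]).map θ := fun i hi => by
    have m : θ ⟨_, dz i hi⟩ ∈ (D.subgroupOf C[wds g J_W 0]).map θ := ⟨_, dD i hi, rfl⟩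
    rcases w2.2.2.2 i hi (θ ⟨_, dz i hi⟩) (by rw [← map_mul, ← map_mul]; exact (congrArg θ (Subtype.ext (d3 i hi))).trans θ.map_one)
      (fun l => n _ _ (a1 i hi).2.2.1 ((og3 (d3 i hi)).eq_one' (le0 M).es.pg (mem_zpowers _) ((k _).1 l))) fun j hj l => by
        rw [← e (2 + j) (ok_iff.2 (by omega)), ← map_mul, ← map_mul,
          show ⟨_, dz i hi⟩ = evA (H10.O.jj (wds g J_W)) (DW i) from Subtype.ext (jW M (a1 i hi).1).symm]
        simpa only [evA_append, evA_cons, evA_nil, one_mul] using congrArg θ (je M (((a1 i hi).2.2.2.2 j hj).2 l))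
      with l | l <;> rw [l]
    exacts [m, mul_mem m m]
  have g2 : ∀ i < 3, ∃ a ∈ D, ∀ v, toU.symm (ρ a (toU v)) = dG i * v := fun i hi => by
    obtain ⟨a, -, b, -, c, -, l⟩ := (d1 _ (c3' (d2.1 i hi).1 γ⁻¹)).1
    obtain ⟨x, hx, l⟩ := Set.mem_of_eq_of_mem l (mul_mem (mul_mem (pow_mem (g1 0 (by decide)) a) (pow_mem (g1 1 (by decide)) b))
      (pow_mem (g1 2 (by decide)) c))
    exact ⟨x, hx, fun v => by rw [h.act x [i] (by simp [l, mul_assoc])]; exact w2.1 i hi v⟩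
  refine ⟨_, _, _, _, evA (wds g J_W) [8, 9, 8], D, evA (wds g J_W) XW, m, ⟨h.tQ, (congrArg toU.symm h.tau).trans (by decide), fun γ k => ?_,
    fun y hy => ?_, fun v => ?_⟩, ⟨DL fun i hi => zpowers_le.2 (dz i hi), ((p3 0 (by decide)).sup (p3 1 (by decide))
      (norms_of_cents (dc 1 (by decide) 0 (by decide)))).sup (p3 2 (by decide)) (norms_of_cents (cents_sup
        (dc 2 (by decide) 0 (by decide)) (dc 2 (by decide) 1 (by decide)))),
      DL fun i hi => cents_symm (DL fun j hj => dc j hj i hi), fun v hv => ?_,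
      le_cent1_iff.1 (DL fun i hi => zpowers_le.2 (mem_cent1.2 (by
        simpa only [evA_append] using (ea M _ _ (a1 i hi).2.2.2.1).symm))),
      by simpa only [evA_append, evA_nil, mul_assoc] using ea M _ _ a2, n _ _ a3, ?_⟩, fun b _ l1 l2 => ?_, trivial,
    by simpa only [evA_append, evA_nil] using ea M _ _ a5, ?_⟩
  · obtain ⟨p, hp, rfl⟩ := w1.1 γ k
    obtain ⟨y, hy, l⟩ := (h.hw _).1 (w1.2.2 p hp).2.1
    exact ⟨y, ⟨hy, y.2⟩, fun v => (congrArg toU.symm (h.act y _ l _)).trans ((w1.2.2 p hp).2.2 v)⟩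
  · obtain ⟨p, hp, l⟩ := w1.2.1 _ ((h.hw _).2 ⟨⟨y, hy.2⟩, hy.1, rfl⟩)
    exact ⟨p.2, (w1.2.2 p hp).1, fun v => (congrArg toU.symm (h.act ⟨y, hy.2⟩ _ l _)).trans ((w1.2.2 p hp).2.2 v)⟩
  · exact .trans (exists_congr fun x => and_congr_right fun _ => toU.symm_apply_eq) h.et
  · obtain ⟨a, -, b, -, c, -, l⟩ := w2.2.1 v hv
    have cd : ∀ x ∈ D, Commute (wds g J_W 0) x := fun x hx => (mem_cent1.1 (DL (fun i hi => zpowers_le.2 (dz i hi)) hx)).symm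
    have A : ∀ u u' : V, (∃ a ∈ D, ∀ v, toU.symm (ρ a (toU v)) = u * v) → (∃ a ∈ D, ∀ v, toU.symm (ρ a (toU v)) = u' * v) →
        ∃ a ∈ D, ∀ v, toU.symm (ρ a (toU v)) = u * u' * v := fun u u' ⟨a, ha, ea⟩ ⟨b, hb, eb⟩ =>
      ⟨_, mul_mem ha hb, fun v => (m.rmul (cd a ha) (cd b hb) v).trans (by rw [mul_assoc, ← eb, ← ea]; rfl)⟩
    have B : ∀ i < 3, ∀ n, ∃ a ∈ D, ∀ v, toU.symm (ρ a (toU v)) = dG i ^ n * v := fun i hi n => by
      induction n with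
      | zero => exact ⟨1, one_mem _, fun v => (m.r1 v).trans (by simp)⟩
      | succ n ih => exact pow_succ (dG i) n ▸ A _ _ ih (g2 i hi)
    rw [show v = dG 0 ^ a * dG 1 ^ b * dG 2 ^ c from funext l]
    exact A _ _ (A _ _ (B 0 (by decide) a) (B 1 (by decide) b)) (B 2 (by decide) c)
  · have := ea M _ _ a4
    simp only [evA_append, evA_cons, evA_nil, one_mul] at this
    rw [mul_inv_eq_iff_eq_mul, eq_inv_mul_iff_mul_eq, this]
  · obtain ⟨a, l⟩ := h.pure l1 l2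
    obtain ⟨W, -, k⟩ := exw (((MulAut.conj γ).toMonoidHom.comp θ) a⁻¹)
    rw [← h.rinv (cz a) (π _), l, ← coe_inv, h.act _ _ (k.trans (evA_flat ..).symm)]
    exact pa _ _ (by decide)
  refine (eq_top_iff.2 (M.top.ge.trans (gen_le.2 fun l hl => ?_))).symm
  have q : ∀ l ∈ [0, 1, 13, 14, 15, 5, 6, 7, 8], wds g J_W l ∈ gen (wds (wds g J_W) Q_W) 9 ⊔ cj (evA (wds g J_W) [8, 9, 8])
    (gen (wds (wds g J_W) Q_W) 9) ⊔ D := fun l hl => mem_sup_left (mem_sup_left (qm hl))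
  have q' : ∀ l ∈ [1, 2, 3, 4, 9], wds g J_W l ∈ gen (wds (wds g J_W) Q_W) 9 ⊔ cj (evA (wds g J_W) [8, 9, 8])
      (gen (wds (wds g J_W) Q_W) 9) ⊔ D := fun l hl =>
    let ⟨_, a, _, e⟩ := cj' l hl; mem_sup_left (mem_sup_right (e ▸ conj_mem_cj.2 (qm a)))
  rw [← one_mul (g l), show 1 * g l = _ from M.eq_of M.act (a7 l hl).1, evA_flat]
  refine evA_mem _ fun k hk => ?_
  rcases (by decide : ∀ k < 16, k ∈ [0, 1, 13, 14, 15, 5, 6, 7, 8] ∨ k ∈ [1, 2, 3, 4, 9] ∨ ∃ i < 3, k = 10 + i) k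
    (ltAll_zero (a7 l hl).2 k hk) with l | l | ⟨i, hi, rfl⟩
  exacts [q k l, q' k l, by
    have := mem_sup_right (S := gen (wds (wds g J_W) Q_W) 9 ⊔ cj (evA (wds g J_W) [8, 9, 8]) (gen (wds (wds g J_W) Q_W) 9))
      (dD i hi)
    rw [show d i = wds g J_W 8 * wds g J_W (10 + i) * wds g J_W 8 * wds g J_W (2 + i) by simp [d, DW]] at this
    rwa [Subgroup.mul_mem_cancel_right _ (q' _ ((by decide : ∀ i < 3, 2 + i ∈ [1, 2, 3, 4, 9]) i hi)), Subgroup.mul_mem_cancel_right _ (q 8 (by decide)),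
      Subgroup.mul_mem_cancel_left _ (q 8 (by decide))] at this]

end

end H14.P8
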