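import Cfsg.Agent.H14.Cox
import Cfsg.Agent.H14.GoodAll

/-! Length generating functions of the Weyl groups of the tabulated types. -/

namespace H14

open Cfsg.Lie

set_option maxRecDepth 100000

theorem msk_univ {l m : ℕ} (h : ∀ j : Fin l, Nat.testBit m j = true) : (Set.univ : Set (Fin l)) = msk l m :=
  (Set.eq_univ_of_forall h).symm

theorem msk_zero (l : ℕ) (j : Fin l) : j ∉ msk l 0 := by simp [msk]

theorem poinG2 (q : ℕ) : goodG2.R.poin 1 Set.univ q =
    polyN [1, 1, 1, 1, 1, 1] q *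
    polyN [1, 1] q := by
  change okG2.rootSys.poin 1 Set.univ q = _
  rw [msk_univ (m := 3) (by decide),
    okG2.poin_step_one (m := 3) (m' := 2) (r := 9) (c := [1, 1, 1, 1, 1, 1])
      (dT := 0x1020300000405060000) (by decide +kernel),
    okG2.poin_step_one (m := 2) (m' := 0) (r := 1) (c := [1, 1])
      (dT := 0x102) (by decide +kernel),
    RootSys.poin_empty _ _ (msk_zero _)]
  ring

theorem poinB2 (q : ℕ) : goodB2.R.poin 1 Set.univ q =
    polyN [1, 1, 1, 1] q *
    polyN [1, 1] q := by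
  change okB2.rootSys.poin 1 Set.univ q = _
  rw [msk_univ (m := 3) (by decide),
    okB2.poin_step_one (m := 3) (m' := 1) (r := 6) (c := [1, 1, 1, 1])
      (dT := 0x1020000030400) (by decide +kernel),
    okB2.poin_step_one (m := 1) (m' := 0) (r := 3) (c := [1, 1])
      (dT := 0x1000002) (by decide +kernel),
    RootSys.poin_empty _ _ (msk_zero _)]
  ring

theorem poinD4 (q : ℕ) : goodD4.R.poin 1 Set.univ q =
    polyN [1, 1, 3, 3, 4, 4, 3, 3, 1, 1] q *
    polyN [1, 1] q *
    polyN [1, 1] q *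
    polyN [1, 1] q := by
  change okD4.rootSys.poin 1 Set.univ q = _
  rw [msk_univ (m := 15) (by decide),
    okD4.poin_step_one (m := 15) (m' := 13) (r := 23) (c := [1, 1, 3, 3, 4, 4, 3, 3, 1, 1])
      (dT := 0x1020303040503040405050506060607070806070808090a) (by decide +kernel),
    okD4.poin_step_one (m := 13) (m' := 5) (r := 12) (c := [1, 1])
      (dT := 0x1020000000000000000000000) (by decide +kernel),
    okD4.poin_step_one (m := 5) (m' := 1) (r := 13) (c := [1, 1])
      (dT := 0x100000200000000000000000000) (by decide +kernel),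
    okD4.poin_step_one (m := 1) (m' := 0) (r := 6) (c := [1, 1])
      (dT := 0x1000000000200) (by decide +kernel),
    RootSys.poin_empty _ _ (msk_zero _)]
  ring

theorem poinF4 (q : ℕ) : goodF4.R.poin 1 Set.univ q =
    polyN [1, 1, 1, 1, 2, 2, 2, 2, 2, 2, 2, 2, 1, 1, 1, 1] q *
    polyN [1, 1, 1, 1, 1, 1] q *
    polyN [1, 1, 1, 1] q *
    polyN [1, 1] q := by
  change okF4.rootSys.poin 1 Set.univ q = _
  rw [msk_univ (m := 15) (by decide),
    okF4.poin_step_one (m := 15) (m' := 14) (r := 44) (c := [1, 1, 1, 1, 2, 2, 2, 2, 2, 2, 2, 2, 1, 1, 1, 1])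
      (dT := 0x10000000203040505060708000000060708000000000000090a0b000000090a0b0c0c0d0e0f00000010000000) (by decide +kernel),
    okF4.poin_step_one (m := 14) (m' := 6) (r := 6) (c := [1, 1, 1, 1, 1, 1])
      (dT := 0x1020300040506) (by decide +kernel),
    okF4.poin_step_one (m := 6) (m' := 2) (r := 5) (c := [1, 1, 1, 1])
      (dT := 0x10200030400) (by decide +kernel),
    okF4.poin_step_one (m := 2) (m' := 0) (r := 4) (c := [1, 1])
      (dT := 0x100020000) (by decide +kernel),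
    RootSys.poin_empty _ _ (msk_zero _)]
  ring

theorem poinE6 (q : ℕ) : goodE6.R.poin 1 Set.univ q =
    polyN [1, 1, 1, 2, 3, 3, 4, 5, 5, 5, 6, 6, 5, 5, 5, 4, 3, 3, 2, 1, 1, 1] q *
    polyN [1, 1, 2, 3, 3, 3, 3, 2, 1, 1] q *
    polyN [1, 2, 2, 1] q *
    polyN [1, 1, 1] q *
    polyN [1, 1] q := by
  change okE6.rootSys.poin 1 Set.univ q = _
  rw [msk_univ (m := 63) (by decide),
    okE6.poin_step_one (m := 63) (m' := 61) (r := 71) (c := [1, 1, 1, 2, 3, 3, 4, 5, 5, 5, 6, 6, 5, 5, 5, 4, 3, 3, 2, 1, 1, 1])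
      (dT := 0x1020304050405060607080708090a0b05060707080908090a0b08090a0b090a0b0a0b0b0c0c0d0c0d0e0c0d0e0f0c0d0e0f0e0f101011120c0d0e0f100f10111112131213141516) (by decide +kernel),
    okE6.poin_step_one (m := 61) (m' := 53) (r := 25) (c := [1, 1, 2, 3, 3, 3, 3, 2, 1, 1])
      (dT := 0x102030403040505060700000000000405060607080708090a00) (by decide +kernel),
    okE6.poin_step_one (m := 53) (m' := 5) (r := 38) (c := [1, 2, 2, 1])
      (dT := 0x10202030304000000000000000000000000000000000000000000000000000000000000000000) (by decide +kernel),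
    okE6.poin_step_one (m := 5) (m' := 4) (r := 16) (c := [1, 1, 1])
      (dT := 0x100000000000000000000020000030000) (by decide +kernel),
    okE6.poin_step_one (m := 4) (m' := 0) (r := 5) (c := [1, 1])
      (dT := 0x10000020000) (by decide +kernel),
    RootSys.poin_empty _ _ (msk_zero _)]
  ring

theorem poinE7 (q : ℕ) : goodE7.R.poin 1 Set.univ q =
    polyN [1, 1, 1, 1, 2, 2, 3, 3, 4, 4, 5, 5, 6, 6, 6, 6, 7, 7, 6, 6, 6, 6, 5, 5, 4, 4, 3, 3, 2, 2, 1, 1, 1, 1] q *
    polyN [1, 1, 1, 2, 2, 3, 3, 3, 3, 3, 3, 2, 2, 1, 1, 1] q *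
    polyN [1, 1, 2, 2, 3, 2, 2, 1, 1] q *
    polyN [1, 1] q *
    polyN [1, 1, 1, 1] q *
    polyN [1, 1, 1] q *
    polyN [1, 1] q := by
  change okE7.rootSys.poin 1 Set.univ q = _
  rw [msk_univ (m := 127) (by decide),
    okE7.poin_step_one (m := 127) (m' := 126) (r := 125) (c := [1, 1, 1, 1, 2, 2, 3, 3, 4, 4, 5, 5, 6, 6, 6, 6, 7, 7, 6, 6, 6, 6, 5, 5, 4, 4, 3, 3, 2, 2, 1, 1, 1, 1])
      (dT := 0x102030405060705060708070809090a0b08090a0a0b0c0b0c0d0e0c0d0e0f1011090a0b0b0c0d0c0d0e0f0d0e0f10110d0e0f10110e0f10110f101110111112121312131412131415121314151612131415161415161716171818191a12131415161715161718171819191a1b18191a1a1b1c1b1c1d1e1c1d1e1f202122) (by decide +kernel),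
    okE7.poin_step_one (m := 126) (m' := 122) (r := 32) (c := [1, 1, 1, 2, 2, 3, 3, 3, 3, 3, 3, 2, 2, 1, 1, 1])
      (dT := 0x102030405060405060706070808090a070809090a0b0a0b0c0d0b0c0d0e0f1000) (by decide +kernel),
    okE7.poin_step_one (m := 122) (m' := 90) (r := 16) (c := [1, 1, 2, 2, 3, 2, 2, 1, 1])
      (dT := 0x102030304050405060705060708090000) (by decide +kernel),
    okE7.poin_step_one (m := 90) (m' := 26) (r := 63) (c := [1, 1])
      (dT := 0x1020000000000000000000000000000000000000000000000000000000000000000000000000000000000000000000000000000000000000000000000000000) (by decide +kernel),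
    okE7.poin_step_one (m := 26) (m' := 10) (r := 14) (c := [1, 1, 1, 1])
      (dT := 0x10002000003000000040000000000) (by decide +kernel),
    okE7.poin_step_one (m := 10) (m' := 8) (r := 7) (c := [1, 1, 1])
      (dT := 0x100000002030000) (by decide +kernel),
    okE7.poin_step_one (m := 8) (m' := 0) (r := 3) (c := [1, 1])
      (dT := 0x1020000) (by decide +kernel),
    RootSys.poin_empty _ _ (msk_zero _)]
  ring

theorem poinE8 (q : ℕ) : goodE8.R.poin 1 Set.univ q =
    polyN [1, 1, 1, 1, 1, 1, 2, 2, 2, 2, 3, 3, 4, 4, 4, 4, 5, 5, 6, 6, 6, 6, 7, 7, 7, 7, 7, 7, 8, 8, 7, 7, 7, 7, 7, 7, 6, 6, 6, 6, 5, 5, 4, 4, 4, 4, 3, 3, 2, 2, 2, 2, 1, 1, 1, 1, 1, 1] q *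
    polyN [1, 1, 1, 1, 1, 2, 2, 2, 2, 3, 3, 3, 3, 3, 3, 3, 3, 3, 3, 2, 2, 2, 2, 1, 1, 1, 1, 1] q *
    polyN [1, 1, 1, 1, 2, 2, 2, 2, 3, 2, 2, 2, 2, 1, 1, 1, 1] q *
    polyN [1, 1, 1, 1, 2, 1, 1, 1, 1] q *
    polyN [1, 1, 1, 2, 1, 1, 1] q *
    polyN [1, 1, 1, 1] q *
    polyN [1, 1, 1] q *
    polyN [1, 1] q := by
  change okE8.rootSys.poin 1 Set.univ q = _
  rw [msk_univ (m := 255) (by decide),
    okE8.poin_step_one (m := 255) (m' := 127) (r := 239) (c := [1, 1, 1, 1, 1, 1, 2, 2, 2, 2, 3, 3, 4, 4, 4, 4, 5, 5, 6, 6, 6, 6, 7, 7, 7, 7, 7, 7, 8, 8, 7, 7, 7, 7, 7, 7, 6, 6, 6, 6, 5, 5, 4, 4, 4, 4, 3, 3, 2, 2, 2, 2, 1, 1, 1, 1, 1, 1])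
      (dT := 0x10203040506070708090a0b0c0d08090a0b0c0d0e0b0c0d0e0f0d0e0f100f10111112130e0f10111011121213141112131314151415161712131414151615161718161718191a1718191a1b1c1d131415151617161718191718191a1b18191a1b1c1d18191a1b1c1d191a1b1c1d1a1b1c1d1b1c1d1c1d1d1e1e1f1e1f201e1f20211e1f2021221e1f202122231e1f202122232021222324222324252425262627281e1f20212223242122232425232425262526272728292425262726272828292a272829292a2b2a2b2c2d28292a2a2b2c2b2c2d2e2c2d2e2f302d2e2f303132332e2f30313233343435363738393a) (by decide +kernel),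
    okE8.poin_step_one (m := 127) (m' := 63) (r := 119) (c := [1, 1, 1, 1, 1, 2, 2, 2, 2, 3, 3, 3, 3, 3, 3, 3, 3, 3, 3, 2, 2, 2, 2, 1, 1, 1, 1, 1])
      (dT := 0x10002000003000000040000000005000000000006000000000006000000000700000008000009000a0b0000000000000700000000080000000900000a000b0c0000000a00000b000c0d00000c000d0e000e0f1000000d000e0f000f1011001011121300111213141516001213141516171718191a1b1c00) (by decide +kernel),
    okE8.poin_step_one (m := 63) (m' := 62) (r := 78) (c := [1, 1, 1, 1, 2, 2, 2, 2, 3, 2, 2, 2, 2, 1, 1, 1, 1])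
      (dT := 0x1000000000000000000000000000000000000000000020000000000000000000300000000000400000506000000000005000006070000070809000008090a0b0c0000090a0b0c0d0d0e0f10110000) (by decide +kernel),
    okE8.poin_step_one (m := 62) (m' := 30) (r := 11) (c := [1, 1, 1, 1, 2, 1, 1, 1, 1])
      (dT := 0x10203040505060708090000) (by decide +kernel),
    okE8.poin_step_one (m := 30) (m' := 14) (r := 10) (c := [1, 1, 1, 2, 1, 1, 1])
      (dT := 0x102030404050607000000) (by decide +kernel),
    okE8.poin_step_one (m := 14) (m' := 10) (r := 21) (c := [1, 1, 1, 1])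
      (dT := 0x1000000000203040000000000000000000000000000) (by decide +kernel),
    okE8.poin_step_one (m := 10) (m' := 8) (r := 7) (c := [1, 1, 1])
      (dT := 0x100020300000000) (by decide +kernel),
    okE8.poin_step_one (m := 8) (m' := 0) (r := 5) (c := [1, 1])
      (dT := 0x10200000000) (by decide +kernel),
    RootSys.poin_empty _ _ (msk_zero _)]
  ring

end H14
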