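import Cfsg.Agent.H27.MS1

/-! S5899, chunk `NL`: the two four-groups of `L₃(2)` do not both lift. -/

set_option autoImplicit false
set_option linter.unusedSectionVars false

namespace H14.MS
open Cfsg Subgroup H18 H17.GS H28.S H2.GW
open H19 hiding eq_bot_mono
open H28.NG hiding Hyp Uniq Ch
open H27.MS hiding Iv
open scoped MatrixGroups

universe u
variable {G : Type u} [Group G] [Finite G] {N Q T Z V A B D U X Y : Subgroup G} {a b t z x y : G}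

theorem QT (h : Fr N Q T) : Q ≤ T := h.syl.le_of_norm' h.nq.le h.pg (h.syl.le.trans h.nq.norm)

theorem faith (h : Fr N Q T) (s : Sec N Q Z V) (ht : t ∈ N) (hc : t ∈ Cm Z V) : t ∈ Q :=
  ((h.smp (N ⊓ Cm Z V) ⟨inf_le_left, norms_inf le_normalizer (norms_Cm s.n0 s.nV)⟩).resolve_right
    fun e => s.nc (e.ge.trans inf_le_right)) ⟨ht, hc⟩

theorem cN (h : Fr N Q T) (l : L7 N Q) : #N = 168 * #Q := by
  obtain ⟨π, s, k⟩ := l
  have e : π.ker = Q.subgroupOf N := Subgroup.ext k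
  have := π.ker.index_mul_card
  rw [index_ker, MonoidHom.range_eq_top.2 s, card_top, H11.card_sl3_two, e, card_subgroupOf, inf_eq_left.2 h.nq.le] at this
  exact this.symm

theorem cT (h : Fr N Q T) (l : L7 N Q) : #T ≤ 8 * #Q := by
  obtain ⟨k, hk⟩ := h.syl.pi.exists_card
  have d : #T ∣ 8 * #Q * 21 := by
    have := card_dvd_of_le h.syl.le
    rwa [cN h l, show 168 * #Q = 8 * #Q * 21 by ring] at this
  exact Nat.le_of_dvd (Nat.mul_pos (by omega) (card_pos Q))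
    (Nat.Coprime.dvd_of_dvd_mul_right (hk ▸ Nat.Coprime.pow_left k (by decide)) d)

theorem mmi (h : Hyp B D) (hx : x ∈ D) (hy : y ∈ D) : x * y ∈ B ↔ (x ∈ B ↔ y ∈ B) :=
  mul_mem_iff_of_index_two (H := B.subgroupOf D) h.idx (a := ⟨x, hx⟩) (b := ⟨y, hy⟩)

theorem odd2 (l : Z ≤ D) (c : #D = 2 * #Z) (hx : x ∈ D) (hy : y ∈ D) (x0 : x ∉ Z) (y0 : y ∉ Z) : x * y ∈ Z :=
  (mmi (hyp_of_card l (by omega)) hx hy).2 (iff_of_false x0 y0)

theorem nrm2 (hT : H19.PG 2 T) (l : X ≤ T) (c : #T ≤ 2 * #X) : T ≤ N(X) := by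
  rcases l.eq_or_lt with rfl | k
  · exact le_normalizer
  have := pg_lt_card hT k
  have H := hyp_of_card l (by omega)
  exact fun t ht => mem_norm_of_cj_le fun w hw => by
    obtain ⟨x, hx, rfl⟩ := mem_cj'.1 hw
    exact (mmi H (mul_mem ht (l hx)) (inv_mem ht)).2 (by rw [inv_mem_iff, mul_mem_cancel_right hx])

section
variable (h : Fr N Q T) (s : Sec N Q Z Q) (c : #Q = 8 * #Z)
include h s c

/-- involutions are transvections -/
theorem tv (t1 : t ∈ N) (t2 : t ∉ Q) (t3 : t * t ∈ Q) : #(Q ⊓ Cm Z (zpowers t)) = 4 * #Z ∧ #(cm Q t ⊔ Z) = 2 * #Z ∧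
    cm Q t ⊔ Z ≤ Q ⊓ Cm Z (zpowers t) := by
  have c3 := s.ea.card_br (s.nV t1) (s.n0 t1)
  have le := s.ea.br_le_cm (s.nV t1) (s.n0 t1) (s.cq t3)
  have lt := pg_lt_card h.pg (lt_of_le_of_ne (inf_le_left : Q ⊓ Cm Z (zpowers t) ≤ Q) fun e =>
    t2 (faith h s t1 (Cm_symm (e.ge.trans inf_le_right) (zpowers_le' (s.n0 t1)) (mem_zpowers t))))
  obtain ⟨m, hm⟩ := card_dvd_of_le (s.ea.leC (zpowers_le' (s.n0 t1)))
  obtain ⟨n, hn⟩ := card_dvd_of_le (le_sup_right : Z ≤ cm Q t ⊔ Z)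
  have l := card_le le
  have p := card_pos Z
  rw [hm, hn] at c3 l
  rw [hm, c] at lt
  have e : 8 = m * n := Nat.eq_of_mul_eq_mul_left (Nat.mul_pos p p) (by rw [c] at c3; linarith)
  have l := Nat.le_of_mul_le_mul_left l p
  have lt : m * 2 ≤ 8 := Nat.le_of_mul_le_mul_left (by linarith) p
  have : m = 4 ∧ n = 2 := by
    have : m ≤ 4 := by omega
    interval_cases m <;> omega
  exact ⟨by rw [hm, this.1, mul_comm], by rw [hn, this.2, mul_comm], le⟩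

/-- all involutions of `A` have the same axis -/
theorem al (el : EL.{u}) (l : L7 N Q) (o : One N Q) (hA : Abelem 2 A) (aT : A ≤ T) (cA : #(A ⊔ Q) = 4 * #Q)
    (a1 : a ∈ A) (a2 : a ∉ Q) (hU : Q ⊓ Cm Z (zpowers a) ≤ Cm Z A) : False := by
  have tN := h.syl.le
  have aN := aT.trans tN
  have aZ := aN.trans s.n0
  have qZ := s.ea.norm
  have nX : T ≤ N(A ⊔ Q) := nrm2 h.syl.pi (sup_le aT (QT h)) (by have := cT h l; omega)
  set W := Q ⊓ Cm Z (A ⊔ Q)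
  have nW : T ≤ N(W) := norms_inf (tN.trans s.nV) (norms_Cm (tN.trans s.n0) nX)
  have i2 : ∀ b ∈ A, b * b ∈ Q := fun b hb => sq_one hA hb ▸ one_mem _
  have uW : Q ⊓ Cm Z (zpowers a) ≤ W := le_inf inf_le_left (Cm_sup aZ qZ hU (inf_le_left.trans s.cq))
  have k : ∀ b ∈ A, b ∉ Q → Q ⊓ Cm Z (zpowers b) ≤ W := fun b b1 b2 => (eq_of_le_of_card_ge
    (inf_le_inf_left Q (Cm_anti (zpowers_le' (mem_sup_left b1)))) (by
      rw [(tv h s c (aN b1) b2 (i2 b b1)).1, ← (tv h s c (aN a1) a2 (i2 a a1)).1]; exact card_le uW)).ge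
  have aA : A ≤ Cm Z A := Cm_of_cent aZ (cents_of_comm hA.1 le_rfl le_rfl)
  have wA : W ≤ Cm Z A := inf_le_right.trans (Cm_anti le_sup_left)
  have wZ : W ≤ N(Z) := inf_le_left.trans qZ
  have ce : A ⊔ W ≤ Cm Z (A ⊔ W) := Cm_sup aZ wZ (sup_le aA wA)
    (sup_le (Cm_symm wA aZ) (inf_le_right.trans (Cm_anti (inf_le_left.trans le_sup_right))))
  have p := card_pos Z
  refine el (E := A ⊔ W) (n := 0) h (.inl l) o ⟨s.ea.le.trans h.nq.le, s.n0⟩ (lt_of_le_of_ne s.ea.le fun e => ?_)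
    ⟨sup_le aT (inf_le_left.trans (QT h)), fun t ht => mem_norm_of_cj_le ?_⟩ (commg_of_Cm ce) (fun e he => ?_)
    (by rw [sup_assoc, sup_eq_right.2 (inf_le_left : W ≤ Q), cA]) (aN a1) a2 (sq_one hA a1 ▸ one_mem _)
  · rw [← e] at c; omega
  · rw [cj_sup, cj_of_mem_norm (nW ht)]
    refine sup_le (fun w hw => ?_) le_sup_right
    obtain ⟨x, hx, rfl⟩ := mem_cj'.1 hw
    have := conj_mem_of_norm (nX ht) (mem_sup_left hx)
    rw [sup_comm] at this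
    obtain ⟨q, hq, b, hb, e⟩ := (mem_sup_of_norm (aN.trans s.nV)).1 this
    by_cases b2 : b ∈ Q
    · have xq : x ∈ Q := by
        have := conj_mem_of_norm' (s.nV (tN ht)) (e ▸ mul_mem hq b2)
        simpa [mul_assoc] using this
      exact mem_sup_right (conj_mem_of_norm (nW ht) ⟨xq, Cm_sup aZ qZ (inf_le_left.trans aA) (inf_le_right.trans s.cq) ⟨hx, xq⟩⟩)
    · refine e ▸ mul_mem (mem_sup_right (k b hb b2 ⟨hq, (mem_Cm1 (aZ hb)).2 ⟨qZ hq, ?_⟩⟩)) (mem_sup_left hb)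
      have e2 : q * b * (q * b) = 1 := by rw [← e]; simp [mul_assoc, ← mul_assoc x x, sq_one hA hx]
      have e3 : b * q⁻¹ * b⁻¹ = q := by
        have := congrArg (·⁻¹) (show b * q * b⁻¹ = q⁻¹ by
          rw [inv_eq_of_mul_eq_one_right (sq_one hA hb)]; exact eq_inv_of_mul_eq_one_right (by rw [← e2]; group))
        simpa [mul_assoc] using this
      convert s.ea.sq q hq using 1
      rw [mul_assoc, mul_assoc, ← mul_assoc b, e3]
  · rw [sup_comm] at he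
    obtain ⟨q, hq, b, hb, rfl⟩ := (mem_sup_of_norm (aT.trans nW)).1 he
    have := mul_mem (s.ea.sq q hq.1) ((inv_mem (wA hq)).2 b hb)
    convert this using 1
    rw [inv_inv, inv_eq_of_mul_eq_one_right (sq_one hA hb)]; group

/-- commuting transvections with different axes have the same centre -/
theorem ce (a1 : a ∈ N) (a2 : a * a ∈ Q) (z1 : z ∈ N) (z2 : z ∉ Q) (z3 : z * z ∈ Q) (e : a * z * a⁻¹ * z⁻¹ ∈ Q)
    (n : ¬ Q ⊓ Cm Z (zpowers z) ≤ Cm Z (zpowers a)) :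
    cm Q a ⊔ Z = cm Q z ⊔ Z ∧ Q ⊓ Cm Z (zpowers z) ⊓ Cm Z (zpowers a) ≤ cm Q z ⊔ Z := by
  have a0 : a ∉ Q := fun k => n (inf_le_left.trans (s.cq.trans (Cm_anti (zpowers_le' k))))
  obtain ⟨-, q1, q2⟩ := tv h s c a1 a0 a2
  obtain ⟨r0, r1, r2⟩ := tv h s c z1 z2 z3
  have key : ∀ {a z : G}, a ∈ N → z ∈ N → a * z * a⁻¹ * z⁻¹ ∈ Q → #(cm Q z ⊔ Z) = 2 * #Z → cm Q z ⊔ Z ≤ Cm Z (zpowers a) :=
    fun {a z} a1 z1 e r1 w hw => by
      have wq := s.ea.br_le (zpowers_le' (s.nV z1)) hw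
      have n := s.ea.norm_br s.cq (zpowers_le' (s.nV z1)) (zpowers_le' (s.n0 z1)) (s.nV a1) (s.n0 a1) (cj_zp_le e)
      refine (mem_Cm1 (s.n0 a1)).2 ⟨s.ea.norm wq, ?_⟩
      by_cases w0 : w ∈ Z
      · simpa [mul_assoc] using mul_mem w0 (conj_mem_of_norm (s.n0 a1) (inv_mem w0))
      · simpa [mul_assoc] using odd2 le_sup_right r1 hw (conj_mem_of_norm n (inv_mem hw)) w0 fun k => w0 (by
          simpa [mul_assoc] using conj_mem_of_norm' (s.n0 a1) k)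
  have lt := pg_lt_card (h.pg.of_le inf_le_left) (lt_of_le_of_ne
    (inf_le_left : Q ⊓ Cm Z (zpowers z) ⊓ Cm Z (zpowers a) ≤ _) fun k => n (k.ge.trans inf_le_right))
  have e1 := eq_of_le_of_card_ge (le_inf r2 (key a1 z1 e r1)) (by omega)
  have e2 := eq_of_le_of_card_ge (le_inf (le_inf (q2.trans inf_le_left) (key z1 a1 (by simpa [mul_assoc] using inv_mem e) q1))
    (q2.trans inf_le_right)) (by omega)
  exact ⟨e2.trans e1.symm, e1.ge⟩

end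

theorem nl (ty : Ty.{u}) (hd : HD.{u}) (el : EL.{u}) : NL.{u} := fun {G} _ _ {N Q T A B} h l q0 hA hB aT bT cA cB => by
  by_contra ne
  have tN := h.syl.le
  have p := card_pos Q
  have ct := cT h l
  have nX : T ≤ N(A ⊔ Q) := nrm2 h.syl.pi (sup_le aT (QT h)) (by omega)
  have c1 := card_sup_mul_inf ((sup_le bT (QT h)).trans nX)
  have c2 := card_le (sup_le (sup_le aT (QT h)) (sup_le bT (QT h)))
  have c3 := pg_lt_card (h.syl.pi.of_le (sup_le bT (QT h))) (lt_of_le_of_ne (inf_le_right : (A ⊔ Q) ⊓ (B ⊔ Q) ≤ _) fun e =>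
    ne (eq_of_le_of_card_ge (e.ge.trans inf_le_left) (by omega)).symm)
  have c4 : #((A ⊔ Q) ⊓ (B ⊔ Q)) = 2 * #Q := by
    rw [cA, cB] at c1
    have : 8 * #Q * (2 * #Q) ≤ 8 * #Q * #((A ⊔ Q) ⊓ (B ⊔ Q)) := by nlinarith
    have := Nat.le_of_mul_le_mul_left this (by omega)
    omega
  have qI : Q ≤ (A ⊔ Q) ⊓ (B ⊔ Q) := le_inf le_sup_right le_sup_right
  obtain ⟨z0, ⟨m1, m2⟩, m3⟩ := SetLike.exists_of_lt (lt_of_le_of_ne qI fun e => by rw [← e] at c4; omega)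
  rw [sup_comm] at m1
  obtain ⟨q, hq, z, hz, rfl⟩ := (mem_sup_of_norm ((aT.trans tN).trans h.nq.norm)).1 m1
  have z2 : z ∉ Q := fun k => m3 (mul_mem hq k)
  have zB : z ∈ B ⊔ Q := (mul_mem_cancel_left (mem_sup_right hq)).1 m2
  have zB' := zB
  rw [sup_comm] at zB'
  obtain ⟨r, hr, y, hy, e⟩ := (mem_sup_of_norm ((bT.trans tN).trans h.nq.norm)).1 zB'
  have y2 : y ∉ Q := fun k => z2 (e ▸ mul_mem hr k)
  obtain ⟨Z, ⟨z3, z4⟩, mx⟩ := Set.Finite.exists_maximal (s := {X | X ⊴ N ∧ X < Q}) (Set.toFinite _)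
    ⟨⊥, .bot N, bot_lt_iff_ne_bot.2 q0⟩
  have zN := tN (aT hz)
  obtain ⟨s, c⟩ := hd h l z3 z4 (fun X x1 x2 x3 => x3.eq_or_lt.symm.imp (fun k => le_antisymm (mx ⟨x1, k⟩ x2) x2) id) zN z2
    (sq_one hA hz ▸ one_mem _)
  have i2 : ∀ {A : Subgroup G} {b}, Abelem 2 A → b ∈ A → b * b ∈ Q := fun hA hb => sq_one hA hb ▸ one_mem _
  have nz : ∀ {x}, x ∈ T → zpowers x ≤ N(Z) := fun k => zpowers_le' (s.n0 (tN k))
  have ax : Q ⊓ Cm Z (zpowers y) = Q ⊓ Cm Z (zpowers z) := eq_of_le_of_card_ge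
    (le_inf inf_le_left ((Cm_sup s.ea.norm (nz (bT hy)) (inf_le_left.trans s.cq) inf_le_right).trans
      (Cm_anti (zpowers_le' (e ▸ mul_mem (mem_sup_left hr) (mem_sup_right (mem_zpowers y)))))))
    (by rw [(tv h s c zN z2 (i2 hA hz)).1, (tv h s c (tN (bT hy)) y2 (i2 hB hy)).1])
  have ex : ∀ {A : Subgroup G}, A ≤ T → ¬ Q ⊓ Cm Z (zpowers z) ≤ Cm Z A →
      ∃ a ∈ A, ¬ Q ⊓ Cm Z (zpowers z) ≤ Cm Z (zpowers a) := fun aT k => by
    by_contra! k'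
    exact k fun w hw => ⟨s.ea.norm hw.1, fun a ha => (k' a ha hw).2 a (mem_zpowers a)⟩
  obtain ⟨a, ha, na⟩ := ex aT (al h s c el l (ty h).1 hA aT cA hz z2)
  obtain ⟨b, hb, nb⟩ := ex bT (ax ▸ al h s c el l (ty h).1 hB bT cB hy y2)
  have aN := tN (aT ha)
  have bN := tN (bT hb)
  obtain ⟨d1, d2⟩ := ce h s c aN (i2 hA ha) zN z2 (i2 hA hz) (by simp [mul_comm_of_comm hA.1 ha hz]) na
  obtain ⟨d3, d4⟩ := ce h s c bN (i2 hB hb) zN z2 (i2 hA hz) (by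
    have := mul_mem (conj_mem_of_norm (s.nV bN) hr) (inv_mem hr)
    convert this using 1
    rw [e]
    calc _ = b * r * (y * b⁻¹) * y⁻¹ * r⁻¹ := by group
      _ = _ := by rw [mul_comm_of_comm hB.1 hy (inv_mem hb)]; group) nb
  obtain ⟨r0, r1, r2⟩ := tv h s c zN z2 (i2 hA hz)
  set D := cm Q z ⊔ Z
  set W := Q ⊓ Cm Z (zpowers z)
  have nD : ∀ {x}, x ∈ N → x ∈ N(cm Q x ⊔ Z) := fun k =>
    norms_br (zpowers_le' (s.nV k)) le_normalizer (zpowers_le' (s.n0 k)) (mem_zpowers _)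
  have f : ∀ w x y : G, w * (x * y) * w⁻¹ * (x * y)⁻¹ = w * x * w⁻¹ * x⁻¹ * (x * (w * y * w⁻¹ * y⁻¹) * x⁻¹) :=
    fun w x y => by group
  have cz : ∀ {x v}, x ∈ N → x * v * x⁻¹ ∈ Z → v ∈ Z := fun k k' => by
    simpa [mul_assoc] using conj_mem_of_norm' (s.n0 k) k'
  have mD : ∀ w ∈ Q, w * a * w⁻¹ * a⁻¹ ∈ D ∧ w * b * w⁻¹ * b⁻¹ ∈ D ∧ w * z * w⁻¹ * z⁻¹ ∈ D := fun w hw =>
    ⟨d1 ▸ mem_sup_left (mem_cm hw), d3 ▸ mem_sup_left (mem_cm hw), mem_sup_left (mem_cm hw)⟩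
  have aD : a ∈ N(D) := d1 ▸ nD aN
  have m1 : ∀ {x w}, x ∈ N → w ∈ Q → (w ∈ Cm Z (zpowers x) ↔ w * x * w⁻¹ * x⁻¹ ∈ Z) := fun k k' =>
    (mem_Cm1 (s.n0 k)).trans (and_iff_right (s.ea.norm k'))
  have tb := (tv h s c bN (fun k => nb (inf_le_left.trans (s.cq.trans (Cm_anti (zpowers_le' k))))) (i2 hB hb)).2.2
  have ta := (tv h s c aN (fun k => na (inf_le_left.trans (s.cq.trans (Cm_anti (zpowers_le' k))))) (i2 hA ha)).2.2
  have wab : W ≤ Cm Z (zpowers (a * b)) := fun w hw => (m1 (mul_mem aN bN) hw.1).2 (by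
    rw [f]
    by_cases k : w ∈ D
    · exact mul_mem ((m1 aN hw.1).1 (ta (d1 ▸ k)).2) (conj_mem_of_norm (s.n0 aN) ((m1 bN hw.1).1 (tb (d3 ▸ k)).2))
    · exact odd2 le_sup_right r1 (mD w hw.1).1 (conj_mem_of_norm aD (mD w hw.1).2.1)
        (fun k' => k (d2 ⟨hw, (m1 aN hw.1).2 k'⟩)) fun k' => k (d4 ⟨hw, (m1 bN hw.1).2 (cz aN k')⟩))
  have H : Hyp W Q := hyp_of_card inf_le_left (by omega)
  obtain ⟨w, hw, w0⟩ := SetLike.exists_of_lt (lt_of_le_of_ne H.le H.ne)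
  have gen : ∀ {x}, x ∈ N → W ≤ Cm Z (zpowers x) → w ∈ Cm Z (zpowers x) → x ∈ Q := fun k k1 k2 => faith h s k
    (Cm_symm ((H.sup_eq (zpowers_le' hw) fun k => w0 (k (mem_zpowers w))).ge.trans (sup_le k1 (zpowers_le' k2)))
      (zpowers_le' (s.n0 k)) (mem_zpowers _))
  have bA : b ∈ A ⊔ Q := by
    by_cases k : w ∈ Cm Z (zpowers (a * b))
    · exact (mul_mem_cancel_left (mem_sup_left ha)).1 (mem_sup_right (gen (mul_mem aN bN) wab k))
    have := gen (mul_mem zN (mul_mem aN bN)) (fun v hv => (m1 (mul_mem zN (mul_mem aN bN)) hv.1).2 (by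
      rw [f]; exact mul_mem ((m1 zN hv.1).1 hv.2) (conj_mem_of_norm (s.n0 zN) ((m1 (mul_mem aN bN) hv.1).1 (wab hv)))))
      ((m1 (mul_mem zN (mul_mem aN bN)) hw).2 (by
        rw [f]
        exact odd2 le_sup_right r1 (mD w hw).2.2 (conj_mem_of_norm (nD zN) (f w a b ▸ mul_mem (mD w hw).1
          (conj_mem_of_norm aD (mD w hw).2.1))) (fun k' => w0 ⟨hw, (m1 zN hw).2 k'⟩)
          fun k' => k ((m1 (mul_mem aN bN) hw).2 (cz zN k'))))
    exact (mul_mem_cancel_left (mem_sup_left ha)).1 ((mul_mem_cancel_left (mem_sup_left hz)).1 (mem_sup_right this))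
  have bq : b ∉ Q := fun k => nb (inf_le_left.trans (s.cq.trans (Cm_anti (zpowers_le' k))))
  have := odd2 qI c4 ⟨bA, mem_sup_left hb⟩ ⟨mem_sup_left hz, zB⟩ bq z2
  exact nb ((Cm_sup s.ea.norm (nz (aT hz)) (inf_le_left.trans s.cq) inf_le_right).trans (Cm_anti (zpowers_le' (by
    simpa using mul_mem (mem_sup_left this : _ ∈ Q ⊔ zpowers z) (inv_mem (mem_sup_right (mem_zpowers z)))))))

end H14.MS
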