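import Cfsg.Agent.H14.MinusE
import Cfsg.Agent.H14.OmRep
import Cfsg.Prelude.Def_E6

/-! The isometry group of the cubic form in 27 variables is the universal Chevalley group of type E₆. -/

namespace H14

open Matrix RootSys PreSt St Cfsg Cfsg.Lie

set_option linter.unusedSectionVars false
set_option maxRecDepth 100000
set_option synthInstance.maxSize 10000

namespace Cub

section Ev

variable {ν F : Type*} [CommRing F] (M : List (ℤ × ν × ν × ν)) (x y z : ν → F)

/-- the trilinear form of a list of monomials -/
def ev : F := (M.map fun m => m.1 * x m.2.1 * y m.2.2.1 * z m.2.2.2).sum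

/-- first polarisation -/
def c3 : List (ℤ × ν × ν × ν) := M.flatMap fun m =>
  [m, (m.1, m.2.1, m.2.2.2, m.2.2.1), (m.1, m.2.2.1, m.2.2.2, m.2.1)]

/-- second polarisation -/
def c2 : List (ℤ × ν × ν × ν) := M.flatMap fun m => [m, (m.1, m.2.2.1, m.2.1, m.2.2.2)]

@[simp] theorem ev_nil : ev [] x y z = 0 := rfl

@[simp] theorem ev_cons (m : ℤ × ν × ν × ν) :
    ev (m :: M) x y z = m.1 * x m.2.1 * y m.2.2.1 * z m.2.2.2 + ev M x y z := rfl

theorem ev_polar (t : F) : ev M (x + t • y) (x + t • y) (x + t • y) =
    ev M x x x + t * ev (c3 M) x x y + t ^ 2 * ev (c3 M) y y x + t ^ 3 * ev M y y y := by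
  induction M with
  | nil => simp [c3]
  | cons m M ih => simp only [c3, List.flatMap_cons, List.cons_append, List.nil_append, ev_cons, Pi.add_apply,
      Pi.smul_apply, smul_eq_mul] at ih ⊢; rw [ih]; ring

theorem ev_polar' : ev M (x + y) (x + y) z = ev M x x z + ev M y y z + ev (c2 M) x y z := by
  induction M with
  | nil => simp [c2]
  | cons m M ih => simp only [c2, List.flatMap_cons, List.cons_append, List.nil_append, ev_cons, Pi.add_apply] at ih ⊢
                   rw [ih]; ring

theorem ev_symm : ev (c2 (c3 M)) x y z = ev (c2 (c3 M)) x z y := by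
  induction M with
  | nil => simp [c2, c3]
  | cons m M ih => simp only [c2, c3, List.flatMap_cons, List.cons_append, List.nil_append, ev_cons] at ih ⊢
                   rw [ih]; ring

theorem ev_smul (a b c : F) : ev M (a • x) (b • y) (c • z) = a * b * c * ev M x y z := by
  induction M with
  | nil => simp
  | cons m M ih => simp only [ev_cons, ih, Pi.smul_apply, smul_eq_mul]; ring

variable {M x y z}

theorem ev_eq_zero (h : ∀ m ∈ M, m.1 = 0 ∨ x m.2.1 = 0 ∨ y m.2.2.1 = 0 ∨ z m.2.2.2 = 0) : ev M x y z = 0 :=
  List.sum_eq_zero (List.forall_mem_map.2 fun m hm => by rcases h m hm with a | a | a | a <;> simp [a])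

theorem ev_filter (P : ℤ × ν × ν × ν → Bool) : ev M x y z = ev (M.filter P) x y z + ev (M.filter fun m => !P m) x y z := by
  induction M with
  | nil => simp
  | cons m M ih => cases h : P m <;> simp [h, ih, add_assoc, add_left_comm]

theorem ev_single [DecidableEq ν] {m : ℤ × ν × ν × ν}
    (h : M.filter (fun k => k.2.1 = m.2.1 ∧ k.2.2.1 = m.2.2.1) = [m]) :
    ev M (Pi.single m.2.1 1) (Pi.single m.2.2.1 1) z = m.1 * z m.2.2.2 := by
  rw [ev_filter fun k => k.2.1 = m.2.1 ∧ k.2.2.1 = m.2.2.1, h, ev_eq_zero (M := M.filter _) fun k hk => by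
    have := (List.mem_filter.1 hk).2
    simp only [Pi.single_apply]
    grind]
  simp

/-- the sorted and signless monomials -/
def key (M : List (ℤ × Fin 27 × Fin 27 × Fin 27)) (s : ℤ) : List (List (Fin 27)) :=
  (M.filter fun m => m.1 = s).map fun m => [m.2.1, m.2.2.1, m.2.2.2].insertionSort (· ≤ ·)

theorem ev_cancel {M : List (ℤ × Fin 27 × Fin 27 × Fin 27)} (h : ∀ m ∈ M, m.1 = 1 ∨ m.1 = -1 ∨ m.1 = 0)
    (h' : (key M 1).Perm (key M (-1))) (x : Fin 27 → F) : ev M x x x = 0 := by
  have : ev M x x x = ((key M 1).map fun l => (l.map x).prod).sum - ((key M (-1)).map fun l => (l.map x).prod).sum := by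
    clear h'
    induction M with
    | nil => simp [key]
    | cons m M ih =>
      have e := ((List.perm_insertionSort (· ≤ ·) [m.2.1, m.2.2.1, m.2.2.2]).map x).prod_eq
      rw [ev_cons, ih fun k hk => h k (List.mem_cons_of_mem _ hk)]
      rcases h m List.mem_cons_self with a | a | a <;>
        simp only [key, List.filter_cons, a, decide_true, decide_false, Int.reduceEq, Int.reduceNeg, if_true, if_false,
          List.map_cons, List.sum_cons, e, List.map_nil, List.prod_cons, List.prod_nil, Bool.false_eq_true] <;>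
        push_cast <;> ring
  rw [this, (h'.map _).sum_eq, sub_self]

end Ev

/-- the 45 monomials -/
def L : List (ℤ × Fin 27 × Fin 27 × Fin 27) :=
  [(1, 0, 12, 26), (1, 0, 15, 25), (1, 0, 17, 24), (1, 0, 19, 23), (-1, 0, 21, 22), (1, 1, 10, 26), (1, 1, 13, 25), (1, 1, 16, 24), (1, 1, 18, 23), (-1, 1, 20, 22), (1, 2, 8, 26), (1, 2, 11, 25), (1, 2, 14, 24), (1, 2, 18, 21), (-1, 2, 19, 20), (-1, 3, 6, 26), (-1, 3, 9, 25), (1, 3, 14, 23), (-1, 3, 16, 21), (1, 3, 17, 20), (1, 4, 5, 26), (1, 4, 7, 25), (1, 4, 14, 22), (-1, 4, 16, 19), (1, 4, 17, 18), (-1, 5, 9, 24), (-1, 5, 11, 23), (1, 5, 13, 21), (-1, 5, 15, 20), (1, 6, 7, 24), (-1, 6, 11, 22), (1, 6, 13, 19), (-1, 6, 15, 18), (1, 7, 8, 23), (-1, 7, 10, 21), (1, 7, 12, 20), (1, 8, 9, 22), (-1, 8, 13, 17), (1, 8, 15, 16), (-1, 9, 10, 19), (1, 9, 12, 18), (1, 10, 11, 17), (-1, 10, 14, 15), (-1, 11, 12, 16), (1, 12, 13, 14)]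

/-- inner products of weights -/
def ip (a b : Fin 27) : ℤ := sd4 0x877777777777776767676666666787777777776767676767766666778777777667677776766677666777877766777677677667676766777786677777677676676767766777768776767767767767676676777767867676776777767676667777677687767767766776767676777676778676776776776767667776777676877767667677766776776776767786776677677766767767777676768677767676677776776667777776866767777766677767776767677686777676677767677777676767668676767777776767667777667776867776677677677776767676677686767777767766767766777776768677676777677667777666767776867777677766676677777776767686767777676767766776767677768776777676676677776767676777867777667767766667677777767687777667676677667677776776778777666776666777677677677777877666667676767767767777777787666666767676776777777777778 (27 * a + b)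

theorem ip_eq : ∀ a b, ip a b = (minE6.γ b - minE6.γ a) ⬝ᵥ minE6.wt a := by decide +kernel

theorem ip_cases : ∀ a b, (ip a b = 0 ∧ b = a) ∨ ip a b = -1 ∨ ip a b = -2 := by decide +kernel

theorem exists_root : ∀ a b, ip a b = -1 → ∃ r, minE6.γ b = minE6.γ a + goodE6.R.cf r := by decide +kernel

theorem L6_spec : ∀ m ∈ c2 (c3 L), (c2 (c3 L)).filter (fun k => k.2.1 = m.2.1 ∧ k.2.2.1 = m.2.2.1) = [m] ∧
    m.1 * m.1 = 1 ∧ ip m.2.1 m.2.2.1 = -2 ∧ ip m.2.1 m.2.2.2 = -2 := by decide +kernel

theorem L6_ex : ∀ a b, ip a b = -2 → (∃ m ∈ c2 (c3 L), m.2.1 = a ∧ m.2.2.1 = b) ∧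
    ∃ m ∈ c2 (c3 L), m.2.1 = a ∧ m.2.2.2 = b := by decide +kernel

theorem L3_spec : ∀ m ∈ c3 L, m.2.1 ≠ m.2.2.1 ∧ ∀ a, ip a m.2.2.2 = -2 → ip a m.2.1 ≠ -2 ∨ ip a m.2.2.1 ≠ -2 := by
  decide +kernel

/-- the simple roots and their negatives -/
noncomputable def gen (i : Fin 12) : Fin chevE6.nroots := ([56, 46, 42, 39, 37, 36, 15, 25, 29, 32, 34, 35] : List _).getD i 0

/-- table -/
def src (i : Fin 12) (b : Fin 27) : Fin 27 := Fin.ofNat 27 (dig 8 0x19000000000000000000000c000a000800060005000000000000000018000000000000000f0d000b0000000000000004030000000000000017000000001110000000000000090000060000000002000000000000151300000000000e00000b0000080000000000000001000000000016001312000000000000000000000700000500030000000000000000001400120010000d00000a000000000000000000000000001a0000000000000000000000000f000d000b00090700000000000000190000000000000000110010000e000000000000060500000000000018000000000013120000000000000b0000080000000300000000000000170016000000001000000d00000a0000000000000200000000001700001514000000000000000000000900060004000000000000000000150013001100000f00000c00000000000000000001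 (27 * i + b))

/-- table -/
def sgn (i : Fin 12) (b : Fin 27) : ℤ := sd4 0x988888888887878787878888888898888888778788888887788888889888877888888788788887888888998888898898898888888788888787788888888889889898888888889898989889888888888878898888888888887878787788888889888888887878788888877888888988888778888887887888788888889898888988988988888878888878877888888888898989888888888989898898898888888887 (27 * i + b)

theorem E1_gen : ∀ i, repE6.E1 (gen i) = Matrix.of fun b a => if a = src i b then sgn i b else 0 := by decide +kernel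

theorem gen_simple : ∀ j, (∃ i, goodE6.R.simple j = gen i) ∧ ∃ i, goodE6.R.neg (goodE6.R.simple j) = gen i := by
  decide +kernel

theorem gen_spec : ∀ i, (∀ m ∈ c3 L, sgn i m.2.1 = 0 ∨ sgn i m.2.2.1 = 0) ∧
    (∀ m ∈ L, sgn i m.2.1 = 0 ∨ sgn i m.2.2.1 = 0) ∧ (∀ M, M = (c3 L).map
      (fun m => (m.1 * sgn i m.2.2.2, m.2.1, m.2.2.1, src i m.2.2.2)) → (∀ m ∈ M, m.1 = 1 ∨ m.1 = -1 ∨ m.1 = 0) ∧
        (key M 1).Perm (key M (-1))) := by
  simp only [forall_eq]
  decide +kernel

end Cub

end H14
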