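import Cfsg.Agent.H14.Cub

/-! The isometry group of the cubic form in 27 variables is the universal Chevalley group of type E₆ (part 2). -/

namespace H14

open Matrix RootSys PreSt St Cfsg Cfsg.Lie

set_option linter.unusedSectionVars false
set_option maxRecDepth 100000
set_option synthInstance.maxSize 10000

namespace Cub

variable {F : Type*} [Field F]

variable (F) in
/-- the isometry group -/
def Γ : Subgroup (GL (Fin 27) F) := funStab F fun x => ev L x x x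

variable (F) in
/-- the Chevalley group -/
noncomputable abbrev G0 : Subgroup (GL (Fin 27) F) := (repE6.st F).U Set.univ

theorem mem_Γ {g : GL (Fin 27) F} : g ∈ Γ F ↔ ∀ x, ev L (g.1 *ᵥ x) (g.1 *ᵥ x) (g.1 *ᵥ x) = ev L x x x := Iff.rfl

theorem inv3 (hF : ∃ a : F, a ≠ 0 ∧ a ≠ 1) {g : GL (Fin 27) F} (hg : g ∈ Γ F) (x y : Fin 27 → F) :
    ev (c3 L) (g.1 *ᵥ x) (g.1 *ᵥ x) (g.1 *ᵥ y) = ev (c3 L) x x y := by
  obtain ⟨a, a0, a1⟩ := hF
  have h := fun t : F => mem_Γ.1 hg (x + t • y)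
  simp only [mulVec_add, mulVec_smul, ev_polar, mem_Γ.1 hg x, mem_Γ.1 hg y] at h
  exact mul_left_cancel₀ (mul_ne_zero a0 (sub_ne_zero.2 a1)) (by linear_combination a ^ 2 * h 1 - h a)

theorem inv6 (hF : ∃ a : F, a ≠ 0 ∧ a ≠ 1) {g : GL (Fin 27) F} (hg : g ∈ Γ F) (x y z : Fin 27 → F) :
    ev (c2 (c3 L)) (g.1 *ᵥ x) (g.1 *ᵥ y) (g.1 *ᵥ z) = ev (c2 (c3 L)) x y z := by
  have h := inv3 hF hg (x + y) z
  rw [mulVec_add, ev_polar', ev_polar', inv3 hF hg, inv3 hF hg] at h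
  exact add_left_cancel h

theorem X_mulVec (r : Fin chevE6.nroots) (t : F) (y : Fin 27 → F) :
    repE6.X r t *ᵥ y = y + t • (cm F (repE6.E1 r) *ᵥ y) := by
  rw [Rep.X, xexp, show repE6.E2 r = 0 from rfl, show repE6.E3 r = 0 from rfl]
  simp [add_mulVec, smul_mulVec]

theorem ev_map {ν : Type*} (M : List (ℤ × ν × ν × ν)) (s : ν → ℤ) (p : ν → ν) (x : ν → F) :
    ev M x x (fun b => s b * x (p b)) = ev (M.map fun m => (m.1 * s m.2.2.2, m.2.1, m.2.2.1, p m.2.2.2)) x x x := by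
  induction M with
  | nil => rfl
  | cons m M ih => simp only [List.map_cons, ev_cons, ih]; push_cast; ring

theorem G0_le : G0 F ≤ Γ F := by
  have h : ∀ i t, (repE6.st F).x (gen i) t ∈ Γ F := fun i t => mem_Γ.2 fun x => by
    have e : cm F (repE6.E1 (gen i)) *ᵥ x = fun b => sgn i b * x (src i b) := funext fun b => by
      simp [E1_gen, mulVec, dotProduct]
    obtain ⟨h1, h2, h3⟩ := gen_spec i
    rw [Rep.coe_st_x, X_mulVec, e, ev_polar, ev_map, ev_cancel (h3 _ rfl).1 (h3 _ rfl).2,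
      ev_eq_zero (M := c3 L) fun m hm => by rcases h1 m hm with a | a <;> simp [a],
      ev_eq_zero (M := L) (x := fun b => sgn i b * x (src i b)) fun m hm => by rcases h2 m hm with a | a <;> simp [a]]
    simp
  refine (U_mono fun r _ => goodE6.R.inJ_univ r).trans (U_le_of_simple fun j _ t => ?_)
  obtain ⟨⟨i, e⟩, k, e'⟩ := gen_simple j
  exact ⟨e ▸ h i t, e' ▸ h k t⟩

/-- the sign data -/
noncomputable def ed : EpsData goodE6.R := okE6.epsData ok3E6 okEE6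

/-- the coefficient of a root element -/
noncomputable def cf (r : Fin chevE6.nroots) (a : Fin 27) : F := (ed.c r * minE6.eps ed r a : ℤ)

theorem cf_ne (r : Fin chevE6.nroots) (a : Fin 27) : (cf r a : F) ≠ 0 := fun h => by
  have := congrArg (Int.cast (R := F)) (congrArg₂ (· * ·) (ed.c_sq r) (minE6.eps_sq ed r a))
  rw [mul_mul_mul_comm, Int.cast_mul, ← cf, h] at this
  simp at this

theorem X_apply (r : Fin chevE6.nroots) (t : F) (y : Fin 27 → F) (b : Fin 27) : (repE6.X r t *ᵥ y) b =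
    y b + t * ∑ a, if minE6.γ b = minE6.γ a + goodE6.R.cf r then cf r a * y a else 0 := by
  rw [X_mulVec]
  simp [mulVec, dotProduct, repE6, Minus.rep, Minus.E1, cf, ed]

theorem X_of {r : Fin chevE6.nroots} {a b : Fin 27} (h : minE6.γ b = minE6.γ a + goodE6.R.cf r) (t : F) (y : Fin 27 → F) :
    (repE6.X r t *ᵥ y) b = y b + t * (cf r a * y a) := by
  rw [X_apply, Finset.sum_eq_single a (fun c _ hc => if_neg fun e => hc (minE6.γ_inj (add_right_cancel (e.symm.trans h))))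
    (by simp), if_pos h]

theorem X_of_not {r : Fin chevE6.nroots} {b : Fin 27} {y : Fin 27 → F}
    (h : ∀ a, minE6.γ b = minE6.γ a + goodE6.R.cf r → y a = 0) (t : F) : (repE6.X r t *ᵥ y) b = y b := by
  rw [X_apply, Finset.sum_eq_zero fun a _ => by split_ifs with e <;> simp [h a, *]]
  simp

theorem ip_add {r : Fin chevE6.nroots} {a b : Fin 27} (h : minE6.γ b = minE6.γ a + goodE6.R.cf r) (j : Fin 27) :
    ip j b = ip j a + minE6.pr r j := by
  rw [ip_eq, ip_eq, h, Minus.pr, co_eq_cf ed.hd, add_sub_right_comm, add_dotProduct]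

/-- `g` fixes the coordinate lines in `J` -/
def Fix (J : List (Fin 27)) (g : GL (Fin 27) F) : Prop := ∀ j ∈ J, ∃ c : F, g.1 *ᵥ Pi.single j 1 = c • Pi.single j 1

/-- the root from `c` to `b` fixes the basis vectors in `J` -/
abbrev Ok (J : List (Fin 27)) (c b : Fin 27) : Prop := ip c b = -1 ∧ ∀ j ∈ J, ip j b ≠ ip j c - 1

/-- the possible support of the image of the next basis vector -/
abbrev Om (J : List (Fin 27)) (μ a : Fin 27) : Prop := ∀ j ∈ J, ip j μ = -2 ∨ ip j a ≠ -2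

/-- `ν` can be moved to `μ` -/
abbrev Mv (J : List (Fin 27)) (μ ν : Fin 27) : Prop := ν = μ ∨ Ok J ν μ ∨ ∃ a, Ok J ν a ∧ Ok J a μ

/-- the condition for fixing one more coordinate line -/
abbrev Chk (J : List (Fin 27)) (μ : Fin 27) : Prop := (∀ a, Om J μ a → ip μ a = -1 → Ok J μ a) ∧
  ((∃ m ∈ c2 (c3 L), m.2.1 ∈ J ∧ m.2.2.1 ∈ J ∧ m.2.2.2 = μ) ∨ (∀ a, Om J μ a → Mv J μ a) ∨
    ∃ j ∈ J, ip j μ = -2 ∧ ∀ a, Om J μ a → ip j a = -2 → Mv J μ a)

/-- all steps -/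
def chk : List (Fin 27) → Bool
  | [] => true
  | μ :: J => decide (Chk J μ) && chk J

theorem chk_all : chk [25, 24, 23, 22, 21, 20, 19, 18, 17, 16, 15, 14, 13, 11, 9, 5, 4, 7, 26, 6, 3, 8, 2, 10, 1, 12, 0] = true := by
  decide +kernel

variable {J : List (Fin 27)} {g : GL (Fin 27) F} {μ : Fin 27}

theorem Fix.mul (hg : Fix J g) {r : Fin chevE6.nroots} {a b : Fin 27} (h : minE6.γ b = minE6.γ a + goodE6.R.cf r)
    (ho : Ok J a b) (t : F) : Fix J ((repE6.st F).x r t * g) := fun j hj => by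
  obtain ⟨c, e⟩ := hg j hj
  refine ⟨c, ?_⟩
  rw [Units.val_mul, ← mulVec_mulVec, e, mulVec_smul]
  refine congrArg _ (funext fun k => X_of_not (fun a' e' => Pi.single_eq_of_ne (fun e'' => ho.2 j hj ?_) _) t)
  rw [ip_add h, ← e'', Minus.pr_eq_of e']
  rfl

/-- `g` can be replaced by a translate with property `P` -/
def Red (J : List (Fin 27)) (g : GL (Fin 27) F) (P : GL (Fin 27) F → Prop) : Prop := ∃ u ∈ G0 F, Fix J (u * g) ∧ P (u * g)

theorem Red.refl {P : GL (Fin 27) F → Prop} (hg : Fix J g) (h : P g) : Red J g P := ⟨1, one_mem _, by simpa using ⟨hg, h⟩⟩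

theorem Red.trans {P Q : GL (Fin 27) F → Prop} (h : Red J g P) (hg : g ∈ Γ F)
    (h' : ∀ k ∈ Γ F, Fix J k → P k → Red J k Q) : Red J g Q := by
  obtain ⟨u, hu, a, b⟩ := h
  obtain ⟨v, hv, c⟩ := h' _ (mul_mem (G0_le hu) hg) a b
  exact ⟨v * u, mul_mem hv hu, by rwa [mul_assoc]⟩

theorem move (hg : Fix J g) {a b : Fin 27} (ho : Ok J a b) {y : Fin 27 → F} (h : (g.1 *ᵥ y) a ≠ 0) :
    Red J g fun k => (k.1 *ᵥ y) b ≠ 0 := by
  by_cases e : (g.1 *ᵥ y) b = 0
  · obtain ⟨r, hr⟩ := exists_root a b ho.1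
    refine ⟨_, x_mem_U (Set.mem_univ r) 1, hg.mul hr ho 1, ?_⟩
    beta_reduce
    rw [Units.val_mul, ← mulVec_mulVec, Rep.coe_st_x, X_of hr, e, zero_add, one_mul]
    exact mul_ne_zero (cf_ne r a) h
  · exact .refl hg e

theorem Mv.red (hΓ : g ∈ Γ F) (hg : Fix J g) {a : Fin 27} (ho : Mv J μ a) {y : Fin 27 → F} (h : (g.1 *ᵥ y) a ≠ 0) :
    Red J g fun k => (k.1 *ᵥ y) μ ≠ 0 := by
  rcases ho with rfl | ho | ⟨b, h1, h2⟩
  exacts [.refl hg h, move hg ho h, (move hg h1 h).trans hΓ fun k _ hk h => move hk h2 h]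

theorem Fix.ne (g : GL (Fin 27) F) {j : Fin 27} {c : F} (e : g.1 *ᵥ Pi.single j 1 = c • Pi.single j 1) : c ≠ 0 := fun h => by
  have := congrArg (g⁻¹.1 *ᵥ ·) e
  simp only [mulVec_mulVec, Units.inv_mul, one_mulVec, h, zero_smul, mulVec_zero] at this
  simpa using congrFun this j

theorem f_single {m : ℤ × Fin 27 × Fin 27 × Fin 27} (hm : m ∈ c2 (c3 L)) (z : Fin 27 → F) :
    ev (c2 (c3 L)) (Pi.single m.2.1 1) (Pi.single m.2.2.1 1) z = m.1 * z m.2.2.2 := ev_single (L6_spec m hm).1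

theorem sgn_ne {m : ℤ × Fin 27 × Fin 27 × Fin 27} (hm : m ∈ c2 (c3 L)) : (m.1 : F) ≠ 0 := fun h => by
  have := congrArg (Int.cast (R := F)) (L6_spec m hm).2.1
  simp [h] at this

theorem f_zero {j : Fin 27} {y : Fin 27 → F} (h : ∀ a, ip j a = -2 → y a = 0) (z : Fin 27 → F) :
    ev (c2 (c3 L)) (Pi.single j 1) y z = 0 := ev_eq_zero fun m hm => by
  by_cases e : m.2.1 = j
  · exact .inr (.inr (.inl (h _ (e ▸ (L6_spec m hm).2.2.1))))
  · exact .inr (.inl (Pi.single_eq_of_ne e _))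

theorem mulVec_inv (g : GL (Fin 27) F) (z : Fin 27 → F) : g.1 *ᵥ (g⁻¹.1 *ᵥ z) = z := by
  rw [mulVec_mulVec, Units.mul_inv, one_mulVec]

section
variable (hF : ∃ a : F, a ≠ 0 ∧ a ≠ 1) (hΓ : g ∈ Γ F) (hg : Fix J g)
include hF hΓ hg

theorem supp {a : Fin 27} (h : (g.1 *ᵥ Pi.single μ 1) a ≠ 0) : Om J μ a := fun j hj => by
  by_contra! h1
  obtain ⟨m, hm, rfl, rfl⟩ := (L6_ex j a h1.2).2
  obtain ⟨c, e⟩ := hg _ hj
  have := inv6 hF hΓ (Pi.single m.2.1 1) (Pi.single μ 1) (g⁻¹.1 *ᵥ Pi.single m.2.2.1 1)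
  rw [f_zero (y := Pi.single μ 1) fun b hb => Pi.single_eq_of_ne (fun e : b = μ => h1.1 (e ▸ hb)) _, mulVec_inv, ev_symm, e,
    ← one_smul F (Pi.single m.2.2.1 1), ← one_smul F (g.1 *ᵥ _), ev_smul, f_single hm] at this
  simp [Fix.ne g e, sgn_ne hm, -mulVec_single, h] at this

theorem step1 (h : Chk J μ) : Red J g fun k => (k.1 *ᵥ Pi.single μ 1) μ ≠ 0 := by
  rcases h.2 with ⟨m, hm, h1, h2, rfl⟩ | h | ⟨j, hj, h1, h⟩
  · obtain ⟨c, e⟩ := hg _ h1
    obtain ⟨c', e'⟩ := hg _ h2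
    refine .refl hg fun h => sgn_ne (F := F) hm ?_
    have := inv6 hF hΓ (Pi.single m.2.1 1) (Pi.single m.2.2.1 1) (Pi.single m.2.2.2 1)
    rw [e, e', ← one_smul F (g.1 *ᵥ _), ev_smul, f_single hm, f_single hm, h] at this
    simpa using this.symm
  · obtain ⟨a, ha⟩ := Function.ne_iff.1 fun e : g.1 *ᵥ Pi.single μ 1 = 0 => Fix.ne g (j := μ) (by rw [e, zero_smul]) rfl
    exact (h a (supp hF hΓ hg ha)).red hΓ hg ha
  · obtain ⟨m, hm, rfl, rfl⟩ := (L6_ex j μ h1).1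
    obtain ⟨c, e⟩ := hg _ hj
    have := inv6 hF hΓ (Pi.single m.2.1 1) (Pi.single m.2.2.1 1) (Pi.single m.2.2.2 1)
    by_contra h2
    rw [e, ← one_smul F (g.1 *ᵥ Pi.single m.2.2.1 1), ← one_smul F (g.1 *ᵥ Pi.single m.2.2.2 1), ev_smul, f_single hm,
      f_zero fun a ha => not_not.1 fun hb => h2 ((h a (supp hF hΓ hg hb) ha).red hΓ hg hb)] at this
    exact sgn_ne (F := F) hm (by simpa using this.symm)

theorem step2 (h : Chk J μ) (s : Finset (Fin 27)) :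
    Red J g fun k => (k.1 *ᵥ Pi.single μ 1) μ ≠ 0 ∧ ∀ a ∈ s, ip μ a = -1 → (k.1 *ᵥ Pi.single μ 1) a = 0 := by
  induction s using Finset.induction with
  | empty => simpa using step1 hF hΓ hg h
  | insert a s _ ih =>
    refine ih.trans hΓ fun k hk hk' ⟨h1, h2⟩ => ?_
    by_cases e : ip μ a = -1 → (k.1 *ᵥ Pi.single μ 1) a = 0
    · exact .refl hk' ⟨h1, Finset.forall_mem_insert _ _ _ |>.2 ⟨e, h2⟩⟩
    push Not at e
    obtain ⟨r, hr⟩ := exists_root μ a e.1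
    have h3 := fun b c (hb : minE6.γ b = minE6.γ c + goodE6.R.cf r) => (ip_add hb μ).trans (by rw [Minus.pr_eq_of hr])
    refine ⟨_, x_mem_U (Set.mem_univ r) (-(k.1 *ᵥ Pi.single μ 1) a / (cf r μ * (k.1 *ᵥ Pi.single μ 1) μ)),
      hk'.mul hr (h.1 a (supp hF hk hk' e.2) e.1) _, ?_⟩
    beta_reduce
    rw [Units.val_mul, ← mulVec_mulVec, Rep.coe_st_x, X_of_not fun c hc => by
      have := h3 _ _ hc; have := ip_cases μ μ; have := ip_cases μ c; have := ip_eq μ μ; simp at this; omega]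
    refine ⟨h1, fun b hb hb' => ?_⟩
    by_cases e' : b = a
    · rw [e', X_of hr, div_mul_cancel₀ _ (mul_ne_zero (cf_ne r μ) h1), add_neg_cancel]
    · rw [X_of_not fun c hc => ?_, h2 b (by simpa [e'] using hb) hb']
      have := h3 _ _ hc
      obtain ⟨-, rfl⟩ | _ | _ := ip_cases μ c
      exacts [absurd (minE6.γ_inj (hc.trans hr.symm)) e', by omega, by omega]

theorem step3 (h : Chk J μ) : Red J g (Fix [μ]) := by
  obtain ⟨u, hu, h1, h2, h3⟩ := step2 hF hΓ hg h Finset.univ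
  have h4 := fun z => inv3 hF (mul_mem (G0_le hu) hΓ) (Pi.single μ 1) ((u * g)⁻¹.1 *ᵥ z)
  refine ⟨u, hu, h1, List.forall_mem_singleton.2 ⟨((u * g).1 *ᵥ Pi.single μ 1) μ, ?_⟩⟩
  simp only [mulVec_inv] at h4
  generalize (u * g).1 *ᵥ Pi.single μ 1 = x at h2 h3 h4 ⊢
  have d0 : ∀ z : Fin 27 → F, ev (c3 L) (Pi.single μ 1) (Pi.single μ 1) z = 0 := fun z => ev_eq_zero fun m hm => by
    have := (L3_spec m hm).1
    simp only [Pi.single_apply]
    grind
  obtain ⟨y, hy⟩ : ∃ y, y = x - x μ • Pi.single μ 1 := ⟨_, rfl⟩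
  have h5 : ∀ a, ip μ a ≠ -2 → y a = 0 := fun a ha => by
    obtain ⟨-, rfl⟩ | e | e := ip_cases μ a
    · simp [hy]
    · have : a ≠ μ := by rintro rfl; simp [ip_eq] at e
      simp [hy, this, h3 a (Finset.mem_univ a) e]
    · exact absurd e ha
  refine sub_eq_zero.1 (hy ▸ funext fun a => not_not.1 fun ha => ?_)
  obtain ⟨m, hm, rfl, rfl⟩ := (L6_ex μ a (not_not.1 fun e => ha (h5 a e))).2
  have := h4 (Pi.single m.2.2.1 1)
  rw [d0, eq_add_of_sub_eq' hy.symm, ev_polar', ev_symm, ← one_smul F (Pi.single m.2.2.1 1), ← one_smul F y, ev_smul,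
    ev_smul, ev_smul, d0, f_single hm, ev_eq_zero fun k hk => by
      by_cases e : k.2.2.2 = m.2.2.1
      · rcases (L3_spec k hk).2 _ (e ▸ (L6_spec m hm).2.2.1) with a | a <;> simp [h5 _ a]
      · simp [e]] at this
  simp_all [sgn_ne hm]

end

theorem red (hF : ∃ a : F, a ≠ 0 ∧ a ≠ 1) : ∀ {l : List (Fin 27)}, chk l = true → (∀ g ∈ Γ F, Fix l g → g ∈ G0 F) →
    Γ F ≤ G0 F
  | [], _, h => fun g hg => h g hg (by simp [Fix])
  | μ :: J, hc, h => by
    rw [chk, Bool.and_eq_true, decide_eq_true_iff] at hc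
    refine red hF hc.2 fun g hg hg' => ?_
    obtain ⟨u, hu, a, b⟩ := step3 hF hg hg' hc.1
    exact (mul_mem_cancel_left hu).1 (h _ (mul_mem (G0_le hu) hg) (List.forall_mem_cons.2 ⟨b _ (by simp), a⟩))

/-- propagation along the monomials -/
def chk1 (S : List (Fin 27)) : List (Fin 27) → Bool
  | [] => true
  | μ :: J => decide (μ ∈ S ∨ ∃ m ∈ c2 (c3 L), m.2.1 ∈ J ∧ m.2.2.1 ∈ J ∧ m.2.2.2 = μ) && chk1 S J

theorem eq_one {S : List (Fin 27)} {c : Fin 27 → F} (h : ∀ m ∈ c2 (c3 L), c m.2.1 * c m.2.2.1 * c m.2.2.2 = 1)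
    (hS : ∀ a ∈ S, c a = 1) : ∀ {l : List (Fin 27)}, chk1 S l = true → ∀ a ∈ l, c a = 1
  | [], _ => by simp
  | μ :: J, hc => by
    rw [chk1, Bool.and_eq_true, decide_eq_true_iff] at hc
    have ih := eq_one h hS hc.2
    refine List.forall_mem_cons.2 ⟨hc.1.elim (hS μ) fun ⟨m, hm, h1, h2, e⟩ => ?_, ih⟩
    simpa [ih _ h1, ih _ h2, e] using h m hm

theorem Γ_eq (hF : ∃ a : F, a ≠ 0 ∧ a ≠ 1) : Γ F = G0 F := by
  refine le_antisymm (red hF chk_all fun g hg hf => ?_) G0_le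
  choose c hc using fun j => hf j (by revert j; decide)
  let S : Fin chevE6.rank → Fin 27 := fun i => [0, 1, 2, 3, 5, 9].getD i 0
  have hB : lmat _ [[1, 0, 1, 1, 1, 1], [0, 0, 1, 1, 1, 1], [0, 0, 0, 1, 1, 1], [0, 1, 0, 0, 0, -1], [0, 1, 0, 0, -1, -1],
    [0, 1, 0, 0, -1, -2]] * (Matrix.of fun i j => repE6.wt (S j) i) = 1 := by decide +kernel
  obtain ⟨t, ht⟩ : ∃ t, ∀ j, ((∏ i, t i ^ repE6.wt (S j) i : Fˣ) : F) * c (S j) = 1 :=
    ⟨mpow Fˣ _ fun j => (Units.mk0 _ (Fix.ne g (hc (S j))))⁻¹, fun j => by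
      have := congrFun ((mpow_mul _ _ fun j => (Units.mk0 _ (Fix.ne g (hc (S j))))⁻¹).symm.trans
        (by rw [hB, mpow_one])) j
      rw [mpow_apply] at this
      simp only [of_apply] at this
      rw [this]
      exact inv_mul_cancel₀ (Fix.ne g (hc (S j)))⟩
  have hu : (repE6.hmul F).tor t ∈ G0 F := H_le_U ((repE6.hmul F).range_tor.le ⟨t, rfl⟩)
  have e : ∀ j, ((repE6.hmul F).tor t * g).1 *ᵥ Pi.single j 1 =
      (((∏ i, t i ^ repE6.wt j i : Fˣ) : F) * c j) • Pi.single j 1 := fun j => by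
    rw [Units.val_mul, ← mulVec_mulVec, hc, mulVec_smul, Rep.coe_tor, diagonal_mulVec_single, mul_one, mul_comm, mul_smul]
    simp [← Pi.single_smul']
  have := eq_one (S := [0, 1, 2, 3, 5, 9]) (c := fun j => ((∏ i, t i ^ repE6.wt j i : Fˣ) : F) * c j) (fun m hm => by
    have := inv6 hF (mul_mem (G0_le hu) hg) (Pi.single m.2.1 1) (Pi.single m.2.2.1 1) (Pi.single m.2.2.2 1)
    rw [e, e, e, ev_smul, f_single hm, Pi.single_eq_same, mul_one] at this
    exact (mul_eq_right₀ (sgn_ne hm)).1 this) (fun a ha => by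
      obtain ⟨j, rfl⟩ : ∃ j, S j = a := by revert a; decide
      exact ht j) (l := [26, 7, 4, 6, 12, 10, 8, 18, 19, 22, 23, 21, 20, 14, 11, 16, 13, 17, 15, 24, 25, 9, 5, 3, 2, 1, 0])
    (by decide +kernel)
  refine (mul_mem_cancel_left hu).1 ?_
  rw [show _ * g = 1 from Units.ext (Minus.ext_single fun j => by rw [e, this j (by revert j; decide), one_smul, Units.val_one, one_mulVec])]
  exact one_mem _

theorem exists_conj {ι ν : Type} [Fintype ι] [DecidableEq ι] [Fintype ν] [DecidableEq ν] (P : Matrix ι ν F)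
    (Q : Matrix ν ι F) (h1 : P * Q = 1) (h2 : Q * P = 1) (f : (ι → F) → F) :
    ∃ j : funStab F f →* GL ν F, Function.Injective j ∧ j.range = funStab F fun x => f (P *ᵥ x) := by
  let Φ : Matrix ι ι F ≃* Matrix ν ν F :=
    { toFun A := Q * A * P
      invFun B := P * B * Q
      left_inv A := by simp only [← Matrix.mul_assoc, h1]; rw [Matrix.mul_assoc, h1]; simp
      right_inv A := by simp only [← Matrix.mul_assoc, h2]; rw [Matrix.mul_assoc, h2]; simp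
      map_mul' A B := by simp only [← Matrix.mul_assoc]; rw [Matrix.mul_assoc _ P, h1]; simp }
  refine ⟨(Units.mapEquiv Φ).toMonoidHom.comp (Subgroup.subtype _),
    (Units.mapEquiv Φ).injective.comp Subtype.val_injective, ?_⟩
  ext g
  constructor
  · rintro ⟨k, rfl⟩ x
    change f (P *ᵥ (Q * k.1.1 * P) *ᵥ x) = _
    rw [← mulVec_mulVec, ← mulVec_mulVec, mulVec_mulVec _ P, h1, one_mulVec]
    exact k.2 _
  · refine fun h => ⟨⟨(Units.mapEquiv Φ).symm g, fun x => ?_⟩, (Units.mapEquiv Φ).apply_symm_apply g⟩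
    change f ((P * g.1 * Q) *ᵥ x) = _
    rw [← mulVec_mulVec, ← mulVec_mulVec]
    exact (h _).trans (by beta_reduce; rw [mulVec_mulVec, h1, one_mulVec])

/-- the coordinate permutation -/
def τ (i : I27) : Fin 27 := ![![![0, 1, 2], ![20, 21, 23], ![18, 19, 22]], ![![17, 15, 12], ![16, 13, 10], ![14, 11, 8]],
  ![![24, 3, 4], ![25, 5, 6], ![26, 7, 9]]] i.1 i.2.1 i.2.2

/-- the coordinate signs -/
def η (i : I27) : ℤ := ![![![1, 1, 1], ![-1, 1, -1], ![-1, 1, -1]], ![![1, -1, 1], ![1, -1, 1], ![1, -1, 1]],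
  ![![-1, 1, 1], ![1, 1, 1], ![-1, 1, 1]]] i.1 i.2.1 i.2.2

/-- the coordinate change -/
def Pm : Matrix I27 (Fin 27) ℤ := Matrix.of fun i a => if a = τ i then η i else 0

theorem cubic_eq (x : Fin 27 → F) : cubicT ((Pm.map (Int.castRingHom F)) *ᵥ x) = ev L x x x := by
  have : (Pm.map (Int.castRingHom F)) *ᵥ x = fun i => η i * x (τ i) := funext fun i => by simp [Pm, mulVec, dotProduct]
  rw [this]
  simp [cubicT, mat3, det_fin_three, trace_fin_three, mul_apply, Fin.sum_univ_three, τ, η, L]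
  ring

theorem main (hF : ∃ a : F, a ≠ 0 ∧ a ≠ 1) : Nonempty (E6 F ≃* chevE6.group F) := by
  obtain ⟨j, hj, e⟩ := exists_conj (Pm.map (Int.castRingHom F)) (Pmᵀ.map (Int.castRingHom F))
    (by rw [← Matrix.map_mul, show Pm * Pmᵀ = 1 by decide +kernel]; simp)
    (by rw [← Matrix.map_mul, show Pmᵀ * Pm = 1 by decide +kernel]; simp) cubicT
  simp only [cubic_eq] at e
  exact ⟨(goodE6.equiv_of_rep repE6 (fun r => by
    obtain ⟨a, h⟩ : ∃ a, minE6.pr r a = -1 := by revert r; decide +kernel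
    refine ⟨minE6.up r a, a, (congrArg (· ^ 2) (if_pos (Minus.γ_up h))).trans ?_⟩
    change (ed.c r * minE6.eps ed r a) ^ 2 = 1
    rw [sq, mul_mul_mul_comm, EpsData.c_sq, Minus.eps_sq, one_mul]) hj (e.trans (Γ_eq hF))).some.symm⟩

end Cub

end H14
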