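import Cfsg.Agent.H24.FS8

/-! Frames for a `3`-centralizer of shape `3¹⁺⁶.X` with `Q₈³ ≤ X ≤ SL₂(3) ≀ S₃`. -/

set_option autoImplicit false
set_option linter.unusedSectionVars false

open Cfsg Subgroup
namespace H14.E6
open H0 H0.PM H16 H19 H10.X H2.L3 H9.TC H24.FS
open scoped commutatorElement

universe u
variable {G : Type u} [Group G] [Finite G] {A D L M P R T : Subgroup G} {B : Submodule k V}
  {a b c d g h m n q s t x y z : G} {ι : V → G} {ρ : G → Ga} {γ δ : Ga} {u v w v0 v1 : V} {e : Fin 3 → k}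
  {i j : Fin 3}

structure Fe (z c : G) (ι : V → G) (ρ : G → Ga) : Prop extends Fr1 z ι ρ where
  cc : c * c = 1
  cz : c * z = z * c
  ci : ∀ v, c * ι v * c⁻¹ = ι (-v)
  n0 : ∀ γ ∈ N0, ∃ h ∈ C[z], ρ h = γ

namespace Fe
variable (F : Fe z c ι ρ)
include F

theorem rr (i : Fin 3) : ∃ h ∈ C[z], ρ h = r i := F.n0 _ (r_mem i)
theorem cC : c ∈ C[z] := mem_cent1.2 F.cz
theorem ac_c : Ac z ι c ng 0 := ⟨F.cC, fun u => by simp [F.ci, ng_smul]⟩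
theorem ρc : ρ c = ng := F.ρ_ac F.ac_c
theorem c1 : c⁻¹ = c := inv_eq_of_mul_eq_one_right F.cc
theorem cmc (a1 : Ac z ι y δ 0) : c * y = y * c := F.cm0 F.ac_c a1 F.cc (ng_comm δ).symm

theorem ex_d (i : Fin 3) : ∃ d, Ac z ι d (r i) 0 ∧ d * d = 1 := by
  obtain ⟨h, hh, e⟩ := F.rr i
  obtain ⟨v0, a1⟩ := F.ex_ac hh
  have a2 := e ▸ F.ac_split a1
  have a3 := F.ac_mul a2 a2
  rw [r_sq, smul_zero, add_zero] at a3
  refine ⟨_, by simpa using F.ac_mul (F.ac_mul a3 a2) F.ac_one, ?_⟩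
  have := cube_zp F.z3 (F.ac_Z a3)
  generalize (ι v0)⁻¹ * h = y at this
  rw [← this, pow_three']; simp only [mul_one, mul_assoc]

theorem J (g : G) : Fe (g * z * g⁻¹) (g * c * g⁻¹) (fun v => g * ι v * g⁻¹) fun h => ρ (g⁻¹ * h * g) where
  z3 := by rw [conj_pow, F.z3]; simp
  z1 := mt conj_eq_one_iff.1 F.z1
  mul := fun v w => by rw [conj_mul, F.mul, ← pw_conj, conj_mul]
  zi := fun v => by rw [conj_mul, F.zi, conj_mul]
  memQ := fun x => by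
    simp only [← cj_Qf, mem_cj, F.memQ, ← pw_conj, conj_mul]
    exact exists_congr fun v => exists_congr fun s => ⟨fun e => by rw [← e]; group, fun e => by rw [e]; group⟩
  cc := by rw [conj_mul, F.cc]; simp
  cz := by rw [conj_mul, F.cz, conj_mul]
  ci := fun v => by rw [← F.ci]; group
  act := fun h hh v => by
    obtain ⟨s, e⟩ := F.act _ (mem_cj.1 (cj_cent1 g z ▸ hh)) v
    exact ⟨s, by rw [← pw_conj, conj_mul, ← e]; group⟩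
  cQ := by rw [← cj_Qf, ← cj_cent]; exact cj_mono g F.cQ
  n0 := fun γ hγ => let ⟨h, hh, e⟩ := F.n0 γ hγ; ⟨_, mem_C_conj.2 hh, by rw [← e]; congr 1; group⟩

theorem chg (δ : Ga) : Fe z c (fun v => ι (δ • v)) fun h => δ⁻¹ * ρ h * δ where
  z3 := F.z3
  z1 := F.z1
  mul := fun v w => by rw [F.mul, smul_add, om_smul]
  zi := fun v => F.zi _
  memQ := fun x => (F.memQ x).trans ⟨fun ⟨v, s, e⟩ => ⟨δ⁻¹ • v, s, by simpa using e⟩, fun ⟨_, s, e⟩ => ⟨_, s, e⟩⟩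
  cc := F.cc
  cz := F.cz
  ci := fun v => by rw [F.ci, smul_neg]
  act := fun h hh v => by simpa [mul_smul] using F.act h hh (δ • v)
  cQ := F.cQ
  n0 := fun γ hγ => let ⟨h, hh, e⟩ := F.n0 _ (N0_conj δ hγ); ⟨h, hh, by rw [e]; group⟩

theorem JQ (u : V) : Fe z (ι u * c * (ι u)⁻¹) (fun v => ι v * pw z (-om u v)) ρ := by
  have K := F.J (ι u)
  rw [conj_of_comm (F.zi u)] at K
  have e : ∀ h ∈ C[z], ρ ((ι u)⁻¹ * h * ι u) = ρ h := fun h hh => by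
    have := F.ρ_cj (inv_mem (F.ιC u)) hh
    rwa [inv_inv, F.ρQ (inv_mem (F.ιQ u)), one_mul, inv_one, mul_one] at this
  simp only [(F.acι u).e, one_smul] at K
  exact { K with
    act := fun h hh => e h hh ▸ K.act h hh
    n0 := F.n0 }

theorem ac_JQ (a1 : Ac z ι h γ v0) (u : V) :
    Ac z (fun v => ι v * pw z (-om u v)) h γ (v0 - u + γ • u) := ⟨a1.cz, fun x => by
  rw [a1.e', mul_assoc, mul_assoc, F.padd, F.padd, om_add_left, om_sub_left, om_smul]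
  congr 2; ring⟩

/-- conjugation by an element of `Q` -/
theorem cj_ι (a1 : Ac z ι h γ v0) (u : V) :
    ι u * h * (ι u)⁻¹ = ι (u - γ • u) * pw z (om v0 (γ • u) - om u (γ • u)) * h := by
  rw [← F.ιneg, show ι u * h * ι (-u) = ι u * (h * ι (-u) * h⁻¹) * h by group, a1.e, ← mul_assoc (ι u), F.mul,
    mul_assoc (ι _), F.padd, smul_neg, om_neg_right, om_neg_right, ← sub_eq_add_neg]
  congr 3; ring

def sub (B : Submodule k V) : Subgroup G where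
  carrier := {x | ∃ v ∈ B, ∃ s, x = ι v * pw z s}
  one_mem' := ⟨0, zero_mem _, 0, by simp [F.ι0]⟩
  mul_mem' := by rintro _ _ ⟨v, a, s, rfl⟩ ⟨w, b, t, rfl⟩; exact ⟨_, add_mem a b, _, F.mul' _ _ _ _⟩
  inv_mem' := by rintro _ ⟨v, a, s, rfl⟩; exact ⟨_, neg_mem a, _, F.inv' _ _⟩

theorem mem_sub {s : k} : ι v * pw z s ∈ F.sub B ↔ v ∈ B :=
  ⟨fun ⟨_, a, _, e⟩ => (F.uq e).1 ▸ a, fun a => ⟨v, a, s, rfl⟩⟩
theorem mem_sub' : ι v ∈ F.sub B ↔ v ∈ B := by simpa using F.mem_sub (s := 0)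
theorem sub_le (B) : F.sub B ≤ Qf z := fun x ⟨v, _, s, e⟩ => (F.memQ x).2 ⟨v, s, e⟩
theorem z_sub (B) : z ∈ F.sub B := ⟨0, zero_mem _, 1, by simp [F.ι0]⟩
theorem sub_mono {B' : Submodule k V} (h : B ≤ B') : F.sub B ≤ F.sub B' := fun _ ⟨v, a, e⟩ => ⟨v, h a, e⟩
theorem card_sub (B) : #(F.sub B) = Nat.card B * 3 := by
  refine Eq.trans ?_ ((Nat.card_prod B k).trans (by rw [card_k]))
  refine (Nat.card_congr (Equiv.ofBijective (fun x : B × k => ⟨_, x.1, x.1.2, x.2, rfl⟩) ⟨fun x y e => ?_,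
    fun ⟨_, v, a, s, rfl⟩ => ⟨(⟨v, a⟩, s), rfl⟩⟩)).symm
  have := F.uq (Subtype.mk.inj e)
  exact Prod.ext (Subtype.ext this.1) this.2
theorem sub_top : F.sub ⊤ = Qf z := le_antisymm (F.sub_le _) fun x hx =>
  let ⟨v, s, e⟩ := (F.memQ x).1 hx; ⟨v, trivial, s, e⟩
theorem card_Q : #(Qf z) = 3 ^ 7 := by
  rw [← F.sub_top, F.card_sub, Nat.card_congr Submodule.topEquiv.toEquiv, card_V]; rfl
theorem cq (a1 : Ac z ι h γ v0) : Qf z ⊓ C[h] = F.sub (fixS γ v0) := by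
  ext x
  refine ⟨fun ⟨a, b⟩ => ?_, fun a => ⟨F.sub_le _ a, ?_⟩⟩
  · obtain ⟨v, s, rfl⟩ := (F.memQ x).1 a
    exact F.mem_sub.2 ((F.cm_iff a1 v s).1 (mem_cent1.1 b).symm)
  · obtain ⟨v, a, s, rfl⟩ := a
    exact mem_cent1.2 ((F.cm_iff a1 v s).2 a).symm
theorem cmQ (v w : V) (s t : k) : ι v * pw z s * (ι w * pw z t) = ι w * pw z t * (ι v * pw z s) ↔ om v w = 0 :=
  (F.cm_iff (F.acQ v s) w t).trans (by simp)
theorem cmι (v w : V) : ι v * ι w = ι w * ι v ↔ om v w = 0 := by simpa using F.cmQ v w 0 0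
theorem ab_sub (h : ∀ u ∈ B, ∀ w ∈ B, om u w = 0) : Ab (F.sub B) := comm_iff_le_cent.2 <| by
  rintro _ ⟨v, a, s, rfl⟩
  refine H19.mem_cent.2 ?_
  rintro _ ⟨w, b, t, rfl⟩
  exact (F.cmQ _ _ _ _).2 (h w b v a)
theorem Qcm (ha : a ∈ Qf z) (hb : b ∈ Qf z) : ⁅a, b⁆ ∈ zpowers z := by
  obtain ⟨v, s, -, a1⟩ := F.acQ' ha
  obtain ⟨w, t, -, a2⟩ := F.acQ' hb
  simpa [commutatorElement_def] using F.ac_eq (F.ac_mul (F.ac_mul a1 a2) (F.ac_inv a1)) (by simpa using a2)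
theorem ab_le (h : Ab A) (le : A ≤ Qf z) : #A ≤ 81 := by
  let B : Submodule k V := AddSubgroup.toZModSubmodule 3
    { carrier := {v | ∃ s, ι v * pw z s ∈ A}
      zero_mem' := ⟨0, by simp [F.ι0]⟩
      add_mem' := fun ⟨s, a⟩ ⟨t, b⟩ => ⟨_, F.mul' _ _ _ _ ▸ mul_mem a b⟩
      neg_mem' := fun ⟨s, a⟩ => ⟨_, F.inv' _ _ ▸ inv_mem a⟩ }
  have := iso_le (B := B) fun u ⟨s, a⟩ w ⟨t, b⟩ => (F.cmQ _ _ _ _).1 (mul_comm_of_comm h a b)
  have := F.card_sub B ▸ card_le (show A ≤ F.sub B from fun x hx =>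
    let ⟨v, s, e⟩ := (F.memQ x).1 (le hx); ⟨v, ⟨s, e ▸ hx⟩, s, e⟩)
  omega
theorem cZ : #(zpowers z) = 3 := card_zp F.z3 F.z1
theorem idx3 (hy : y ∈ Qf z) (hX : A ≤ Qf z) : #A ≤ 3 * #(A ⊓ C[y]) := by
  have h1 : C[y].relIndex A ≤ 3 := (orb_le (S := (· * y) '' zpowers z) fun k hk =>
    ⟨_, F.Qcm (hX hk) hy, by simp [commutatorElement_def]⟩).trans ((Set.ncard_image_le).trans F.cZ.le)
  rw [← card_inf_mul_relIndex C[y] A, inf_comm, mul_comm]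
  exact Nat.mul_le_mul_right _ h1
theorem cj_s (hv : v ≠ 0) (s t : k) : ∃ u, ι u * (ι v * pw z s) * (ι u)⁻¹ = ι v * pw z t := by
  have := Fact.mk Nat.prime_three
  obtain ⟨w, e⟩ := not_forall.1 (mt om_nd hv)
  refine ⟨((t - s) / om v w) • w, ?_⟩
  rw [(F.acι _).e', one_smul, mul_assoc, F.padd, om_smul_left, om_swap w, mul_neg, neg_neg, div_mul_cancel₀ _ e,
    sub_add_cancel]
theorem ne0 {s : k} (n : ι v * pw z s ∉ zpowers z) : v ≠ 0 := by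
  rintro rfl
  exact n (by rw [F.ι0, one_mul]; exact pw_mem (mem_zpowers z) s)
theorem cjZ (hx : x ∈ Qf z) (n : x ∉ zpowers z) (hn : a ∈ zpowers z) : IsConj x (x * a) := by
  obtain ⟨v, s, rfl⟩ := (F.memQ x).1 hx
  obtain ⟨t, rfl⟩ := (mem_zp F.z3).1 hn
  obtain ⟨u, e⟩ := F.cj_s (F.ne0 n) s (s + t)
  exact isConj_iff.2 ⟨_, by rw [e, mul_assoc, F.padd]⟩

abbrev X : Subgroup Ga := im F.ρH C[z]
theorem mem_imH (le : T ≤ C[z]) : γ ∈ im F.ρH T ↔ ∃ h ∈ T, ρ h = γ :=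
  ⟨fun ⟨x, a, b⟩ => ⟨x, a, b⟩, fun ⟨x, a, b⟩ => ⟨⟨x, le a⟩, a, b⟩⟩
theorem ρX (hh : h ∈ C[z]) : ρ h ∈ F.X := (F.mem_imH le_rfl).2 ⟨h, hh, rfl⟩
theorem card_imH (le : T ≤ C[z]) : #(T ⊓ Qf z) * #(im F.ρH T) = #T := by
  rw [← (imHom F.ρH le).ker.card_mul_index, index_ker, MonoidHom.range_eq_top.2 (imHom_surj _ _), card_top,
    inf_comm, ← card_subgroupOf]
  congr 3
  ext x
  exact ⟨fun a => imHom_eq_one.2 (F.ρQ a), fun a => F.kerQ (le x.2) (imHom_eq_one.1 a)⟩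
theorem ex_base (le : T ≤ C[z]) (p : PG 3 T) (c9 : 9 * #(T ⊓ Qf z) ≤ #T) : ∃ t ∈ T, t ∉ Qf z ∧ (ρ t).p = 1 := by
  by_contra! n
  have c1 := F.card_imH le
  have d := card_dvd_of_injective (pH.comp (im F.ρH T).subtype) ((injective_iff_map_eq_one _).2 fun γ e => by
    obtain ⟨x, a, b⟩ := (F.mem_imH le).1 γ.2
    exact Subtype.ext (b ▸ F.ρQ (by_contra fun q => n x a q (b ▸ e))))
  rw [Nat.card_perm, Nat.card_fin, show Nat.factorial 3 = 3 * 2 from rfl] at d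
  have := Nat.le_of_dvd (by decide) (((p.im F.ρH).coprime (PiN.of_not_dvd (by decide))).dvd_of_dvd_mul_right d)
  have : 0 < #(T ⊓ Qf z) := Nat.card_pos
  nlinarith

theorem conj (h : IsConj z y) : ∃ c ι ρ, Fe y c ι ρ := let ⟨g, e⟩ := isConj_iff.1 h; ⟨_, _, _, e ▸ F.J g⟩
theorem add0 (h : om v w = 0) : ι (v + w) = ι v * ι w := by rw [F.mul, h, pw_zero, mul_one]
theorem A0_mem (h : ∀ i, ι (va i) ∈ P) (hv : v ∈ A0) : ι v ∈ P := by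
  have m := fun i => A0.smul_mem (v i).1 (va_A0 i)
  rw [A0_eq hv, F.add0 (om_A0 (add_mem (m 0) (m 1)) (m 2)), F.add0 (om_A0 (m 0) (m 1))]
  simp only [F.ιsm]
  exact mul_mem (mul_mem (pw_mem (h 0) _) (pw_mem (h 1) _)) (pw_mem (h 2) _)
theorem ρ3 (hx : x ∈ C[z]) (h : x ^ 3 = 1) : ρ x ^ 3 = 1 := by rw [← F.ρ_pow hx, h, F.ρ_one]
theorem nQ (hx : x ∈ Qf z) (x2 : x * x = 1) : x = 1 := by rw [← F.Q3 hx, pow_three', x2, one_mul]
theorem d1 {i} (a : Ac z ι d (r i) v0) : d ≠ 1 := fun e => r_ne i ((F.ρ_ac a).symm.trans (e ▸ F.ρ_one))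
theorem c6 {w : G} (hw : w ∈ Qf z) : 3 ^ 6 ≤ #(Qf z ⊓ C[w]) := by
  have := F.idx3 hw le_rfl
  rw [F.card_Q] at this
  omega
theorem idx3' (le : R ≤ C[z]) (h : ∀ x ∈ R, ρ x • v = v) : #R ≤ 3 * #(R ⊓ C[ι v]) := by
  have h1 : C[ι v].relIndex R ≤ 3 := (orb_le (S := (ι v * ·) '' zpowers z) fun x hx =>
    let ⟨s, e⟩ := F.act x (le hx) v; ⟨_, pw_mem (mem_zpowers z) s, by rw [e, h x hx]⟩).trans
    ((Set.ncard_image_le).trans F.cZ.le)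
  rw [← card_inf_mul_relIndex C[ι v] R, inf_comm, mul_comm]
  exact Nat.mul_le_mul_right _ h1
theorem A0_81 (a1 : Ac z ι y (tau e) v0) (he : ∀ i, e i ≠ 0) (c : 81 ≤ #(Qf z ⊓ C[y])) : v0 ∈ A0 := fun i => by
  rw [F.cq a1] at c
  have := (eq_of_le_of_card_ge (F.sub_mono fun u (hu : u ∈ fixS (tau e) v0) => A0_of he hu.1)
    (by rwa [F.card_sub, card_A0])).ge (F.mem_sub'.2 (va_A0 i))
  simpa [om_va] using (F.mem_sub'.1 this).2
theorem inv_v (a1 : Ac z ι x γ v0) (x2 : x * x = 1) : γ * γ = 1 ∧ v0 + γ • v0 = 0 :=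
  F.ac_uq (x2 ▸ F.ac_mul a1 a1) F.ac_one
theorem inv_fix (a1 : Ac z ι x γ v0) (x2 : x * x = 1) (h : γ • u = u) : u ∈ fixS γ v0 := ⟨h, by
  have := congrArg (om · u) (F.inv_v a1 x2).2
  beta_reduce at this
  nth_rw 1 [← h] at this
  rw [om_add_left, om_smul, h, om_zero_left] at this
  linear_combination kadd3 (om v0 u) - this⟩
theorem eqv (a1 : Ac z ι x γ v) (a2 : Ac z ι y γ v) (x2 : x * x = 1) (y2 : y * y = 1) : x = y := by
  have m := F.ac_eq a1 a2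
  have c := cm_zp (mem_cent1.1 a2.cz) m
  have m3 := cube_zp F.z3 m
  generalize hn : x * y⁻¹ = n at *
  obtain rfl : x = n * y := by rw [← hn]; simp
  rw [mul_assoc, ← mul_assoc y, c, mul_assoc, y2, mul_one] at x2
  rw [pow_three', x2, one_mul] at m3
  rw [m3, one_mul]
theorem rtq {d : G} (ad : Ac z ι d (r i) 0) (d2 : d * d = 1) (hx : x ∈ C[z]) (x2 : x * x = 1) (e : ρ x = r i) :
    ∃ w : W, ι (Pi.single i w) * d * (ι (Pi.single i w))⁻¹ = x := by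
  obtain ⟨v0, a1⟩ := F.ex_ac hx
  rw [e] at a1
  refine ⟨-v0 i, F.eqv ?_ a1 (by rw [conj_mul, d2]; simp) x2⟩
  convert F.ac_mul (F.ac_mul (F.acι _) ad) (F.ac_inv (F.acι _)) using 1
  · simp
  ext1 j
  have := congrFun (F.inv_v a1 x2).2 j
  by_cases q : j = i
  · simpa [r_smul, q] using (by decide : ∀ w : W, w = -w + -w) _
  · simp only [Pi.add_apply, r_smul, if_neg q] at this
    simpa [r_smul, q] using wneg _ (neg_eq_of_add_eq_zero_left this)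
theorem mul0 (a1 : Ac z ι a γ 0) (a2 : Ac z ι b δ 0) : Ac z ι (a * b) (γ * δ) 0 := by simpa using F.ac_mul a1 a2
theorem inv0 (a1 : Ac z ι a γ 0) : Ac z ι a⁻¹ γ⁻¹ 0 := by simpa using F.ac_inv a1
theorem cmm0 (a1 : Ac z ι a γ 0) (a2 : Ac z ι b δ 0) : Ac z ι ⁅a, b⁆ ⁅γ, δ⁆ 0 :=
  F.mul0 (F.mul0 (F.mul0 a1 a2) (F.inv0 a1)) (F.inv0 a2)
theorem ρpe (hx : x ∈ C[z]) (p : PiE {3} x) : PiE {3} (ρ x) :=
  p.dvd ((orderOf_map_dvd F.ρH ⟨x, hx⟩).trans (orderOf_mk x hx).dvd)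
theorem lift0 (h : γ ∈ F.X) : ∃ x, Ac z ι x γ 0 := by
  obtain ⟨x, hx, rfl⟩ := (F.mem_imH le_rfl).1 h
  obtain ⟨_, a1⟩ := F.ex_ac hx
  exact ⟨_, F.ac_split a1⟩
theorem cub (a1 : Ac z ι x γ v) (a2 : Ac z ι y γ v) (y2 : y * y = 1) : x ^ 3 = y := by
  have m := F.ac_eq a1 a2
  rw [← inv_mul_cancel_right x y, Commute.mul_pow (cm_zp (mem_cent1.1 a2.cz) m).symm, cube_zp F.z3 m, one_mul,
    pow_three', y2, one_mul]
theorem cQZ (hx : x ∈ C(Qf z)) : x ∈ zpowers z := by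
  obtain ⟨v, s, rfl⟩ := (F.memQ x).1 (F.cQ hx)
  rw [om_nd (v := v) fun u => by simpa using (F.cmQ v u s 0).1 (H19.mem_cent.1 hx _ ((F.memQ _).2 ⟨u, 0, rfl⟩)).symm,
    F.ι0, one_mul]
  exact pw_mem (mem_zpowers z) s

theorem sylN (le : C[z] ≤ M) : ∃ P ≤ C[z], Syl 3 P M := by
  obtain ⟨P, hP, l⟩ := (Qf_pg z).exists_syl (Qf_le z)
  refine ⟨P, hP.le, sylZ F.z3 ((inf_eq_right.2 le).symm ▸ hP) ?_⟩
  rw [← show Z(P) = zpowers z from le_antisymm (fun x hx => F.cQZ (cent_mono l hx.2))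
    (zpowers_le.2 ⟨l F.zQ, le_cent1_iff.1 hP.le⟩)]
  exact norm_le_norm_center _

end Fe

theorem bt_of (F : Fe z c ι ρ) (a1 : Ac z ι y (tau e) v0) (he : ∀ i, e i ≠ 0) (hv : v0 ∈ A0) :
    ∃ u, Ac z (fun v => ι v * pw z (-om u v)) y (tau e) 0 := by
  refine ⟨fun i => (0, -(e i * (v0 i).1)), ?_⟩
  convert F.ac_JQ a1 _
  ext i <;> simp [tau_smul, ← mul_assoc, ksq _ (he i), hv i]

/-- the construction of a frame -/
def FRM : Prop := ∀ {G : Type u} [Group G] [Finite G] (H : Subgroup G) (Q : Subgroup H)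
  (_ : Q = generalizedFittingSubgroup H) [Q.Normal] (_ : IsExtraspecial 3 Q) (_ : Nat.card Q = 3 ^ 7)
  (_ : (center Q).map Q.subtype = center H)
  (_ : pCore 2 (H ⧸ Q) ≃* QuaternionGroup 2 × QuaternionGroup 2 × QuaternionGroup 2)
  (Z : Subgroup G) (_ : Z = (center H).map H.subtype) (_ : H = centralizer (Z : Set G)),
  ∃ z c ι ρ, Z = zpowers z ∧ (pCore 3 H).map H.subtype = Qf z ∧ Fe z c ι ρ

end H14.E6
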