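/-
S5161, chunk LT, part 1: twisted forms of `SL₂` are generated by unipotent elements.
-/
import Cfsg.Agent.H27.FX0
import Cfsg.Agent.H13.SL2Pres

set_option autoImplicit false
set_option linter.unusedSectionVars false

namespace H14.FX
open Matrix hiding mul_apply'
open MatrixGroups H13.SL2

variable {K : Type*} [Field K] {f : K →+* K}

/-- entrywise application of a field endomorphism -/
abbrev fr (f : K →+* K) : SL(2, K) →* SL(2, K) := SpecialLinearGroup.map f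

@[simp] theorem fr_ap (g : SL(2, K)) (i j : Fin 2) : fr f g i j = f (g i j) := rfl

/-- the diagonal matrix -/
def dg (a : K) : SL(2, K) := w a * w (-1)

/-- a matrix mapping the diagonal torus to its normalizer -/
def T (a b : K) (h : 2 * a * b ≠ 0) : SL(2, K) := ⟨!![a, -(2 * b)⁻¹; b, (2 * a)⁻¹], by
  simp only [ne_eq, mul_eq_zero, not_or] at h
  have := h.1.1; have := h.1.2; have := h.2
  rw [det_fin_two_of]; field_simp; ring⟩

theorem w_ap {a : K} (h : a ≠ 0) : w a 0 0 = 0 ∧ w a 0 1 = a ∧ w a 1 0 = -a⁻¹ ∧ w a 1 1 = 0 := by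
  have := coe_w h
  refine ⟨?_, ?_, ?_, ?_⟩ <;> exact (congrFun (congrFun this _) _).trans (by simp)

theorem dg_ap {a : K} (h : a ≠ 0) : dg a 0 0 = a ∧ dg a 0 1 = 0 ∧ dg a 1 0 = 0 ∧ dg a 1 1 = a⁻¹ := by
  simp only [dg, mul_apply', w_ap h, w_ap (a := (-1 : K)) (by simp)]; simp

theorem T_ap (a b : K) (h : 2 * a * b ≠ 0) :
    T a b h 0 0 = a ∧ T a b h 0 1 = -(2 * b)⁻¹ ∧ T a b h 1 0 = b ∧ T a b h 1 1 = (2 * a)⁻¹ := ⟨rfl, rfl, rfl, rfl⟩

theorem xy_ap (t : K) : (x t 0 0 = 1 ∧ x t 0 1 = t ∧ x t 1 0 = 0 ∧ x t 1 1 = 1) ∧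
    y t 0 0 = 1 ∧ y t 0 1 = 0 ∧ y t 1 0 = t ∧ y t 1 1 = 1 := ⟨⟨rfl, rfl, rfl, rfl⟩, rfl, rfl, rfl, rfl⟩

theorem fr_x (t : K) : fr f (x t) = x (f t) := by apply ext' <;> simp [xy_ap]
theorem fr_y (t : K) : fr f (y t) = y (f t) := by apply ext' <;> simp [xy_ap]

theorem xy_pow (t : K) (n : ℕ) : x t ^ n = x (n * t) ∧ y t ^ n = y (n * t) := by
  induction n with
  | zero => simp
  | succ n ih => simp [pow_succ, ih, add_mul, x_add, y_add]

theorem gen {p : ℕ} [CharP K p] {P : Subgroup SL(2, K)} {M X : SL(2, K)} (hX : M * fr f X = X)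
    (hP : ∀ u, M * fr f u * M⁻¹ = u → u ^ p = 1 → u ∈ P) {g : SL(2, K)} (hg : M * fr f g = g * M) : g ∈ P := by
  let Q := P.comap (MulAut.conj X).toMonoidHom
  have a : ∀ u, fr f u = u → u ^ p = 1 → u ∈ Q := fun u a b => hP (X * u * X⁻¹) (by
    rw [map_mul, map_mul, map_inv, a, ← mul_assoc, ← mul_assoc, hX, mul_assoc, ← _root_.mul_inv_rev, hX])
    (by rw [conj_pow, b]; simp)
  have b : ∀ s, f s = s → x s ∈ Q ∧ y s ∈ Q := fun s h =>
    ⟨a _ (by rw [fr_x, h]) (by simp [xy_pow]), a _ (by rw [fr_y, h]) (by simp [xy_pow])⟩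
  have c : ∀ s, f s = s → w s ∈ Q := fun s h => mul_mem (mul_mem (b s h).1 (b _ (by simp [h])).2) (b s h).1
  have d : fr f (X⁻¹ * g * X) = X⁻¹ * g * X := by
    rw [map_mul, map_mul, map_inv, eq_inv_mul_iff_mul_eq.2 hX, eq_inv_mul_iff_mul_eq.2 hg]; group
  have e : X⁻¹ * g * X ∈ Q := by
    generalize X⁻¹ * g * X = h at d
    have d' : ∀ i j, f (h i j) = h i j := fun i j => by rw [← fr_ap, d]
    by_cases e : h 1 0 = 0
    · rw [bruhat_small h e]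
      exact mul_mem (b _ (by simp [d'])).1 (mul_mem (c _ (d' _ _)) (inv_mem (c _ (by simp))))
    · rw [bruhat_big h e]
      exact mul_mem (mul_mem (b _ (by simp [d'])).1 (c _ (by simp [d']))) (b _ (by simp [d'])).1
  simpa [Q, mul_assoc] using e

theorem hom_ext {G : Type*} [Group G] {φ ψ : SL(2, K) →* G} (h1 : ∀ t, φ (x t) = ψ (x t)) (h2 : ∀ t, φ (y t) = ψ (y t))
    (g : SL(2, K)) : φ g = ψ g :=
  induction (p := fun g => φ g = ψ g) h1 (by simp [w, h1, h2]) (fun g h a b => by simp [a, b]) g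

variable [IsAlgClosed K]

theorem ex0 {n : ℕ} (hn : 0 < n) {c : K} (hc : c ≠ 0) : ∃ t, t ≠ 0 ∧ t ^ n = c :=
  have ⟨t, h⟩ := IsAlgClosed.exists_pow_nat_eq c hn
  ⟨t, fun e => hc (by rw [← h, e, zero_pow hn.ne']), h⟩

theorem ex1 {q : ℕ} (hq : 1 < q) (hf : ∀ t, f t = t ^ q) {c : K} (hc : c ≠ 0) : ∃ t, t ≠ 0 ∧ f t = c * t :=
  (ex0 (n := q - 1) (by omega) hc).imp fun t h => ⟨h.1, by rw [hf, ← h.2, ← pow_succ, Nat.sub_add_cancel hq.le]⟩

theorem ex2 {q : ℕ} (hf : ∀ t, f t = t ^ q) {c : K} (hc : c ≠ 0) : ∃ t, t ≠ 0 ∧ f t = c / t :=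
  (ex0 (n := q + 1) (by omega) hc).imp fun t h => ⟨h.1, by rw [hf, ← h.2, pow_succ, mul_div_cancel_right₀ _ h.1]⟩

theorem sl {G : Type*} [Group G] {p q : ℕ} [CharP K p] (h2 : (2 : K) ≠ 0) (hq : 1 < q) (hf : ∀ t, f t = t ^ q) {i k : K}
    (hi : i * i = -1) (hk : k ≠ 0) {φ : SL(2, K) →* G} {θ : G →* G}
    (h : f i = i ∧ (∀ t, θ (φ (x t)) = φ (x (k * f t))) ∧ (∀ t, θ (φ (y t)) = φ (y (k⁻¹ * f t))) ∨
      f i = -i ∧ (∀ t, θ (φ (x t)) = φ (y (k * f t))) ∧ ∀ t, θ (φ (y t)) = φ (x (k⁻¹ * f t)))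
    {P : Subgroup SL(2, K)} (hP : ∀ u, θ (φ u) = φ u → u ^ p = 1 → u ∈ P) :
    dg i ∈ P ∧ ∃ g ∈ P, ∃ a, a ≠ 0 ∧ g * dg i * g⁻¹ = w a := by
  have i0 : i ≠ 0 := by rintro rfl; simp at hi
  have i1 : i⁻¹ = -i := inv_eq_of_mul_eq_one_right (by rw [mul_neg, hi, neg_neg])
  have f2 : f 2 = 2 := map_ofNat f 2
  suffices h : ∃ M X : SL(2, K), (∀ t, θ (φ (x t)) = φ (M * x (f t) * M⁻¹)) ∧ (∀ t, θ (φ (y t)) = φ (M * y (f t) * M⁻¹)) ∧
      M * fr f X = X ∧ M * fr f (dg i) = dg i * M ∧ ∃ a b h, M * fr f (T a b h) = T a b h * M by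
    obtain ⟨M, X, a1, a2, a3, a4, a, b, h, a5⟩ := h
    have a6 : ∀ u, M * fr f u * M⁻¹ = u → u ^ p = 1 → u ∈ P := fun u e => hP u (by
      have := hom_ext (φ := θ.comp φ) (ψ := φ.comp ((MulAut.conj M).toMonoidHom.comp (fr f)))
        (fun t => by simpa [fr_x] using a1 t) (fun t => by simpa [fr_y] using a2 t) u
      simpa [e] using this)
    have h' := h
    simp only [ne_eq, mul_eq_zero, not_or] at h'
    have := h'.1.2; have := h'.2
    have e : i * a / b ≠ 0 := by positivity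
    refine ⟨gen a3 a6 a4, _, gen a3 a6 a5, _, e, mul_inv_eq_iff_eq_mul.2 ?_⟩
    apply ext' <;> simp only [mul_apply', T_ap, dg_ap i0, w_ap e] <;> field_simp <;> grind
  rcases h with ⟨e, a1, a2⟩ | ⟨e, a1, a2⟩
  · obtain ⟨m, m0, rfl⟩ := ex0 two_pos hk
    obtain ⟨d, d0, hd⟩ := ex1 hq hf (inv_ne_zero m0)
    obtain ⟨b, b0, hb⟩ := ex1 hq hf hk
    refine ⟨dg m, dg d, fun t => (a1 t).trans (congrArg φ (eq_mul_inv_iff_mul_eq.2 ?_)),
      fun t => (a2 t).trans (congrArg φ (eq_mul_inv_iff_mul_eq.2 ?_)), ?_, ?_, 1, b, by simp [h2, b0], ?_⟩ <;> apply ext' <;>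
      simp only [mul_apply', T_ap, dg_ap i0, dg_ap m0, dg_ap d0, xy_ap, fr_ap, map_inv₀, map_zero, map_neg, map_mul, map_one,
        e, hd, hb, f2] <;> field_simp <;> simp
  · obtain ⟨m, m0, hm⟩ := ex0 two_pos (neg_ne_zero.2 (inv_ne_zero hk))
    obtain rfl : k = -(m ^ 2)⁻¹ := by rw [hm]; simp
    have m1 : f m ≠ 0 := by simpa
    obtain ⟨d, d0, hd⟩ := ex1 (f := f.comp f) (q := q * q) (by nlinarith) (fun t => by simp [hf, pow_mul])
      (c := -f m / m) (by simp [m0])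
    have d1 : f d ≠ 0 := by simpa
    obtain ⟨a, a0, ha⟩ := ex2 hf (inv_ne_zero h2)
    obtain ⟨b, b0, hb⟩ := ex2 hf (c := (2 * m ^ 2)⁻¹) (by positivity)
    rw [RingHom.comp_apply] at hd
    refine ⟨w m, T d (-m⁻¹ * f d) (by simp [h2, m0, d0]), fun t => (a1 t).trans (congrArg φ (eq_mul_inv_iff_mul_eq.2 ?_)),
      fun t => (a2 t).trans (congrArg φ (eq_mul_inv_iff_mul_eq.2 ?_)), ?_, ?_, a, b, by positivity, ?_⟩ <;> apply ext' <;>
      simp only [mul_apply', T_ap, dg_ap i0, w_ap m0, xy_ap, fr_ap, map_inv₀, map_zero, map_neg, map_mul, map_one,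
        e, hd, ha, hb, f2, i1] <;> field_simp <;> ring

end H14.FX
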