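/-
S5161, chunk LT, part 2: torus data from a Steinberg endomorphism.
-/
import Cfsg.Agent.H14.FX1

set_option autoImplicit false
set_option linter.unusedSectionVars false

namespace H14.FX
open MatrixGroups H13.SL2 RootSys PreSt St H27.FX H11.AS Function

variable {ι κ : Type*} [Fintype κ] [DecidableEq κ] [Fintype ι] [DecidableEq ι] {R : RootSys ι κ}
  {C : Chev R} {K G : Type*} [Field K] [Group G] {S : St C K G} (F : S.Fr)

theorem chi_congr {a b : κ → Kˣ} (h : F.hmul.tor a = F.hmul.tor b) (r : ι) : R.chi a r = R.chi b r := by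
  have := (F.hmul.tor_mul_x a r 1).symm.trans (h ▸ F.hmul.tor_mul_x b r 1)
  rw [h, mul_left_inj, mul_one, mul_one] at this
  exact Units.ext (F.sep.x_inj this)

theorem chi_mul (c d : κ → Kˣ) (r : ι) : R.chi (c * d) r = R.chi c r * R.chi d r := by
  simp [chi, mul_zpow, Finset.prod_mul_distrib]

theorem chi_inv (c : κ → Kˣ) (r : ι) : R.chi c⁻¹ r = (R.chi c r)⁻¹ := by simp [chi]

theorem chi_ρ {c : κ → Kˣ} (h : F.hmul.tor c ∈ F.fix) (r : ι) : R.chi c (F.ρ r) = R.chi c r ^ F.p ^ F.e r := by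
  have h1 := congrArg F.σ (F.hmul.tor_mul_x c r 1)
  rw [map_mul, map_mul, Fr.mem_fix.1 h, F.σ_x, F.σ_x, F.hmul.tor_mul_x, mul_left_inj] at h1
  have := F.sep.x_inj h1
  rw [one_pow, mul_one, mul_one, mul_comm] at this
  exact Units.ext (mul_left_cancel₀ (F.c_ne r) (by simpa [chi] using this))

theorem ρ_neg (r : ι) : F.ρ (R.neg r) = R.neg (F.ρ r) := by rw [← refl_self, F.ρ_refl, refl_self]

theorem c_neg (r : ι) : F.c (R.neg r) = (F.c r)⁻¹ := by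
  have := F.σ_n r 1 one_ne_zero
  simp only [PreSt.n, map_mul, F.σ_x, mul_left_inj, mul_right_inj, ρ_neg, F.neg_pow, inv_one, one_pow, mul_one] at this
  simpa using F.sep.x_inj this

theorem triv {A : Set ι} (hA : R.Closed A) (hf : ∀ r ∈ A, R.pos r) {u : G} (hu : u ∈ S.U A)
    (h : ∀ r, ∃ c, Commute (F.hmul.tor c) u ∧ R.chi c r ≠ 1) : u = 1 := by
  classical
  obtain ⟨t, rfl⟩ := exists_prod hA (htf κ) (fun r a => htf_pos (hf r a)) (Finset.nodup_toList (Finset.univ.filter (· ∈ A)))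
    (by simp) hu
  refine List.prod_eq_one (List.forall_mem_map.2 fun r hr => ?_)
  obtain ⟨c, h, e⟩ := h r
  have h1 := map_list_prod (MulAut.conj (F.hmul.tor c)) ((Finset.univ.filter (· ∈ A)).toList.map fun r => S.x r (t r))
  simp only [MulAut.conj_apply, h.mul_inv_cancel, List.map_map, Function.comp_def, F.hmul.tor_conj] at h1
  have := F.sep.uniq (htf κ) _ (Finset.nodup_toList _) (by simpa using fun r a => htf_pos (hf r a)) _ _ h1 r hr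
  rw [by_contra fun h0 : t r ≠ 0 => e (Units.ext (mul_right_cancel₀ h0 (this.symm.trans (one_mul _).symm))), S.x_zero]

theorem br0 {g : G} (h : ∀ r, ∃ c, g * F.hmul.tor c * g⁻¹ ∈ S.H ∧ R.chi c r ≠ 1) : g ∈ S.N := by
  obtain ⟨w, hw⟩ := exists_cell (F.mem_top g)
  obtain ⟨n, hn⟩ := exists_NW_of_W (S := S.toPreSt) hw.mem_W
  obtain ⟨b, hb, u, hu, rfl⟩ := hw.canonical hn
  obtain ⟨v, hv, k, hk, rfl⟩ := mem_B_iff.1 hb
  replace hn : (k * n, w) ∈ S.NW := by simpa using NW.mul (mem_NW_of_H hk) hn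
  rw [mul_assoc v] at h ⊢
  generalize k * n = m at *
  have a : ∀ c, v * m * u * F.hmul.tor c * (v * m * u)⁻¹ ∈ S.H → Commute (F.hmul.tor c) u ∧
      Commute (F.hmul.tor (mpow Kˣ (R.cm w) c)) v := fun c h2 => by
    have h1 : F.hmul.tor c ∈ S.H := F.hmul.range_tor.le ⟨_, rfl⟩
    have h3 := N_conj_mem_H (NW.mem_N hn) h1
    obtain ⟨h4, h5⟩ := canonical_unique F.sep hn (mul_mem (U_le_B hv) (H_le_B h3)) (mul_mem (H_le_B h2) (U_le_B hv))
      (H_conj_mem_U (inv_mem h1) hu) hu (by group)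
    rw [F.hmul.conj_tor hn] at h3 h4
    generalize v * m * u * F.hmul.tor c * (v * m * u)⁻¹ = k at h2 h4
    have h6 := F.sep.eq_one_of_mem_H (mul_mem (inv_mem hv) (H_conj_mem_U h2 hv)) (by
      rw [← h4, ← mul_assoc, inv_mul_cancel_left]; exact mul_mem h3 (inv_mem h2))
    rw [← h4, ← mul_assoc, inv_mul_cancel_left, mul_inv_eq_one] at h6
    refine ⟨?_, by rw [← h6] at h4; exact h4.symm⟩
    rw [inv_inv, mul_assoc, inv_mul_eq_iff_eq_mul] at h5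
    exact h5.symm
  rw [triv F (closed_inv (NW.mem_Aut hn)) (fun _ h => h.1) hu fun r => (h r).imp fun c e => ⟨(a c e.1).1, e.2⟩,
    triv F closed_pos (fun _ h => h) hv fun r => by
      obtain ⟨c, e, e'⟩ := h (w⁻¹ r)
      exact ⟨_, (a c e).2, by simpa [← chi_cm (NW.mem_Aut hn) c] using e'⟩, one_mul, mul_one]
  exact NW.mem_N hn

include F in
theorem ex_φ (r : ι) : ∃ φ : SL(2, K) →* G, (∀ g, φ g ∈ S.U {r, R.neg r}) ∧ (∀ t, φ (x t) = S.x r t) ∧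
    (∀ t, φ (y t) = S.x (R.neg r) t) ∧ (∀ t, φ (w t) = S.n r t) ∧ ∀ t, φ (dg t) = S.h r t := by
  obtain ⟨φ, h1, h2⟩ := St.exists_SL2 r (F.hmul r)
  have a : ∀ t, φ (x t) = S.x r t := fun t => (h2 _ _).1 rfl
  have b : ∀ t, φ (y t) = S.x (R.neg r) t := fun t => (h2 _ _).2 rfl
  have c : ∀ t, φ (w t) = S.n r t := fun t => by simp only [w, map_mul, a, b, PreSt.n]
  exact ⟨φ, fun g => h1.le ⟨g, rfl⟩, a, b, c, fun t => by rw [dg, map_mul, c, c, PreSt.h]⟩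

variable {F} {Γ : Type*} [Group Γ] {e : Γ →* G} {p q : ℕ} [Fact p.Prime] [CharP K p] [IsAlgClosed K] {τ : Equiv.Perm ι} {i : Kˣ}

/-- the hypotheses -/
structure Hy (F : S.Fr) (e : Γ →* G) (p q : ℕ) (τ : Equiv.Perm ι) (i : Kˣ) : Prop where
  em : Em p F e
  hq : ∀ r, F.p ^ F.e r = q
  hρ : q % 4 = 1 ∧ (∀ r, F.ρ r = τ r) ∨ q % 4 = 3 ∧ ∀ r, F.ρ r = R.neg (τ r)
  lt : 1 < q
  two : (2 : K) ≠ 0
  ii : i * i = -1

theorem pw1 (h : i * i = -1) {n : ℕ} (e : n % 4 = 1) : (i : K) ^ n = i := by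
  have : (i : K) ^ 4 = 1 := by have := congrArg Units.val h; simp at this; grind
  rw [pow_eq_pow_mod n this, e, pow_one]

theorem pw3 (h : i * i = -1) {n : ℕ} (e : n % 4 = 3) : (i : K) ^ n = -i := by
  have a : (i : K) * i = -1 := by simpa using congrArg Units.val h
  rw [pow_eq_pow_mod n (n := 4) (by grind), e]; grind

namespace Hy
variable (Y : Hy F e p q τ i)
include Y

theorem one {c : ι} (h : τ c = c) : S.h c i ∈ e.range ∧ ∃ g ∈ e.range, g ∈ S.U {c, R.neg c} ∧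
    (g * S.h c i * g⁻¹, R.refl c) ∈ S.NW := by
  obtain ⟨φ, a1, a2, a3, a4, a5⟩ := ex_φ F c
  have := F.char
  obtain ⟨b1, g, b2, a, b3, b4⟩ := sl (f := iterateFrobenius K F.p (F.e c)) (p := p) Y.two Y.lt (fun t => by
    rw [iterateFrobenius_def, Y.hq]) (i := i) (by simpa using congrArg Units.val Y.ii) (F.c_ne c) (φ := φ) (θ := F.σ) (by
      simp only [a2, a3, F.σ_x, iterateFrobenius_def, Y.hq, c_neg, ρ_neg]
      exact Y.hρ.imp (fun h' => by simp [h'.2, h, pw1 Y.ii h'.1]) fun h' => by simp [h'.2, h, pw3 Y.ii h'.1])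
    (P := e.range.comap φ) fun u d1 d2 => Y.em.mem _ d1 1 (by rw [pow_one, ← map_pow, d2, map_one])
  refine ⟨a5 i ▸ b1, _, b2, a1 g, ?_⟩
  rw [← a5, ← map_inv, ← map_mul, ← map_mul, b4, a4]
  exact n_mem_NW _ b3

theorem ρρ {c : ι} (h : τ (τ c) = c) : F.ρ (F.ρ c) = c := by
  rcases Y.hρ with ⟨-, a⟩ | ⟨-, a⟩
  · rw [a, a, h]
  · rw [a c, ρ_neg, a, h, R.neg_neg]

theorem two' {c : ι} (h : S2 R τ c) : S.h c i * F.σ (S.h c i) ∈ e.range ∧ ∃ g ∈ S.U {c, R.neg c}, g * F.σ g ∈ e.range ∧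
    (g * F.σ g * (S.h c i * F.σ (S.h c i)) * (g * F.σ g)⁻¹, R.refl c * R.refl (τ c)) ∈ S.NW := by
  obtain ⟨φ, a1, a2, a3, a4, a5⟩ := ex_φ F c
  have := F.char
  have a6 : ∀ u v, Commute (φ u) (F.σ (φ v)) := fun u v => S.commute_U (A := {c, R.neg c}) (B := {τ c, R.neg (τ c)})
    (fun r a s b => have := h.2.2 r (by simpa using a) s (by simpa using b); commute_of_not _ this.1 this.2) _ (a1 u) _
    (F.σ_mem_U (by
      rintro _ (rfl | rfl) <;> (try rw [ρ_neg]) <;> rcases Y.hρ with ⟨-, a⟩ | ⟨-, a⟩ <;> simp [a]) (a1 v))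
  let Ψ : SL(2, K) →* G := MonoidHom.mk' (fun u => φ u * F.σ (φ u)) fun u v => by
    simp only [map_mul]; exact (a6 v u).mul_mul_mul_comm _ _
  obtain ⟨b1, g, b2, a, b3, b4⟩ := sl (f := iterateFrobenius K F.p (F.e c + F.e c)) (p := p) (q := q * q) Y.two
    (by nlinarith [Y.lt]) (fun t => by rw [iterateFrobenius_def, pow_add, Y.hq]) (i := i) (by simpa using congrArg Units.val Y.ii)
    (F.f_ne (F.ρ c) (F.c_ne c)) (φ := φ) (θ := F.σ.comp F.σ) (.inl (by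
      simp only [a2, a3, F.σ_x, iterateFrobenius_def, pow_add, Y.hq, c_neg, ρ_neg, MonoidHom.comp_apply, Y.ρρ h.1]
      refine ⟨pw1 Y.ii ?_, fun t => congrArg _ (by ring), fun t => congrArg _ (by ring)⟩
      rcases Y.hρ with ⟨a, -⟩ | ⟨a, -⟩ <;> simp [Nat.mul_mod, a]))
    (P := e.range.comap Ψ) fun u d1 d2 => Y.em.mem _ (by
      change F.σ (φ u * F.σ (φ u)) = φ u * F.σ (φ u)
      rw [map_mul, show F.σ (F.σ (φ u)) = φ u from d1, (a6 u u).eq]) 1 (by rw [pow_one, ← map_pow, d2, map_one])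
  refine ⟨a5 i ▸ b1, _, a1 g, b2, ?_⟩
  rw [← a5]
  change (Ψ g * Ψ (dg i) * (Ψ g)⁻¹, _) ∈ _
  rw [← map_inv, ← map_mul, ← map_mul, b4]
  change (φ _ * F.σ (φ _), _) ∈ _
  rw [a4, F.σ_n _ _ b3, show R.refl (τ c) = R.refl (F.ρ c) by rcases Y.hρ with ⟨-, a⟩ | ⟨-, a⟩ <;> simp [a]]
  exact NW.mul (n_mem_NW _ b3) (n_mem_NW _ (F.f_ne _ b3))

end Hy

theorem cm_U (F : S.Fr) {c : ι} {d d' : κ → Kˣ} (h : R.chi d c = R.chi d' c) {g : G} (hg : g ∈ S.U {c, R.neg c}) :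
    Commute ((F.hmul.tor d)⁻¹ * F.hmul.tor d') g := by
  rw [← map_inv, ← map_mul]
  refine F.hmul.commute_U (A := {c, R.neg c}) ?_ (Subgroup.mem_sup_left hg)
  simp [chi_neg, chi_mul, chi_inv, h]

theorem nw_of {g j t : G} {v : Equiv.Perm ι} (h1 : (g * j * g⁻¹, v) ∈ S.NW) (h2 : j⁻¹ * t ∈ S.H) (h3 : Commute (j⁻¹ * t) g) :
    (g * t * g⁻¹, v) ∈ S.NW := by
  have := NW.mul h1 (mem_NW_of_H h2)
  rwa [mul_one, mul_assoc, ← h3.inv_right.eq, show g * j * (j⁻¹ * t * g⁻¹) = g * t * g⁻¹ by group] at this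

theorem Hy.td (Y : Hy F e p q τ i) (hZ : Subgroup.center G = ⊥) : Nonempty (TD R τ Γ Kˣ) := by
  choose π hπ using fun n : S.N.comap e => exists_NW_of_N (S := S.toPreSt) n.2
  have u1 : ∀ n v, (e n.1, v) ∈ S.NW → π n = v := fun n v => NW.unique F.sep (hπ n)
  let χ : Γ → ι → Kˣ := fun d => R.chi (invFun F.hmul.tor (e d))
  have u2 : ∀ d c, e d = F.hmul.tor c → ∀ r, χ d r = R.chi c r := fun d c h =>
    chi_congr F ((invFun_eq ⟨c, h.symm⟩).trans h)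
  have u3 : ∀ d ∈ S.H.comap e, ∃ c, e d = F.hmul.tor c := fun d h => F.hmul.exists_tor h
  have u4 : ∀ c t, ∃ d, S.h c (t : Kˣ) = F.hmul.tor d ∧ ∀ r, R.chi d r = t ^ R.pair c r := fun c t =>
    ⟨_, F.hmul.h_eq c t, fun r => chi_zpow _ _ _⟩
  have u5 : (-1 : Kˣ) ≠ 1 := fun h => Y.two (by have := congrArg Units.val h; simp at this; grind)
  refine ⟨⟨i, S.N.comap e, S.H.comap e, MonoidHom.mk' π fun a b => u1 _ _ (map_mul e a.1 b.1 ▸ NW.mul (hπ a) (hπ b)), χ,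
    fun β => invFun e (S.h β i), ?_, fun z h => ?_, Subgroup.comap_mono H_le_N,
    fun n => ⟨fun h : π n = 1 => mem_H_of_NW (h ▸ hπ n :), fun h => u1 _ _ (mem_NW_of_H h)⟩, fun n => NW.mem_W (hπ n), fun n r => ?_,
    fun d a d' b r => ?_, fun d a r => by simp [χ, chi, prod_wt, cf_simple, Pi.single_apply], fun d a h => ?_, fun d a n r => ?_,
    ?_, fun β h => ?_, fun c h t a b => ?_, fun c h t a b => ?_, fun g X h1 h2 => br0 F fun r => ?_⟩⟩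
  · exact orderOf_eq_prime_pow (p := 2) (n := 1) (by rwa [pow_one, sq, Y.ii]) (by
      rw [show 2 ^ (1 + 1) = 2 * 2 from rfl, pow_mul, sq i, Y.ii]; simp)
  · rw [sq, Y.ii, ← Units.val_inj, ← Units.val_inj]
    exact mul_self_eq_one_iff.1 (congrArg Units.val h)
  · have := NW.unique F.sep (hπ n) (Fr.mem_fix.1 (Y.em.fix n.1) ▸ F.NW_σ (hπ n))
    have := congrArg (fun v : Equiv.Perm ι => v (F.ρ r)) this
    simp only [Equiv.Perm.mul_apply, Equiv.Perm.coe_inv, Equiv.symm_apply_apply] at this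
    rcases Y.hρ with ⟨-, a⟩ | ⟨-, a⟩
    · rwa [a, a] at this
    · rw [a, a, Aut.neg (NW.mem_Aut (hπ n))] at this
      exact R.neg_inj this
  · obtain ⟨c, a⟩ := u3 d a
    obtain ⟨c', b⟩ := u3 d' b
    rw [u2 _ _ a, u2 _ _ b, u2 _ (c * c') (by rw [map_mul, map_mul, a, b]), chi_mul]
  · obtain ⟨c, a⟩ := u3 d a
    refine Y.em.inj (a.trans ((Subgroup.mem_bot.1 (hZ ▸ (F.hmul.tor_mem_center F.sep F.top).2 (funext fun j => ?_))).trans
      (map_one e).symm))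
    simpa [u2 _ _ a, chi, wt_simple, mpow_apply] using h (R.simple j)
  · obtain ⟨c, a⟩ := u3 d a
    rw [u2 _ _ a, u2 _ _ (.trans (by simp [a]) (F.hmul.conj_tor (hπ n) c))]
    exact chi_cm (NW.mem_Aut (hπ n)) _ _
  · have : ∀ d ∈ S.H.comap e, ∀ r, χ d (F.ρ r) = χ d r ^ (q : ℤ) ∧ χ d (R.neg r) = (χ d r)⁻¹ := fun d a r => by
      obtain ⟨c, a⟩ := u3 d a
      simp only [u2 _ _ a, chi_ρ F (a ▸ Y.em.fix d), Y.hq, zpow_natCast, chi_neg, and_self]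
    rcases Y.hρ with ⟨b, a⟩ | ⟨b, a⟩
    · exact ⟨q / 4, fun d h r => by rw [← a, (this d h r).1]; congr 1; omega⟩
    · exact ⟨-(q / 4) - 1, fun d h r => by
        rw [← inv_inj, ← (this d h _).2, ← a, (this d h r).1, ← zpow_neg]; congr 1; omega⟩
  · obtain ⟨d, a, b⟩ := u4 β i
    have := invFun_eq (Y.one h).1
    exact ⟨this.symm ▸ h_mem_H β i.ne_zero |> (show e _ ∈ S.H from ·), fun r => by rw [u2 _ _ (this.trans a), b]⟩
  · obtain ⟨-, _, ⟨g, rfl⟩, a1, a2⟩ := Y.one h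
    obtain ⟨d, a3, a4⟩ := u4 c i
    obtain ⟨d', a5⟩ := u3 t a
    have := nw_of a2 (mul_mem (inv_mem (h_mem_H _ i.ne_zero)) a) (by
      rw [a3, a5]; exact cm_U F (by rw [a4, ← u2 _ _ a5, b]; simp) a1)
    rw [← map_inv, ← map_mul, ← map_mul] at this
    exact ⟨g, NW.mem_N this, u1 _ _ this⟩
  · obtain ⟨a0, k, a1, ⟨g, a6⟩, a2⟩ := Y.two' h
    obtain ⟨d, a3, a4⟩ := u4 c i
    obtain ⟨d2, a7, a8⟩ := u4 (F.ρ c) (i ^ q)
    obtain ⟨d', a5⟩ := u3 t a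
    have b1 : S.h c i * F.σ (S.h c i) = F.hmul.tor (d * d2) := by
      rw [F.σ_h _ i.ne_zero, Y.hq, map_mul, ← a3, ← a7]; simp
    have b2 : R.pair (F.ρ c) c = 0 := by
      have := (R.pair_eq_zero_iff _ _).1 h.2.1
      rcases Y.hρ with ⟨-, a⟩ | ⟨-, a⟩ <;> simp [a, this]
    have b3 : Commute ((S.h c i * F.σ (S.h c i))⁻¹ * e t) k := by
      rw [b1, a5]; exact cm_U F (by rw [chi_mul, a4, a8, b2, ← u2 _ _ a5, b]; simp) a1
    have b4 := b3.map F.σ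
    obtain ⟨j, a0⟩ := a0
    rw [← a0, ← map_inv, ← map_mul, Fr.mem_fix.1 (Y.em.fix _), map_mul, map_inv, a0] at b4
    have := nw_of a2 (mul_mem (inv_mem (b1 ▸ F.hmul.range_tor.le ⟨_, rfl⟩)) a) (b3.mul_right b4)
    rw [← a6, ← map_inv, ← map_mul, ← map_mul] at this
    exact ⟨g, NW.mem_N this, u1 _ _ this⟩
  · obtain ⟨z, a, b⟩ := h2 r
    obtain ⟨c, d⟩ := u3 z (h1 z a).1
    exact ⟨c, by simpa [d] using (h1 z a).2, u2 _ _ d r ▸ b⟩

/-- `LT` for nonempty root systems -/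
theorem lt (ι κ K G Γ : Type) [Fintype κ] [DecidableEq κ] [Fintype ι] [DecidableEq ι] [Nonempty ι] (R : RootSys ι κ)
    (τ : Equiv.Perm ι) (C : Chev R) [Field K] [IsAlgClosed K] [Group G] [Group Γ] (S : St C K G) (Φ : S.Fr) (p q : ℕ)
    [Fact p.Prime] [CharP K p] (e : Γ →* G) (h1 : Em p Φ e) (h2 : Subgroup.center G = ⊥) (h3 : ∀ r, Φ.p ^ Φ.e r = q)
    (h4 : q % 4 = 1 ∧ (∀ r, Φ.ρ r = τ r) ∨ q % 4 = 3 ∧ ∀ r, Φ.ρ r = R.neg (τ r)) (h5 : 1 < q) :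
    Nonempty (TD R τ Γ Kˣ) := by
  obtain ⟨i, i0, hi⟩ := ex0 two_pos (c := (-1 : K)) (by simp)
  refine Hy.td (i := Units.mk0 i i0) ⟨h1, h3, h4, h5, fun h => ?_, Units.ext (by simpa [sq] using hi)⟩ h2
  obtain ⟨r⟩ := ‹Nonempty ι›
  have := Φ.char
  have : CharP K 2 := (CharP.charP_iff_prime_eq_zero Nat.prime_two).2 h
  have a := h3 r
  rw [ExpChar.eq Φ.char (.prime Nat.prime_two)] at a
  cases b : Φ.e r <;> rw [b] at a <;> omega

end H14.FX
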