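import Cfsg.Agent.H14.Semi6
import Cfsg.Agent.H14.Eval
import Cfsg.Agent.H14.CycT

/-! Element orders of the groups of type G2. -/

open Matrix
set_option linter.unusedSectionVars false
set_option maxRecDepth 100000
set_option synthInstance.maxSize 10000

namespace H14
open RootSys PreSt St Cfsg.Lie

section
variable {ι κ : Type*} [Fintype κ] [DecidableEq κ] [Fintype ι] [DecidableEq ι] {R : RootSys ι κ}
  {C : Chev R} {K G : Type*} [Field K] [IsAlgClosed K] [Group G] {S : St C K G} (Φ : S.Fr)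
  (hi : Function.Injective Φ.hmul.tor) (p : ℕ) [hp : Fact p.Prime] [CharP K p] {q : ℕ} (hq : ∀ r, Φ.p ^ Φ.e r = q)
  (hq1 : 1 < q)
include hi hq hq1

theorem St.Fr.exists_orderOf_tor' {n : ℕ} (hn : ¬ p ∣ n) (u b : κ → ℤ) (h1 : (n : ℤ) ∣ u ⬝ᵥ b - 1)
    (h2 : ∀ j, (n : ℤ) ∣ (u ᵥ* Φ.mat) j - u j) :
    (∃ g ∈ Φ.fix, orderOf g = n) ∧ ∀ a, Φ.ρ a = a → (n : ℤ) ∣ u ⬝ᵥ R.wt a → ∃ g ∈ Φ.fix, orderOf g = p * n := by
  obtain ⟨z, hz⟩ := exists_orderOf K (n := n) (mt (CharP.cast_eq_zero_iff K p n).1 hn)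
  obtain ⟨c, hc⟩ : ∃ c : κ → Kˣ, c = fun i => z ^ u i := ⟨_, rfl⟩
  have h7 : orderOf (Φ.hmul.tor c) = n := by
    rw [orderOf_injective _ hi, ← hz, orderOf_eq_orderOf_iff, hc]
    refine fun k => ⟨fun e => ?_, fun e => funext fun i => ?_⟩
    · rw [← zpow_one z, zpow_eq_zpow_iff_modEq.2 (Int.modEq_iff_dvd.2 (hz ▸ h1)), ← prod_zpow_dot, ← Finset.prod_pow]
      exact Finset.prod_eq_one fun i _ => by
        rw [← zpow_natCast, zpow_comm, zpow_natCast, show (z ^ u i) ^ k = 1 from congrFun e i, _root_.one_zpow]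
    · rw [Pi.pow_apply, ← zpow_natCast, zpow_comm, zpow_natCast, e, _root_.one_zpow]; rfl
  have h8 : Φ.hmul.tor c ∈ Φ.fix := (Φ.σ_tor _).trans (by rw [hc, mpow_fix_of_dvd (by rwa [hz])]; rfl)
  refine ⟨⟨_, h8, h7⟩, fun a h9 h10 => ?_⟩
  obtain ⟨t, ht⟩ := IsAlgClosed.exists_pow_nat_eq (Φ.c a)⁻¹ (Nat.sub_pos_of_lt hq1)
  have h12 : t ≠ 0 := by
    rintro rfl
    exact inv_ne_zero (Φ.c_ne a) (ht.symm.trans (zero_pow (Nat.sub_ne_zero_of_lt hq1)))
  have h13 : orderOf (S.x a t) = p := orderOf_eq_prime (by simp [x_pow]) fun e => h12 (Φ.sep.x_mem_H (e ▸ one_mem _))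
  have h14 : Commute (S.x a t) (Φ.hmul.tor c) := (Φ.hmul.commute_U (A := {a}) (fun r hr => by
    rw [hr, hc, chi_zpow, ← orderOf_dvd_iff_zpow_eq_one, hz]; exact h10) (Subgroup.mem_sup_left (x_mem_U (Set.mem_singleton a) t))).symm
  refine ⟨_, mul_mem ((Φ.σ_x a t).trans ?_) h8, (h14.orderOf_mul_eq_mul_orderOf_of_coprime ?_).trans (by rw [h7, h13])⟩
  · rw [hq, ← Nat.sub_add_cancel hq1.le, pow_succ, ht, mul_inv_cancel_left₀ (Φ.c_ne a), h9]; rfl
  · rw [h7, h13]; exact (hp.1.coprime_iff_not_dvd).2 hn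

theorem St.Fr.exists_orderOf_tor {w : Equiv.Perm ι} (hw : w ∈ R.W) {n : ℕ} (hn : ¬ p ∣ n) (u b : κ → ℤ) (h1 : (n : ℤ) ∣ u ⬝ᵥ b - 1)
    (h2 : ∀ j, (n : ℤ) ∣ (u ᵥ* ((q : ℤ) • R.cm (w * Φ.ρ))) j - u j) :
    (∃ g ∈ Φ.fix, orderOf g = n) ∧ ∀ a, w (Φ.ρ a) = a → (n : ℤ) ∣ u ⬝ᵥ R.wt a → ∃ g ∈ Φ.fix, orderOf g = p * n := by
  obtain ⟨m, hL⟩ := exists_NW_of_W (S := S.toPreSt) hw
  obtain ⟨x, hx⟩ := Φ.exists_conj hL
  have h6 : ∀ {n}, (∃ g ∈ (Φ.tw hL).fix, orderOf g = n) → ∃ g' ∈ Φ.fix, orderOf g' = n := fun ⟨g, hg, e⟩ =>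
    ⟨_, (hx g).1 hg, ((MulAut.conj x).orderOf_eq g).trans e⟩
  have := (Φ.tw hL).exists_orderOf_tor' hi p hq hq1 hn u b h1 (by rwa [Φ.mat_tw hL hq])
  exact ⟨h6 this.1, fun a h7 h8 => h6 (this.2 a h7 h8)⟩

omit hq hq1 in
theorem St.Fr.tor_mul_zpow {c : κ → Kˣ} {u : G} (hu : u ∈ S.U ({r | R.pos r} ∩ {r | R.chi c r = 1})) (n : ℤ) :
    (Φ.hmul.tor c * u) ^ n = 1 ↔ c ^ n = 1 ∧ u ^ n = 1 := by
  rw [(Φ.hmul.commute_U (fun _ h => h.2) (Subgroup.mem_sup_left hu)).mul_zpow, ← map_zpow]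
  refine ⟨fun e => ?_, fun e => by simp [e.1, e.2]⟩
  have := Φ.sep.eq_one_of_mem_H (zpow_mem (U_mono (fun _ h => h.1) hu) n)
    (eq_inv_of_mul_eq_one_right e ▸ inv_mem (Φ.hmul.range_tor.le ⟨_, rfl⟩))
  exact ⟨hi (by simpa [this] using e), this⟩

end

namespace Good
variable {D : ChevalleyDatum} (G : Good D) {F : Type*} [Field F]

theorem wd_pow_eq_one (p : ℕ) [CharP F p] (w : List (Fin D.nroots × ℤ)) (n : ℕ) :
    (G.SG F).wd (w.map fun c => (c.1, (c.2 : F))) ^ n = 1 ↔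
      (evalW D p (List.replicate n w).flatten).map (·.map (· % (p : ℤ))) = (evalW D p []).map (·.map (· % (p : ℤ))) := by
  obtain ⟨A, h1, h2⟩ := G.evalW_spec (K := F) (p := p) (by simp) (List.replicate n w).flatten
  have h3 : (G.SG F).wd ((List.replicate n w).flatten.map fun c => (c.1, (c.2 : F))) =
      (G.SG F).wd (w.map fun c => (c.1, (c.2 : F))) ^ n := by simp [wd, List.prod_flatten]
  rw [← h3, h1, Subtype.ext_iff, Units.ext_iff, ← Matrix.ext_iff]
  simp only [h2, evalW, List.map_map, List.map_inj_left, mem_idxL, Function.comp_def, forall_true_left]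
  refine forall_comm.trans (forall₂_congr fun b a => Iff.trans ?_ (CharP.intCast_eq_intCast F p))
  simp [one_apply]

include G in
theorem exists_ord_wd (p : ℕ) [CharP F p] (w : List (Fin D.nroots × ℤ)) {n : ℕ} (h : 0 < n ∧ ∀ d ≤ n, d ∣ n →
    ((evalW D p (List.replicate d w).flatten).map (·.map (· % (p : ℤ))) = (evalW D p []).map (·.map (· % (p : ℤ))) ↔ d = n)) :
    ∃ g : D.group F, orderOf g = n := by
  simp only [← G.wd_pow_eq_one (F := F)] at h
  have := orderOf_dvd_of_pow_eq_one ((h.2 n le_rfl dvd_rfl).2 rfl)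
  exact ⟨_, (h.2 _ (Nat.le_of_dvd h.1 this) this).1 (pow_orderOf_eq_one _)⟩

variable [Fintype F]
local notation "K" => AlgebraicClosure F

theorem exists_orderOf_tor (hi : ∀ c, mpow Kˣ G.R.A c = 1 → c = 1) (p : ℕ) [hp : Fact p.Prime] [CharP F p]
    (L : List (Fin D.rank)) {n : ℕ} (hn : ¬ p ∣ n) (u b : Fin D.rank → ℤ) (h1 : (n : ℤ) ∣ u ⬝ᵥ b - 1)
    (h2 : ∀ j, (n : ℤ) ∣ (u ᵥ* ((Fintype.card F : ℤ) • G.R.cm (G.R.wprod L * 1))) j - u j) :
    (∃ g : D.group F, orderOf g = n) ∧ ∀ a, G.R.wprod L a = a → (n : ℤ) ∣ u ⬝ᵥ G.R.wt a → ∃ g : D.group F, orderOf g = p * n := by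
  obtain ⟨Φ, h3, h4, h5, -⟩ := G.exists_fr' F hi
  have h6 : ∀ {n}, (∃ g ∈ Φ.fix, orderOf g = n) → ∃ g' : D.group F, orderOf g' = n := fun ⟨g, hg, e⟩ =>
    have ⟨g', e'⟩ := h3.ge hg
    ⟨g', (orderOf_injective _ (G.mapG_inj _) _).symm.trans ((congrArg _ e').trans e)⟩
  have := Φ.exists_orderOf_tor (G.tor_inj hi) p h5 Fintype.one_lt_card (G.R.wprod_mem_W L) hn u b h1 (h4 ▸ h2)
  exact ⟨h6 this.1, fun a h7 h8 => h6 (this.2 a (h4 ▸ h7) h8)⟩

/-- certificate for an element of a maximal torus -/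
def TorOk (L : List (Fin D.rank)) (N : List ℤ) (u : List (List ℤ)) (b : List ℤ) (v : List (List ℤ)) : Prop :=
  N.headD 0 ^ 2 = 1 ∧ peq (lc (vec 0 b) (vec (n := D.rank) [] u)) [1] = true ∧ ∀ j,
    peq (0 :: lc (fun i => G.R.co (L.foldr G.R.sref (G.R.simple i)) j) (vec [] u)) (padd (vec [] u j) (pmul (vec [] v j) N)) = true

instance instDecTorOk (L N u b v) : Decidable (G.TorOk L N u b v) := by unfold TorOk; infer_instance

section
variable {G} (p : ℕ) [hp : Fact p.Prime] [CharP F p] {L : List (Fin D.rank)}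
  {N N' b b' : List ℤ} {u v u' v' : List (List ℤ)} (h : G.TorOk L N u b v) {q : ℤ} (hq : Fintype.card F = q) {n n' : ℕ}
include h hq

theorem TorOk.spec (hn : (n : ℤ) ∣ pe q N) : ¬ p ∣ n ∧ (fun i : Fin D.rank => pe q (vec [] u i)) ⬝ᵥ vec 0 b = 1 ∧
    ∀ j, (n : ℤ) ∣ ((fun i => pe q (vec [] u i)) ᵥ* (q • G.R.cm (G.R.wprod L * 1))) j - pe q (vec [] u j) := by
  refine ⟨fun e => ?_, by simpa using pe_of_peq h.2.1 q, fun j => hn.trans ⟨pe q (vec [] v j), ?_⟩⟩
  · obtain ⟨h1, -⟩ := h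
    obtain _ | ⟨a, N⟩ := N
    · simp at h1
    have h2 : (p : ℤ) ∣ q := hq ▸ Int.natCast_dvd_natCast.2 ((CharP.cast_eq_zero_iff F p _).1 (FiniteField.cast_card_eq_zero F))
    have := ((Int.dvd_iff_dvd_of_dvd_add ((Int.natCast_dvd_natCast.2 e).trans hn)).2 (h2.mul_right _)).pow two_ne_zero
    exact hp.1.ne_one (Nat.dvd_one.1 (Int.natCast_dvd_natCast.1 (this.trans (dvd_of_eq h1))))
  · have := pe_of_peq (h.2.2 j) q
    simp only [pe_cons, pe_lc, pe_padd, pe_pmul] at this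
    rw [cm_wprod, vecMul_smul]
    exact sub_eq_iff_eq_add.2 (((zero_add _).symm.trans this).trans (by ring))

theorem TorOk.ord (hi : ∀ c, mpow Kˣ G.R.A c = 1 → c = 1) (hn : (n : ℤ) ∣ pe q N) : (∃ g : D.group F, orderOf g = n) ∧ ∀ a y, L.foldr G.R.sref a = a ∧
    peq (lc (G.R.wt a) (vec [] u)) (pmul y N) = true → ∃ g : D.group F, orderOf g = p * n := by
  obtain ⟨h1, h2, h3⟩ := h.spec p hq hn
  subst hq
  have := G.exists_orderOf_tor hi p L h1 _ _ (by rw [h2]; simp) h3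
  refine ⟨this.1, fun a y e => this.2 a ((wprod_apply _ _ _).trans e.1) ?_⟩
  rw [← pe_lc, pe_of_peq e.2, pe_pmul]; exact hn.mul_left _

include hp in
theorem TorOk.ord2 (h' : G.TorOk L N' u' b' v') (hi : ∀ c, mpow Kˣ G.R.A c = 1 → c = 1)
    (hn : (n : ℤ) ∣ pe q N) (hn' : (n' : ℤ) ∣ pe q N') (hc : n.Coprime n') :
    ∃ g : D.group F, orderOf g = n * n' := by
  obtain ⟨h1, h2, h3⟩ := h.spec p hq hn
  obtain ⟨h4, h5, h6⟩ := h'.spec p hq hn'
  obtain ⟨x, y, e⟩ := Nat.isCoprime_iff_coprime.2 hc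
  refine (G.exists_orderOf_tor hi p L (fun e => (hp.1.dvd_mul.1 e).elim h1 h4) ((y * n') • (fun i => pe q (vec [] u i)) +
    (x * n) • fun i => pe q (vec [] u' i)) ((y * n') • vec 0 b + (x * n) • vec 0 b') ?_ fun j => ?_).1
  · simp only [add_dotProduct, dotProduct_add, smul_dotProduct, dotProduct_smul, h2, h5, smul_eq_mul]
    generalize _ ⬝ᵥ vec 0 b = s, _ ⬝ᵥ vec 0 b' = t
    exact ⟨x * y * (s + t - 2), by push_cast; linear_combination (x * n + y * n' + 1) * e⟩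
  · obtain ⟨a, h3⟩ := h3 j
    obtain ⟨a', h6⟩ := h6 j
    simp only [add_vecMul, smul_vecMul, Pi.add_apply, Pi.smul_apply, smul_eq_mul, hq]
    exact ⟨y * a + x * a', by push_cast; linear_combination y * n' * h3 + x * n * h6⟩

end

theorem jordan_pow (hi : ∀ c, mpow Kˣ G.R.A c = 1 → c = 1) (g : D.group F) :
    ∃ (ν : Fin D.rank → ℤ) (c : Fin D.rank → Kˣ), 0 < orderOf c ∧ (∀ r, G.R.chi c r = 1 ↔ (orderOf c : ℤ) ∣ ν ⬝ᵥ G.R.wt r) ∧
      (∀ n : ℤ, (∀ i, (orderOf c : ℤ) ∣ n * ν ⬝ᵥ G.R.wt (G.R.simple i)) → c ^ n = 1) ∧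
      (∀ i, 0 ≤ ν ⬝ᵥ G.R.wt (G.R.simple i)) ∧ (∀ r, ν ⬝ᵥ G.R.wt r ≤ orderOf c) ∧ ∃ w ∈ G.R.W,
      mpow Kˣ ((Fintype.card F : ℤ) • G.R.cm w) c = c ∧ (∀ r, G.R.chi c r = 1 → G.R.pos r → G.R.pos (w r)) ∧
      ∃ u ∈ (G.SG K).U ({r | G.R.pos r} ∩ {r | G.R.chi c r = 1}), ∀ n : ℤ, g ^ n = 1 ↔ c ^ n = 1 ∧ u ^ n = 1 := by
  obtain ⟨z, ν, c, h1, h2, h3, h4, h5, w, h6, h7, h8, u, h9, x, h10⟩ := G.jordan hi g
  obtain ⟨Φ, -⟩ := G.exists_fr' F hi
  refine ⟨ν, c, h3 ▸ h2, fun r => ?_, fun n h => hi _ (funext fun i => ?_), h4, h3 ▸ h5, w, h6, h7, h8, u, h9, fun n => ?_⟩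
  · rw [h3, h1, chi_zpow, orderOf_dvd_iff_zpow_eq_one]
  · have := h i
    rw [h3, orderOf_dvd_iff_zpow_eq_one, mul_comm, _root_.zpow_mul, ← chi_zpow, ← h1] at this
    simpa [chi, mpow_apply, wt_simple, ← Finset.prod_zpow, ← _root_.zpow_mul, mul_comm] using this
  · rw [← Φ.tor_mul_zpow (G.tor_inj hi) h9, ← map_eq_one_iff _ (G.mapG_inj (algebraMap F K)), map_zpow, h10, conj_zpow,
      conj_eq_one_iff]

end Good

/-- the matrices of the seven-dimensional representation -/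
def matG2 (T r : ℕ) : Matrix (Fin 7) (Fin 7) ℤ := Matrix.of fun a b => sd4 T (64 * r + 8 * a + b)

/-- first table -/
def e1G2 : ℕ := 0x888888888888888888888888888888888888888888888888878888888878888888888888888888888888888888888888888888888788888888888888888988888888888888888888888888888888888886888888889888888889888888887888888888888888888888888888898888888868888888888888888898888888878888888888888888888988888888888888888a8888888898888888888888888898888888888888888888888888889888888888888888888888888889888888888888888888888888888889888888888888888888888888889888888888888888888888888888988888888888888888988888888a8888888888888888898888888888888888888988888888788888888888888888a8888888878888888888888888888888888888788888888988888888988888888688888888888888888888888888888888888887888888888888888889888888888888888888888888888888888888888888888878888888878888888888888888888888888888888888888888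

/-- second table -/
def e2G2 : ℕ := 0x888888888888888888888888888888888888888888888888888888888888888888888888888888888888888888888888888888888888888888888888888888888888888888888888888888888888888888888888888888888888888889888888888888888888888888888888888888888888888888888888887888888888888888888888888888888888888888888888888888888889888888888888888888888888888888888888888888888888888888888888888888888888888888888888888888888888888888888888888888888888888888888888888888888888888888888888888888888888888888888988888888888888888888888888888888888888888888888888888888788888888888888888888888888888888888888888888888888888888988888888888888888888888888888888888888888888888888888888888888888888888888888888888888888888888888888888888888888888888888888888888888888888888888888888888888888888888888888888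

/-- the seven-dimensional representation -/
noncomputable def repG2 : Rep goodG2.C.toPreChev (Fin 7) where
  E1 r := matG2 e1G2 r
  E2 r := matG2 e2G2 r
  E3 _ := 0
  wt a := vec 0 (vec [] [[1, 0], [-1, 1], [2, -1], [0, 0], [-2, 1], [1, -1], [-1, 0]] a)
  grade r a b h := by change sd4 _ _ ≠ 0 at h; revert r a b; decide +kernel
  dp2 := by decide +kernel
  dp3 := by decide +kernel
  dp4 r := Matrix.mul_zero _
  br r s h := by
    rw [show (goodG2.R.plus r s).val = _ from (okG2.okS_of ok3G2 okSG2).plus r s]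
    revert r s; decide +kernel
  br_neg := by decide +kernel

theorem RootSys.cm_refl {ι κ : Type*} [Fintype κ] [DecidableEq κ] [Fintype ι] [DecidableEq ι] (R : RootSys ι κ) (a : ι) :
    R.cm (R.refl a) = 1 - vecMulVec (R.wt a) (R.co a) := by
  ext i j; simp [RootSys.cm, co_refl, co_simple, pair_simple_left, vecMulVec_apply, one_apply, Pi.single_apply, eq_comm]

namespace G2
variable {K : Type*} [Field K]

theorem exists_model : ∃ M : (goodG2.SG K).Model (Fin 7), M.V = repG2 :=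
  have ⟨θ, h⟩ := goodG2.exists_rep kerG2 (repG2.hmul K)
  ⟨⟨repG2, θ, h, fun r => by
    obtain ⟨a, b, h⟩ : ∃ a b : Fin 7, sd4 e1G2 (64 * r + 8 * a + b) ^ 2 = 1 := by revert r; decide +kernel
    exact ⟨a, b, fun e => by simpa [show ((sd4 e1G2 (64 * r + 8 * a + b) : ℤ) : K) = 0 from e] using congrArg (Int.cast (R := K)) h⟩⟩,
    rfl⟩

/-- the weights in root coordinates -/
def gam (a : Fin 7) : Fin chevG2.rank → ℤ := vec 0 (vec [] [[2, 1], [1, 1], [1, 0], [0, 0], [-1, 0], [-1, -1], [-2, -1]] a)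

theorem pow_eq_one (p : ℕ) [Fact p.Prime] [CharP K p] (f : (Fin chevG2.rank → ℤ) →+ ℤ) {n k : ℕ}
    (hn : ∀ a b, f (gam a - gam b) < n) (hk : n ≤ p ^ k) {A : Set _} (hA : ∀ r ∈ A, 0 < f (goodG2.R.cf r)) {u : chevG2.group K}
    (hu : u ∈ (goodG2.SG K).U A) : u ^ p ^ k = 1 := by
  obtain ⟨M, h⟩ := exists_model (K := K)
  have h1 : ∀ a, repG2.wt a = goodG2.R.A *ᵥ gam a := by decide +kernel
  refine M.pow_eq_one p (fun a b μ e => ?_) hk (U_mono hA hu)
  rw [h, h1, h1, ← mulVec_add] at e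
  simpa [goodG2.R.A_mulVec_inj e] using hn a b

theorem weyl_poly {w : Equiv.Perm _} (hw : w ∈ goodG2.R.Aut) (a : Fin chevG2.nroots) : ∃ L ∈ [[-1, 1], [1, 1], [1, 1, 1], [1, -1, 1]],
    mev (goodG2.R.cm w) L = 0 ∧ mev (goodG2.R.cm (w * goodG2.R.refl a)) [-1, 0, 1] = 0 ∨
    mev (goodG2.R.cm w) [-1, 0, 1] = 0 ∧ mev (goodG2.R.cm (w * goodG2.R.refl a)) L = 0 := by
  have h1 := Aut.pair_eq hw 7 6
  have h2 := Aut.pair_eq hw 6 7
  rw [cm_mul hw, cm_refl, show goodG2.R.cm w = Matrix.of (vec 0 [goodG2.R.co (w 7), goodG2.R.co (w 6)]) from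
    Matrix.ext fun i j => by fin_cases i <;> rfl]
  generalize w 7 = x at *
  generalize w 6 = y at *
  clear hw
  revert a; revert h1 h2; revert x y; decide +kernel

end G2
end H14
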