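import Cfsg.Agent.H14.G2Spec

/-! The spectrum of the groups of type G2. -/

open Matrix
set_option linter.unusedSectionVars false
set_option maxRecDepth 100000
set_option synthInstance.maxSize 10000

namespace H14
open RootSys PreSt St Cfsg.Lie

theorem max_subset {T S : Set ℕ} (h1 : S ⊆ T) (h2 : ∀ m ∈ T, ∃ n ∈ S, m ∣ n) : {n | n ∈ T ∧ ∀ m ∈ T, n ∣ m → m = n} ⊆ S :=
  fun n h => have ⟨m, a, b⟩ := h2 n h.1; h.2 m (h1 a) b ▸ a

theorem max_eq {T S : Set ℕ} (h1 : S ⊆ T) (h2 : ∀ m ∈ T, ∃ n ∈ S, m ∣ n) (h3 : ∀ a ∈ S, ∀ b ∈ S, a ∣ b → a = b) :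
    {n | n ∈ T ∧ ∀ m ∈ T, n ∣ m → m = n} = S :=
  (max_subset h1 h2).antisymm fun n h => ⟨h1 h, fun m a b =>
    have ⟨k, c, d⟩ := h2 m a; Nat.dvd_antisymm (h3 n h k c (b.trans d) ▸ d) b⟩

theorem le_of_pow_mul_dvd {p i j x y : ℕ} (hp : p.Prime) (hx : ¬ p ∣ x) (hy : ¬ p ∣ y) (h : p ^ i * x ∣ p ^ j * y) :
    i ≤ j ∧ (x = y ∨ 2 * x ≤ y) := by
  obtain ⟨c, rfl⟩ := ((hp.coprime_iff_not_dvd.2 hx).pow_left j).symm.dvd_of_dvd_mul_left (dvd_of_mul_left_dvd h)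
  refine ⟨(Nat.pow_dvd_pow_iff_le_right hp.one_lt).1
    (((hp.coprime_iff_not_dvd.2 hy).pow_left i).dvd_of_dvd_mul_right (dvd_of_mul_right_dvd h)), ?_⟩
  obtain _ | _ | c := c
  · simp at hy
  · simp
  · exact .inr (by nlinarith)

namespace G2

theorem tor_pow {Γ : Type*} [CommGroup Γ] {c : Fin chevG2.rank → Γ} {w : Equiv.Perm _} (hw : w ∈ goodG2.R.Aut) {q : ℤ}
    (h : mpow Γ (q • goodG2.R.cm w) c = c) : (∃ n ∈ [q ^ 2 - 1, q ^ 2 + q + 1, q ^ 2 - q + 1], c ^ n = 1) ∧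
      ∀ a, goodG2.R.chi c a = 1 → c ^ (q - 1) = 1 ∨ c ^ (q + 1) = 1 := by
  simp only [← orderOf_dvd_iff_zpow_eq_one]
  have h1 : ∀ {w L}, mpow Γ (q • goodG2.R.cm w) c = c → mev (goodG2.R.cm w) L = 0 → (orderOf c : ℤ) ∣ pe q L := fun a b =>
    orderOf_dvd_iff_zpow_eq_one.2 (zpow_pe_eq_one a b)
  have e : pe q [-1, 1] = q - 1 ∧ pe q [1, 1] = q + 1 ∧ pe q [1, 1, 1] = q ^ 2 + q + 1 ∧ pe q [1, -1, 1] = q ^ 2 - q + 1 ∧
      pe q [-1, 0, 1] = q ^ 2 - 1 := by simp only [pe_cons, pe_nil]; refine ⟨?_, ?_, ?_, ?_, ?_⟩ <;> ring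
  have h2 : ∀ a, ∃ n ∈ [q - 1, q + 1, q ^ 2 + q + 1, q ^ 2 - q + 1], (orderOf c : ℤ) ∣ q ^ 2 - 1 ∧
      (goodG2.R.chi c a = 1 → (orderOf c : ℤ) ∣ n) ∨ (orderOf c : ℤ) ∣ n ∧ (goodG2.R.chi c a = 1 → (orderOf c : ℤ) ∣ q ^ 2 - 1) :=
    fun a => by
      have h4 : goodG2.R.chi c a = 1 → mpow Γ (q • goodG2.R.cm (w * goodG2.R.refl a)) c = c := fun ha => by
        rw [cm_mul hw, ← Matrix.mul_smul, mpow_mul, mpow_cm_WA (refl_mem_WA ha), h]
      obtain ⟨L, hL, h2⟩ := weyl_poly hw a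
      exact ⟨pe q L, by simpa only [List.map, e] using List.mem_map_of_mem (f := pe q) hL, e.2.2.2.2 ▸ h2.symm.imp
        (fun h2 => ⟨h1 h h2.1, fun ha => h1 (h4 ha) h2.2⟩) fun h2 => ⟨h1 h h2.1, fun ha => h1 (h4 ha) h2.2⟩⟩
  simp only [List.mem_cons, List.not_mem_nil, or_false, exists_eq_or_imp, exists_eq_left] at h2 ⊢
  have h3 : q - 1 ∣ q ^ 2 - 1 ∧ q + 1 ∣ q ^ 2 - 1 := ⟨⟨q + 1, by ring⟩, q - 1, by ring⟩
  refine ⟨?_, fun a ha => ?_⟩
  · rcases h2 0 with (h | h) | (h | h) | (h | h) | h | h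
    exacts [.inl h.1, .inl (h.1.trans h3.1), .inl h.1, .inl (h.1.trans h3.2), .inl h.1, .inr (.inl h.1), .inl h.1, .inr (.inr h.1)]
  have h7 : (orderOf c : ℤ) ∣ q ^ 2 - 1 → ∀ x y, 3 = x + y * (q ^ 2 - 1) → (orderOf c : ℤ) ∣ x →
      (orderOf c : ℤ) ∣ q - 1 ∨ (orderOf c : ℤ) ∣ q + 1 := fun h6 x y e1 e2 => by
    rcases (Nat.dvd_prime Nat.prime_three).1 (Int.natCast_dvd_natCast.1 (e1 ▸ e2.add (h6.mul_left y) :)) with e | e <;>
      rw [e] at h6 ⊢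
    · simp
    · exact Int.prime_three.dvd_or_dvd (h6.trans ⟨1, by ring⟩)
  have h8 := h2 a
  simp only [ha, forall_true_left, and_comm (b := _ ∣ q ^ 2 - 1), or_self] at h8
  rcases h8 with h | h | h | h
  exacts [.inl h.2, .inr h.2, h7 h.1 _ (q - 1) (by ring) (h.2.mul_left (2 - q)), h7 h.1 _ (-1 - q) (by ring) (h.2.mul_left (q + 2))]

theorem spec {F : Type*} [Field F] [Fintype F] (p : ℕ) [hp : Fact p.Prime] [CharP F p] {k : ℕ} (hk : 7 ≤ p ^ k) {q : ℤ}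
    (hq : Fintype.card F = q) (g : chevG2.group F) : ∃ n ∈ [q ^ 2 - 1, q ^ 2 + q + 1, q ^ 2 - q + 1, p * (q - 1), p * (q + 1),
      p ^ k, if p = 2 then 12 else 1], (orderOf g : ℤ) ∣ n := by
  simp only [orderOf_dvd_iff_zpow_eq_one]
  obtain ⟨ν, c, h1, h2, h3, h4, h5, w, h6, h7, -, u, h8, h9⟩ := goodG2.jordan_pow kerG2 g
  obtain ⟨⟨n, h10, h11⟩, h12⟩ := tor_pow (W_le_Aut _ h6) (hq ▸ h7)
  rcases Set.eq_empty_or_nonempty ({r | goodG2.R.pos r} ∩ {r | goodG2.R.chi c r = 1}) with e | ⟨a, -, ha⟩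
  · rw [e, U_empty, Subgroup.mem_bot] at h8
    exact ⟨n, List.mem_of_mem_take (i := 3) h10, (h9 n).2 ⟨h11, by simp [h8]⟩⟩
  have h13 : u ^ p = 1 → ∃ n ∈ [q ^ 2 - 1, q ^ 2 + q + 1, q ^ 2 - q + 1, p * (q - 1), p * (q + 1), p ^ k,
      if p = 2 then 12 else 1], g ^ n = 1 := fun e => (h12 a ha).elim
    (fun e' => ⟨p * (q - 1), by simp, (h9 _).2 ⟨by rw [mul_comm, _root_.zpow_mul, e', _root_.one_zpow], by simp [_root_.zpow_mul, e]⟩⟩)
    fun e' => ⟨p * (q + 1), by simp, (h9 _).2 ⟨by rw [mul_comm, _root_.zpow_mul, e', _root_.one_zpow], by simp [_root_.zpow_mul, e]⟩⟩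
  have h15 := h4 ⟨0, by decide⟩
  have h16 := h4 ⟨1, by decide⟩
  have h17 := h5 11
  obtain ⟨s, hs⟩ : ∃ s, ν ⬝ᵥ goodG2.R.wt (goodG2.R.simple ⟨0, by decide⟩) = s := ⟨_, rfl⟩
  obtain ⟨t, ht⟩ : ∃ t, ν ⬝ᵥ goodG2.R.wt (goodG2.R.simple ⟨1, by decide⟩) = t := ⟨_, rfl⟩
  have h18 : ∀ r, ν ⬝ᵥ goodG2.R.wt r = goodG2.R.cf r ⟨0, by decide⟩ * s + goodG2.R.cf r ⟨1, by decide⟩ * t := fun r =>
    hs ▸ ht ▸ (lin_wt ν r).trans (Fin.sum_univ_two _)
  have h19 : ∀ r, goodG2.R.pos r → (r, goodG2.R.cf r ⟨0, by decide⟩, goodG2.R.cf r ⟨1, by decide⟩) ∈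
      [(6, 0, 1), (7, 1, 0), (8, 1, 1), (9, 2, 1), (10, 3, 1), (11, 3, 2)] := by decide +kernel
  have h20 : ∀ n : ℤ, (orderOf c : ℤ) ∣ n * s → (orderOf c : ℤ) ∣ n * t → c ^ n = 1 := fun n a b =>
    h3 n fun i => by fin_cases i; exacts [hs ▸ a, ht ▸ b]
  rw [h18, show goodG2.R.cf 11 = vec 0 [3, 2] by decide +kernel] at h17
  rw [hs] at h15; rw [ht] at h16
  change 3 * s + 2 * t ≤ _ at h17
  have h21 : ∀ L : List (Fin chevG2.nroots), (t = 0 ∨ t = orderOf c → 6 ∈ L) → (s = 0 ∨ s = orderOf c → 7 ∈ L) →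
      (s + t = 0 ∨ s + t = orderOf c → 8 ∈ L) → (2 * s + t = 0 ∨ 2 * s + t = orderOf c → 9 ∈ L) →
      (3 * s + t = 0 ∨ 3 * s + t = orderOf c → 10 ∈ L) → 11 ∈ L → u ∈ (goodG2.SG _).U {r | r ∈ L} :=
    fun L a b d e f g => U_mono (fun r hr => by
      have h' := fun h => Int.le_of_dvd h ((h2 r).1 hr.2)
      have := h19 r hr.1
      simp only [List.mem_cons, List.not_mem_nil, or_false, Prod.mk.injEq] at this
      simp only [h18] at h'
      rcases this with h | h | h | h | h | h <;> rw [h.2.1, h.2.2] at h' <;> rw [h.1]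
      exacts [a (by omega), b (by omega), d (by omega), e (by omega), f (by omega), g]) h8
  by_cases h22 : s = 0 ∧ t = 0
  · refine ⟨p ^ k, by simp, (h9 _).2 ⟨h20 _ (by simp [h22]) (by simp [h22]), ?_⟩⟩
    exact_mod_cast pow_eq_one p (htf _) (by decide +kernel) hk (fun r h => htf_pos h.1) h8
  by_cases h23 : s = 0
  · exact h13 (St.pow_char_of_commute (by unfold IsSum; decide +kernel)
      (h21 [7, 11] (by omega) (by simp) (by omega) (by omega) (by omega) (by simp)))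
  by_cases h24 : t = 0 ∧ 3 * s = orderOf c
  · have h25 := fun k hk => pow_eq_one p (Pi.evalAddMonoidHom _ ⟨1, Nat.one_lt_two⟩) (n := 3) (k := k) (by decide +kernel) hk
      (by decide +kernel) (h21 [6, 10, 11] (by simp) (by omega) (by omega) (by omega) (by simp) (by simp))
    rcases hp.1.eq_two_or_odd' with rfl | h
    · refine ⟨12, by simp, (h9 _).2 ⟨h20 _ ⟨4, by omega⟩ (by simp [h24]), ?_⟩⟩
      exact_mod_cast show u ^ (2 ^ 2 * 3) = 1 by rw [pow_mul, h25 2 (by decide), one_pow]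
    · exact h13 (by simpa using h25 1 (by simpa using hp.1.odd_iff.1 h))
  exact h13 (St.pow_char_of_commute (by unfold IsSum; decide +kernel)
    (h21 [6, 11] (by simp) (by omega) (by omega) (by omega) (by omega) (by simp)))

variable {F : Type*} [Field F] [Fintype F]

theorem exists_ord (p : ℕ) [hp : Fact p.Prime] [CharP F p] {q : ℕ} (hq : Fintype.card F = q) :
    ∀ n ∈ [q ^ 2 - 1, q ^ 2 + q + 1, q ^ 2 - q + 1, p * (q - 1), p * (q + 1)], ∃ g : chevG2.group F, orderOf g = n := by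
  have h : 1 ≤ q := hq ▸ Fintype.card_pos
  have h1 := Nat.one_le_pow 2 q h
  have h2 := Nat.le_self_pow two_ne_zero q
  have e : (Fintype.card F : ℤ) = q := congrArg _ hq
  simp only [List.forall_mem_cons, List.not_mem_nil, false_imp_iff, implies_true, and_true]
  exact ⟨((by decide +kernel : goodG2.TorOk [1] [-1, 0, 1] [[-1, -1], [-2, -1]] [1, -1] [[-1], [-2]]).ord p e kerG2
      (dvd_of_eq (by simp [h1]; ring))).1,
    ((by decide +kernel : goodG2.TorOk [0, 1, 0, 1] [1, 1, 1] [[1], [2, 1]] [1, 0] [[-1], [-2]]).ord p e kerG2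
      (dvd_of_eq (by simp; ring))).1,
    ((by decide +kernel : goodG2.TorOk [0, 1] [1, -1, 1] [[1], [1, 1]] [1, 0] [[-1], [-1]]).ord p e kerG2
      (dvd_of_eq (by simp [h2]; ring))).1,
    ((by decide +kernel : goodG2.TorOk [] [-1, 1] [[1], [2]] [1, 0] [[1], [2]]).ord p e kerG2
      (dvd_of_eq (by simp [h]; ring))).2 7 [] (by decide +kernel),
    ((by decide +kernel : goodG2.TorOk [1, 0, 1, 0, 1] [1, 1] [[1], [2]] [1, 0] [[-1], [-2]]).ord p e kerG2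
      (dvd_of_eq (by simp; ring))).2 7 [] (by decide +kernel)⟩

theorem ord8 [CharP F 2] : ∃ g : chevG2.group F, orderOf g = 8 := goodG2.exists_ord_wd 2 [(7, 1), (6, 1)] (by decide +kernel)

theorem ord12 [CharP F 2] : ∃ g : chevG2.group F, orderOf g = 12 :=
  goodG2.exists_ord_wd 2 [(0, 1), (2, 1), (9, 1)] (by decide +kernel)

theorem ord9 [CharP F 3] : ∃ g : chevG2.group F, orderOf g = 9 := goodG2.exists_ord_wd 3 [(7, 1), (6, 1)] (by decide +kernel)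

theorem ord25 [CharP F 5] : ∃ g : chevG2.group F, orderOf g = 25 := goodG2.exists_ord_wd 5 [(7, 1), (6, 1)] (by decide +kernel)

theorem spec' (p : ℕ) [hp : Fact p.Prime] [CharP F p] {k : ℕ} (hk : 7 ≤ p ^ k) {q : ℕ} (hq : Fintype.card F = q)
    (g : chevG2.group F) : ∃ n ∈ [q ^ 2 - 1, q ^ 2 + q + 1, q ^ 2 - q + 1, p * (q - 1), p * (q + 1), p ^ k,
      if p = 2 then 12 else 1], orderOf g ∣ n := by
  have h : 1 ≤ q := hq ▸ Fintype.card_pos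
  simpa [← Int.natCast_dvd_natCast, h, Nat.one_le_pow 2 q h, Nat.le_self_pow two_ne_zero q] using
    spec p hk (q := q) (congrArg _ hq) g

theorem max_odd (p : ℕ) [hp : Fact p.Prime] [CharP F p] (h2 : p ≠ 2) {q : ℕ} (hq : Fintype.card F = q) (h5 : 5 ≤ q) :
    {n | n ∈ Set.range (orderOf : chevG2.group F → ℕ) ∧ ∀ m ∈ Set.range (orderOf : chevG2.group F → ℕ), n ∣ m → m = n} =
      {p * (q + 1), p * (q - 1), q ^ 2 - 1, q ^ 2 + q + 1, q ^ 2 - q + 1} ∪ if p = 3 ∨ p = 5 then {p ^ 2} else ∅ := by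
  have h3 := exists_ord p hq
  simp only [List.forall_mem_cons] at h3
  refine max_eq ?_ ?_ fun a ha b hb h => ?_
  · rintro _ ((rfl | rfl | rfl | rfl | rfl) | h)
    exacts [h3.2.2.2.2.1, h3.2.2.2.1, h3.1, h3.2.1, h3.2.2.1, by
      split_ifs at h with e
      exacts [by rcases e with rfl | rfl; exacts [h ▸ ord9, h ▸ ord25], h.elim]]
  · rintro _ ⟨g, rfl⟩
    by_cases e : p = 3 ∨ p = 5
    · have := spec' p (k := 2) (by rcases e with rfl | rfl <;> decide) hq g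
      simp only [List.mem_cons, List.not_mem_nil, or_false, exists_eq_or_imp, exists_eq_left, if_neg h2] at this
      rcases this with h | h | h | h | h | h | h
      all_goals first | exact ⟨q ^ 2 - 1, by simp, h.trans (one_dvd _)⟩ | exact ⟨_, by simp [e], h⟩
    · have := spec' p (k := 1) (by
        by_contra h
        have := hp.1
        have : p < 7 := by simpa using h
        interval_cases p <;> simp_all (config := {decide := true})) hq g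
      simp only [List.mem_cons, List.not_mem_nil, or_false, exists_eq_or_imp, exists_eq_left, if_neg h2] at this
      rcases this with h | h | h | h | h | h | h
      exacts [⟨_, by simp, h⟩, ⟨_, by simp, h⟩, ⟨_, by simp, h⟩, ⟨_, by simp, h⟩, ⟨_, by simp, h⟩,
        ⟨p * (q - 1), by simp, h.trans (by simp)⟩, ⟨p * (q - 1), by simp, h.trans (by simp)⟩]
  obtain ⟨c, hc⟩ : p ∣ q := hq ▸ (CharP.cast_eq_zero_iff F p _).1 (FiniteField.cast_card_eq_zero F)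
  have h6 : 5 * q ≤ q ^ 2 := by nlinarith
  have h4 : ∀ a ∈ ({p * (q + 1), p * (q - 1), q ^ 2 - 1, q ^ 2 + q + 1, q ^ 2 - q + 1} ∪ if p = 3 ∨ p = 5 then {p ^ 2} else ∅ : Set ℕ),
      ∃ i x, a = p ^ i * x ∧ ¬ p ∣ x ∧ (i = 1 ∧ (x = q + 1 ∨ x + 1 = q) ∨ i = 2 ∧ x = 1 ∨
        i = 0 ∧ (x + 1 = q ^ 2 ∨ x = q ^ 2 + q + 1 ∨ x + q = q ^ 2 + 1)) := by
    have h7 : ∀ x y z, x + y = z + 1 ∨ x + y + 1 = z → p ∣ y → p ∣ z → ¬ p ∣ x := fun x y z a b c d =>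
      hp.1.ne_one (Nat.dvd_one.1 (a.elim (fun a => (Nat.dvd_add_right c).1 (a ▸ d.add b)) fun a =>
        (Nat.dvd_add_right (d.add b)).1 (a ▸ c)))
    have h8 : p ∣ q := ⟨c, hc⟩
    have h9 : p ∣ q ^ 2 := h8.pow two_ne_zero
    rintro _ ((rfl | rfl | rfl | rfl | rfl) | h)
    exacts [⟨1, _, by rw [pow_one], h7 _ 0 q (by omega) (by simp) h8, by omega⟩, ⟨1, _, by rw [pow_one], h7 _ 0 q (by omega) (by simp) h8, by omega⟩,
      ⟨0, _, (one_mul _).symm, h7 _ 0 _ (by omega) (by simp) h9, by omega⟩,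
      ⟨0, _, (one_mul _).symm, h7 _ 0 _ (by omega) (by simp) (h9.add h8), by omega⟩,
      ⟨0, _, (one_mul _).symm, h7 _ q _ (by omega) h8 h9, by omega⟩,
      ⟨2, 1, by split_ifs at h <;> simp_all, h7 _ 0 0 (by omega) (by simp) (by simp), by omega⟩]
  obtain ⟨i, x, rfl, h7, h8⟩ := h4 a ha
  obtain ⟨j, y, rfl, h9, h10⟩ := h4 b hb
  have := le_of_pow_mul_dvd hp.1 h7 h9 h
  rw [show i = j by omega, show x = y by omega]

end G2
end H14
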