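/-
S5211, `p = 3`: leading coefficients of the automorphisms of `S`, and the subgroups `Ln m` are not essential.
-/
import Cfsg.Agent.H2.G0

set_option autoImplicit false
set_option linter.unusedSectionVars false
set_option linter.unusedSimpArgs false

namespace H14.G3
open Subgroup H25 H8.PU H25.GC H25.GC.Gc H2.G
universe u v
variable {K : Type v} [Field K] [CharP K 3] {Γ : Type u} [Group Γ]

theorem pw3 (c : Gc K) : c ^ 3 = ⟨0, 0, 0, -(c.a ^ 2 * c.u), 0, c.a ^ 3 * c.u ^ 2⟩ := by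
  have := h3 (K := K)
  rw [pow_three']
  ext <;> simp only [mul_a, mul_u, mul_s, mul_r, mul_v, mul_z] <;> grind
theorem cube (c : Gc K) : c ^ 3 = 1 ↔ c.a = 0 ∨ c.u = 0 := by
  rw [pw3]
  exact ⟨fun e => by simpa using congrArg Gc.r e, fun e => by ext <;> rcases e with e | e <;> simp [e]⟩
theorem cmY (c : Gc K) {y : Gc K} (h : y.a = 0) (h' : y.u = 0) :
    c * y * c⁻¹ * y⁻¹ = ⟨0, 0, 0, c.a * y.s, 0, c.u * y.v⟩ := by
  have := h3 (K := K)
  ext <;> simp only [mul_a, mul_u, mul_s, mul_r, mul_v, mul_z, inv_a, inv_u, inv_s, inv_r, inv_v, inv_z, h, h'] <;> grind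
theorem cm_v (c d : Gc K) : (c * d * c⁻¹ * d⁻¹).v = d.a ^ 3 * c.u - c.a ^ 3 * d.u := by
  have := h3 (K := K)
  simp only [mul_a, mul_u, mul_s, mul_r, mul_v, mul_z, inv_a, inv_u, inv_s, inv_r, inv_v, inv_z]; grind

/-- leading coefficients -/
def Le (β : Gc K → Gc K) (k l : K) (φ : K ≃+* K) : Prop := ∀ c,
  (β c).a = k * φ c.a ∧ (β c).u = l * φ c.u ∧ (c.a = 0 → c.u = 0 → (β c).s = l * k * φ c.s ∧ (β c).v = l * k ^ 3 * φ c.v ∧
    (c.s = 0 → c.v = 0 → (β c).r = l * k ^ 2 * φ c.r ∧ (β c).z = l ^ 2 * k ^ 3 * φ c.z))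

theorem nz2 {β : Gc K →* Gc K} (i : Function.Injective β) {c : Gc K} (h : c.a ≠ 0) (h' : c.u ≠ 0) :
    (β c).a ≠ 0 ∧ (β c).u ≠ 0 :=
  not_or.1 fun e => not_or.2 ⟨h, h'⟩ ((cube c).1 (i (by rw [map_pow, (cube _).2 e, map_one])))

theorem lead [Finite K] {β : Gc K →* Gc K} (i : Function.Injective β) (h1 : ∀ c : Gc K, c.a = 0 → (β c).a = 0)
    (h2 : ∀ c : Gc K, c.u = 0 → (β c).u = 0) : ∃ k l φ, k ≠ 0 ∧ l ≠ 0 ∧ Le β k l φ := by
  have cm : ∀ c d, β (c * d * c⁻¹ * d⁻¹) = β c * β d * (β c)⁻¹ * (β d)⁻¹ := fun c d => by simp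
  have sp : ∀ c d, β c = β d * β (d⁻¹ * c) := fun c d => by simp
  have ea : ∀ c, (β c).a = (β (xa c.a)).a := fun c => by
    rw [sp c (xa c.a), mul_a, h1 (_ * c) (by simp), add_zero]
  have eu : ∀ c, (β c).u = (β (xu c.u)).u := fun c => by
    rw [sp c (xu c.u), mul_u, h2 (_ * c) (by simp), add_zero]
  obtain ⟨k, hk⟩ : ∃ k, (β (xa 1)).a = k := ⟨_, rfl⟩
  obtain ⟨l, hl⟩ : ∃ l, (β (xu 1)).u = l := ⟨_, rfl⟩
  have n := nz2 i (c := el 1 1 0 0) one_ne_zero one_ne_zero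
  rw [ea, eu, el_a, el_u, hk, hl] at n
  obtain ⟨k0, l0⟩ := n
  have z3 : ∀ y : Gc K, y.a = 0 → y.u = 0 → y.s = 0 → (β y).s = 0 := fun y a b c => by
    have := congrArg Gc.r (cm (xa 1) y)
    rw [cmY _ a b, cmY _ (h1 _ a) (h2 _ b), hk, c, show (⟨0, 0, 0, (xa 1).a * 0, 0, (xa 1).u * y.v⟩ : Gc K) = 1 by ext <;> simp,
      map_one] at this
    exact (mul_eq_zero.1 this.symm).resolve_left k0
  have c1 : ∀ y : Gc K, y.a = 0 → y.u = 0 → y.v = 0 → (β y).v = 0 := fun y a b c => by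
    have := congrArg Gc.z (cm (xu 1) y)
    rw [cmY _ a b, cmY _ (h1 _ a) (h2 _ b), hl, c, show (⟨0, 0, 0, (xu 1).a * y.s, 0, (xu 1).u * 0⟩ : Gc K) = 1 by ext <;> simp,
      map_one] at this
    exact (mul_eq_zero.1 this.symm).resolve_left l0
  have es : ∀ y : Gc K, y.a = 0 → y.u = 0 → (β y).s = (β (xs y.s)).s := fun y a b => by
    rw [sp y (xs y.s), mul_s, z3 (_ * y) (by simp [a]) (by simp [b]) (by simp [a]), h2 (xs _) rfl, mul_zero, add_zero, add_zero]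
  have ev : ∀ y : Gc K, y.a = 0 → y.u = 0 → (β y).v = (β (xv y.v)).v := fun y a b => by
    rw [sp y (xv y.v), mul_v, c1 (_ * y) (by simp [a]) (by simp [b]) (by simp [a]), h1 (_ * y) (by simp [a])]; simp only [mul_zero, zero_mul, add_zero, ne_eq,
      OfNat.ofNat_ne_zero, not_false_eq_true, zero_pow]
  have fs : ∀ a u, (β (xs (a * u))).s = (β (xa a)).a * (β (xu u)).u := fun a u => by
    have := congrArg Gc.s (cm (xu u) (xa a))
    rw [es _ (cm_a _ _) (cm_u _ _), cm_s, cm_s, h1 (xu u) rfl] at this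
    simpa using this
  have fv : ∀ u, (β (xv u)).v = k ^ 3 * (β (xu u)).u := fun u => by
    have := congrArg Gc.v (cm (xu u) (xa 1))
    rw [ev _ (cm_a _ _) (cm_u _ _), cm_v, cm_v, h1 (xu u) rfl, hk] at this
    simpa using this
  have fu : ∀ u, (β (xu u)).u = l * (k⁻¹ * (β (xa u)).a) := fun u => by
    have a := fs 1 u
    have b := fs u 1
    rw [one_mul, hk] at a
    rw [mul_one, hl, a] at b
    field_simp
    linear_combination b
  let ψ : K →+* K :=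
    { toFun := fun a => k⁻¹ * (β (xa a)).a
      map_one' := by rw [hk, inv_mul_cancel₀ k0]
      map_mul' := fun a u => by
        have a1 := fs a u
        have a2 := fs (a * u) 1
        rw [mul_one, a1, hl, fu] at a2
        field_simp at a2 ⊢
        linear_combination -a2
      map_zero' := by rw [h1 _ rfl, mul_zero]
      map_add' := fun a b => by
        rw [show xa (a + b) = xa a * xa b by ext <;> simp, map_mul, mul_a, mul_add] }
  let φ : K ≃+* K := RingEquiv.ofBijective ψ (Finite.injective_iff_bijective.1 ψ.injective)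
  have pa : ∀ a, (β (xa a)).a = k * φ a := fun a => (mul_inv_cancel_left₀ k0 _).symm
  have pu : ∀ a, (β (xu a)).u = l * φ a := fu
  have ps : ∀ a, (β (xs a)).s = l * k * φ a := fun a => by
    have := fs 1 a
    rw [one_mul, hk, pu] at this
    rw [this]; ring
  have pv : ∀ a, (β (xv a)).v = l * k ^ 3 * φ a := fun a => by rw [fv, pu]; ring
  refine ⟨k, l, φ, k0, l0, fun c => ⟨by rw [ea, pa], by rw [eu, pu], fun a b => ⟨by rw [es _ a b, ps], by rw [ev _ a b, pv],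
    fun s v => ?_⟩⟩⟩
  have e1 := cm (xa 1) (xs c.r)
  have e2 := cm (xu 1) (xv c.z)
  rw [cmY (β _) (h1 _ rfl) (h2 _ rfl), cmY _ rfl rfl] at e1 e2
  rw [hk, ps, h2 _ rfl] at e1
  rw [hl, pv, h1 _ rfl] at e2
  have e : c = (⟨0, 0, 0, (xa 1).a * (xs c.r).s, 0, (xa 1).u * (xs c.r).v⟩ : Gc K) *
      ⟨0, 0, 0, (xu 1).a * (xv c.z).s, 0, (xu 1).u * (xv c.z).v⟩ := by ext <;> simp [a, b, s, v]
  have := congrArg β e
  rw [map_mul, e1, e2] at this
  rw [this]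
  constructor <;> simp <;> ring

variable {S : Subgroup Γ} {ev ev' : Gc K →* Γ} {g : Γ}
theorem ex_hom (h : Co S ev) (h' : Co S ev') (hg : g ∈ nz S) :
    ∃ β : Gc K →* Gc K, Function.Injective β ∧ ∀ c, g * ev c * g⁻¹ = ev' (β c) := by
  choose f hf using fun c => (h'.mem _).1 (conj_mem_of_mem_nz hg (h.mS c))
  refine ⟨MonoidHom.mk' f fun c d => h'.inj ?_, fun c d e => h.inj ?_, hf⟩
  · rw [map_mul, ← hf, ← hf, ← hf, map_mul]; group
  · have : f c = f d := e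
    have := (hf c).trans (this ▸ (hf d).symm)
    simpa using this

theorem Le.ld {β : Gc K → Gc K} {k l : K} {φ : K ≃+* K} (h' : Co S ev') (e : ∀ c, g * ev c * g⁻¹ = ev' (β c))
    (h : Le β k l φ) : Ld ev ev' g k l φ := fun c _ q => h'.inj ((e c).symm.trans q) ▸ h c

theorem un {β : Gc K →* Gc K} {X : Subgroup (Gc K)} (h : ∀ c ∈ X, c.a = 0 ∨ c.u = 0) :
    (∀ c ∈ X, (β c).a = 0) ∨ ∀ c ∈ X, (β c).u = 0 := by
  have k : ∀ c ∈ X, (β c).a = 0 ∨ (β c).u = 0 := fun c hc => (cube _).1 (by rw [← map_pow, (cube c).2 (h c hc), map_one])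
  by_contra! n
  obtain ⟨⟨c, hc, a⟩, d, hd, b⟩ := n
  have := k _ (mul_mem hc hd)
  rw [map_mul, mul_a, mul_u, (k c hc).resolve_left a, (k d hd).resolve_right b, add_zero, zero_add] at this
  exact this.elim a b

theorem au3 [Finite K] [Finite Γ] : AU3 K Γ := fun S ev h g hg => by
  obtain ⟨α, i, e⟩ := ex_hom h h hg
  obtain ⟨β, j, f⟩ := ex_hom h (co_gr h) hg
  have q : ∀ c, α c = gr (β c) := fun c => h.inj ((e c).symm.trans (f c))
  have n := nz2 i (c := xa 1 * xu 1) (by simp) (by simp)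
  rw [map_mul, mul_a, mul_u] at n
  rcases un (β := α) (X := Q1 K) fun _ => .inl with a | a <;> rcases un (β := α) (X := Q2 K) fun _ => .inr with b | b
  · exact absurd (by rw [a (xu 1) rfl, b (xa 1) rfl, add_zero]) n.1
  · obtain ⟨k, l, φ, k0, l0, m⟩ := lead i a b
    exact ⟨k, l, φ, k0, l0, .inl (m.ld h e)⟩
  · obtain ⟨k, l, φ, k0, l0, m⟩ := lead j (fun c hc => by simpa [q, gr_u] using a c hc) fun c hc => by
      simpa [q, gr_a] using b c hc
    exact ⟨k, l, φ, k0, l0, .inr (m.ld (co_gr h) f)⟩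
  · exact absurd (by rw [a (xu 1) rfl, b (xa 1) rfl, add_zero]) n.2

theorem kl [Finite K] [Finite Γ] (f : FI Γ 3) (au : AU3 K Γ) : KL K Γ := fun S A ev m h e g => by
  have t3 := h3 (K := K)
  have n1 : (Q1 K).map ev ≤ nz ((Ln m).map ev) := h.c11.nz' (map_mono fun _ k => k.1) (map_mono fun c k => by simp [mLn, mZ1.1 k])
  have p1 : ∀ b ∈ (Q1 K).map ev, b ^ 3 = 1 := by
    rintro _ ⟨c, k, rfl⟩
    rw [← map_pow, (cube c).2 (.inl k), map_one]
  have cp : (C1 K).map ev ≤ (Ln m).map ev := map_mono fun c k => by simp [mLn, mC1.1 k]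
  obtain ⟨⟨i, iA, iN, iv⟩, fx⟩ := f S _ A ((Q1 K).map ev) ((C1 K).map ev) e g (h.le _) n1
    (fun k => by simpa [mLn] using h.mm.1 (k (mem_map_of_mem ev (show xv 1 ∈ Q1 K from rfl))))
    (h.c11.mono le_rfl le_rfl (map_mono fun c k => by simp [mLn, mZ1.1 k])) (fun b k => p1 b k ▸ one_mem _) cp
    (by rintro _ ⟨c, hc, rfl⟩ _ ⟨d, hd, rfl⟩; gs h [hc.1, hd.1, hc.2, hd.2]; cg)
    (fun x k => p1 x (map_mono (K := Ln m) (fun _ k => k.1) k))
    (by rintro _ ⟨c, hc, rfl⟩ _ ⟨d, hd, rfl⟩; gs h [mQ1.1 hc, mC1.1 hd]; cg)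
    ((idx_le' (fun u : K => ev ⟨0, u, 0, 0, m * u, 0⟩) (by
      rintro _ ⟨c, hc, rfl⟩
      exact ⟨c.u, by gs h [mC1, hc.1, hc.2]; ring⟩)).trans (le_idx (fun v : K => ev (xv v)) (fun _ => h.mm.2 rfl) fun a b k => by
        gs h [mLn] at k
        linear_combination -k))
  refine ⟨i, iA, iN, fun k hk ag => ?_⟩
  have x0 : ev ⟨0, 1, 0, 0, m, 0⟩ ∈ (Ln m).map ev := h.mm.2 ⟨rfl, (mul_one m).symm⟩
  have iP := e.An iA
  obtain ⟨κ, l, φ, -, l0, ld | ld⟩ := au S ev h k hk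
  · have fz : ∀ c ∈ C1 K, ∃ z, k * ev (c⁻¹ * xz z) * k⁻¹ = ev (c⁻¹ * xz z) := fun c hc => by
      obtain ⟨t, ht, tn, x, hx, q⟩ := fx _ (mem_map_of_mem ev hc)
      obtain ⟨t, -, rfl⟩ := h.ex ht
      obtain ⟨x, hx, rfl⟩ := hx
      have a0 : t.a = 0 := by
        have := conj_mem_of_mem_nz tn x0
        gs h [mLn] at this
        exact (pow_eq_zero_iff (three_ne_zero' ℕ)).1 (by grind)
      obtain ⟨w, hw, q'⟩ := h.c11 _ (mem_map_of_mem ev a0) _ (mem_map_of_mem ev hx.1)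
      have w1 : w = xz w.z := by ext <;> simp [mZ1.1 hw]
      have := q i iA
      rw [← q', w1, h.inv, h.mul] at this
      exact ⟨w.z, (ag _ (cp (h.mm.2 (mul_mem (inv_mem hc) ⟨rfl, rfl, rfl⟩)))).symm.trans this⟩
    obtain ⟨z, e1⟩ := fz (xs 1) ⟨rfl, rfl, rfl⟩
    obtain ⟨z', e2⟩ := fz (xr 1) ⟨rfl, rfl, rfl⟩
    have a1 := ((ld _ _ e1).2.2 (by simp) (by simp)).1
    have a2 := (((ld _ _ e2).2.2 (by simp) (by simp)).2.2 (by simp) (by simp)).1
    have e3 := iv _ (h.mS (xv 1)) (n1 (h.mm.2 rfl)) _ x0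
    have w : (xv 1 * ⟨0, 1, 0, 0, m, 0⟩ * (xv 1)⁻¹ * (⟨0, 1, 0, 0, m, 0⟩ : Gc K)⁻¹ : Gc K) = xz (-1) := by
      ext <;> simp
    rw [h.inv, h.inv, h.mul, h.mul, h.mul, w, h.inv, ag _ (cp (h.mm.2 ⟨rfl, rfl, rfl⟩))] at e3
    have a3 := (((ld _ _ e3).2.2 rfl rfl).2.2 rfl rfl).2
    simp at a1 a2 a3
    exact one_ne_zero (α := K) (by grind)
  · obtain ⟨d, hd, q⟩ := conj_mem_of_mem_nz iP x0
    obtain ⟨c, rfl⟩ := gr_surj d
    exact l0 (by simpa [show c.u = 0 from hd.1] using (ld _ c ((ag _ x0).symm.trans q.symm)).2.1.symm)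

end H14.G3
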