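/-
S5211, `p ≠ 3`: the chunks BO1, G2, S2.
-/
import Cfsg.Agent.H25.GC1
import Cfsg.Agent.H29.TD5
import Cfsg.Agent.H29.TD3

set_option autoImplicit false
set_option linter.unusedSectionVars false
set_option linter.unusedSimpArgs false

namespace H14.GC
open Subgroup H25.FS H25.GC H25.GC.Gc H2.G
open H25 hiding Md
open H8.PU hiding Co Wt Wy Md Ac2 G2 S2 N2 E2 TR MD SY Bo LH AV
universe u v
variable {K : Type v} [Field K] [Finite K] {Γ : Type u} [Group Γ] [Finite Γ] {p : ℕ} [hp : Fact p.Prime]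
  {S P A X Y : Subgroup Γ} {ev : Gc K →* Γ} {g g' t w τ M1 M2 : Γ} {c : Gc K} {α β γ δ α' β' γ' δ' k l : K} {φ : K ≃+* K}

/-- coordinates on `S` in characteristic `≠ 3` -/
structure C3 (S : Subgroup Γ) (ev : Gc K →* Γ) : Prop extends Co S ev where
  t3 : (3 : K) ≠ 0
macro "g3" h:term:max "[" ls:Lean.Parser.Tactic.simpLemma,* "]" loc:(Lean.Parser.Tactic.location)? : tactic =>
  `(tactic| gs (C3.toCo $h) [$ls,*] $[$loc]?)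
macro "b3" h:term:max hx:ident c:ident hc:ident : tactic => `(tactic| gb (C3.toCo $h) $hx $c $hc)
macro "gr3" h:term:max : tactic => `(tactic| (have := C3.t3 $h; grind))

theorem two_iff [CharP K p] : (2 : K) = 0 ↔ p = 2 := ⟨fun t => (Nat.prime_dvd_prime_iff_eq hp.out Nat.prime_two).1
  ((CharP.cast_eq_zero_iff K p 2).1 (by simpa using t)), fun t => by subst t; simpa using CharP.cast_eq_zero K 2⟩
theorem ac2_mul (k : Ac2 ev g α β γ δ) (k' : Ac2 ev g' α' β' γ' δ') (hg : g' ∈ nz ((Q2 K).map ev)) :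
    Ac2 ev (g * g') (α * α' + β * γ') (α * β' + β * δ') (γ * α' + δ * γ') (γ * β' + δ * δ') := fun c c' hc e => by
  obtain ⟨d, hd, e1⟩ := conj_mem_of_mem_nz hg (mem_map_of_mem ev (show c ∈ Q2 K from hc))
  have k1 := k' c d hc e1.symm
  have k2 := k d c' hd (by rw [e1, ← cj_mul2, e])
  rw [k2.1, k2.2, k1.1, k1.2]
  exact ⟨by ring, by ring⟩

namespace C3
variable (h : C3 S ev)
include h
theorem up {Y' : Subgroup (Gc K)} (hY : Y ≤ X) (k : ∀ c ∈ Y', ∃ w ∈ X, w⁻¹ * ev c ∈ Y) : Y'.map ev ≤ X := by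
  rintro _ ⟨c, hc, rfl⟩
  obtain ⟨w, hw, e⟩ := k c hc
  exact (mul_mem_cancel_left (inv_mem hw)).1 (hY e)
theorem Zle' (k : ∀ r, ev (xs 1) * ev (xr r) * (ev (xs 1))⁻¹ * (ev (xr r))⁻¹ ∈ X) :
    (Z1 K).map ev ≤ X := h.up bot_le fun d hd => ⟨_, k (-d.z / 3), by
  have := h.t3
  rw [mem_bot, inv_mul_eq_one, cm_eq]; g3 h [] at hd; g3 h [hd]; field_simp; cg⟩
theorem Z2le (hZ : (Z1 K).map ev ≤ X) (k : ∀ r, ev (xa 1) * ev (xr r) * (ev (xa 1))⁻¹ * (ev (xr r))⁻¹ ∈ X) :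
    (Z2 K).map ev ≤ X := h.up hZ fun d hd => ⟨_, k (-d.v / 3), by
  have := h.t3
  g3 h [] at hd; g3 h [hd]; field_simp; cg⟩
theorem fr1 (hS : IsPGroup p S) : (Z1 K).map ev ≤ fr ((Q1 K).map ev) :=
  h.Zle' fun _ => cm_fr (hS.to_le (h.le _)) (by g3 h []) (by g3 h [])
theorem fr2 (hS : IsPGroup p S) : (Z2 K).map ev ≤ fr ((Q2 K).map ev) :=
  have cm : ∀ c c' : Gc K, c.u = 0 → c'.u = 0 → ev c * ev c' * (ev c)⁻¹ * (ev c')⁻¹ ∈ fr ((Q2 K).map ev) := fun _ _ k k' =>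
    cm_fr (hS.to_le (h.le _)) (h.mm.2 k) (h.mm.2 k')
  h.Z2le (h.Zle' fun _ => cm _ _ rfl rfl) fun _ => cm _ _ rfl rfl
theorem l31 : (Z3 K).map ev ≤ (Q1 K).map ev := h.l34.trans h.l41
theorem l32 : (Z3 K).map ev ≤ (Q2 K).map ev := h.l34.trans h.l42
theorem nQ1 : S ≤ nz ((Q1 K).map ev) := h.cSS.nz' (h.le _) h.l41
theorem nQ2 : S ≤ nz ((Q2 K).map ev) := h.cSS.nz' (h.le _) h.l42
theorem nZ4 : S ≤ nz ((Z4 K).map ev) := h.cSS.nz' (h.le _) le_rfl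
theorem nZ3 : S ≤ nz ((Z3 K).map ev) := h.cS3.nz' le_rfl h.l23
theorem nZ2 : S ≤ nz ((Z2 K).map ev) := h.cS2.nz' le_rfl h.l12
theorem q2Z2 (hg : g ∈ nz ((Q2 K).map ev)) : g ∈ nz ((Z2 K).map ev) :=
  nz_of_cz (fun w => ⟨fun k => ⟨h.l32 (h.l23 k), h.c2Z.symm.cz k⟩, fun ⟨k1, k2⟩ => by
    b3 h k1 c hc
    have a := mem_cz'.1 k2 (ev (xr 1)) (by g3 h [])
    have b := mem_cz'.1 k2 (ev (xs 1)) (by g3 h [])
    g3 h [mQ2.1 hc] at a b ⊢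
    gr3 h⟩) hg hg
theorem q2Z4 (hg : g ∈ nz ((Q2 K).map ev)) (h3 : g ∈ nz ((Z3 K).map ev)) (h1 : g ∈ nz ((Z1 K).map ev)) :
    g ∈ nz ((Z4 K).map ev) :=
  nz_of_char (fun w => ⟨fun k => ⟨h.l42 k, h.c11.cm (h.l41 k) h.l31 le_rfl⟩, fun ⟨k1, k2⟩ => by
    b3 h k1 c hc
    have := k2 (ev (xr 1)) (by g3 h [])
    g3 h [mQ2.1 hc] at this ⊢
    gr3 h⟩) hg h3 h1
theorem q1Z1 (hg : g ∈ nz ((Q1 K).map ev)) : g ∈ nz ((Z1 K).map ev) :=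
  nz_of_cz (fun w => ⟨fun k => ⟨h.l31 (h.l23 (h.l12 k)), cz_anti (h.le _) (h.cS1.symm.cz k)⟩, fun ⟨k1, k2⟩ => by
    b3 h k1 c hc
    have a := mem_cz'.1 k2 (ev (xu 1)) (by g3 h [])
    have b := mem_cz'.1 k2 (ev (xs 1)) (by g3 h [])
    have d := mem_cz'.1 k2 (ev (xr 1)) (by g3 h [])
    have e := mem_cz'.1 k2 (ev (xv 1)) (by g3 h [])
    g3 h [mQ1.1 hc] at a b d e ⊢
    gr3 h⟩) hg hg
theorem q1Z4 (hg : g ∈ nz ((Q1 K).map ev)) (h2 : g ∈ nz ((Z2 K).map ev)) : g ∈ nz ((Z4 K).map ev) :=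
  nz_of_cz (fun w => ⟨fun k => ⟨h.l41 k, h.c2Z.cz (h.l42 k)⟩, fun ⟨k1, k2⟩ => by
    b3 h k1 c hc
    have := mem_cz'.1 k2 (ev (xv 1)) (by g3 h [])
    g3 h [mQ1.1 hc] at this ⊢
    grind⟩) hg h2
theorem ne2 (e : Es p S ((Q2 K).map ev) A) (n3 : A ≤ nz ((Z3 K).map ev)) : ∃ g ∈ A, g ∉ nz ((Z4 K).map ev) := by
  by_contra! c
  refine e.not_nz fun g hg => ?_
  have l : ∀ Y ∈ [(Z4 K).map ev, (Z3 K).map ev], Y ≤ (Q2 K).map ev := by simp [h.l42, h.l32]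
  rw [e.kk_eq l (ai_le (fun s hs => kk_mem (by simp [h.nZ4 hs.1, h.nZ3 hs.1]) hs.2 ⟨h.cSS.cm hs.1 (h.le _) le_rfl,
    h.cS4.cm hs.1 le_rfl le_rfl, h.cS3.cm hs.1 le_rfl (h.fr2 e.pg)⟩) (kk_cz l le_rfl))]
  exact mem_nz_inf (le_nz_self A hg) (kk_nz (by simp [c g hg, n3 hg]) (nz_le_nz_fr _ (e.An hg)) (e.An hg))
theorem nM2 (y : Wy ev M1 M2) : M2 ∈ nz ((Q2 K).map ev) := mem_nz_of_conj_mem (by
  rintro _ ⟨c, hc, rfl⟩; rw [y.f2 c hc]; g3 h [])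
theorem nM3 (y : Wy ev M1 M2) : M2 ∈ nz ((Z3 K).map ev) := mem_nz_of_conj_mem (by
  rintro _ ⟨c, hc, rfl⟩; rw [y.f2 c hc.2.1]; g3 h [mZ3.1 hc])
theorem key (h3 : g ∈ nz ((Z3 K).map ev)) (e : g * ev (xs 1) * g⁻¹ = ev c) (hc : c.a = 0) : g ∈ nz ((Z1 K).map ev) :=
  mem_nz_of_conj_mem fun w hw => by
    simpa using mem_cj.1 (h.Zle' (X := cj g⁻¹ ((Z1 K).map ev)) (fun r => mem_cj.2 (by
      simpa only [inv_inv, ← cj_cm, ← e] using h.c11 _ (h.mm.2 hc) _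
        (h.l31 (conj_mem_of_mem_nz h3 (h.mm.2 (show xr r ∈ Z3 K from ⟨rfl, rfl, rfl⟩)))))) hw)
/-- an automorphism of `Q₂` that behaves like an element of `S` acts on `Q₂ / Z₃` as a transvection -/
theorem tv2 (h1 : t ∈ stab ((Q2 K).map ev) ((Z4 K).map ev)) (h2 : t ∈ stab ((Z3 K).map ev) ((Z2 K).map ev))
    (h3 : t ∈ cz ((Z1 K).map ev)) : ∃ γ, Ac2 ev t 1 0 γ 1 := by
  have k1 : ∀ c c', c.u = 0 → t * ev c * t⁻¹ = ev c' → c'.a = c.a ∧ c'.u = 0 := fun c c' hc e => by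
    have := (mem_stab'.1 h1).2 _ (h.mm.2 (show c ∈ Q2 K from hc))
    rw [e] at this
    g3 h [hc] at this
    exact ⟨by linear_combination this.1, this.2⟩
  have k2 : ∀ c c' r, c.u = 0 → t * ev c * t⁻¹ = ev c' → t * (ev c * ev (xr r) * (ev c)⁻¹ * (ev (xr r))⁻¹) * t⁻¹ =
      ev c' * ev (xr r) * (ev c')⁻¹ * (ev (xr r))⁻¹ := fun c c' r hc e => by
    obtain ⟨d, hd, e1⟩ := (mem_stab'.1 h2).2 (ev (xr r)) (by g3 h [])
    rw [cj_cm, e, ← eq_mul_inv_iff_mul_eq.1 e1]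
    g3 h [] at hd
    g3 h [hd, (k1 c c' hc e).2]
    cg
  obtain ⟨c0, h0, e0⟩ := conj_mem_of_mem_nz h1.1 (h.mm.2 (show xa 1 ∈ Q2 K from rfl))
  have a0 := k1 _ _ rfl e0.symm
  refine ⟨c0.s, fun c c' hc e1 => ⟨by simp [k1 c c' hc e1], mul_left_cancel₀ h.t3 ?_⟩⟩
  have := k2 c c' 1 hc e1
  rw [show ev c * ev (xr 1) * (ev c)⁻¹ * (ev (xr 1))⁻¹ = ev (xa 1) * ev (xr c.a) * (ev (xa 1))⁻¹ * (ev (xr c.a))⁻¹ *
    ev (xz (-(3 * c.s))) by g3 h [hc]; cg, cj_mul', k2 _ _ _ rfl e0.symm, mem_cz.1 h3 _ (by g3 h [])] at this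
  g3 h [a0, k1 c c' hc e1] at this ⊢
  linear_combination this.2.2.2
end C3

variable [CharP K p]
theorem bo1 : BO1 K Γ p := fun t3 S A ev h0 e ti g hg h2 => by
  have h : C3 S ev := ⟨h0, t3⟩
  by_contra n
  have T : ai S ((Q1 K).map ev) ≤ A ⊓ nz ((Z2 K).map ev) := le_inf e.nA (ai_le (inf_le_left.trans h.nZ2)
    ((cz_anti (h.l23.trans h.l31)).trans (cz_le_nz _)))
  obtain ⟨N, hN, e', gn⟩ := H29.TD.gen' (A := A ⊓ nz ((Z2 K).map ev)) ⟨⟨e.pg, e.le, e.cen, T, inf_le_left.trans e.An,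
    e.syl.mono_right T inf_le_left⟩, e.ne, _, le_inf T (le_nz_self _), inf_le_left, fun c => n (c ⟨hg, h2⟩).2,
    fun g hg u hu k c => ⟨hg, (ti.ti g hg.1 u hu k c).2⟩⟩
  have n2 := hN.trans inf_le_right
  have na : ev (xa 1) ∉ (Q1 K).map ev := by g3 h []; exact one_ne_zero
  have f := H29.TD.ff1 S _ N S ((Z4 K).map ev) ((Z2 K).map ev) ((Z3 K).map ev) [] [] e' gn le_rfl h.nQ1
    (h.cSS.mono le_rfl le_rfl h.l41) (fun b hb => h.l41 (h.pwS hb)) h.l23 h.l34 h.l41 (fun g hg => h.q1Z4 (e'.An hg) (n2 hg)) n2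
    (h.c11.mono le_rfl h.l41 h.l12) (fun x hx => h.l12 (h.pw1 (h.l41 hx))) h.cS3
    ((idx_le' (fun s : K => ev (xs s)) (by
      rintro _ ⟨c, hc, rfl⟩
      exact ⟨c.s, by g3 h [mZ4.1 hc]; ring⟩)).trans (le_idx (fun a => ev (xa a)) (fun a => h.mS _) fun a a' k => by
      g3 h [] at k; linear_combination -k)) trivial trivial
    ⟨_, h.mS _, na, h.cSS.cm (h.mS _) (h.le _) le_rfl, h.cS2.cm (h.mS _) le_rfl (h.fr1 e.pg)⟩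
  by_cases t : (2 : K) = 0
  · have := f.fx _ (h.mS _) (h.nQ1 (h.mS _)) na (ev (xs 1)) (by g3 h []) (by g3 h []; cg)
    g3 h [] at this
    exact one_ne_zero this
  have := f.qd (mt two_iff.2 t) _ h.l12 (fun g hg => h.q1Z1 (e'.An hg)) (h.c11.mono le_rfl h.l41 le_rfl)
    (fun x hx => h.pw1 (h.l41 hx)) (h.cS2.mono inf_le_left le_rfl le_rfl) _ (h.mS (xa 1)) (h.nQ1 (h.mS _)) _ (h.mS (xa 1))
    (h.nQ1 (h.mS _)) (ev (xs 1)) (by g3 h [])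
  g3 h [] at this
  exact mul_ne_zero t t3 (by linear_combination this.2.2)

omit [CharP K p] in
theorem g2 : G2 K Γ := fun t3 S ev M1 M2 h0 y g hg h3 => by
  have h : C3 S ev := ⟨h0, t3⟩
  obtain ⟨c, hc, e⟩ := conj_mem_of_mem_nz hg (h.mm.2 (show xs 1 ∈ Q2 K from rfl))
  by_cases a0 : c.a = 0
  · exact .inl (h.q2Z4 hg h3 (h.key h3 e.symm a0))
  have n := mul_mem (mul_mem (h.nM2 y) (h.nQ2 (h.mS (xu (-(c.s / c.a)))))) hg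
  have n3 := mul_mem (mul_mem (h.nM3 y) (h.nZ3 (h.mS (xu (-(c.s / c.a)))))) h3
  refine .inr ⟨_, h.mS _, h.q2Z4 n n3 (h.key n3 (c := m2 (xu (-(c.s / c.a)) * c * (xu (-(c.s / c.a)))⁻¹)) ?_ ?_)⟩
  · rw [cj_mul2, cj_mul2, ← e, ← y.f2 _ (by simp [mQ2.1 hc])]
    simp
  · simp [mQ2.1 hc]
    field_simp
    ring

theorem s2 : S2 K Γ p := fun t3 S A ev M1 M2 h0 y e n3 => by
  have h : C3 S ev := ⟨h0, t3⟩
  have mA : ∀ u, ev u ∈ A := fun u => e.mA (h.mS u) (h.nQ2 (h.mS u))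
  obtain ⟨g, hg, k⟩ := h.ne2 e n3
  obtain ⟨u, hu, b4⟩ := (g2 t3 S ev M1 M2 h0 y g (e.An hg) (n3 hg)).resolve_left k
  have ug := mul_mem (e.mA hu (h.nQ2 hu)) hg
  rw [mul_assoc] at b4
  generalize u * g = x at ug b4
  have b2 := mul_mem (h.nM2 y) (e.An ug)
  have b3 := mul_mem (h.nM3 y) (n3 ug)
  obtain ⟨c1, h1, e1⟩ := conj_mem_of_mem_nz b4 (h.mm.2 (show xs 1 ∈ Z4 K from ⟨rfl, rfl⟩))
  have b1 := h.key b3 e1.symm h1.1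
  choose f a using fun c : K => h.tv2 (t := M2 * x * ev (xu c) * (M2 * x)⁻¹)
    (conj_mem_of_mem_nz (mem_nz_stab b2 (mem_nz_inf b2 b4)) (mem_stab'.2 ⟨h.nQ2 (h.mS _), h.cSS.cm (h.mS _) (h.le _) le_rfl⟩))
    (conj_mem_of_mem_nz (mem_nz_stab b3 (mem_nz_inf b3 (h.q2Z2 b2))) (mem_stab'.2 ⟨h.nZ3 (h.mS _), h.cS3 _ (h.mS _)⟩))
    (conj_mem_of_mem_nz (mem_nz_cz b1) (h.cS1.cz (h.mS _)))
  have on' := Finite.surjective_of_injective (f := f) fun c c' k => by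
    obtain ⟨d, hd, e2⟩ := conj_mem_of_mem_nz b2 (h.mm.2 (show xa 1 ∈ Q2 K from rfl))
    obtain ⟨d1, k1, e3⟩ := conj_mem_of_mem_nz (conj_mem_of_mem_nz (le_nz_self _ b2) (h.nQ2 (h.mS (xu c)))) (h.mm.2 hd)
    obtain ⟨d2, k2, e4⟩ := conj_mem_of_mem_nz (conj_mem_of_mem_nz (le_nz_self _ b2) (h.nQ2 (h.mS (xu c')))) (h.mm.2 hd)
    have k4 := conj_mem_of_mem_nz' b3 (show ev d1 * (ev d2)⁻¹ ∈ (Z3 K).map ev by
      g3 h [a c d d1 hd e3.symm, a c' d d2 hd e4.symm, mQ2.1 k1, mQ2.1 k2, k]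
      ring)
    rw [e3, e4, e2] at k4
    simp only [mul_assoc, mul_inv_rev, inv_inv, inv_mul_cancel_left, mul_inv_cancel_left, inv_mul_cancel, mul_one] at k4
    g3 h [] at k4
    linear_combination k4
  let P := fun α β γ δ => ∃ g ∈ A, Ac2 ev g α β γ δ
  have mul : ∀ {α β γ δ α' β' γ' δ'}, P α β γ δ → P α' β' γ' δ' → P _ _ _ _ := fun ⟨_, k1, k2⟩ ⟨_, k3, k4⟩ =>
    ⟨_, mul_mem k1 k3, ac2_mul k2 k4 (e.An k3)⟩
  have lo : ∀ μ, P 1 0 μ 1 := fun μ => ⟨_, mA (xu μ), fun c c' hc k => by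
    g3 h [hc] at k ⊢
    exact ⟨by linear_combination -k.1, by linear_combination -k.2.2.1⟩⟩
  have up : ∀ μ, P 1 μ 0 1 := fun μ => by
    obtain ⟨c, k⟩ := on' (-μ)
    refine ⟨_, conj_mem_of_mem_nz (le_nz_self A ug) (mA (xu c)), fun d d' hd e2 => ?_⟩
    have d0 : d'.u = 0 := h.mm.1 (e2 ▸ conj_mem_of_mem_nz (e.An (conj_mem_of_mem_nz (le_nz_self A ug) (mA (xu c))))
      (h.mm.2 (show d ∈ Q2 K from hd)))
    have := a c (m2 d) (m2 d') rfl (by rw [← y.f2 d hd, ← y.f2 d' d0, ← e2]; group)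
    g3 h [k] at this ⊢
    exact ⟨by linear_combination this.2, by linear_combination -this.1⟩
  have w : ∀ μ, μ ≠ 0 → P 0 μ (-μ⁻¹) 0 := fun μ μ0 => by simpa [μ0] using mul (mul (up μ) (lo (-μ⁻¹))) (up μ)
  have w1 : P 0 (-1) 1 0 := by simpa using w (-1) (by simp)
  exact ⟨fun l l0 => by simpa using mul (w l⁻¹ (inv_ne_zero l0)) w1, w1⟩

end H14.GC
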