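/-
S5211, `p ≠ 3`: the chunks N2, N22.
-/
import Cfsg.Agent.H14.GC1

set_option autoImplicit false
set_option linter.unusedSectionVars false
set_option linter.unusedSimpArgs false

namespace H14.GC
open Subgroup H25.FS H25.GC H25.GC.Gc H2.G
open H25 hiding Md
open H8.PU hiding Co Wt Wy Md Ac2 G2 S2 N2 E2 TR MD SY Bo LH AV
universe u v
variable {K : Type v} [Field K] [Finite K] {Γ : Type u} [Group Γ] [Finite Γ] {p : ℕ} [hp : Fact p.Prime]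
  {S A Q Z : Subgroup Γ} {ev : Gc K →* Γ} {g β τ τ' M : Γ} {c : Gc K} {κ : K} {f : Gc K → K} {b : Gc K → Gc K}

/-- additive functions on `Q₂` -/
def Ad (f : Gc K → K) : Prop := ∀ c d : Gc K, c.u = 0 → d.u = 0 → f (c * d) = f c + f d
theorem Ad.one (h : Ad f) : f 1 = 0 := by simpa using h 1 1 rfl rfl
theorem Ad.cm (h : Ad f) {c d : Gc K} (hc : c.u = 0) (hd : d.u = 0) : f (c * d * c⁻¹ * d⁻¹) = 0 := by
  have := h (c * d * c⁻¹ * d⁻¹) (d * c) (cm_u _ _) (by simp [hc, hd])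
  rw [show c * d * c⁻¹ * d⁻¹ * (d * c) = c * d by group, h c d hc hd, h d c hd hc] at this
  linear_combination -this
theorem Ad.z2 (h : Ad f) (t3 : (3 : K) ≠ 0) (hc : c ∈ Z2 K) : f c = 0 := by
  have := h _ _ (cm_u (xa 1) (xr (-c.v / 3))) (cm_u (xs 1) (xr (-c.z / 3)))
  rw [h.cm rfl rfl, h.cm rfl rfl, add_zero] at this
  rw [← this]
  congr 1
  ext <;> simp [mZ2.1 hc] <;> field_simp
theorem Ad.dec (h : Ad f) (t3 : (3 : K) ≠ 0) (hc : c.u = 0) : f c = f (xa c.a) + f (xs c.s) + f (xr c.r) := by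
  have k : (xa c.a * xs c.s * xr c.r)⁻¹ * c ∈ Z2 K := by simp [mZ2, hc]
  rw [← mul_inv_cancel_left (xa c.a * xs c.s * xr c.r) c, h _ _ (by simp) k.2.1, h.z2 t3 k, h _ _ (by simp) rfl, h _ _ rfl rfl]
  simp
theorem Ad.r (h : Ad f) (t3 : (3 : K) ≠ 0) (t2 : (2 : K) ≠ 0) (r : K) : f (xr r) = 0 := by
  have := h.dec t3 (cm_u (xa 1) (xs (-r / 2)))
  rw [h.cm rfl rfl, cm_a, cm4_s _ rfl rfl, cm4_r _ rfl rfl] at this
  have e : -(2 * (xa (1 : K)).a * (xs (-r / 2)).s) = r := by simp; field_simp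
  rw [e, show xa (0 : K) = 1 from rfl, show xs (0 : K) = 1 from rfl, h.one] at this
  linear_combination -this
theorem Ad.kill (h : Ad f) (t3 : (3 : K) ≠ 0) (rg : Rg κ) (e : ∀ c, c.u = 0 → f (sc κ 1 (.refl K) c) = κ ^ 3 * f c)
    (hc : c.u = 0) : f c = 0 := by
  have k : ∀ x : K → Gc K, (∀ a, (x a).u = 0) → (∀ a a', x (a + a') = x a * x a') → (∀ a, x (κ * a) = sc κ 1 (.refl K) (x a)) →
      ∀ a, f (x a) = 0 := fun x h1 h2 h3 =>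
    rg (AddMonoidHom.mk' (fun a => f (x a)) fun a a' => by rw [h2, h _ _ (h1 a) (h1 a')]) fun a => (congrArg f (h3 a)).trans (e _ (h1 a))
  rw [h.dec t3 hc, k xa (fun _ => rfl) (fun _ _ => by ext <;> simp) fun _ => by ext <;> simp,
    k xs (fun _ => rfl) (fun _ _ => by ext <;> simp) fun _ => by ext <;> simp, zero_add, zero_add]
  by_cases t2 : (2 : K) = 0
  · obtain ⟨x, e⟩ := Finite.surjective_of_injective (f := fun x : K => x ^ 2) (fun x y e => by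
      have : (x - y) ^ 2 = 0 := by linear_combination e + (y ^ 2 - x * y) * t2
      exact sub_eq_zero.1 (pow_eq_zero_iff two_ne_zero |>.1 this)) c.r
    exact e ▸ k (fun x => xr (x ^ 2)) (fun _ => rfl) (fun x y => by ext <;> simp; linear_combination x * y * t2)
      (fun _ => by ext <;> simp; ring) x
  · exact h.r t3 t2 _

/-- endomorphisms of `Q₂` that are trivial on `Q₂ / Z₃` -/
structure En (b : Gc K → Gc K) : Prop where
  mul : ∀ c d : Gc K, c.u = 0 → d.u = 0 → b (c * d) = b c * b d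
  a : ∀ c : Gc K, c.u = 0 → (b c).a = c.a
  u : ∀ c : Gc K, c.u = 0 → (b c).u = 0
  s : ∀ c : Gc K, c.u = 0 → (b c).s = c.s
namespace En
variable (h : En b) (t3 : (3 : K) ≠ 0)
include h
theorem adr : Ad fun c => (b c).r - c.r := fun c d hc hd => by
  simp only [h.mul c d hc hd, mul_r, h.a d hd, h.s c hc, h.u c hc, hc]; ring
theorem sq (t2 : (2 : K) = 0) (hc : c.u = 0) (e : c * c = 1) : c.a * ((b c).r + c.a * c.s) = 0 ∧ c.s * ((b c).r + c.a * c.s) = 0 := by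
  have := h.mul c c hc hc
  rw [e, show b 1 = 1 by simpa using h.mul 1 1 rfl rfl, Gc.ext_iff] at this
  simp only [mul_v, mul_z, one_v, one_z, h.a c hc, h.s c hc, h.u c hc] at this
  obtain ⟨-, -, -, -, k, k'⟩ := this
  constructor <;> grind
include t3
theorem lin (a : K) : (b (xa a)).r = a * (b (xa 1)).r ∧ (b (xs a)).r = a * (b (xs 1)).r := by
  have e1 := (h.mul (xa a) (xa 1) rfl rfl).symm.trans ((congrArg b (by ext <;> simp [add_comm])).trans (h.mul (xa 1) (xa a) rfl rfl))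
  have e2 := (h.mul (xs a) (xs 1) rfl rfl).symm.trans ((congrArg b (by ext <;> simp [add_comm])).trans (h.mul (xs 1) (xs a) rfl rfl))
  have e1 := congrArg Gc.v e1
  have e2 := congrArg Gc.z e2
  simp [h.a _ (xa_u _), h.s _ (xa_u _), h.u _ (xa_u _), h.a _ (xs_u _), h.s _ (xs_u _), h.u _ (xs_u _)] at e1 e2
  constructor <;> grind
theorem two (t2 : (2 : K) = 0) : (b (xa 1)).r = 0 ∧ (b (xs 1)).r = 0 :=
  ⟨by simpa using (h.sq t2 (c := xa 1) rfl (by ext <;> simp; linear_combination t2)).1,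
    by simpa using (h.sq t2 (c := xs 1) rfl (by ext <;> simp; linear_combination t2)).2⟩
theorem r3 (r : K) : (b (xr r)).r = r := by
  by_cases t2 : (2 : K) = 0
  · have e := (h.sq t2 (c := xa 1 * xs r * xr r) (by simp) (by ext <;> simp <;> grind)).1
    have k := h.adr.dec t3 (c := xa 1 * xs r * xr r) (by simp)
    simp [(h.lin t3 r).2, h.two t3 t2] at e k
    grind
  · simpa [sub_eq_zero] using h.adr.r t3 t2 r
theorem r0 (h1 : (b (xa 1)).r = 0) (h2 : (b (xs 1)).r = 0) (c : Gc K) (hc : c.u = 0) : (b c).r = c.r := by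
  simpa [(h.lin t3 c.a).1, (h.lin t3 c.s).2, h1, h2, h.r3 t3, sub_eq_zero] using h.adr.dec t3 hc
omit t3
theorem adv (r : ∀ c : Gc K, c.u = 0 → (b c).r = c.r) : Ad fun c => (b c).v - c.v := fun c d hc hd => by
  simp only [h.mul c d hc hd, mul_v, h.a d hd, h.s c hc, h.u c hc, r c hc, hc]; ring
theorem adz (r : ∀ c : Gc K, c.u = 0 → (b c).r = c.r) : Ad fun c => (b c).z - c.z := fun c d hc hd => by
  simp only [h.mul c d hc hd, mul_z, h.a d hd, h.s c hc, h.u c hc, r d hd, hc]; ring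
theorem triv (t3 : (3 : K) ≠ 0) (k0 : κ ≠ 0) (k1 : κ ≠ 1) (rg : Rg κ)
    (e : ∀ c, c.u = 0 → b (sc κ 1 (.refl K) c) = sc κ 1 (.refl K) (b c)) (hc : c.u = 0) : b c = c := by
  have e1 := congrArg Gc.r (e (xa 1) rfl)
  have e2 := congrArg Gc.r (e (xs 1) rfl)
  rw [show sc κ 1 (.refl K) (xa 1) = xa κ by ext <;> simp, (h.lin t3 κ).1] at e1
  rw [show sc κ 1 (.refl K) (xs 1) = xs κ by ext <;> simp, (h.lin t3 κ).2] at e2
  simp only [sc_r, RingEquiv.refl_apply] at e1 e2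
  have r := h.r0 t3 (by grind) (by grind)
  exact Gc.ext (h.a c hc) ((h.u c hc).trans hc.symm) (h.s c hc) (r c hc)
    (sub_eq_zero.1 ((h.adv r).kill t3 rg (fun c hc => by simp [e c hc]; ring) hc))
    (sub_eq_zero.1 ((h.adz r).kill t3 rg (fun c hc => by simp [e c hc]; ring) hc))
end En

/-- the commutator with a torus element is inner -/
theorem cmm (hin : ∀ x ∈ A, Cm x Q Z → x ∈ ai Q Q) (hM : M ∈ nz Q) (hM' : M ∈ nz Z) (h1 : τ ∈ nz Q) (h2 : τ ∈ nz Z)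
    (hβ : M⁻¹ * g ∈ stab Q Z) (ag : Agree Q (τ' * M) (M * τ)) (hg : g ∈ A) (hτ : τ ∈ A) (hτ' : τ' ∈ A) :
    τ⁻¹ * (M⁻¹ * g) * τ * (M⁻¹ * g)⁻¹ ∈ ai Q Q := by
  have e := agree_iff.1 ag
  have k := conj_mem_of_mem_nz (mem_nz_stab hM (mem_nz_inf hM hM')) (mul_mem (inv_mem (cz_le_stab Q Z e))
    (mul_mem (conj_mem_of_mem_nz' (mem_nz_stab h1 (mem_nz_inf h1 h2)) hβ) (inv_mem hβ)))
  have := mul_mem (cz_le_ai Q Q e) (conj_mem_of_mem_nz' (nz_le_nz_ai_self Q hM) (hin _ (by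
    simpa [mul_assoc] using mul_mem (mul_mem (mul_mem (inv_mem hτ') hg) hτ) (inv_mem hg)) (mem_stab'.1 k).2))
  simpa [mul_assoc] using this

namespace C3
variable (h : C3 S ev)
include h
theorem exH (hg : g ∈ nz ((Q2 K).map ev)) : ∃ b : Gc K → Gc K, (∀ c d : Gc K, c.u = 0 → d.u = 0 → b (c * d) = b c * b d) ∧
    ∀ c : Gc K, c.u = 0 → (b c).u = 0 ∧ g * ev c * g⁻¹ = ev (b c) := by
  choose! b m e using fun (c : Gc K) (hc : c.u = 0) => conj_mem_of_mem_nz hg (mem_map_of_mem ev (show c ∈ Q2 K from hc))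
  exact ⟨b, fun c d hc hd => h.inj (by rw [map_mul, e c hc, e d hd, e _ (by simp [hc, hd]), map_mul, cj_mul']),
    fun c hc => ⟨m c hc, (e c hc).symm⟩⟩
theorem exE (hβ : β ∈ stab ((Q2 K).map ev) ((Z3 K).map ev)) : ∃ b, En b ∧ ∀ c : Gc K, c.u = 0 → β * ev c * β⁻¹ = ev (b c) := by
  obtain ⟨b, m, e⟩ := h.exH hβ.1
  have k : ∀ c : Gc K, c.u = 0 → (b c).a = c.a ∧ (b c).s = c.s := fun c hc => by
    have := (mem_stab'.1 hβ).2 _ (h.mm.2 (show c ∈ Q2 K from hc))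
    rw [(e c hc).2] at this
    g3 h [hc, (e c hc).1] at this
    grind
  exact ⟨b, ⟨m, fun c hc => (k c hc).1, fun c hc => (e c hc).1, fun c hc => (k c hc).2⟩, fun c hc => (e c hc).2⟩
/-- automorphisms trivial on `Q₂ / Z₃` are inner -/
theorem in2 (e : Es p S ((Q2 K).map ev) A) (n3 : A ≤ nz ((Z3 K).map ev)) (g : Γ) (hg : g ∈ A)
    (k : Cm g ((Q2 K).map ev) ((Z3 K).map ev)) : g ∈ ai ((Q2 K).map ev) ((Q2 K).map ev) := by
  obtain ⟨b, m, q⟩ := h.exE (mem_stab'.2 ⟨e.An hg, k⟩)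
  refine e.kkP (l := [(Z3 K).map ev]) ⟨⟨h.l32, n3⟩, trivial⟩ ⟨hg, kk_mem (by simp [n3 hg]) (e.An hg) ⟨k, ?_⟩⟩
  rintro _ ⟨c, hc, rfl⟩
  have := m.adr.dec h.t3 hc.2.1
  simp only [hc.1, hc.2.2, show xa (0 : K) = 1 from rfl, show xs (0 : K) = 1 from rfl, m.adr.one, m.r3 h.t3] at this
  refine h.fr2 e.pg ?_
  rw [q c hc.2.1]
  g3 h [m.a c hc.2.1, m.u c hc.2.1, m.s c hc.2.1, mZ3.1 hc, xr_r] at this ⊢
  linear_combination this
end C3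

theorem n2 [CharP K p] : N2 K Γ p := fun t3 S A ev M1 M2 h0 y e n3 ⟨τ, hτ, κ, w, rg⟩ ⟨g, hg, kg⟩ => by
  have h : C3 S ev := ⟨h0, t3⟩
  have k2 : 1 - κ ^ 2 ≠ 0 := fun k => one_ne_zero (rg (.id K) (fun x => show κ * x = κ ^ 3 * x by linear_combination κ * x * k) 1)
  have k1 : 1 - κ ≠ 0 := fun k => k2 (by linear_combination (1 + κ) * k)
  have hβ : M2⁻¹ * g ∈ stab ((Q2 K).map ev) ((Z3 K).map ev) := mem_stab'.2 ⟨mul_mem (inv_mem (h.nM2 y)) (e.An hg), by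
    rintro _ ⟨c, hc, rfl⟩
    obtain ⟨d, hd, e1⟩ := conj_mem_of_mem_nz (mul_mem (inv_mem (h.nM2 y)) (e.An hg)) (h.mm.2 hc)
    have := kg c (m2 d) hc (by rw [← y.f2 d hd, e1]; group)
    rw [← e1]
    g3 h [mQ2.1 hc, mQ2.1 hd] at this ⊢
    cg⟩
  have w3 : τ ∈ nz ((Z3 K).map ev) := mem_nz_of_conj_mem (by rintro _ ⟨c, hc, rfl⟩; rw [w.cj]; g3 h [mZ3.1 hc])
  obtain ⟨-, _, ⟨u, hu, rfl⟩, a⟩ := mem_ai.1 (cmm (h.in2 e n3) (h.nM2 y) (h.nM3 y) (e.An hτ) w3 hβ (by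
    rintro _ ⟨c, hc, rfl⟩
    rw [cj_mul2, cj_mul2, w.cj, y.f2 c hc, w.cj, y.f2 _ (by simp [mQ2.1 hc])]
    g3 h []
    cg) hg hτ hτ)
  generalize hB : M2⁻¹ * g = B at hβ a
  obtain ⟨d, d0, d2⟩ : ∃ d : Gc K, d.u = 0 ∧ d⁻¹ * sc κ 1 (.refl K) (u * d) ∈ Z2 K :=
    ⟨el (κ * u.a / (1 - κ)) 0 (κ * u.s / (1 - κ)) (κ ^ 2 * (u.r + 2 * (κ * u.a / (1 - κ)) * u.s) / (1 - κ ^ 2)), rfl, by
      simp [mZ2, mQ2.1 hu]
      refine ⟨?_, ?_, ?_⟩ <;> field_simp <;> ring⟩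
  have dQ : ev d ∈ (Q2 K).map ev := h.mm.2 d0
  obtain ⟨b, m, q⟩ := h.exE (mul_mem (inv_mem (mem_stab'.2 ⟨le_nz_self _ dQ, h.c22.cm dQ le_rfl le_rfl⟩)) hβ)
  have z : (ev d)⁻¹ * B ∈ cz ((Q2 K).map ev) := mem_cz.2 (by
    rintro _ ⟨c, hc, rfl⟩
    rw [q c hc, m.triv t3 w.k0 (fun k => k1 (by rw [k, sub_self])) rg (fun c hc => h.inj ?_) hc]
    have x := mem_cz.1 (h.c2Z.symm.cz (h.mm.2 d2)) _ (conj_mem_of_mem_nz (e.An hτ) (h.mm.2 (show b c ∈ Q2 K from m.u c hc)))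
    have := a _ (conj_mem_of_mem_nz hβ.1 (h.mm.2 (show c ∈ Q2 K from hc)))
    rw [← q _ (by simp [hc]), ← w.cj, ← w.cj, ← x, ← q c hc, map_mul, map_inv, ← w.cj, map_mul]
    calc _ = (ev d)⁻¹ * τ * (τ⁻¹ * B * τ * B⁻¹ * (B * ev c * B⁻¹) * (τ⁻¹ * B * τ * B⁻¹)⁻¹) * τ⁻¹ * ev d := by group
      _ = _ := by rw [this]; group)
  have := mul_mem (e.PA (le_ai_self _ dQ)) (e.cA z)
  rw [mul_inv_cancel_left, ← hB] at this
  simpa using mul_mem hg (inv_mem this)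

theorem m2_mul {c d : Gc K} (hc : c.u = 0) (hd : d.u = 0) : m2 (c * d) = m2 c * m2 d := by
  ext <;> simp [hc, hd] <;> ring
/-- the candidates for `q = 2` -/
def bb (t1 t2 t3 t4 t5 t6 : ZMod 2) (c : Gc (ZMod 2)) : Gc (ZMod 2) :=
  m2 ⟨c.a, 0, c.s, c.r, c.v + (c.a * t1 + c.s * t2 + c.r * t3), c.z + (c.a * t4 + c.s * t5 + c.r * t6)⟩
theorem fin2 : ∀ t1 t2 t3 t4 t5 t6 : ZMod 2, let B := bb t1 t2 t3 t4 t5 t6; let E := fun c => B (xu 1 * c * (xu 1)⁻¹)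
    (∃ y : Gc (ZMod 2), y.u = 0 ∧ ∀ c ∈ [xa 1, xs 1, xr 1], B (B c) = y * c * y⁻¹) →
    (∃ y : Gc (ZMod 2), y.u = 0 ∧ ∀ c ∈ [xa 1, xs 1, xr 1], E (E (E c)) = y * c * y⁻¹) →
    ∃ β, ∃ y : Gc (ZMod 2), y.u = 0 ∧ ∀ c : Gc (ZMod 2), c.u = 0 → y * B c * y⁻¹ = m2' β c := by
  decide +kernel
theorem fin3 : ∀ t1 t2 t3 t4 t5 t6 : ZMod 2, let B := bb t1 t2 t3 t4 t5 t6; let E := fun c => B (xu 1 * c * (xu 1)⁻¹)
    ∀ c : Gc (ZMod 2), c.u = 0 → ((B (B c) * c⁻¹).a = 0 ∧ (B (B c) * c⁻¹).u = 0 ∧ (B (B c) * c⁻¹).s = 0) ∧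
      (E (E (E c)) * c⁻¹).a = 0 ∧ (E (E (E c)) * c⁻¹).u = 0 ∧ (E (E (E c)) * c⁻¹).s = 0 := by
  decide +kernel

theorem n22 : N22 Γ := fun S A ev h0 e n3 ⟨g, hg, kg⟩ => by
  have t3 : (3 : ZMod 2) ≠ 0 := by decide
  have h : C3 S ev := ⟨h0, t3⟩
  obtain ⟨b, m, q⟩ := h.exH (e.An hg)
  have k := fun c hc => kg c _ hc (q c hc).2
  have mm : ∀ c : Gc (ZMod 2), c.u = 0 → m2 (m2 c) = c := by decide +kernel
  have n : En fun c => m2 (b c) := ⟨fun c d hc hd => by rw [m c d hc hd, m2_mul (q c hc).1 (q d hd).1],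
    fun c hc => by simp [k c hc], fun _ _ => rfl, fun c hc => by simp [k c hc]⟩
  have r := n.r0 t3 (n.two t3 rfl).1 (n.two t3 rfl).2
  have dc : ∀ f : Gc (ZMod 2) → ZMod 2, Ad f → ∀ c : Gc (ZMod 2), c.u = 0 →
      f c = c.a * f (xa 1) + c.s * f (xs 1) + c.r * f (xr 1) := fun f hf c hc => by
    have k : ∀ x : ZMod 2 → Gc (ZMod 2), x 0 = 1 → ∀ a, f (x a) = a * f (x 1) := fun x h0 a => by
      rcases (show ∀ a : ZMod 2, a = 0 ∨ a = 1 by decide) a with rfl | rfl <;> simp [h0, hf.one]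
    rw [hf.dec t3 hc, k xa rfl, k xs rfl, k xr rfl]
  obtain ⟨t1, t2, t3', t4, t5, t6, bq⟩ : ∃ t1 t2 t3 t4 t5 t6, ∀ c : Gc (ZMod 2), c.u = 0 →
      g * ev c * g⁻¹ = ev (bb t1 t2 t3 t4 t5 t6 c) := ⟨_, _, _, _, _, _, fun c hc => by
    rw [(q c hc).2, ← mm _ (q c hc).1]
    exact congrArg (fun c => ev (m2 c)) (Gc.ext (n.a c hc) rfl (n.s c hc) (r c hc)
      (sub_eq_iff_eq_add'.1 (dc _ (n.adv r) c hc)) (sub_eq_iff_eq_add'.1 (dc _ (n.adz r) c hc)))⟩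
  have inn : ∀ x ∈ A, ∀ F : Gc (ZMod 2) → Gc (ZMod 2), (∀ c : Gc (ZMod 2), c.u = 0 → x * ev c * x⁻¹ = ev (F c)) →
      (∀ c : Gc (ZMod 2), c.u = 0 → F c * c⁻¹ ∈ Z3 _) →
      ∃ y : Gc (ZMod 2), y.u = 0 ∧ ∀ c ∈ [xa 1, xs 1, xr 1], F c = y * c * y⁻¹ := fun x hx F a a' => by
    obtain ⟨-, _, ⟨y, hy, rfl⟩, i⟩ := mem_ai.1 (h.in2 e n3 x hx (by
      rintro _ ⟨c, hc, rfl⟩
      rw [a c hc, h.inv, h.mul, h.mm]
      exact a' c hc))
    refine ⟨y, hy, fun c hc => h.inj ?_⟩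
    have c0 : c.u = 0 := by revert c; decide
    rw [← a c c0, i _ (h.mm.2 c0), map_mul, map_mul, map_inv]
  have xA := e.mA (h.mS (xu 1)) (h.nQ2 (h.mS _))
  have eq : ∀ c : Gc (ZMod 2), c.u = 0 → g * ev (xu 1) * ev c * (g * ev (xu 1))⁻¹ =
      ev (bb t1 t2 t3' t4 t5 t6 (xu 1 * c * (xu 1)⁻¹)) := fun c hc => by
    rw [cj_mul2, ← bq _ (by rw [mul_u, mul_u, inv_u, hc, add_zero, add_neg_cancel]), map_mul, map_mul, map_inv]
  obtain ⟨β, y, hy, z⟩ := fin2 t1 t2 t3' t4 t5 t6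
    (inn _ (mul_mem hg hg) _ (fun c hc => by rw [cj_mul2, bq c hc, bq _ rfl]) fun c hc => (fin3 _ _ _ _ _ _ c hc).1)
    (inn _ (mul_mem (mul_mem hg xA) (mul_mem (mul_mem hg xA) (mul_mem hg xA))) _
      (fun c hc => by rw [cj_mul2 (g * _), cj_mul2 (g * _), eq c hc, eq _ rfl, eq _ rfl]) fun c hc => (fin3 _ _ _ _ _ _ c hc).2)
  exact ⟨β, _, mul_mem (e.mA (h.mS y) (h.nQ2 (h.mS y))) hg, fun c hc => by
    rw [cj_mul2, bq c hc, ← z c hc, map_mul, map_mul, map_inv]⟩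

end H14.GC
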