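import Cfsg.Agent.H14.TabSmall
import Cfsg.Prelude.Def_ChevG2

/-! The tabulated datum of type G2 is a root system with Chevalley constants. -/

namespace H14

open Cfsg.Lie

set_option maxRecDepth 100000

/-- packed tables of type G2 -/
def tabG2 : Tab where
  cfT := 0x888888ab8888889b8888889a888888998888888988888898888888788888888788888877888888768888887588888865
  coT := 0x888888a988888899888888ba888888b98888888988888898888888788888888788888857888888568888887788888867
  wtT := 0x888888988888887b88888889888888978888887a888888a58888886b8888889688888879888888878888889588888878
  dT := 0xbb999bb999bb
  srT := 0xa0b0000000000000b06000000000000090800000000000007090000000000000804000000000000050a000000000000060100000000000003070000000000000402000000000000020300000000000000050000000000000100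
  fT := 0x8000000000628000000000618000000000418000000000218000000000208000000000017fffffffffff7fffffffffe07fffffffffdf7fffffffffbf7fffffffff9f7fffffffff9e
  invT := [[2, 3], [1, 2]]
  det := 1

theorem okG2 : tabG2.Ok chevG2 := Tab.ok_of (by decide +kernel) (by decide +kernel)

theorem ok3G2 : tabG2.Ok3 chevG2 3 := Tab.ok3_of (par := [0, 0]) (rk := [0, 1]) (by decide +kernel)

/-- structure constants of type G2 -/
def nTG2 : ℕ := 0x8888888888888888888888888888888888888888888888888888888888787998888888888888888888888888888888888888888888888888888888888787898988888888888888888888888888888888888888888888888888888885588a6899888888888888888888888888888888888888888888888888888888b8a87b8687888888888888888888888888888888888888888888888888888888b68788ba7888888888888888888888888888888888888888888888888888888988988878878888888888888888888888888888888888888888888888888888988988878878888888888888888888888888888888888888888888888888888889658898a588888888888888888888888888888888888888888888888888888898a8598685888888888888888888888888888888888888888888888888888888778a688bb88888888888888888888888888888888888888888888888888888887878989888888888888888888888888888888888888888888888888888888888877989888888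

/-- sums of roots of type G2 -/
def pTG2 : ℕ := 0xb0b0b0b0b0b0a0b0908060b000000000000000000000000000000000000000000000000000000000000000000000000000000000000000000000000000000000a0a0a0a0a0b0a090a070a05000000000000000000000000000000000000000000000000000000000000000000000000000000000000000000000000000000000909090b0a090908070904030000000000000000000000000000000000000000000000000000000000000000000000000000000000000000000000000000000008080b0809080706080408020000000000000000000000000000000000000000000000000000000000000000000000000000000000000000000000000000000007070a09070807070503020700000000000000000000000000000000000000000000000000000000000000000000000000000000000000000000000000000000060b06060806060604060601000000000000000000000000000000000000000000000000000000000000000000000000000000000000000000000000000000000a05050705050503050500050000000000000000000000000000000000000000000000000000000000000000000000000000000000000000000000000000000004090806040403040201040400000000000000000000000000000000000000000000000000000000000000000000000000000000000000000000000000000000090307030504030203000303000000000000000000000000000000000000000000000000000000000000000000000000000000000000000000000000000000000807020403020201000202020000000000000000000000000000000000000000000000000000000000000000000000000000000000000000000000000000000006010401020100010101010100000000000000000000000000000000000000000000000000000000000000000000000000000000000000000000000000000000000503020001000000000000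

theorem okSG2 : tabG2.okS chevG2 nTG2 pTG2 6 4 = true := by
  decide +kernel

theorem okJG2 : tabG2.okJ chevG2 nTG2 pTG2 = true := by
  decide +kernel

/-- the datum of type G2 is good -/
noncomputable def goodG2 : Good chevG2 := okG2.goodS ok3G2 okSG2 okJG2

end H14
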