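import Cfsg.Agent.H27.MS2
import Cfsg.Agent.H14.MS1
import Cfsg.Agent.H17.MS1
import Cfsg.Agent.H23.MS3
import Cfsg.Agent.H8.GA8

/-! S5899, chunk `E3a`: Goldschmidt's bound. -/

set_option autoImplicit false
set_option linter.unusedSectionVars false

namespace H14.MS
open Cfsg Subgroup H18 H17.GS H28.S H2.GW
open H19 hiding eq_bot_mono
open H28.NG hiding Hyp Uniq Ch
open H29.PU (bm)
open H27.MS hiding Iv
open H23.MS (pr mem_pr pr_le card_pr)
open H17.MS (card_q quo2 qsq dc x7 y7)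
open scoped MatrixGroups

universe u
section
variable {G : Type*} [Group G] [Finite G] {N Q S T L K M W D P : Subgroup G} {a b w x y z : G} {p : ℕ}

theorem mem2 (hS : Syl 2 S L) (b0 : b ∈ L) (b1 : b ∈ N(S)) (b2 : b * b ∈ S) : b ∈ S := by
  have c := card_sup_le b1 b2
  have s := hS.of_le le_sup_left (sup_le hS.le (zpowers_le' b0))
  have o := s.not_dvd Nat.prime_two
  rw [← s.card_mul] at c
  have := Nat.le_of_mul_le_mul_left c (card_pos S)
  generalize hr : S.relIndex (S ⊔ zpowers b) = r at o this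
  exact relIndex_eq_one.1 (hr.trans (by omega)) (mem_sup_right (mem_zpowers b))

theorem modEq_cent (hB : H19.PG p L) (hl : p.Prime) (hn : L ≤ N(K)) : #K ≡ #(K ⊓ C(L)) [MOD p] := by
  have := Fact.mk hl
  let _ : MulAction L K := MulAction.compHom K (K.normalizerMonoidHom.comp (inclusion hn))
  have h1 := hB.isPGroup.card_modEq_card_fixedPoints K
  have : MulAction.fixedPoints L K = (C(L).subgroupOf K : Set K) := by
    ext x
    exact ⟨fun hx => mem_cent.2 fun b hb =>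
      mul_inv_eq_iff_eq_mul.1 (congrArg Subtype.val (hx ⟨b, hb⟩)), fun hx b =>
      Subtype.ext (mul_inv_eq_iff_eq_mul.2 (mem_cent.1 hx b b.2))⟩
  rwa [this, SetLike.coe_sort_coe, card_subgroupOf, inf_comm] at h1
end

variable {G : Type u} [Group G] [Finite G] {N Q S T L K M W D P : Subgroup G} {a b w x y z : G}

/-- an `S₃` over a subgroup of index two -/
theorem s3 (hS : Syl 2 S L) (l : D ≤ S) (c : #S = 2 * #D) (a1 : a ∈ S) (a2 : a ∉ D) (bL : b ∈ L) (b1 : b ∈ N(D))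
    (b2 : b * b ∈ D) (h3 : a * b * (a * b) * (a * b) ∈ D) (h1 : a * b ∉ D) :
    #(S ⊔ zpowers b) = 3 * #S ∧ (Oc {2} (S ⊔ zpowers b)).relIndex S = 2 := by
  have H := hyp_of_card l (by omega)
  have nD := nrm2 hS.pi l c.le
  have an := nD a1
  have e : D ⊔ zpowers a = S := H.sup_eq (zpowers_le' a1) fun k => a2 (k (mem_zpowers a))
  have nP : S ⊔ zpowers b ≤ N(D) := sup_le nD (zpowers_le' b1)
  have c1 := card_q nP (l.trans le_sup_left)
  have ab := mul_mem an b1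
  have c2 := dc (qsq an (odd2 l c a1 a1 a2 a2)) (qsq b1 b2) (n := 3) (by omega) (by
    rw [pow_three', ← qm_mul an b1, ← qm_mul ab ab, ← qm_mul (mul_mem ab ab) ab, qm_eq_one (mul_mem (mul_mem ab ab) ab)]
    exact h3)
  rw [← quo2 an b1, e] at c2
  have bS : b ∉ S := fun k => h1 ((mul_mem_cancel_left (odd2 l c (mul_mem a1 k) (mul_mem a1 k) h1 h1)).1 h3)
  have s := hS.of_le le_sup_left (sup_le hS.le (zpowers_le' bL))
  have o := s.not_dvd Nat.prime_two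
  have c3 := s.card_mul
  have o1 : S.relIndex (S ⊔ zpowers b) ≠ 1 := fun k => bS (relIndex_eq_one.1 k (mem_sup_right (mem_zpowers b)))
  have o2 : S.relIndex (S ⊔ zpowers b) ≤ 3 := Nat.le_of_mul_le_mul_left (by nlinarith) (card_pos S)
  refine ⟨by rw [← c3, show S.relIndex (S ⊔ zpowers b) = 3 by omega, mul_comm], ?_⟩
  rcases H.max (le_Oc ⟨l.trans le_sup_left, nP⟩ (hS.pi.of_le l)) (Oc_le_hall s) with k | k
  · rw [k, H.idx]
  · exact absurd (mem2 hS bL (k ▸ Oc_norm _ _ (mem_sup_right (mem_zpowers b))) (l b2)) bS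

def z7 : SL(3, ZMod 2) := ⟨!![1, 0, 1; 0, 1, 0; 0, 0, 1], by decide⟩
def s7 : SL(3, ZMod 2) := ⟨!![0, 1, 0; 1, 0, 0; 0, 0, 1], by decide⟩
def t7 : SL(3, ZMod 2) := ⟨!![1, 0, 0; 0, 0, 1; 0, 1, 0], by decide⟩
theorem k1 : K4 y7 z7 := ⟨two_of_mul_self (by decide +kernel) (by decide +kernel),
  two_of_mul_self (by decide +kernel) (by decide +kernel), by decide +kernel, by decide +kernel⟩
theorem k2 : K4 x7 z7 := ⟨two_of_mul_self (by decide +kernel) (by decide +kernel),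
  two_of_mul_self (by decide +kernel) (by decide +kernel), by decide +kernel, by decide +kernel⟩
theorem nV {X : Type*} [Group X] [Finite X] {g t s : X} (h1 : g * t * g⁻¹ ∈ V4 t s) (h2 : g * s * g⁻¹ ∈ V4 t s) :
    g ∈ N(V4 t s) := mem_norm_of_cj_le (cj_V4 g t s ▸ V4_le.2 ⟨h1, h2⟩)
theorem c7 : #(V4 y7 z7 ⊔ zpowers x7) = 8 := by
  rw [card_sup_zp k2.tt (by rw [k1.mem]; decide +kernel) (nV (by rw [k1.mem]; decide +kernel)
    (by rw [k1.mem]; decide +kernel)), k1.card]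
theorem zU : z7 ∈ V4 y7 z7 ⊔ zpowers x7 := mem_sup_left (right_mem_V4 _ _)
theorem gen7 {Y : Subgroup SL(3, ZMod 2)} (h : V4 y7 z7 ⊔ zpowers x7 ≤ Y) (s : s7 ∈ Y) (t : t7 ∈ Y) : Y = ⊤ := by
  have x := h (mem_sup_right (mem_zpowers _))
  have := Fact.mk Nat.prime_three
  have := Fact.mk (by norm_num : Nat.Prime 7)
  have d1 := c7 ▸ card_dvd_of_le h
  have d2 := orderOf_eq_prime (x := x7 * s7) (p := 3) (by decide +kernel) (by decide +kernel) ▸
    orderOf_dvd_natCard Y (mul_mem x s)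
  have d3 := orderOf_eq_prime (x := x7 * s7 * t7) (p := 7) (by decide +kernel) (by decide +kernel) ▸
    orderOf_dvd_natCard Y (mul_mem (mul_mem x s) t)
  have p := card_pos Y
  exact eq_of_le_of_card_ge le_top (by rw [card_top, H11.card_sl3_two]; omega)

theorem pr_norm {X : Type} [Group X] {π : N →* X} {Y : Subgroup X} {c : N} (h : π c ∈ N(Y)) : (c : G) ∈ N(pr π Y) :=
  mem_norm_of_cj_le fun w hw => by
    obtain ⟨x, hx, rfl⟩ := mem_cj'.1 hw
    exact (mem_pr (π := π) (Y := Y) (g := c * ⟨x, pr_le Y hx⟩ * c⁻¹)).2 (by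
      simpa using conj_mem_of_norm h ((mem_pr (g := ⟨x, pr_le Y hx⟩)).1 hx))

/-- a parabolic subgroup outside `M` -/
theorem par (h : Fr N Q T) (l : L7 N Q) (hM : ¬ N ≤ M) (tM : T ≤ M) :
    ∃ P, T ≤ P ∧ P ≤ N ∧ ¬ P ≤ M ∧ #P = 3 * #T ∧ (Oc {2} P).relIndex T = 2 := by
  have cT := (H17.MS.l7 h l).1
  obtain ⟨π₀, s₀, k₀⟩ := l
  obtain ⟨j, hj⟩ := h.pg.exists_card
  obtain ⟨g, hg, gT⟩ := h.syl.scj_le (pr_le (π := π₀) (V4 y7 z7 ⊔ zpowers x7))
    (.of_card_pow Nat.prime_two (k := 3 + j) (by rw [card_pr s₀ k₀ h, c7, hj, pow_add]; rfl))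
  let π : N →* SL(3, ZMod 2) := π₀.comp (MulAut.conj (⟨g, hg⟩ : N)⁻¹).toMonoidHom
  have s : Function.Surjective π := s₀.comp (MulAut.conj _).surjective
  have k : ∀ w : N, π w = 1 ↔ (w : G) ∈ Q := fun w => (k₀ _).trans
    ⟨fun a => by simpa [mul_assoc] using h.nq.conj_mem hg a, fun a => by simpa using h.nq.conj_mem (inv_mem hg) a⟩
  have U : ∀ Y ≤ V4 y7 z7 ⊔ zpowers x7, pr π Y ≤ T := fun Y hY w hw => gT (mem_cj.2 (by
    simpa using (mem_pr (π := π₀) (g := (⟨g, hg⟩ : N)⁻¹ * ⟨w, pr_le Y hw⟩ * (⟨g, hg⟩ : N)⁻¹⁻¹)).2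
      (hY ((mem_pr (g := ⟨w, pr_le Y hw⟩)).1 hw))))
  have key : ∀ {t u x s : SL(3, ZMod 2)} (c : N), π c = s → K4 t u → V4 t u ≤ V4 y7 z7 ⊔ zpowers x7 →
      x ∈ V4 y7 z7 ⊔ zpowers x7 → x ∉ V4 t u → s ∈ N(V4 t u) → s * s = 1 → x * s * (x * s) * (x * s) = 1 → x * s ∉ V4 t u →
      (c : G) ∉ M → ∃ P, T ≤ P ∧ P ≤ N ∧ ¬ P ≤ M ∧ #P = 3 * #T ∧ (Oc {2} P).relIndex T = 2 :=
    fun {t u x _} c ec k4 l x1 x2 n e2 e3 e4 cM => by
      obtain ⟨a, rfl⟩ := s x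
      subst ec
      exact ⟨_, le_sup_left, sup_le h.syl.le (zpowers_le' c.2), fun k => cM (k (mem_sup_right (mem_zpowers _))),
        s3 h.syl (U _ l) (by rw [card_pr s k h, k4.card]; omega) (U _ le_rfl (mem_pr.2 x1)) (mt mem_pr.1 x2) c.2 (pr_norm n)
          ((mem_pr (g := c * c)).2 (by rw [map_mul, e2]; exact one_mem _))
          ((mem_pr (g := a * c * (a * c) * (a * c))).2 (by simp only [map_mul]; rw [e3]; exact one_mem _))
          (mt (mem_pr (g := a * c)).1 (by rwa [map_mul]))⟩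
  obtain ⟨c, ec⟩ := s s7
  obtain ⟨d, ed⟩ := s t7
  by_cases cM : (c : G) ∈ M
  swap
  · exact key c ec k1 le_sup_left (mem_sup_right (mem_zpowers _)) (by rw [k1.mem]; decide +kernel)
      (nV (by rw [k1.mem]; decide +kernel) (by rw [k1.mem]; decide +kernel)) (by decide +kernel) (by decide +kernel)
      (by rw [k1.mem]; decide +kernel) cM
  by_cases dM : (d : G) ∈ M
  swap
  · exact key d ed k2 (V4_le.2 ⟨mem_sup_right (mem_zpowers _), zU⟩) (mem_sup_left (left_mem_V4 _ _))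
      (by rw [k2.mem]; decide +kernel) (nV (by rw [k2.mem]; decide +kernel) (by rw [k2.mem]; decide +kernel))
      (by decide +kernel) (by decide +kernel) (by rw [k2.mem]; decide +kernel) dM
  have e := gen7 (Y := (M.subgroupOf N).map π) (fun x hx => let ⟨a, e⟩ := s x; ⟨a, tM (U _ le_rfl (mem_pr.2 (e ▸ hx))), e⟩)
    ⟨c, cM, ec⟩ ⟨d, dM, ed⟩
  refine absurd (fun n hn => ?_) hM
  obtain ⟨m, m1, m2⟩ := e.ge (mem_top (π ⟨n, hn⟩))
  simpa using mul_mem (show (m : G) ∈ M from m1) (tM (QT h ((k (m⁻¹ * ⟨n, hn⟩)).1 (by rw [map_mul, map_inv, m2, inv_mul_cancel]))))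

/-- `2`-groups of order at most `16` with an automorphism of order `7` -/
theorem small (hQ : H19.PG 2 Q) (c : #Q ≤ 16) (o : orderOf x = 7) (xn : x ∈ N(Q)) (xc : x ∉ C(Q)) (k : K4 z y) (hz : z ∈ Q)
    (hy : y ∈ Q) (zc : Q ≤ C[z]) (xz : x ∈ C[z]) (yn : Q ≤ N(V4 z y)) : Q ≤ C[y] := by
  by_contra nq
  have cz := card_zp k.tt k.t1
  have zx : zpowers z ≤ C(zpowers x) := zp_cent (zpowers_le' (mem_cent1.2 (mem_cent1.1 xz).symm))
  have md : ∀ W, zpowers z ≤ W → W ≤ Q → x ∈ N(W) → W ≤ C(zpowers x) ∨ #W = 16 ∧ #(W ⊓ C(zpowers x)) = 2 :=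
    fun W w1 w2 w3 => or_iff_not_imp_left.2 fun n => by
      have m := modEq_cent (p := 7) (.of_card_pow (by norm_num) (k := 1) (by rw [Nat.card_zpowers, o]; rfl)) (by norm_num)
        (zpowers_le' w3)
      have l1 := pg_lt_card (hQ.of_le w2) (lt_of_le_of_ne (inf_le_left : W ⊓ C(zpowers x) ≤ W) fun e => n (e.ge.trans inf_le_right))
      have l2 := card_le (le_inf w1 zx)
      have l3 := card_le w2
      obtain ⟨i, hi⟩ := (hQ.of_le w2).exists_card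
      obtain ⟨j, hj⟩ := (hQ.of_le (inf_le_left.trans w2 : W ⊓ C(zpowers x) ≤ Q)).exists_card
      rw [hi, hj] at m l1 ⊢
      rw [hj] at l2
      rw [hi] at l3
      have i4 : i ≤ 4 := (Nat.pow_le_pow_iff_right one_lt_two).1 (l3.trans c)
      have j4 : j ≤ 4 := (Nat.pow_le_pow_iff_right one_lt_two).1 (show 2 ^ j ≤ 2 ^ 4 by omega)
      unfold Nat.ModEq at m
      interval_cases i <;> interval_cases j <;> omega
  have zQ := zpowers_le' hz
  obtain ⟨c16, c2⟩ := (md Q zQ le_rfl xn).resolve_left fun e => xc (cents_symm e (mem_zpowers x))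
  have e1 := eq_of_le_of_card_ge (le_inf zQ zx) (by omega)
  have inv : ∀ W, zpowers z ≤ W → W ≤ Q → x ∈ N(W) → W ≤ zpowers z ∨ W = Q := fun W w1 w2 w3 =>
    (md W w1 w2 w3).imp (fun e => (le_inf w2 e).trans e1.ge) fun e => eq_of_le_of_card_ge w2 (by omega)
  have xQ := zpowers_le' xn
  have qz : Q ≤ N(zpowers z) := zc.trans (cent1_le_norm_zpowers z)
  have Z1 := (inv (Q ⊓ C(Q)) (le_inf zQ (cents_symm (zp_cent zc))) inf_le_left
    (norms_inf xQ (norms_cent xQ) (mem_zpowers x))).resolve_right fun e =>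
      nq ((e.ge.trans inf_le_right).trans (cent_le_cent1 hy))
  have yz : y ∉ zpowers z := fun e => ((mem_zp k.tt).1 e).elim k.s1 k.ne.symm
  have Z2 := (inv (Q ⊓ Cm (zpowers z) Q) (le_inf zQ (Cm_self qz)) inf_le_left (norms_inf xQ (norms_Cm
    (zpowers_le' (cent1_le_norm_zpowers z xz)) xQ) (mem_zpowers x))).resolve_left fun e => yz (e ⟨hy, qz hy, fun j hj => by
      rcases k.mem.1 (conj_mem_of_norm (yn hj) (right_mem_V4 z y)) with e | e | e | e
      · exact absurd (conj_eq_one_iff.1 e) k.s1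
      · exact absurd (by simpa [mul_assoc] using e.trans (mem_cent1_conj.1 (zc hj)).symm) k.ne.symm
      all_goals
        rw [show y * j * y⁻¹ * j⁻¹ = (j * y * j⁻¹ * y⁻¹)⁻¹ by group, e]
        simp⟩)
  have cm2 : ∀ v ∈ Q, ∀ a ∈ Q, ∀ b ∈ Q, a ∉ C[v] → b ∉ C[v] → a * b ∈ C[v] := fun v hv a ha b hb na nb => by
    have f : ∀ a ∈ Q, a ∉ C[v] → a * v * a⁻¹ = z * v := fun a ha na => by
      rcases (mem_zp k.tt).1 ((Z2.ge ha).2.2 v hv) with e | e
      · exact absurd (mem_cent1_conj.2 (mul_inv_eq_one.1 e)) na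
      · exact mul_inv_eq_iff_eq_mul.1 e
    refine mem_cent1_conj.2 ?_
    calc _ = a * (b * v * b⁻¹) * a⁻¹ := by group
      _ = a * z * a⁻¹ * (a * v * a⁻¹) := by rw [f b hb nb]; group
      _ = _ := by rw [f a ha na, mem_cent1_conj.1 (zc ha), ← mul_assoc, k.tt, one_mul]
  obtain ⟨w, hw, wy⟩ := SetLike.not_le_iff_exists.1 nq
  have yw : y ∉ C[w] := fun e => wy (mem_cent1.2 (mem_cent1.1 e).symm)
  have g : Q ≤ Q ⊓ C[y] ⊓ C[w] ⊔ zpowers y ⊔ zpowers w := by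
    have g1 : Q ⊓ C[y] ≤ Q ⊓ C[y] ⊓ C[w] ⊔ zpowers y := fun a ha => by
      by_cases e : a ∈ C[w]
      · exact mem_sup_left ⟨ha, e⟩
      · exact (mul_mem_cancel_right (mem_sup_right (mem_zpowers y))).1
          (mem_sup_left ⟨mul_mem ha ⟨hy, mem_cent1_self y⟩, cm2 w hw a ha.1 y hy e yw⟩)
    intro a ha
    by_cases e : a ∈ C[y]
    · exact mem_sup_left (g1 ⟨ha, e⟩)
    · exact (mul_mem_cancel_right (mem_sup_right (mem_zpowers w))).1
        (mem_sup_left (g1 ⟨mul_mem ha hw, cm2 y hy a ha w hw e wy⟩))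
  have l1 := pg_lt_card hQ (lt_of_le_of_ne (inf_le_left : Q ⊓ C[y] ≤ Q) fun e => nq (e.ge.trans inf_le_right))
  have l2 := pg_lt_card (hQ.of_le inf_le_left) (lt_of_le_of_ne (inf_le_left : Q ⊓ C[y] ⊓ C[w] ≤ Q ⊓ C[y]) fun e =>
    yw (e.ge ⟨hy, mem_cent1_self y⟩).2)
  have zD : zpowers z ≤ Q ⊓ C[y] ⊓ C[w] := zpowers_le' ⟨⟨hz, k.tC⟩, mem_cent1.2 (mem_cent1.1 (zc hw)).symm⟩
  obtain ⟨u, hu, uz⟩ := SetLike.not_le_iff_exists.1 (show ¬ Q ⊓ C[y] ⊓ C[w] ≤ zpowers z from fun e => by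
    have := card_le (g.trans (sup_le_sup_right (sup_le_sup_right e _) _))
    have := card_sup_le (yn hw) (mem_sup_left (e ⟨⟨mul_mem hw hw, cm2 y hy w hw w hw wy wy⟩,
      mul_mem (mem_cent1_self w) (mem_cent1_self w)⟩))
    rw [k.card] at this
    unfold V4 at this
    omega)
  have l3 := pg_lt_card (hQ.of_le ((sup_le zD (zpowers_le' hu)).trans (inf_le_left.trans inf_le_left)))
    (lt_of_le_of_ne (le_sup_left : zpowers z ≤ zpowers z ⊔ zpowers u) fun e => uz (e.ge (mem_sup_right (mem_zpowers u))))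
  have e2 := eq_of_le_of_card_ge (sup_le zD (zpowers_le' hu)) (by omega)
  have sy : ∀ {a}, u ∈ C[a] → zpowers a ≤ C[u] := fun e => zpowers_le' (mem_cent1.2 (mem_cent1.1 e).symm)
  exact uz (Z1 ⟨hu.1.1, cents_symm (zp_cent (g.trans (sup_le (sup_le (e2.ge.trans (sup_le (sy (zc hu.1.1))
    (zpowers_le' (mem_cent1_self u)))) (sy hu.1.2)) (sy hu.2)))) (mem_zpowers u)⟩)

theorem e3a : E3a.{u} := fun {G} _ _ {S Y Q z y} h l => by
  by_contra nq
  have k := h.k4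
  have f := h.lc.toFr
  have eV := h.eV
  subst eV
  have SM : S ≤ N(V4 z y) := (H29.PU.nrm_bm le_normalizer).trans h.NB
  have SC : S ≤ C[z] := f.syl.le
  have QS := QT f
  obtain ⟨q, hq, q0⟩ := SetLike.not_le_iff_exists.1 nq
  have mK : ∀ {g}, g ∈ C(V4 z y) ↔ g * z * g⁻¹ = z ∧ g * y * g⁻¹ = y := by
    intro g; rw [cent_V4, mem_inf, mem_cent1_conj, mem_cent1_conj]
  have sw : ∀ t ∈ S, t ∉ C(V4 z y) → t * y * t⁻¹ = z * y := fun t ht n => by
    have tz := mem_cent1_conj.1 (SC ht)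
    rcases k.mem.1 (conj_mem_of_norm (SM ht) (right_mem_V4 z y)) with e | e | e | e
    · exact absurd (conj_eq_one_iff.1 e) k.s1
    · exact absurd (by simpa [mul_assoc] using e.trans tz.symm) k.ne.symm
    · exact absurd (mK.2 ⟨tz, e⟩) n
    · exact e
  have qS := QS hq
  have qz := mem_cent1_conj.1 (SC qS)
  have qy := sw q qS q0
  have cm : ∀ g a b : G, g * (a * b) * g⁻¹ = g * a * g⁻¹ * (g * b * g⁻¹) := fun g a b => by group
  have cc : ∀ g g' a : G, g * g' * a * (g * g')⁻¹ = g * (g' * a * g'⁻¹) * g⁻¹ := fun g a b => by group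
  have nK := cent_normal_norm (V4 z y)
  have s0 := (h.syl.of_le SM le_top).inf_normal nK
  set K := C(V4 z y)
  have n0 : S ≤ N(S ⊓ K) := norms_inf le_normalizer (SM.trans nK.norm)
  have qq : q * q ∈ K := mK.2 ⟨by rw [cc, qz, qz], by rw [cc, qy, cm, qz, qy, k.tts]⟩
  have cS : #S = 2 * #(S ⊓ K) := by
    have l1 := pg_lt_card h.syl.pi (lt_of_le_of_ne (inf_le_left : S ⊓ K ≤ S) fun e => q0 (e.ge qS).2)
    have l2 := card_sup_le (n0 qS) ⟨mul_mem qS qS, qq⟩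
    have l3 : S ≤ S ⊓ K ⊔ zpowers q := fun t ht => by
      by_cases e : t ∈ K
      · exact mem_sup_left ⟨ht, e⟩
      · exact (mul_mem_cancel_right (mem_sup_right (mem_zpowers q))).1 (mem_sup_left ⟨mul_mem ht qS, mK.2
          ⟨mem_cent1_conj.1 (SC (mul_mem ht qS)), by rw [cc, qy, cm, sw t ht e, mem_cent1_conj.1 (SC ht), k.tts]⟩⟩)
    have := card_le l3
    omega
  obtain ⟨s, hs, sz, sy⟩ := h.sw
  obtain ⟨b, hb⟩ : ∃ b, b = s * q * s⁻¹ := ⟨_, rfl⟩
  have bM : b ∈ N(V4 z y) := hb ▸ mul_mem (mul_mem hs (SM qS)) (inv_mem hs)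
  have bQ : b ∈ cj s Q := hb ▸ mem_cj'.2 ⟨q, hq, rfl⟩
  have b1 : b * y * b⁻¹ = y := by
    rw [hb, ← sz]
    calc _ = s * (q * z * q⁻¹) * s⁻¹ := by group
      _ = _ := by rw [qz]
  have b2 : b * z * b⁻¹ = y * z := by
    rw [hb]
    nth_rw 1 [← sy]
    calc _ = s * (q * y * q⁻¹) * s⁻¹ := by group
      _ = _ := by rw [qy, cm, sz, sy]
  have Kz : K ≤ C[z] := cent_le_cent1 (left_mem_V4 z y)
  have Ks : K ≤ N(cj s Q) := (cj_of_mem_norm (nK.norm hs)).ge.trans ((cj_mono s (Kz.trans f.nq.norm)).trans (cj_norm s Q).le)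
  have kq : K ⊓ cj s Q ≤ S ⊓ K := s0.le_of_norm' inf_le_left ((f.pg.J s).of_le inf_le_right)
    (inf_le_right.trans (norms_inf le_normalizer Ks))
  have bn : b ∈ N(S ⊓ K) := mem_norm_of_cj_le fun w hw => by
    obtain ⟨v, hv, rfl⟩ := mem_cj'.1 hw
    have v2 : v ∈ K := hv.2
    have := kq (show b * v * b⁻¹ * v⁻¹ ∈ _ from ⟨mul_mem (conj_mem_of_norm (nK.norm bM) v2) (K.inv_mem v2), by
      simpa [mul_assoc] using mul_mem bQ (conj_mem_of_norm (Ks v2) (inv_mem bQ))⟩)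
    simpa using mul_mem this hv
  have bb : b * b ∈ S ⊓ K := kq ⟨by
    rw [hb, ← cm]; exact conj_mem_of_norm (nK.norm hs) qq, mul_mem bQ bQ⟩
  obtain ⟨r, hr⟩ : ∃ r, r = q * b := ⟨_, rfl⟩
  have r1 : r * z * r⁻¹ = y := by rw [hr, cc, b2, cm, qy, qz, mul_assoc, ← k.comm, k.tts]
  have r2 : r * y * r⁻¹ = z * y := by rw [hr, cc, b1, qy]
  have r3 : r * (z * y) * r⁻¹ = z := by rw [cm, r1, r2, k.comm, k.symm.tts]
  have rn : r ∈ N(S ⊓ K) := hr ▸ mul_mem (n0 qS) bn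
  have uK : r * r * r ∈ K := mK.2 ⟨by rw [cc, cc, r1, r2, r3], by rw [cc, cc, r2, r3, r1]⟩
  have uS : r * r * r ∈ S ⊓ K := mem2 s0 uK (mul_mem (mul_mem rn rn) rn) (by
    have d : q * r * q⁻¹ * r ∈ S ⊓ K := by
      have := mul_mem (show q * q ∈ S ⊓ K from ⟨mul_mem qS qS, qq⟩) bb
      rw [hr]; convert this using 1; group
    have ρ := conj_mem_of_norm (le_normalizer (n0 qS)) rn
    have c1 : q * (r * r * r) * q⁻¹ * (r * r * r)⁻¹ ∈ S ⊓ K :=
      ⟨QS (by simpa [mul_assoc] using mul_mem hq (conj_mem_of_norm (f.nq.norm (Kz uK)) (inv_mem hq))),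
        mul_mem (conj_mem_of_norm (nK.norm (SM qS)) uK) (K.inv_mem uK)⟩
    have := mul_mem (inv_mem c1) (mul_mem (mul_mem (conj_mem_of_norm (mul_mem ρ ρ) d) (conj_mem_of_norm ρ d)) d)
    convert this using 1; simp [mul_assoc])
  obtain ⟨p1, p2⟩ := s3 h.syl inf_le_left cS qS (fun e => q0 e.2) (mem_top b) bn bb (hr ▸ uS)
    fun e => k.ne ((mK.1 e.2).1.symm.trans (hr ▸ r1))
  have eC : C(Zs S) = C[z] := by rw [h.eZ, cent_zpowers]
  obtain ⟨P, t1, t2, t3, t4, t5⟩ := par f l (eC ▸ h.nz) SM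
  have pM : S ⊔ zpowers b ≤ N(V4 z y) := sup_le SM (zpowers_le' bM)
  have i3 : ∀ {P : Subgroup G}, S ≤ P → #P = 3 * #S → S.relIndex P = 3 := fun a c =>
    Nat.eq_of_mul_eq_mul_left (card_pos S) (by rw [card_mul_relIndex a, c, mul_comm])
  have eI : (S ⊔ zpowers b) ⊓ P = S := (eq_of_prime_index (le_inf le_sup_left t1) inf_le_right
    (i3 t1 t4 ▸ Nat.prime_three)).resolve_right fun e => t3 (e.ge.trans (inf_le_left.trans pM))
  have g1 : H8.GA.G3 (S ⊔ zpowers b) P := ⟨eI.symm ▸ h.syl.pi.isPGroup, by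
    rw [← inf_relIndex_left, eI, i3 le_sup_left p1], by rw [eI, ← Oc2, p2]⟩
  have g2 : H8.GA.G3 P (S ⊔ zpowers b) := ⟨by rw [inf_comm, eI]; exact h.syl.pi.isPGroup, by
    rw [← inf_relIndex_right, eI, i3 t1 t4], by rw [inf_comm, eI, ← Oc2, t5]⟩
  have c := g1.card g2 fun D d1 d2 d3 => by
    by_contra d0
    rw [eI] at d1
    have dp := h.syl.pi.of_le d1
    have st := h.star N(D) S H29.PU.bm_le (h.syl.of_le (le_sup_left.trans d2) le_top)
      ⟨ne_bot_mono (le_Oc (normalIn_norm D) dp) d0, h.hz.chr D d0 dp⟩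
    have zm : z ∈ Zs S := h.eZ ▸ mem_zpowers z
    have zK : z ∈ Kc (Zs S) N(D) := mem_sup_right zm
    have yK : y ∈ Kc (Zs S) N(D) := by
      have : b * z * b⁻¹ * z⁻¹ ∈ Kc (Zs S) N(D) :=
        mem_sup_left (commutator_mem_commutator (d2 (mem_sup_right (mem_zpowers b))) zm)
      rwa [b2, mul_inv_cancel_right] at this
    exact t3 (d3.trans (st.trans (sup_le (inf_le_right.trans ((centralizer_le (V4_le.2 ⟨zK, yK⟩)).trans
      (cent_le_norm _))) inf_le_right)))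
  rw [eI, (H17.MS.l7 f l).1] at c
  have := Fact.mk (by norm_num : Nat.Prime 7)
  obtain ⟨x, hx⟩ := exists_prime_orderOf_dvd_card' (G := C[z]) 7 (cN f l ▸ Dvd.dvd.mul_right (by norm_num) _)
  have ox : orderOf (x : G) = 7 := (orderOf_coe x).trans hx
  have yq := V4_le.1 h.yq
  refine nq ((cent_V4 z y).ge.trans' <| le_inf (QS.trans SC) (small f.pg (by omega) ox (f.nq.norm x.2) (fun e => ?_) k yq.1 yq.2
    (QS.trans SC) x.2 (QS.trans SM)))
  obtain ⟨j, hj⟩ := f.pg.exists_card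
  have := ox ▸ hj ▸ orderOf_dvd_natCard Q (h.lc.chr e)
  exact absurd ((by norm_num : Nat.Prime 7).dvd_of_dvd_pow this) (by norm_num)

end H14.MS
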