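/-
Subgroups `Ω₈⁺(4)` of `E₈(2)`: definitions, tables and the list of chunks (see notes/O84.md).
-/
import Cfsg.Agent.H14.Red1
import Cfsg.Agent.H14.Inv4
import Cfsg.Agent.H14.Cox
import Cfsg.Agent.H14.Semi6
import Cfsg.Agent.H27.ID4
import Cfsg.Prelude.Def_Local
import Cfsg.Prelude.Def_Classical

set_option autoImplicit false
set_option linter.unusedSectionVars false
set_option maxRecDepth 100000

namespace H14.O8
open Cfsg Cfsg.Lie H14.RootSys H14.PreSt H14.St Matrix Subgroup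
open MulAut (conj)
universe u

/-- the root system of type `E₈` -/
noncomputable abbrev R := goodE8.R
/-- the root system of type `D₄` -/
noncomputable abbrev R4 := goodD4.R
/-- the roots of `E₈` -/
abbrev I := Fin chevE8.nroots
/-- the roots of `D₄` -/
abbrev I4 := Fin chevD4.nroots
/-- coordinates of the torus `5⁴` -/
abbrev V := Fin 4 → ZMod 5
/-- the root with a given number -/
def rt (n : ℕ) : I := ⟨n % 240, Nat.mod_lt _ (by decide)⟩
/-- a word for `w` -/
def Lw : List (Fin chevE8.rank) := [0, 2, 1, 3, 4, 5, 6, 7, 4, 3, 2, 1, 3, 4, 5, 6, 0, 2, 3, 4, 5, 1, 3, 4, 2, 3, 0, 2, 1, 3, 4, 5,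
  6, 7, 4, 2, 3, 0, 2, 1, 3, 4, 5, 6, 3, 4, 5, 3, 4, 2, 3, 0, 2, 1, 3, 4, 0, 2, 3, 2]
/-- the element of the Weyl group with square `-1` -/
noncomputable def w : Equiv.Perm I := R.wprod Lw
/-- the complex reflections -/
noncomputable def ρ (r : I) : Equiv.Perm I := R.refl r * R.refl (w r)
/-- the centralizer of `w`, a complex reflection group of order 46080 -/
noncomputable def C : Subgroup (Equiv.Perm I) := R.W ⊓ centralizer {w}
/-- the simple roots of the two subsystems `D₄` (the node `1` is the central one) -/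
def q (j : Fin 2) (i : Fin 4) : I := rt (![![4, 130, 106, 193], ![4, 130, 106, 150]] j i)
/-- the roots of the two subsystems -/
def e (j : Fin 2) (r : I4) : I := rt ((![[210, 214, 238, 204, 234, 235, 52, 128, 40, 109, 133, 46, 193, 106, 130, 199, 111, 187, 4, 5,
  35, 1, 25, 29], [230, 231, 238, 227, 234, 235, 92, 128, 85, 109, 133, 89, 150, 106, 130, 154, 111, 147, 4, 5, 12, 1, 8, 9]] j).getD r 0)
/-- the subsystems `D₄` -/
def Δ (j : Fin 2) : Set I := Set.range (e j)
/-- the subsystems `D₄ D₄` -/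
def Ξ (j : Fin 2) : Set I := Δ j ∪ w '' Δ j
/-- the restriction of a root to the torus `5⁴` -/
noncomputable def κ (s : I) : V := fun i => ((R.pair (q 0 i) s + 2 * R.pair (w (q 0 i)) s : ℤ) : ZMod 5)
/-- the Coxeter matrix of `D₄` off the diagonal -/
def m (i j : Fin 4) : ℕ := if i = 1 ∨ j = 1 then 3 else 2
/-- the stabilizer of a set of roots -/
def stab (A : Set I) : Subgroup (Equiv.Perm I) where
  carrier := {v | ∀ r, v r ∈ A ↔ r ∈ A}
  one_mem' _ := Iff.rfl
  mul_mem' ha hb r := (ha _).trans (hb r)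
  inv_mem' {v} h r := by rw [← h (v⁻¹ r)]; simp
/-- the line of a root -/
def Ψ (r : I) : Set I := {r, R.neg r, w r, R.neg (w r)}

/-! ### computing with roots -/

/-- the pairing -/
noncomputable def pr (r s : ℕ) : ℤ := tabE8.pr chevE8 r s
/-- the reflections -/
noncomputable def rf (a s : ℕ) : ℕ := tabE8.bs chevE8 (Int.sub (tabE8.f s) (Int.mul (pr a s) (tabE8.f a)))
/-- table of `w` -/
def wN (r : ℕ) : ℕ := dig 8 0x4489c420749eca3a5f8cdd407abe831a43980a307362c31f5aa5e04686c99dd8ec367eb488061d5e3970b80216504d9bdc0d3f784994ce2a8bc7e82361a879bde456a1dfef81d43d87bb196b97c14282c2051e592f72ae114c9cd7358f85c8e75cb3da09386f0124481c5da40e4f458ac6229adbeb0c3e33bcb1e3041455cd2965aaa0e14b92d3a7cbee80b7e6153c9308276a60ba1853a3de417dc096d1ea2d6dad2e5884d63468b21b6e00104e990b3276478ecc072864c5215ba677b0e21354a29fd9ed377fb691d2e9673b71b90317522669a90f4a95d02c8d7cbfe557acd56c3175af126390b525517bcf2b66ab r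
/-- table of `κ` -/
def kN (r i : ℕ) : ℕ := dig 4 0x123414040031000200131144320413043414404040014022310433242234244430203031300221342304013001410112424444141222124303200040120403310001030200224104143214030030020014140041021100120232431420401122134211431313044011041324040104224100323234023203342320003214343420112032434040103142311331244000422033023323333444101020313022122432223324031030224424141041101233203040212221432104043001004232420342140340303032002332230323143440014003104442441344241221144100230044123214020034120314230330022041324302002141034323001100324114433411311142111302400410211032413202322323002020021013411302132304000120340134123433201022304043401431413311402031023322312333432420403011402221223222031330100024312442241310401210302330442121234130002132230221032323140001330104423144010110424244124213443330101241032300430344001441410300002041024123140100330203000402244301001002304312433311411311044304140420320134212003202420303111332122312401103310041010214142012301441100420003002441014321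 (Nat.add (Nat.mul 4 r) i)
/-- the roots of five generating complex reflections -/
def gl (k : Fin 5) : I := rt (![4, 130, 0, 2, 3] k)
/-- their tables -/
def gN (k r : ℕ) : ℕ := dig 8 0x7d2322031d1914605b57a853520e0d45418c3d3c063786333205812d2c047a7820270201cb7c7b21c7c662711c1bc1c0616c1817bb5f5e15b7b65c661312b15a5910ad56550f50e5a7a651a4a3a2a1a0464a0c0b9b44430997403f083a92363507302ade8b8a3b8887d985843182d5807f2befcac9d179d01f761e262500c4706f1a6dbe6b6a166867b4656411c5bfe8bab95db5e7b0af58e6acab54e4e3a5a94f4e4d4c4b9e49480a9fe09a9942df96953edddc89933938da919034d8d7838e2f2ed4d37e8d2928ce747324eeedc8cf7775ebc3c26eeabdbc69b8e9b3b263aeaae2e19d9c4798948fdbd6d2eccdcc722d790229266b6518135653ac0f4f490c403d960839363391072f7ad42a74d127708dcd242380041f7c031c2b7700c1195f6dbd166cba1569b7145a67b31166b01063ade450aaa957a70e5451a3a2a10d444b9d0a4a9a094797dd3a949392d8308f8ece418b063e3b87378505343181ca207e7dc71dd5ee2cc3011ad2287271cf256ebebbea6ab868b4b1e964ae216160bf1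75d5c5bb51258a8e655a5e552a4abe24e4d4c9e9be1489846459f0b428cdf3f89de3c8895db3886da3583d9328290d62eef78c4d3ec73d0eb6fcccb22627fc81e7bc51b75c0e85ebcb9b6e759b2afe3a6a0e0439c99dcd78a84c9c6ed76c2007742726e392f5d581f1c4f1ac347753e3b6938db3431632ed60c290a9d26099a24cd9821541ec8511bc54ee2c218068b16bd8915ba88b813058511b38310b082ae02794474700ea762a5a45f5a2b0b9f28d29c25cf99cc08964d949307914c8f8e4917bf8abcb98712b584b2af0480467e037c450fac01ee43e0aa73ec71a96feb403d6b3add6836336530d8a66160a35ee85c5ba259e7235620ca531dc750e4c495904b4a8d48e17f7bab76ed416d3fdf6c3cde6aeadc376735da6632d964e9d72d0da12ad49e27d19bce5722cb55e6c952e5c6e319c18cbebb14b786b4b17aa82cd5a0d3d09792c0b6817dad78efe4eee2eceaebe9e8e6e7e5efe3edcdbdc3baddb8dbb3acd4aad2b0d8aed6d1a9cfcee1cca7caa5c8c1a3bfbedfbcc7a4c5c4e0c2bbdeb9dcb7a2b5b4dab2add5abd3b1d9afd7d0a8cba6c9c0c6b6794f77749d726b966994709a6e98936591638f8d8e5f8b5d8987885680547e6d5a855883537c517aa1509f4e759e739c6c976a9582719b6f996768669264906162608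c5e8a5c5781557f5b8659847d527b78a07639292f264924471f1840163e1c441a423d153b3a4d38133611342d0f2b2a4b28331031304c2e274a2548230e2120461e1941173f1d451b433c143712352c3222020c000a080907060405030d010b81807e7f046d67615ce6565755544b46df40413f3eda36373534d4d5d3d22d2a292c2b28cacbc9c823201f22211ec1bebdc0bfbc19181617b7b4b3b6b5b214131112adacaaab0fa8a7a5a60ea3a2a19e9da09f9c0d0c0a0b979694950892918f90078d8c8b898a06878685838405efeeeced7a79747d7c787773727b767502030100ea6b6c6a6968e96566646362e85f605e5de75a5b5958e4e5e3e253504f52514e4d4ce1494a4847e044454342dddedcdb3d3a393c3b38d8d9d7d633302f32312ed1cecdd0cfcc27262425c7c4c3c6c5c21d1c1a1bbbbab8b915b1b0aeaf10a9a49b9a989909938e8882eb70716f6e (Nat.add (Nat.mul 240 k) r)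
/-- words in the generators -/
noncomputable def ev (L : List (Fin 5)) : Equiv.Perm I := (L.map fun k => ρ (gl k)).prod
/-- their action -/
def evN (L : List (Fin 5)) (r : ℕ) : ℕ := L.foldr (fun (k : Fin 5) s => gN k s) r

theorem rt_val (r : I) : rt r = r := Fin.ext (Nat.mod_eq_of_lt r.2)
theorem val_rt {n : ℕ} (h : n < 240) : (rt n).val = n := Nat.mod_eq_of_lt h
theorem allI {p : ℕ → Bool} (h : allB 240 p = true) (r : I) : p r = true := allB_iff.1 h r r.2
theorem pair_val (r s : I) : R.pair r s = pr r s := goodE8.pair_eq okE8 rfl r s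
theorem neg_val (r : I) : (R.neg r).val = 239 - r := rfl
theorem cf_val (r : I) (k : Fin chevE8.rank) : R.cf r k = tabE8.cf r k := rfl
theorem co_val (r : I) (k : Fin chevE8.rank) : R.co r k = tabE8.co r k := rfl
theorem wt_val (r : I) (k : Fin chevE8.rank) : R.wt r k = tabE8.wt r k := okE8.wt_rootSys r k
theorem f_val (r : I) : lexf chevE8.rank (R.cf r) = tabE8.f r := okE8.lexf_cf r
theorem bs_f (r : I) : tabE8.bs chevE8 (tabE8.f r) = r :=
  Nat.eq_of_beq_eq_true (allI (p := fun r => Nat.beq (tabE8.bs chevE8 (tabE8.f r)) r) (by decide +kernel) r)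
theorem refl_val (a s : I) : (R.refl a s).val = rf a s := by
  rw [← bs_f, ← f_val, cf_refl, map_sub, map_zsmul, f_val, f_val, pair_val]; rfl
theorem w_val (r : I) : (w r).val = wN r := by
  rw [w, wprod_apply]; revert r; decide +kernel
theorem hd (r : I) : R.d r = 1 := (goodE8.hd r).elim id id
theorem hd4 (r : I4) : R4.d r = 1 := (goodD4.hd r).elim id id
theorem w_mem : w ∈ R.W := R.wprod_mem_W _
theorem w_aut : w ∈ R.Aut := R.W_le_Aut w_mem
theorem ww (r : I) : w (w r) = R.neg r := Fin.ext (by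
  rw [w_val, w_val, neg_val]
  exact Nat.eq_of_beq_eq_true (allI (p := fun r => Nat.beq (wN (wN r)) (239 - r)) (by decide +kernel) r))
theorem pair_comm (r s : I) : R.pair r s = R.pair s r := by simpa [hd] using R.d_pair r s
theorem pair_ww (r s : I) : R.pair (w r) (w s) = R.pair r s := Aut.pair_eq w_aut r s
theorem pair_w (r s : I) : R.pair r (w s) = -R.pair (w r) s := by rw [← pair_ww, ww, pair_neg_right]
theorem pair_w_self (r : I) : R.pair (w r) r = 0 := by have := pair_w r r; rw [pair_comm] at this; omega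
theorem ρ_val (a s : I) : (ρ a s).val = rf a (rf (wN a) s) := by
  rw [ρ, Equiv.Perm.mul_apply, refl_val, refl_val, w_val]
theorem mem_C {v : Equiv.Perm I} : v ∈ C ↔ v ∈ R.W ∧ ∀ r, v (w r) = w (v r) := by
  rw [C, mem_inf, mem_centralizer_singleton_iff, Equiv.ext_iff]; rfl
theorem C_aut {v : Equiv.Perm I} (h : v ∈ C) : v ∈ R.Aut := R.W_le_Aut h.1
theorem w_C : w ∈ C := mem_C.2 ⟨w_mem, fun _ => rfl⟩
theorem refl_comm (r : I) : R.refl r * R.refl (w r) = R.refl (w r) * R.refl r := by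
  have := R.refl_conj (w r) r
  rw [refl_eq_self_of_pair _ (pair_w_self r)] at this
  conv_lhs => rw [this]
  simp [mul_assoc]
theorem ρ_C (r : I) : ρ r ∈ C := mem_C.2 ⟨mul_mem (R.refl_mem_W _) (R.refl_mem_W _), fun s => by
  rw [ρ, Equiv.Perm.mul_apply, Equiv.Perm.mul_apply, Aut.refl_apply w_aut, Aut.refl_apply w_aut, ww, refl_neg_left,
    ← Equiv.Perm.mul_apply, refl_comm]; rfl⟩
theorem ρ_conj {v : Equiv.Perm I} (h : v ∈ C) (r : I) : ρ (v r) = v * ρ r * v⁻¹ := by
  rw [ρ, ← (mem_C.1 h).2, Aut.refl_conj (C_aut h), Aut.refl_conj (C_aut h), ρ]; group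
theorem ρ_mul_self (r : I) : ρ r * ρ r = 1 := by
  rw [ρ, mul_assoc, ← mul_assoc (R.refl (w r)), ← refl_comm]; simp [mul_assoc, ← mul_assoc (R.refl r) (R.refl r)]
theorem ev_C (L : List (Fin 5)) : ev L ∈ C := list_prod_mem (List.forall_mem_map.2 fun _ _ => ρ_C _)
theorem gl_val (k : Fin 5) (r : I) : (ρ (gl k) r).val = gN k r := by
  rw [ρ_val]
  exact Nat.eq_of_beq_eq_true (allI (p := fun r => Nat.beq (rf (gl k) (rf (wN (gl k)) r)) (gN k r))
    (by revert k; decide +kernel) r)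
theorem ev_val (L : List (Fin 5)) (r : I) : (ev L r).val = evN L r := by
  induction L with
  | nil => rfl
  | cons k L ih => rw [evN, List.foldr_cons, ← evN, ← ih, ← gl_val]; rfl
theorem κ_val (r : I) (i : Fin 4) : κ r i = (kN r i : ZMod 5) := by
  rw [κ, pair_val, pair_val, w_val, ← Int.cast_natCast, ZMod.intCast_eq_intCast_iff_dvd_sub]
  exact Int.dvd_of_emod_eq_zero (ieq_iff.1 (allI (p := fun r =>
    ieq (((kN r i : ℤ) - (pr (q 0 i) r + 2 * pr (wN (q 0 i)) r)) % ((5 : ℕ) : ℤ)) 0) (by revert i; decide +kernel) r))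
theorem κ_w (r : I) : κ (w r) = (2 : ZMod 5) • κ r := funext fun i => by
  simp only [κ, pair_w, pair_ww, ww, pair_neg_left, Pi.smul_apply, smul_eq_mul]
  push_cast
  linear_combination (-(R.pair (w (q 0 i)) r : ZMod 5)) * (by decide : (5 : ZMod 5) = 0)
theorem κ_neg (r : I) : κ (R.neg r) = -κ r := funext fun i => by simp [κ]; ring
theorem κ_ne (r : I) : κ r ≠ 0 := fun h => by
  have : ∀ i : Fin 4, (kN r i : ZMod 5) = 0 := fun i => (κ_val r i).symm.trans (congrFun h i)
  clear h; revert this; revert r; decide +kernel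
theorem κ_inj : Function.Injective κ := fun r s h => by
  have k : ∀ (r : I) (i : Fin 4), kN r i < 5 := by decide +kernel
  have h1 : ∀ i : Fin 4, kN r i = kN s i := fun i => by
    have := (κ_val r i).symm.trans ((congrFun h i).trans (κ_val s i))
    rwa [ZMod.natCast_eq_natCast_iff', Nat.mod_eq_of_lt (k r i), Nat.mod_eq_of_lt (k s i)] at this
  have h2 := allI (allI (p := fun r => allB 240 fun s => bor (Nat.beq r s) (!band (band (Nat.beq (kN r 0) (kN s 0))
    (Nat.beq (kN r 1) (kN s 1))) (band (Nat.beq (kN r 2) (kN s 2)) (Nat.beq (kN r 3) (kN s 3))))) (by decide +kernel) r) s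
  have a0 : kN r 0 = kN s 0 := h1 0
  have a1 : kN r 1 = kN s 1 := h1 1
  have a2 : kN r 2 = kN s 2 := h1 2
  have a3 : kN r 3 = kN s 3 := h1 3
  exact Fin.ext (by simpa [band, a0, a1, a2, a3] using h2)

/-! ### chunks on the Weyl group -/

/-- elements fixing a root hyperplane pointwise -/
def W3 : Prop := ∀ r : I, ∀ v ∈ R.W, (∀ s (y : V), y ⬝ᵥ κ r = 0 → y ⬝ᵥ κ (v s) = y ⬝ᵥ κ s) →
  v = 1 ∨ v = R.refl r ∨ v = R.refl (w r) ∨ v = ρ r
/-- quadruples of complex reflections with the relations of `D₄` -/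
def W4 : Prop := ∀ r : Fin 4 → I, (∀ i j, i ≠ j → ρ (r i) ≠ ρ (r j) ∧ (ρ (r i) * ρ (r j)) ^ m i j = 1) →
  ∃ v ∈ C, ∃ j, ∀ i, v (r i) ∈ Ξ j
/-- an element of order five -/
def W5 : Prop := ∃ v ∈ C, v ≠ 1 ∧ v ^ 5 = 1 ∧ ∃ u : V, ∀ y : V, (∀ s, y ⬝ᵥ κ (v s) = y ⬝ᵥ κ s) → ∃ t : ZMod 5, y = t • u
/-- the subsystems -/
structure W6 : Prop where
  simple : ∀ j (i : Fin 4), e j (R4.simple i) = q j i
  add : ∀ j r s k, R4.cf k = R4.cf r + R4.cf s → R.cf (e j k) = R.cf (e j r) + R.cf (e j s)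
  pair : ∀ j r s, R.pair (e j r) (e j s) = R4.pair r s
  neg : ∀ j r, e j (R4.neg r) = R.neg (e j r)
  orth : ∀ j r s, R.pair (w (e j r)) (e j s) = 0
  cl : ∀ j, H27.ID.Cl R (Ξ j)
  w_mem : ∀ j r, w r ∈ Ξ j ↔ r ∈ Ξ j
  two : ∀ j k, ∃ a b : Fin 4 → ℤ, (2 : ℤ) • R.co (R.simple k) = ∑ i, (a i • R.co (q j i) + b i • R.co (w (q j i)))
  span : ∀ y : V, (∀ s, y ⬝ᵥ κ s = 0) → y = 0
/-- the indices of the Weyl groups in the stabilizers -/
def W7 : Prop := ∀ j, (R.WA (Ξ j)).relIndex (C ⊓ stab (Ξ j)) = ![12, 4] j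
/-- complex reflections in the Weyl groups of the subsystems -/
def W8 : Prop := ∀ j r, ρ r ∈ R.WA (Ξ j) → r ∈ Ξ j

/-! ### chunks on the algebraic group -/

/-- the twisted Frobenius endomorphism -/
structure Su (K G : Type) [Field K] [Group G] where
  S : St goodE8.C K G
  F : S.Fr
  ζ : Kˣ
  ρ : F.ρ = w
  x : ∀ r t, F.σ (S.x r t) = S.x (w r) (t ^ 2)
  q : ∀ r, F.p ^ F.e r = 2
  inj : Function.Injective F.hmul.tor
  ord : orderOf ζ = 5
  fin : Finite F.fix
  five : ¬ 5 ^ 6 ∣ Nat.card F.fix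

namespace Su
variable {K G : Type} [Field K] [Group G] (X : Su K G)
/-- coordinates of the elements of the finite torus -/
noncomputable def c (y : V) : Fin chevE8.rank → Kˣ :=
  fun k => X.ζ ^ ∑ i, ((y i).val : ℤ) * (R.co (O8.q 0 i) k + 2 * R.co (w (O8.q 0 i)) k)
/-- the elements of the finite torus -/
noncomputable def a (y : V) : G := X.F.hmul.tor (X.c y)
/-- the finite torus -/
noncomputable def A : Subgroup G := X.S.H ⊓ X.F.fix
/-- the two subgroups `Ω₈⁺(4)` -/
noncomputable def M (j : Fin 2) : Subgroup G := X.S.U (Ξ j) ⊓ X.F.fix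

/-- the finite torus -/
structure TT : Prop where
  chi : ∀ y s, R.chi (X.c y) s = X.ζ ^ (y ⬝ᵥ κ s).val
  add : ∀ y y', X.a (y + y') = X.a y * X.a y'
  mem : ∀ g, g ∈ X.A ↔ ∃ y, g = X.a y
  inj : Function.Injective X.a
  card : Nat.card X.A = 625
  le : ∀ j, X.S.H ≤ X.S.U (Ξ j)
/-- its centralizer and normalizer -/
structure NN : Prop where
  cent : centralizer (X.A : Set G) ≤ X.S.H
  norm : ∀ g ∈ X.F.fix, g ∈ normalizer (X.A : Set G) → ∃ v ∈ C, (g, v) ∈ X.S.NW
  rep : ∀ v ∈ C, ∃ n ∈ X.F.fix, (n, v) ∈ X.S.NW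
  nw : ∀ n v, (n, v) ∈ X.S.NW → n ∈ X.F.fix → v ∈ C ∧ n ∈ normalizer (X.A : Set G)
/-- abelian subgroups of order `5⁴` -/
def S5 : Prop := ∀ B ≤ X.F.fix, Nat.card B = 625 → (∀ a ∈ B, ∀ b ∈ B, a * b = b * a) →
  ∃ g ∈ X.F.fix, B.map (conj g).toMonoidHom = X.A
/-- hyperplanes -/
def HY : Prop := ∀ B ≤ X.A, Nat.card B = 125 → ∀ x ∈ X.F.fix, orderOf x = 3 → x ∈ centralizer (B : Set G) →
  ∃ r, centralizer (B : Set G) ≤ X.S.U (Ψ r) ⊔ X.S.H ∧
    ∀ n v, (n, v) ∈ X.S.NW → n ∈ X.F.fix → n ∈ centralizer (B : Set G) → v = 1 ∨ v = O8.ρ r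
/-- the isomorphism type -/
def MI : Prop := ∀ (F₄ : Type u) [Field F₄] [Fintype F₄], Fintype.card F₄ = 4 → ∀ j, Nonempty (X.M j ≃* chevD4.group F₄)
/-- the normalizers -/
def NM : Prop := ∀ j, ¬ 5 ^ 5 ∣ Nat.card (X.M j) →
  (X.M j).relIndex (normalizer (X.M j : Set G) ⊓ X.F.fix) = ![12, 4] j
/-- the centralizers -/
def CM : Prop := ∀ j, center (X.M j) = ⊥ → centralizer (X.M j : Set G) ⊓ X.F.fix = ⊥
end Su

/-! ### chunks on finite groups -/

/-- the configuration in the orthogonal group -/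
structure OmD (H : Type*) [Group H] where
  A : Subgroup H
  B : Fin 4 → Subgroup H
  x : Fin 4 → H
  n : Fin 4 → H
  cardA : Nat.card A = 625
  comm : ∀ a ∈ A, ∀ b ∈ A, a * b = b * a
  le : ∀ i, B i ≤ A
  cardB : ∀ i, Nat.card (B i) = 125
  x3 : ∀ i, orderOf (x i) = 3
  xc : ∀ i, x i ∈ centralizer (B i : Set H)
  nn : ∀ i, n i ∈ normalizer (A : Set H)
  nc : ∀ i, n i ∈ centralizer (B i : Set H)
  n1 : ∀ i, n i ∉ centralizer (A : Set H)
  ne : ∀ i j, i ≠ j → n i * n j ∉ centralizer (A : Set H)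
  rel : ∀ i j, i ≠ j → (n i * n j) ^ m i j ∈ centralizer (A : Set H)
  gen : ⨆ i, centralizer (B i : Set H) = ⊤
/-- the configuration exists -/
def OM : Prop := ∀ (F₄ : Type u) [Field F₄] [Fintype F₄], Fintype.card F₄ = 4 →
  Nonempty (OmD (Omega F₄ (quadFormPlus 4 F₄)))
/-- library facts on the orthogonal group -/
def OI : Prop := ∀ (F₄ : Type u) [Field F₄] [Fintype F₄], Fintype.card F₄ = 4 →
  Nonempty (chevD4.group F₄ ≃* Omega F₄ (quadFormPlus 4 F₄)) ∧ IsSimpleGroup (Omega F₄ (quadFormPlus 4 F₄)) ∧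
    center (Omega F₄ (quadFormPlus 4 F₄)) = ⊥ ∧ ¬ 5 ^ 5 ∣ Nat.card (Omega F₄ (quadFormPlus 4 F₄))
/-- exactly `k` conjugacy classes of subgroups -/
def Cls {Γ : Type*} [Group Γ] (P : Subgroup Γ → Prop) (k : ℕ) : Prop :=
  ∃ f : Fin k → Subgroup Γ, (∀ i, P (f i)) ∧ (∀ i j, (∃ g : Γ, (f i).map (conj g).toMonoidHom = f j) → i = j) ∧
    ∀ H, P H → ∃ (i : Fin k) (g : Γ), H.map (conj g).toMonoidHom = f i
/-- counting the classes -/
def FIN : Prop := ∀ (Γ : Type) (Ω : Type u) [Group Γ] [Finite Γ] [Group Ω] [IsSimpleGroup Ω] (M : Fin 2 → Subgroup Γ),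
  (∀ j, Nonempty (M j ≃* Ω)) → (∀ H : Subgroup Γ, Nonempty (H ≃* Ω) → ∃ j g, H.map (conj g).toMonoidHom = M j) →
  (∀ j, centralizer (M j : Set Γ) = ⊥) → (∀ j, (M j).relIndex (normalizer (M j : Set Γ)) = ![12, 4] j) →
  Cls (fun H : Subgroup Γ => Nonempty (H ≃* Ω)) 2 ∧
  Cls (fun H : Subgroup Γ => Nonempty (generalizedFittingSubgroup H ≃* Ω) ∧ (generalizedFittingSubgroup H).index = 3) 1 ∧
  Cls (fun H : Subgroup Γ => Nonempty (generalizedFittingSubgroup H ≃* Ω) ∧ (generalizedFittingSubgroup H).index = 4) 2 ∧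
  Cls (fun H : Subgroup Γ => Nonempty (generalizedFittingSubgroup H ≃* Ω) ∧ (generalizedFittingSubgroup H).index = 12) 1

end H14.O8
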