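import Cfsg.Agent.H10.O.B

/-! Monomial maps of the four dimensional space over the field with four elements. -/

set_option autoImplicit false
set_option linter.unusedSectionVars false
set_option synthInstance.maxSize 4000

open Subgroup
namespace H14.P8
open H10.Y (F4 w bar nm tr U QS qf bf qsU cube barbar f4)
open Equiv (Perm swap)
open H19 hiding eq_bot_mono

/-- the space -/
abbrev V := Fin 4 → F4

/-- a vector from its coordinates -/
def vec (a b c d : F4) : V := fun i => bif i.1.beq 0 then a else bif i.1.beq 1 then b else bif i.1.beq 2 then c else d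
theorem eta (v : V) : vec (v 0) (v 1) (v 2) (v 3) = v := by ext1 i; fin_cases i <;> rfl
theorem all4 {P : F4 → Prop} : P ⟨0, 0⟩ ∧ P ⟨1, 0⟩ ∧ P ⟨0, 1⟩ ∧ P ⟨1, 1⟩ ↔ ∀ a, P a :=
  ⟨fun ⟨a, b, c, d⟩ x => by rcases f4 x with rfl | rfl | rfl | rfl <;> assumption, fun h => ⟨h _, h _, h _, h _⟩⟩
theorem allF {P : Fin 4 → Prop} : P 0 ∧ P 1 ∧ P 2 ∧ P 3 ↔ ∀ a, P a :=
  ⟨fun ⟨a, b, c, d⟩ x => by fin_cases x <;> assumption, fun h => ⟨h _, h _, h _, h _⟩⟩
instance (priority := high) dA4 (P : F4 → Prop) [DecidablePred P] : Decidable (∀ v, P v) := decidable_of_iff _ all4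
instance (priority := high) dE4 (P : F4 → Prop) [DecidablePred P] : Decidable (∃ v, P v) :=
  decidable_of_iff (¬ ∀ v, ¬ P v) (by simp)
instance (priority := high) dAF (P : Fin 4 → Prop) [DecidablePred P] : Decidable (∀ v, P v) := decidable_of_iff _ allF
instance (priority := high) dEF (P : Fin 4 → Prop) [DecidablePred P] : Decidable (∃ v, P v) :=
  decidable_of_iff (¬ ∀ v, ¬ P v) (by simp)
instance (priority := high) dA (P : V → Prop) [DecidablePred P] : Decidable (∀ v, P v) :=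
  decidable_of_iff (∀ a b c d, P (vec a b c d)) ⟨fun h v => eta v ▸ h _ _ _ _, fun h _ _ _ _ => h _⟩
instance (priority := high) dE (P : V → Prop) [DecidablePred P] : Decidable (∃ v, P v) :=
  decidable_of_iff (¬ ∀ v, ¬ P v) (by simp)
instance (priority := high) dQ : DecidableEq V := fun u v => decidable_of_iff (∀ i, u i = v i) funext_iff.symm

/-- coordinates -/
def toU : V ≃+ U where
  toFun v := (v 0, v 1, v 2, v 3)
  invFun u := vec u.1 u.2.1 u.2.2.1 u.2.2.2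
  left_inv := eta
  right_inv _ := rfl
  map_add' _ _ := rfl
/-- the quadratic form -/
def qv (v : V) : ZMod 2 := qf (toU v)
/-- the polar form -/
def bv (u v : V) : ZMod 2 := bf (toU u) (toU v)
theorem qsV : QS qv bv :=
  ⟨fun v => toU.injective (by rw [map_add, qsU.two, map_zero]), fun u v => by simp only [qv, bv, map_add, qsU.qadd],
    fun u v k => by simp only [bv, map_add, qsU.badd], fun v h => toU.injective (by
      rw [map_zero]; exact qsU.nd _ fun k => by simpa [bv] using h (toU.symm k)),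
    (Nat.card_congr toU.toEquiv).trans qsU.card⟩

/-- a field automorphism -/
def bb (e : ℤˣ) (a : F4) : F4 := if e = 1 then a else bar a
theorem bb1 (a : F4) : bb 1 a = a := rfl
theorem bbm : ∀ (e : ℤˣ) (a b : F4), bb e (a * b) = bb e a * bb e b := by decide
theorem bba : ∀ (e : ℤˣ) (a b : F4), bb e (a + b) = bb e a + bb e b := by decide
theorem bbb : ∀ (e f : ℤˣ) (a : F4), bb e (bb f a) = bb (e * f) a := by decide
theorem bb0 : ∀ (e : ℤˣ) (a : F4), bb e a = 0 ↔ a = 0 := by decide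
theorem bbo : ∀ (e : ℤˣ), bb e 1 = 1 := by decide
theorem bbi : ∀ (e f : ℤˣ), bb e w = bb f w → e = f := by decide
theorem c3 : ∀ a : F4, a ≠ 0 → a * a * a = 1 := by decide

/-- the group of pure types -/
abbrev Γ := Perm (Fin 4) × ℤˣ
/-- pure monomial maps -/
def pu (γ : Γ) (v : V) : V := fun i => bb γ.2 (v (γ.1⁻¹ i))
/-- the semilinear involution -/
def io : Γ := (1, -1)
/-- the Klein four group -/
def K4 (σ : Perm (Fin 4)) : Prop := σ * σ = 1 ∧ (σ = 1 ∨ ∀ i, σ i ≠ i)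
instance : DecidablePred K4 := fun _ => instDecidableAnd
/-- weight four -/
def W4 (v : V) : Prop := ∀ i, v i ≠ 0
instance : DecidablePred W4 := fun _ => dAF _
/-- weight one -/
def W1 (v : V) : Prop := ∃ i, v i ≠ 0 ∧ ∀ j, j ≠ i → v j = 0
instance : DecidablePred W1 := fun _ => dEF _
/-- product of the coordinates -/
def pr (v : V) : F4 := v 0 * v 1 * v 2 * v 3
/-- the all one vector -/
def t0 : V := 1
/-- the distinguished totally singular subspace -/
def RV (v : V) : Prop := H10.O.RR (toU v)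
instance : DecidablePred RV := fun v => inferInstanceAs (Decidable (H10.O.RR (toU v)))

theorem pr_eq (v : V) : pr v = ∏ i, v i := (Fin.prod_univ_four v).symm
theorem pr_mul (u v : V) : pr (u * v) = pr u * pr v := by simp only [pr, Pi.mul_apply]; ring
theorem pr_W4 {v : V} : pr v ≠ 0 ↔ W4 v := by rw [pr_eq, Finset.prod_ne_zero_iff]; simp [W4]
theorem pu_mul (γ δ : Γ) (v : V) : pu (γ * δ) v = pu γ (pu δ v) := by
  ext1 i; simp only [pu, bbb, Prod.fst_mul, Prod.snd_mul, _root_.mul_inv_rev, Perm.mul_apply]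
theorem ai (σ : Perm (Fin 4)) (i : Fin 4) : σ (σ⁻¹ i) = i := σ.apply_symm_apply i
theorem ia (σ : Perm (Fin 4)) (i : Fin 4) : σ⁻¹ (σ i) = i := σ.symm_apply_apply i
theorem pu_one (v : V) : pu 1 v = v := rfl
theorem pu_io (v : V) (i : Fin 4) : pu io v i = bar (v i) := rfl

/-- monomial maps -/
structure Mo (f : V → V) (d : V) (σ : Perm (Fin 4)) (ε : Fin 4 → ℤˣ) : Prop where
  ne : W4 d
  eq : ∀ v i, f v (σ i) = d i * bb (ε i) (v i)

variable {f g h : V → V} {d d' : V} {σ τ : Perm (Fin 4)} {ε η : Fin 4 → ℤˣ}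

theorem mo_pu (γ : Γ) : Mo (pu γ) 1 γ.1 fun _ => γ.2 := ⟨fun _ => one_ne_zero, fun v i => by simp [pu]⟩
theorem mo_dg (hd : W4 d) (e : ∀ v, f v = d * v) : Mo f d 1 1 := ⟨hd, fun v i => by rw [e]; rfl⟩
theorem Mo.congr (m : Mo f d σ ε) (e : ∀ v, g v = f v) : Mo g d σ ε := ⟨m.ne, fun v i => by rw [e, m.eq]⟩
theorem Mo.dg (m : Mo f d 1 1) (v : V) : f v = d * v := funext fun i => m.eq v i
theorem Mo.ext (m : Mo f d σ ε) (m' : Mo g d σ ε) (v : V) : f v = g v := funext fun i => by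
  rw [← σ.apply_symm_apply i, m.eq, m'.eq]
theorem Mo.mul (m : Mo f d' τ η) (m' : Mo g d σ ε) (e : ∀ v, h v = f (g v)) :
    Mo h (fun i => d' (σ i) * bb (η (σ i)) (d i)) (τ * σ) fun i => η (σ i) * ε i :=
  ⟨fun i => mul_ne_zero (m.ne _) (mt (bb0 _ _).1 (m'.ne i)), fun v i => by
    rw [e, Perm.mul_apply, m.eq, m'.eq, bbm, bbb, mul_assoc]⟩
theorem Mo.inv (m : Mo f d σ ε) (e : ∀ v, f (g v) = v) :
    Mo g (fun i => bb (ε (σ⁻¹ i)) (d (σ⁻¹ i))⁻¹) σ⁻¹ fun i => ε (σ⁻¹ i) :=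
  ⟨fun i => mt (bb0 _ _).1 (inv_ne_zero (m.ne _)), fun v i => by
    have := m.eq (g v) (σ⁻¹ i)
    rw [e, ai] at this
    rw [this, ← bbm, inv_mul_cancel_left₀ (m.ne _), bbb, Int.units_mul_self, bb1]⟩
theorem Mo.uniq (m : Mo f d σ ε) (m' : Mo f d' τ η) : σ = τ ∧ d = d' ∧ ε = η := by
  have k : σ = τ := Equiv.ext fun i => by
    have a := m.eq (Pi.single i 1) i
    have b := m'.eq (Pi.single i 1) (τ⁻¹ (σ i))
    rw [ai, a] at b
    by_contra n
    rw [Pi.single_eq_of_ne (fun e => n ((ai τ _).symm.trans (congrArg τ e))), (bb0 _ _).2 rfl, mul_zero,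
      Pi.single_eq_same, bbo, mul_one] at b
    exact m.ne i b
  subst k
  have k : d = d' := funext fun i => by simpa [bbo] using (m.eq 1 i).symm.trans (m'.eq 1 i)
  subst k
  exact ⟨rfl, rfl, funext fun i => bbi _ _ (mul_left_cancel₀ (m.ne i) ((m.eq (fun _ => w) i).symm.trans (m'.eq _ i)))⟩
theorem pu_inj {γ δ : Γ} (e : ∀ v, pu γ v = pu δ v) : γ = δ :=
  let ⟨a, _, c⟩ := (mo_pu γ).uniq ((mo_pu δ).congr e); Prod.ext a (congrFun c 0)
theorem Mo.t0 (m : Mo f d σ ε) (i : Fin 4) : f t0 (σ i) = d i := by rw [m.eq]; exact (congrArg _ (bbo _)).trans (mul_one _)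
theorem Mo.pure (m : Mo f d σ fun _ => ε 0) (e : f P8.t0 = P8.t0) (v : V) : f v = pu (σ, ε 0) v := by
  obtain rfl : d = 1 := funext fun i => (m.t0 i).symm.trans (congrFun e _)
  exact m.ext (mo_pu (σ, ε 0)) v
theorem Mo.pr (m : Mo f d σ ε) (v : V) : pr (f v) = pr d * pr fun i => bb (ε i) (v i) := by
  rw [pr_eq, ← Equiv.prod_comp σ, pr_eq, pr_eq, ← Finset.prod_mul_distrib]
  exact Finset.prod_congr rfl fun i _ => m.eq v i
theorem Mo.w4 (m : Mo f d σ ε) {v : V} (hv : W4 v) : W4 (f v) := fun i => by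
  rw [← σ.apply_symm_apply i, m.eq]; exact mul_ne_zero (m.ne _) (mt (bb0 _ _).1 (hv _))

theorem sg_W1 (i : Fin 4) {a : F4} (ha : a ≠ 0) : W1 (Pi.single i a) :=
  ⟨i, by rwa [Pi.single_eq_same], fun j n => Pi.single_eq_of_ne n _⟩
theorem W1.eq {v : V} (h : W1 v) : ∃ i a, a ≠ 0 ∧ v = Pi.single i a :=
  let ⟨i, a, b⟩ := h; ⟨i, v i, a, funext fun j => by
    by_cases e : j = i
    · rw [e, Pi.single_eq_same]
    · rw [b j e, Pi.single_eq_of_ne e]⟩

theorem mono (f : V →+ V) (hi : Function.Injective f) (h : ∀ v, W1 v → W1 (f v)) : ∃ d σ ε, Mo f d σ ε := by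
  have k : ∀ j, ∃ s a e, a ≠ 0 ∧ ∀ c, f (Pi.single j c) = Pi.single s (a * bb e c) := fun j => by
    obtain ⟨s, a, a0, e⟩ := (h _ (sg_W1 j one_ne_zero)).eq
    obtain ⟨s', a', a0', e'⟩ := (h _ (sg_W1 j H10.Y.w0)).eq
    have n := h _ (sg_W1 j (show (1 : F4) + w ≠ 0 by decide))
    rw [Pi.single_add, map_add, e, e'] at n
    obtain ⟨rfl, ε, rfl⟩ := (by decide +kernel : ∀ (s s' : Fin 4) (a a' : F4), a ≠ 0 → a' ≠ 0 →
      W1 (Pi.single s a + Pi.single s' a') → s = s' ∧ ∃ ε, a' = a * bb ε w) s s' a a' a0 a0' n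
    refine ⟨s, a, ε, a0, fun c => ?_⟩
    rcases f4 c with rfl | rfl | rfl | rfl
    · simp [(bb0 _ _).2 rfl]
    · rw [e, bbo, mul_one]
    · exact e'
    · rw [show bar w = 1 + w by decide, Pi.single_add, map_add, e, e', bba, bbo, mul_add, mul_one, Pi.single_add]
  choose s a e a0 k using k
  have si : Function.Injective s := fun i j n => by
    have := hi ((k i (bb (e i) ((a i)⁻¹ * a j))).trans (by
      rw [k j 1, n, bbb, Int.units_mul_self, bb1, bbo, mul_one, mul_inv_cancel_left₀ (a0 i)]))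
    by_contra m
    simpa [Pi.single_eq_of_ne (Ne.symm m)] using congrFun this j
  refine ⟨a, Equiv.ofBijective s (Finite.injective_iff_bijective.1 si), e, a0, fun v i => ?_⟩
  conv_lhs => rw [← Finset.univ_sum_single v, map_sum, Finset.sum_apply]
  rw [Finset.sum_eq_single i (fun j _ n => by rw [k]; exact Pi.single_eq_of_ne (si.ne n).symm _) (by simp), k]
  exact Pi.single_eq_same _ _

theorem cst (H : ∀ v, pr v = 1 → pr (fun i => bb (ε i) (v i)) = 1) : ε = fun _ => ε 0 := by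
  have k : ∀ a b c d : ℤˣ, (∀ v : V, pr v = 1 → pr (fun i => bb (![a, b, c, d] i) (v i)) = 1) →
    b = a ∧ c = a ∧ d = a := by decide +kernel
  obtain ⟨b, c, d⟩ := k (ε 0) (ε 1) (ε 2) (ε 3) fun v hv => H v hv
  ext1 i; fin_cases i; exacts [rfl, b, c, d]

theorem rk {A : Subgroup Γ} (h : ∀ x ∈ A, x * x = 1) : #A ≤ 8 := by
  have hp : IsPGroup 2 A := fun x => ⟨1, Subtype.ext (by rw [pow_one, pow_two]; exact h x x.2)⟩
  obtain ⟨P, hP⟩ := hp.exists_le_sylow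
  have c : Nat.card Γ = 48 := by rw [Nat.card_prod, Nat.card_perm]; simp [Nat.factorial]
  have cP : #(P : Subgroup Γ) = 16 := by
    rw [P.card_eq_multiplicity, c, show 48 = 2 ^ 4 * 3 from rfl, Nat.factorization_mul (by simp) (by simp),
      Nat.prime_two.factorization_pow]; simp [Nat.prime_three.factorization]
  by_contra n
  obtain ⟨k, hk⟩ := card_dvd_of_le hP
  have e : A = P := eq_of_le_of_card_ge hP (by
    rw [cP] at hk ⊢
    rcases k with _ | _ | k <;> nlinarith)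
  have : IsPGroup 2 (zpowers ((finRotate 4, 1) : Γ)) := fun ⟨_, j, rfl⟩ => ⟨2, Subtype.ext (by
    change (_ ^ j) ^ (2 ^ 2) = 1
    rw [← zpow_natCast, ← zpow_mul, mul_comm, zpow_mul, zpow_natCast, show ((finRotate 4, 1) : Γ) ^ 2 ^ 2 = 1 by decide,
      one_zpow])⟩
  obtain ⟨R, hR⟩ := this.exists_le_sylow
  obtain ⟨g, rfl⟩ := MulAction.exists_smul_eq Γ P R
  have := h (g⁻¹ * (finRotate 4, 1) * g) (e ▸ by
    have := hR (mem_zpowers _)
    rw [Sylow.coe_subgroup_smul, mem_pointwise_smul_iff_inv_smul_mem] at this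
    simpa using this)
  exact (by decide : ((finRotate 4, 1) : Γ) * (finRotate 4, 1) ≠ 1) (by
    simpa [mul_assoc] using congrArg (fun x => g * x * g⁻¹) this)

theorem rk_io {A : Subgroup Γ} (h : ∀ x ∈ A, x * x = 1) (h8 : 8 ≤ #A) : io ∈ A := by
  have ce : ∀ x : Γ, io * x = x * io := fun x => Prod.ext (by simp [io]) (mul_comm _ _)
  have n : zpowers io ≤ N(A) := zpowers_le.2 (mem_normalizer_iff.2 fun x => by rw [ce, mul_inv_cancel_right])
  refine (eq_of_le_of_card_ge (le_sup_left : A ≤ A ⊔ zpowers io) ((rk fun x hx => ?_).trans h8)).ge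
    (mem_sup_right (mem_zpowers _))
  obtain ⟨a, ha, _, ⟨k, rfl⟩, rfl⟩ := (mem_sup_of_norm n).1 hx
  rw [(Commute.zpow_left (ce a) k).mul_mul_mul_comm, h a ha, one_mul]
  exact ((Commute.refl io).mul_zpow k).symm.trans (by rw [show io * io = 1 by decide, one_zpow])

/-- commutators are singular -/
def IA (f : V → V) : Prop := ∀ v, qv (f v + v) = 0
/-- fixed vectors are singular -/
def IF (f : V → V) : Prop := ∀ v, f v = v → qv v = 0
/-- the same invariants -/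
def SI (f g : V → V) : Prop := (IA f ↔ IA g) ∧ (IF f ↔ IF g) ∧ ((∀ v, f v = v) ↔ ∀ v, g v = v)
/-- combinatorial invariants -/
def iv (γ : Γ) : Bool × Bool × Bool := (γ.2 = 1 ∨ ∀ i, γ.1 i ≠ i, ∀ i, γ.1 i ≠ i, γ = 1)
theorem iv1 : ∀ γ : Γ, γ * γ = 1 → ((∀ v, qv (pu γ v + v) = 0) ↔ (iv γ).1 = true) ∧
    ((∀ v, pu γ v = v → qv v = 0) ↔ (iv γ).2.1 = true) := by decide +kernel
theorem iv_eq {γ δ : Γ} (a : γ * γ = 1) (b : δ * δ = 1) (h : SI (pu γ) (pu δ)) : iv γ = iv δ := by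
  have k : ∀ γ : Γ, (∀ v, pu γ v = v) ↔ (iv γ).2.2 = true := fun γ =>
    ⟨fun e => by simpa [iv] using pu_inj (δ := 1) e, fun e => by
      obtain rfl : γ = 1 := by simpa [iv] using e
      exact pu_one⟩
  exact Prod.ext (Bool.eq_iff_iff.2 ((iv1 γ a).1.symm.trans (h.1.trans (iv1 δ b).1)))
    (Prod.ext (Bool.eq_iff_iff.2 ((iv1 γ a).2.symm.trans (h.2.1.trans (iv1 δ b).2)))
      (Bool.eq_iff_iff.2 ((k γ).symm.trans (h.2.2.trans (k δ)))))
theorem iv3 : ∀ c : Γ, c * c = 1 → iv c = (true, true, false) → ∀ a : Γ, a * a = 1 → a ≠ 1 → a * c = c * a →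
    ∀ b : Γ, b * b = 1 → iv a = iv b → a * b = b * a → b * c = c * b → iv a = iv (a * b) → iv (c * a) = iv (c * b) →
    iv (c * a) ≠ iv (c * (a * b)) := by decide +kernel
theorem SI.conj {r : V →+ V} {r' : V → V} (e1 : ∀ v, r (r' v) = v) (hi : Function.Injective r) (q : ∀ v, qv (r v) = qv v)
    (e : ∀ v, g (r v) = r (f v)) : SI f g :=
  ⟨⟨fun a v => by rw [← e1 v, e, ← map_add, q, a], fun a v => by rw [← q, map_add, ← e, a]⟩,
    ⟨fun a v k => by rw [← e1 v, q]; exact a _ (hi (by rw [← e, e1, k])), fun a v k => by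
      rw [← q]; exact a _ (by rw [e, k])⟩, fun a v => by rw [← e1 v, e, a], fun a v => hi (by rw [← e, a])⟩
theorem SI.symm (h : SI f g) : SI g f := ⟨h.1.symm, h.2.1.symm, h.2.2.symm⟩
theorem SI.trans (a : SI f g) (b : SI g h) : SI f h := ⟨a.1.trans b.1, a.2.1.trans b.2.1, a.2.2.trans b.2.2⟩

/-- a diagonal map -/
def dl (k l : Fin 4) : V := fun n => if n = k then w else if n = l then bar w else 1
/-- a normalizing diagonal map -/
def dd (v : V) (i j k : Fin 4) : V := fun n => if n = i ∨ n = j then bar (v n) else if n = k then v i * v j else 1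
/-- the supports of size two -/
def L6 : List (Fin 4 × Fin 4 × Fin 4 × Fin 4) :=
  [(0, 1, 2, 3), (0, 2, 1, 3), (0, 3, 1, 2), (1, 2, 0, 3), (1, 3, 0, 2), (2, 3, 0, 1)]

theorem s2 : ∀ p ∈ L6, ∀ u ∈ [(Pi.single p.1 1 + Pi.single p.2.1 1 : V)],
    ∀ v ∈ [(Pi.single p.1 w : V)], ∀ m ∈ [(Pi.single p.2.2.1 1 : V)], ∀ δ ∈ [dl p.2.2.1 p.2.2.2],
    ∀ γ ∈ [((swap p.1 p.2.1 * swap p.2.2.1 p.2.2.2, -1) : Γ)],
    (u ≠ 0 ∧ bv v u ≠ 0 ∧ bv m u = 0 ∧ pr δ = 1 ∧ δ * u = u) ∧ (K4 γ.1 ∧ pu γ u = u ∧ pu io u = u ∧ γ * γ = 1 ∧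
    iv γ = (true, true, false)) ∧ (qv m ≠ 0 ∧ m + δ * m + δ * (δ * m) = 0 ∧ ∀ n, δ (γ.1 n) = bb γ.2 (δ n)) ∧
    m + pu γ m = Pi.single p.2.2.1 1 + Pi.single p.2.2.2 1 := by decide +kernel
theorem s2a : ∀ p ∈ L6, ∀ e : V, (e p.1 = 0 → (∀ n, dl p.2.2.1 p.2.2.2 n * e n = e n) → qv e = 0 → e = 0) ∧
    dl p.2.2.1 p.2.2.2 p.1 * e p.1 + e p.1 = 0 ∧ dl p.2.2.1 p.2.2.2 p.2.1 * e p.2.1 + e p.2.1 = 0 := by decide +kernel
theorem s2b : ∀ p ∈ L6, ∀ m ∈ [(Pi.single p.2.2.1 1 + Pi.single p.2.2.2 1 : V)], ∀ δ ∈ [dl p.2.2.1 p.2.2.2],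
    ∀ e : V, e p.1 = 0 → e p.2.1 = 0 → e ≠ 0 → qv e = 0 →
      ∃ e' ∈ [e, δ * e, δ * (δ * e)], qv (pu io e' + e') = 0 → e' = m := by decide +kernel
theorem s3 : ∀ v, qv v = 0 → v = 0 ∨ W4 v ∨ ∃ p ∈ L6, pr (dd v p.1 p.2.1 p.2.2.1) = 1 ∧
    dd v p.1 p.2.1 p.2.2.1 * v = Pi.single p.1 1 + Pi.single p.2.1 1 := by decide +kernel
theorem s4 : (∀ v, W4 v → pu io v = v → v = t0) ∧ K4 io.1 := by decide +kernel
theorem s5 : ∀ (i : Fin 4) (a : F4), a ≠ 0 → qv (Pi.single i a) ≠ 0 ∧ ∀ v, (pr v = 1 → pr (Pi.single i a + v) ≠ 1) ∧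
   (W4 v → bv (Pi.single i a) v ≠ 0 → W4 (Pi.single i a + v)) := by decide +kernel
theorem s6 : ∀ u, qv u ≠ 0 → W1 u ∨ ∃ i, u i = 0 ∧ (∃ c, pr (fun n => if n = i then c else w * u n) = 1 ∧
    pr (fun n => u n + if n = i then c else w * u n) = 1) ∧ ∃ j,
      W4 (fun n => if n = i then 1 else if n = j then w * u n else u n) ∧
      bv u (fun n => if n = i then 1 else if n = j then w * u n else u n) ≠ 0 ∧
      ¬ W4 fun n => u n + if n = i then 1 else if n = j then w * u n else u n := by decide +kernel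
theorem c0 {u : V} : W1 u ↔ qv u ≠ 0 ∧ ∀ v, pr v = 1 → pr (u + v) ≠ 1 :=
  ⟨fun h => let ⟨i, a, k, e⟩ := h.eq; e ▸ ⟨(s5 i a k).1, fun v => ((s5 i a k).2 v).1⟩,
    fun h => (s6 u h.1).resolve_right fun ⟨_, _, ⟨_, a, b⟩, _⟩ => h.2 _ a b⟩
theorem c81 {u : V} : W1 u ↔ qv u ≠ 0 ∧ ∀ v, W4 v → bv u v ≠ 0 → W4 (u + v) :=
  ⟨fun h => let ⟨i, a, k, e⟩ := h.eq; e ▸ ⟨(s5 i a k).1, fun v => ((s5 i a k).2 v).2⟩,
    fun h => (s6 u h.1).resolve_right fun ⟨_, _, _, _, a, b, c⟩ => c (h.2 _ a b)⟩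
theorem pr_io (v : V) : pr (pu io v) = bar (pr v) := by simp only [pr, pu_io, map_mul]
theorem io_mul {u : V} (hu : W4 u) (v : V) : v * pu io u * u = v := funext fun i => by
  rw [Pi.mul_apply, Pi.mul_apply, pu_io, mul_assoc, mul_comm (bar _), cube _ (hu i), mul_one]
theorem dg_pu {δ : V} {γ : Γ} (k : ∀ n, δ (γ.1 n) = bb γ.2 (δ n)) (e : V) : δ * pu γ e = pu γ (δ * e) := funext fun i => by
  rw [Pi.mul_apply, pu, pu, Pi.mul_apply, bbm, ← k, ai]

end H14.P8
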