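import Cfsg.Agent.H14.P81

/-! The local hypothesis; conjugates of the central involution have weight four. -/

set_option autoImplicit false
set_option linter.unusedSectionVars false
set_option synthInstance.maxSize 4000

open Subgroup
namespace H14.P8
open H10.Y (F4 w bar M NW Et cy card_le_mul' idx2 cube)
open Equiv (Perm swap)
open H19 hiding eq_bot_mono

variable {G : Type*} [Group G] {Q Q' P : Subgroup G} {z t g c x y y' : G} {π : G → V} {ρ : G → V →+ V} {a a' u v : V}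

/-- the distinguished conjugate -/
structure Tt (Q : Subgroup G) (z : G) (π : G → V) (ρ : G → V →+ V) (g : G) : Prop where
  mem : g * z * g⁻¹ ∈ Q
  pt : π (g * z * g⁻¹) = t0
  ex : ∀ γ : Γ, K4 γ.1 → ∃ y ∈ cj g Q ⊓ C[z], ∀ v, ρ y v = pu γ v
  all : ∀ y ∈ cj g Q ⊓ C[z], ∃ γ : Γ, K4 γ.1 ∧ ∀ v, ρ y v = pu γ v
  et : ∀ v, v ∈ Et Q (cj g Q) π ↔ RV v

/-- the local hypothesis -/
structure Lc (Q : Subgroup G) (z : G) (π : G → V) (ρ : G → V →+ V) : Prop extends M Q z π ρ qv bv where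
  d0 : ∀ d : V, pr d = 1 → ∃ g, Commute z g ∧ ∀ v, ρ g v = d * v
  two : ∀ P : Subgroup G, PG 2 P → P ≤ C[z] → ∃ c, Commute z c ∧ ∀ x ∈ P, ∃ γ, ∀ v, ρ c (ρ x v) = pu γ (ρ c v)
  ext : ∃ g, Tt Q z π ρ g

theorem cJ (k : Commute z c) (g : G) : Commute (g * z * g⁻¹) (g * c * g⁻¹) := k.conj g
theorem cJ' (k : Commute (g * z * g⁻¹) c) : Commute z (g⁻¹ * c * g) := by simpa [mul_assoc] using k.conj g⁻¹
theorem jj (g x : G) : g⁻¹ * (g * x * g⁻¹) * g = x := by group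

theorem Tt.J (h : Tt Q z π ρ c) (g : G) :
    Tt (cj g Q) (g * z * g⁻¹) (fun x => π (g⁻¹ * x * g)) (fun x => ρ (g⁻¹ * x * g)) (g * c * g⁻¹) := by
  have e1 : g * c * g⁻¹ * (g * z * g⁻¹) * (g * c * g⁻¹)⁻¹ = g * (c * z * c⁻¹) * g⁻¹ := by group
  have e2 : cj (g * c * g⁻¹) (cj g Q) = cj g (cj c Q) := by rw [cj_cj, cj_cj, inv_mul_cancel_right]
  refine ⟨e1 ▸ conj_mem_cj.2 h.mem, by rw [e1, jj, h.pt], fun γ k => ?_, fun y hy => ?_, fun v => ?_⟩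
  · obtain ⟨y, hy, e⟩ := h.ex γ k
    exact ⟨g * y * g⁻¹, by rw [e2, ← cj_cent1, ← cj_inf]; exact conj_mem_cj.2 hy, fun v => by rw [jj, e]⟩
  · rw [e2, ← cj_cent1, ← cj_inf] at hy
    exact h.all _ (mem_cj.1 hy)
  · rw [← h.et, e2, Et, Et, ← cj_inf]
    exact ⟨fun ⟨e, a, b⟩ => ⟨_, mem_cj.1 a, b⟩, fun ⟨e, a, b⟩ => ⟨_, conj_mem_cj.2 a, by rw [jj, b]⟩⟩

theorem Lc.J (h : Lc Q z π ρ) (g : G) :
    Lc (cj g Q) (g * z * g⁻¹) (fun x => π (g⁻¹ * x * g)) (fun x => ρ (g⁻¹ * x * g)) := by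
  refine ⟨h.toM.J g, fun d hd => ?_, fun P hP hl => ?_, let ⟨_, k⟩ := h.ext; ⟨_, k.J g⟩⟩
  · obtain ⟨c, hc, e⟩ := h.d0 d hd
    exact ⟨_, cJ hc g, fun v => by rw [jj, e]⟩
  · obtain ⟨c, hc, e⟩ := h.two (cj g⁻¹ P) (hP.J _) (cj_le_iff.2 (by rwa [inv_inv, cj_cent1]))
    exact ⟨_, cJ hc g, fun x hx => by rw [jj]; exact e _ (mem_cj_inv.2 (by simpa [mul_assoc] using hx))⟩

/-- the commutator with a fixed vector -/
def Rl (Q Q' : Subgroup G) (z : G) (π : G → V) (ρ : G → V →+ V) (v : V) (y : G) (a : V) : Prop :=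
  y ∈ Q' ⊓ C[z] ∧ ρ y v + v + a ∈ Et Q Q' π

section
variable [Finite G] (n : NW Q z π ρ qv bv Q' t)
include n

theorem perp (hc : Commute z c) (e : ρ c (π t) = π t) (v : V) : bv (ρ c v + v) (π t) = 0 := by
  rw [qsV.badd, ← n.rb hc v, e, H10.Y.z2_self]
theorem Rl.mul (r : Rl Q Q' z π ρ v y a) (r' : Rl Q Q' z π ρ v y' a') : Rl Q Q' z π ρ v (y * y') (a + a') := by
  refine ⟨mul_mem r.1 r'.1, ?_⟩
  convert n.Eadd (n.Eadd (n.PE r.1 (perp n (cy r'.1) (n.yx r'.1) v)) r'.2) r.2 using 1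
  rw [n.rmul (cy r.1) (cy r'.1), map_add, ← qsV.can (ρ y (ρ y' v) + v + (a + a')) (ρ y v + (ρ y' v + v))]; abel
theorem Rl.conj (r : Rl Q Q' z π ρ v y a) (hc : Commute z c) (ht : Commute t c) :
    Rl Q Q' z π ρ v (c * y * c⁻¹) (ρ c a) := by
  have m : c * y * c⁻¹ ∈ Q' ⊓ C[z] := ⟨n.nm' ht r.1.1, mem_cent1.2 ((hc.mul_right (cy r.1)).mul_right hc.inv_right).symm⟩
  have f := n.fx hc n.tQ ht.symm
  refine ⟨m, ?_⟩
  convert n.Eadd (n.PE m (perp n hc f v)) (n.Einv hc f r.2) using 1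
  rw [map_add, map_add, map_add, ← n.rmul (cy m) hc, inv_mul_cancel_right, n.rmul hc (cy r.1),
    ← qsV.can (ρ (c * y * c⁻¹) v + v + ρ c a) (ρ c (ρ y v) + ρ c v)]; abel
theorem sqQ (hy : y ∈ Q') : y * y ∈ Q := (n.lp.r.es.sq y hy).elim (fun e => e ▸ one_mem _) fun e => e ▸ n.tQ
theorem Rl.eq (hv : bv v (π t) ≠ 0) (r : Rl Q Q' z π ρ v y a) (r' : Rl Q Q' z π ρ v y' a') (e : a + a' ∈ Et Q Q' π)
    (u : V) : ρ y u = ρ y' u := by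
  have k := r.mul n r'
  have m := n.F1 k.1 hv (by rw [← qsV.can (ρ (y * y') v + v) (a + a')]; exact n.Eadd k.2 e)
  rw [← n.rsq (cy r.1) (sqQ n r.1.1) (ρ y' u), ← n.rmul (cy r.1) (cy r'.1), n.rQ m]
theorem c256 : 256 ≤ #(Q' ⊓ C[z] : Subgroup G) := by
  have := idx2 (A := Q') (B := Q' ⊓ C[z]) fun x hx y hy nx ny => by
    simpa using n.lp.symm.mul_inv_mem (inv_mem hy) (inv_mem hx) (fun k => ny ⟨hy, by simpa using k⟩)
      fun k => nx ⟨hx, by simpa using k⟩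
  obtain ⟨g, -, e⟩ := n.lp.conj
  rw [← e, card_cj, n.card, e] at this
  omega
end

namespace Lc
variable [Finite G] (h : Lc Q z π ρ)
include h

theorem pg2 (sq : ∀ x ∈ P, x * x ∈ Q) : PG 2 P := pG_iff.2 fun x => ⟨3, Subtype.ext (by
  have := h.le.es.pow4 (sq x x.2)
  rwa [← pow_two, ← pow_mul] at this)⟩
theorem pgz (sq : x * x ∈ Q) : PG 2 (zpowers x) := h.pg2 (by
  rintro _ ⟨k, rfl⟩
  exact (Commute.refl x).mul_zpow k ▸ zpow_mem sq k)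

theorem typ (hP : PG 2 P) (hl : P ≤ C[z]) : ∃ c, Commute z c ∧ ∃ f : P →* Γ, (∀ x : P, f x = 1 ↔ x.1 ∈ Q) ∧
    ∀ x : P, ∀ v, ρ c (ρ x v) = pu (f x) (ρ c v) := by
  obtain ⟨c, hc, k⟩ := h.two P hP hl
  choose f hf using k
  have cx : ∀ x : P, Commute z x := fun x => (mem_cent1.1 (hl x.2)).symm
  refine ⟨c, hc, MonoidHom.mk' (fun x => f x x.2) fun x y => pu_inj fun v => ?_, fun x => ⟨fun e => h.triv (cx x)
    fun v => h.rinj hc ?_, fun e => pu_inj fun v => ?_⟩, fun x => hf x x.2⟩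
  · rw [← h.rinv' hc v, pu_mul, ← hf, ← hf, ← hf, coe_mul, h.rmul (cx x) (cx y)]
  · rw [hf x x.2, show f x x.2 = 1 from e, pu_one]
  · rw [← h.rinv' hc v]; exact (hf x x.2 _).symm.trans (by rw [h.rQ e, pu_one])

theorem rank (hl : P ≤ C[z]) (sq : ∀ x ∈ P, x * x ∈ Q) : #P ≤ 8 * #(P ⊓ Q : Subgroup G) ∧
    (8 * #(P ⊓ Q : Subgroup G) ≤ #P → ∃ c, Commute z c ∧ ∃ x ∈ P, ∀ v, ρ c (ρ x v) = pu io (ρ c v)) := by
  obtain ⟨c, hc, f, k, e⟩ := h.typ (h.pg2 sq) hl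
  have e1 : f.ker = (P ⊓ Q).subgroupOf P := by
    ext1 x; rw [MonoidHom.mem_ker, k, mem_subgroupOf]; exact ⟨fun a => ⟨x.2, a⟩, fun a => a.2⟩
  have e2 := f.ker.card_mul_index
  rw [index_ker, e1, Nat.card_congr (subgroupOfEquivOfLe inf_le_left).toEquiv] at e2
  have s : ∀ x ∈ f.range, x * x = 1 := by
    rintro _ ⟨x, rfl⟩; rw [← map_mul, k]; exact sq x x.2
  have := rk s
  have p : 0 < #(P ⊓ Q : Subgroup G) := Nat.card_pos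
  refine ⟨by nlinarith, fun l => ?_⟩
  obtain ⟨x, hx⟩ := rk_io s (by nlinarith)
  exact ⟨c, hc, x, x.2, hx ▸ e x⟩

theorem nw (m : g * z * g⁻¹ ∈ Q) (ne : g * z * g⁻¹ ≠ z) : NW Q z π ρ qv bv (cj g Q) (g * z * g⁻¹) :=
  ⟨h.toM, h.le.lp m ne⟩
theorem pur (γ : Γ) (k : K4 γ.1) : ∃ y, Commute z y ∧ ∀ v, ρ y v = pu γ v :=
  let ⟨_, T⟩ := h.ext; let ⟨y, hy, e⟩ := T.ex γ k; ⟨y, cy hy, e⟩

theorem w2 {p : Fin 4 × Fin 4 × Fin 4 × Fin 4} (D : p ∈ L6) (m : g * z * g⁻¹ ∈ Q)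
    (e : π (g * z * g⁻¹) = Pi.single p.1 1 + Pi.single p.2.1 1) : False := by
  obtain ⟨⟨a1, a2, a3, a4, a5⟩, ⟨b1, b2, b3, b4, b5⟩, ⟨c1, c2, c3⟩, c4⟩ := s2 p D _ (.head _) _ (.head _) _ (.head _) _
    (.head _) _ (.head _)
  have d := s2a p D
  have d' := s2b p D _ (.head _) _ (.head _)
  replace c3 := dg_pu c3
  rw [← c4] at d'
  rw [← e] at a1 a2 a3 a5 b2 b3
  have n := h.nw m fun k => a1 (by rw [k, h.pz])
  clear c4 e m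
  generalize g * z * g⁻¹ = t, cj g Q = Q', (Pi.single p.1 w : V) = v, (Pi.single p.2.2.1 1 : V) = μ,
    dl p.2.2.1 p.2.2.2 = δ, ((swap p.1 p.2.1 * swap p.2.2.1 p.2.2.2, -1) : Γ) = γ at *
  obtain ⟨r, r1, r2⟩ := h.d0 δ a4
  obtain ⟨r, r1, r3, r4⟩ := n.lift r1 (by rw [r2, a5])
  simp only [r2] at r4
  obtain ⟨κ, k1, k2⟩ := h.pur γ b1
  obtain ⟨κ, k1, k3, k4⟩ := n.lift k1 (by rw [k2, b2])
  simp only [k2] at k4
  obtain ⟨ι, i1, i2⟩ := h.pur io s4.2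
  have Er : ∀ e ∈ Et Q Q' π, δ * e ∈ Et Q Q' π := fun e he => r4 e ▸ n.Einv r1 (by rw [r4, a5]) he
  have E1 : μ + pu γ μ ∈ Et Q Q' π := by
    by_contra ne
    have l := card_le_mul' (A := Q ⊓ Q') (B := zpowers z) (fun x => π x p.1) fun x hx y hy e => by
      have m := mul_mem (inv_mem hx) hy
      have m' : π (x⁻¹ * y) ∈ Et Q Q' π := ⟨_, m, rfl⟩
      refine h.le.es.mem_zp.2 ((h.ker _ m.1).1 ((d _).1 ?_ (congrFun (qsV.eq_iff.1 (by_contra fun k => ?_))) (n.Eq0 m')))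
      · rw [h.add _ (inv_mem hx.1) _ hy.1, h.pinv hx.1, Pi.add_apply, e, H10.Y.fadd]
      · have s := n.Eadd (Er _ m') m'
        obtain ⟨e', he, k⟩ := d' _ (d _).2.1 (d _).2.2 k (n.Eq0 s)
        have s' : e' ∈ Et Q Q' π := by
          simp only [List.mem_cons, List.not_mem_nil, or_false] at he
          rcases he with rfl | rfl | rfl
          exacts [s, Er _ s, Er _ (Er _ s)]
        exact ne (k (n.Eq0 (n.Eadd (i2 e' ▸ n.Einv i1 (by rw [i2, b3]) s') s')) ▸ s')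
    have l2 := (h.rank (P := Q' ⊓ C[z]) inf_le_right fun x hx => sqQ n hx.1).1
    have l3 : #(Q' ⊓ C[z] ⊓ Q : Subgroup G) ≤ #(Q ⊓ Q' : Subgroup G) := card_le fun x hx => ⟨hx.2, hx.1.1⟩
    have := c256 n
    rw [H10.Y.card4, h.le.es.card_zp] at l
    omega
  obtain ⟨y, R1⟩ : ∃ y, Rl Q Q' z π ρ v y μ := n.onto a2 a3
  have R2 := R1.conj n r1 r3
  have R3 := R2.conj n r1 r3
  have f1 := (R1.conj n k1 k3).eq n a2 R1 (by rwa [k4, add_comm])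
  have f2 := (R2.conj n k1 k3).eq n a2 R2 (by rw [k4, r4, ← c3, ← mul_add, add_comm]; exact Er _ E1)
  have f3 := R3.eq n a2 (R1.mul n R2) (by rw [r4, r4, add_comm, c2]; exact n.E0)
  have kk : κ * κ ∈ Q := h.triv (k1.mul_right k1) fun v => by rw [h.rmul k1 k1, k4, k4, ← pu_mul, b4, pu_one]
  have nk : zpowers κ ≤ N(Q' ⊓ C[z]) := norms_inf ((zpowers_le.2 (mem_cent1.2 k3.symm)).trans n.lp.r.norm)
    (norms_of_le (zpowers_le.2 (mem_cent1.2 k1.symm)))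
  have hl : Q' ⊓ C[z] ⊔ zpowers κ ≤ C[z] := sup_le inf_le_right (zpowers_le.2 (mem_cent1.2 k1.symm))
  obtain ⟨c, hc, f, fq, fe⟩ := h.typ ((n.lp.r.es.pg.infl _).sup (h.pgz kk) nk) hl
  have cx : ∀ x : ↥(Q' ⊓ C[z] ⊔ zpowers κ), Commute z x := fun x => (mem_cent1.1 (hl x.2)).symm
  have si : ∀ x, SI (ρ x.1) (pu (f x)) := fun x => SI.conj (h.rinv' hc) (fun _ _ => h.rinj hc) (h.rq hc) fun v => (fe x v).symm
  have eq : ∀ x x', (∀ v, ρ x.1 v = ρ x'.1 v) → f x = f x' := fun x x' e => pu_inj fun v => by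
    rw [← h.rinv' hc v, ← fe, ← fe, e]
  have sr : ∀ x x', f x * f x = 1 → f x' * f x' = 1 → (∀ v, ρ x'.1 (ρ r v) = ρ r (ρ x.1 v)) → iv (f x) = iv (f x') :=
    fun x x' a b e => iv_eq a b ((si x).symm.trans
      ((SI.conj (h.rinv' r1) (fun _ _ => h.rinj r1) (h.rq r1) e).trans (si x')))
  have rr : ∀ y, Commute z y → ∀ v, ρ (r * y * r⁻¹) (ρ r v) = ρ r (ρ y v) := fun y c v => by
    rw [h.rmul (r1.mul_right c) r1.inv_right, h.rinv r1, h.rmul r1 c]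
  set Y : ↥(Q' ⊓ C[z] ⊔ zpowers κ) := ⟨y, mem_sup_left R1.1⟩
  set Y' : ↥(Q' ⊓ C[z] ⊔ zpowers κ) := ⟨_, mem_sup_left R2.1⟩
  set K : ↥(Q' ⊓ C[z] ⊔ zpowers κ) := ⟨κ, mem_sup_right (mem_zpowers κ)⟩
  have q1 : f Y * f Y = 1 := by rw [← map_mul, fq]; exact sqQ n R1.1.1
  have q2 : f Y' * f Y' = 1 := by rw [← map_mul, fq]; exact sqQ n R2.1.1
  have q3 : f (Y * Y') * f (Y * Y') = 1 := by rw [← map_mul, fq]; exact sqQ n (R1.mul n R2).1.1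
  have q4 : f K * f K = 1 := by rw [← map_mul, fq]; exact kk
  have m1 : f Y * f K = f K * f Y := by
    rw [← eq (K * Y * K⁻¹) Y f1, ← map_mul, inv_mul_cancel_right, eq (K * Y * K⁻¹) Y f1, map_mul]
  have m2 : f Y' * f K = f K * f Y' := by
    rw [← eq (K * Y' * K⁻¹) Y' f2, ← map_mul, inv_mul_cancel_right, eq (K * Y' * K⁻¹) Y' f2, map_mul]
  have m3 : f Y * f Y' = f Y' * f Y := by
    rw [map_mul] at q3
    rw [eq_inv_of_mul_eq_one_left q3, _root_.mul_inv_rev, inv_eq_of_mul_eq_one_left q1, inv_eq_of_mul_eq_one_left q2]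
  have kq : ∀ x, f x * f K = f K * f x → f x * f x = 1 → f (K * x) * f (K * x) = 1 := fun x a b => by
    rw [map_mul, (show Commute _ _ from a).mul_mul_mul_comm, q4, b, one_mul]
  have kr : ∀ x x', (∀ v, ρ x'.1 (ρ r v) = ρ r (ρ x.1 v)) → ∀ v, ρ (K * x').1 (ρ r v) = ρ r (ρ (K * x).1 v) :=
    fun x x' e v => by rw [coe_mul, coe_mul, h.rmul k1 (cx x), h.rmul k1 (cx x'), e, k4, k4, r4, r4, c3]
  have e1 : ∀ v, ρ Y'.1 (ρ r v) = ρ r (ρ Y.1 v) := rr y (cx Y)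
  have e2 : ∀ v, ρ (Y * Y').1 (ρ r v) = ρ r (ρ Y'.1 v) := fun v => (f3 _).symm.trans (rr _ (cx Y') v)
  have m4 : f (Y * Y') * f K = f K * f (Y * Y') := by rw [map_mul, mul_assoc, m2, ← mul_assoc, m1, mul_assoc]
  have j1 := sr _ _ q1 q2 e1
  have j2 := sr _ _ (kq _ m1 q1) (kq _ m2 q2) (kr _ _ e1)
  have j3 := j1.trans (sr _ _ q2 q3 e2)
  have j4 := j2.trans (sr _ _ (kq _ m2 q2) (kq _ m4 q3) (kr _ _ e2))
  simp only [map_mul] at j2 j3 j4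
  refine iv3 _ q4 ((iv_eq q4 b4 (funext k4 ▸ (si K).symm)).trans b5) _ q1 (fun e => c1 (n.Eq0 ?_)) m1 _ q2 j1 m3 m2 j3 j2 j4
  have := R1.2
  rwa [h.rQ ((fq Y).1 e), qsV.two, zero_add] at this

theorem cQ (hc : Commute z c) (m : g * z * g⁻¹ ∈ Q) : c * g * z * (c * g)⁻¹ ∈ Q ∧
    π (c * g * z * (c * g)⁻¹) = ρ c (π (g * z * g⁻¹)) ∧ (g * z * g⁻¹ ≠ z → c * g * z * (c * g)⁻¹ ≠ z) := by
  rw [show c * g * z * (c * g)⁻¹ = c * (g * z * g⁻¹) * c⁻¹ by group]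
  exact ⟨h.nm hc m, h.conj c hc _ m, fun n e => n (by rw [← jj c (g * z * g⁻¹), e, mul_assoc, hc.eq, inv_mul_cancel_left])⟩

theorem wt (m : g * z * g⁻¹ ∈ Q) (ne : g * z * g⁻¹ ≠ z) : W4 (π (g * z * g⁻¹)) := by
  have n := h.nw m ne
  rcases s3 _ (n.Eq0 n.Ex) with k | k | ⟨p, D, a, b⟩
  · exact (n.x0 k).elim
  · exact k
  obtain ⟨c, hc, e⟩ := h.d0 _ a
  exact (h.w2 D (h.cQ hc m).1 (by rw [(h.cQ hc m).2.1, e, b])).elim

theorem tra (m : g * z * g⁻¹ ∈ Q) (ne : g * z * g⁻¹ ≠ z) : ∃ c, Commute z c ∧ ρ c (π (g * z * g⁻¹)) = t0 := by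
  have n := h.nw m ne
  obtain ⟨c, hc, x, hx, e⟩ := (h.rank (P := cj g Q ⊓ C[z]) inf_le_right fun x hx => sqQ n hx.1).2
    ((Nat.mul_le_mul_left 8 (card_le (le_inf inf_le_right (inf_le_left.trans inf_le_left)))).trans n.big)
  obtain ⟨a, b, d⟩ := h.cQ hc m
  exact ⟨c, hc, s4.1 _ (b ▸ h.wt a (d ne)) (by rw [← e, n.yx hx])⟩

end Lc

/-- images of the conjugates -/
def Zs (Q : Subgroup G) (z : G) (π : G → V) (v : V) : Prop := ∃ g, g * z * g⁻¹ ∈ Q ∧ g * z * g⁻¹ ≠ z ∧ π (g * z * g⁻¹) = v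

theorem Tt.ne (h : M Q z π ρ qv bv) (T : Tt Q z π ρ g) : g * z * g⁻¹ ≠ z := fun e =>
  (by decide : t0 ≠ 0) (by rw [← T.pt, e, h.pz])

namespace Lc
variable [Finite G] (h : Lc Q z π ρ)
include h

theorem zc' (hc : Commute z c) (k : Zs Q z π v) : Zs Q z π (ρ c v) :=
  let ⟨_, a, b, e⟩ := k; ⟨_, (h.cQ hc a).1, (h.cQ hc a).2.2 b, e ▸ (h.cQ hc a).2.1⟩
theorem z4 (k : Zs Q z π v) : W4 v := let ⟨_, a, b, e⟩ := k; e ▸ h.wt a b
theorem zd (k : Zs Q z π v) (e : pr u = 1) : Zs Q z π (u * v) := let ⟨_, hc, e⟩ := h.d0 u e; e v ▸ h.zc' hc k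
theorem z0 (e : pr u = 1) : Zs Q z π u :=
  let ⟨g, T⟩ := h.ext; mul_one u ▸ h.zd ⟨g, T.mem, T.ne h.toM, T.pt⟩ e

theorem dich : (∀ v, Zs Q z π v ↔ pr v = 1) ∨ ∀ v, Zs Q z π v ↔ W4 v := by
  refine or_iff_not_imp_left.2 fun k v => ⟨h.z4, fun hv => ?_⟩
  obtain ⟨u, a, b⟩ : ∃ u, Zs Q z π u ∧ pr u ≠ 1 := by
    by_contra! n; exact k fun v => ⟨n v, h.z0⟩
  obtain ⟨ι, i1, i2⟩ := h.pur io s4.2
  have a' := i2 u ▸ h.zc' i1 a
  rcases (by decide : ∀ a b : F4, a ≠ 0 → a ≠ 1 → b ≠ 0 → b = 1 ∨ b * bar a = 1 ∨ b * bar (bar a) = 1) _ _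
    (pr_W4.2 (h.z4 a)) b (pr_W4.2 hv) with e | e | e
  · exact h.z0 e
  · exact io_mul (h.z4 a) v ▸ h.zd a (by rw [pr_mul, pr_io, e])
  · exact io_mul (h.z4 a') v ▸ h.zd a' (by rw [pr_mul, pr_io, pr_io, e])

theorem mono (hc : Commute z c) : ∃ d σ ε, Mo (ρ c) d σ ε := by
  refine P8.mono _ (fun _ _ => h.rinj hc) fun u hu => ?_
  rcases h.dich with k | k
  · refine c0.2 ⟨h.rq hc u ▸ (c0.1 hu).1, fun v a b => (c0.1 hu).2 _ ((k _).1 (h.zc' hc.inv_right ((k v).2 a))) ?_⟩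
    have := (k _).1 (h.zc' hc.inv_right ((k _).2 b))
    rwa [map_add, h.rinv hc] at this
  · refine c81.2 ⟨h.rq hc u ▸ (c81.1 hu).1, fun v a b => ?_⟩
    have := (k _).1 (h.zc' hc ((k _).2 ((c81.1 hu).2 _ ((k _).1 (h.zc' hc.inv_right ((k v).2 a))) (by
      rwa [← h.rb hc, h.rinv' hc]))))
    rwa [map_add, h.rinv' hc] at this

end Lc

end H14.P8
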