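import Cfsg.Agent.H14.P82

/-! Fusion of the central involution in its centralizer. -/

set_option autoImplicit false
set_option linter.unusedSectionVars false
set_option synthInstance.maxSize 4000

open Subgroup
namespace H14.P8
open H10.Y (F4 w bar M NW Et cy card_le_mul idx2 cube)
open Equiv (Perm swap)
open H19 hiding eq_bot_mono

theorem t1 : (∀ σ, K4 σ ↔ σ * σ = 1 ∧ Perm.sign σ = 1) ∧ (∀ σ : Perm (Fin 4), σ * σ = 1 → ¬ K4 σ → ∃ i, σ i = i) ∧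
    (∀ γ : Γ, K4 γ.1 → γ ≠ 1 → (γ.2 = -1 ∨ ∀ i, γ.1 i ≠ i) ∧
      ∃ v ∈ [vec 1 1 0 0, vec 1 0 1 0, vec w w w w], RV v ∧ pu γ v ≠ v) ∧
    ∀ i : Fin 4, qv (Pi.single i 1) ≠ 0 ∧ qv (Pi.single i w) ≠ 0 ∧ qv (Pi.single i 1 + Pi.single i w) ≠ 0 := by
  decide +kernel
theorem t2 : ∀ d : F4, d ≠ 0 → ∀ (e : ℤˣ) (a : F4), d * bb e (d * bb e (d * bb e (d * bb e (d * bb e (d * bb e a))))) = a := by
  decide +kernel

theorem fixc {γ : Γ} (h2 : γ * γ = 1) (k : γ.2 = -1 ∨ ∀ i, γ.1 i ≠ i) {v : V} (e : pu γ v = v) : ∃ u, pu γ u + u = v := by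
  rcases Int.units_eq_one_or γ.2 with a | a
  · replace k := k.resolve_left (by rw [a]; decide)
    have s : ∀ i, γ.1⁻¹ i = γ.1 i := fun i => by rw [inv_eq_of_mul_eq_one_left (congrArg Prod.fst h2)]
    refine ⟨fun i => if i < γ.1 i then v i else 0, funext fun i => ?_⟩
    have b := congrFun e i
    have c : γ.1 (γ.1 i) = i := by rw [← s i, ai]
    simp only [pu, a, bb1, s, Pi.add_apply, c] at b ⊢
    rcases lt_or_gt_of_ne (k i) with l | l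
    · rw [if_pos l, if_neg l.not_gt, add_zero, b]
    · rw [if_neg l.not_gt, if_pos l, zero_add]
  · refine ⟨w • v, funext fun i => ?_⟩
    have b := congrFun e i
    simp only [pu, a, Pi.add_apply, Pi.smul_apply, smul_eq_mul, bbm] at b ⊢
    rw [b, ← add_mul, show bb (-1) w + w = 1 by decide, one_mul]
theorem pu_sg {γ : Γ} {i : Fin 4} (e : γ.1 i = i) (a : F4) : pu γ (Pi.single i a) = Pi.single i (bb γ.2 a) := by
  ext1 j
  by_cases k : j = i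
  · rw [k, pu, Perm.inv_eq_iff_eq.2 e.symm, Pi.single_eq_same, Pi.single_eq_same]
  · rw [pu, Pi.single_eq_of_ne k, Pi.single_eq_of_ne fun m => k (by rw [← ai γ.1 j, m, e]), bb0]

/-- even maps -/
def Sg (f : V → V) : Prop := ∃ d σ ε, Mo f d σ ε ∧ Perm.sign σ = 1

theorem ty2 {f r : V → V} {d d' : V} {σ τ : Perm (Fin 4)} {ε η : Fin 4 → ℤˣ} {γ : Γ} (mr : Mo r d' τ η) (m : Mo f d σ ε)
    (e : ∀ v, r (f v) = pu γ (r v)) : τ * σ = γ.1 * τ ∧ ∀ i, η (σ i) * ε i = γ.2 * η i :=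
  let ⟨a, _, b⟩ := (mr.mul m fun _ => rfl).uniq ((mo_pu γ).mul mr e); ⟨a, congrFun b⟩

variable {G : Type*} [Group G] [Finite G] {Q Q' P : Subgroup G} {z t g g0 a c x y p : G} {π : G → V} {ρ : G → V →+ V}
  {d d' u v : V} {σ τ : Perm (Fin 4)} {ε η : Fin 4 → ℤˣ} {γ : Γ}

theorem cc {G : Type*} [Group G] (y g a : G) : y * (g * a * g⁻¹) * y⁻¹ = y * g * a * (y * g)⁻¹ := by group

theorem c16 (h : M Q z π ρ qv bv) (c : Commute z y) (yy : y * y ∈ Q) : 16 ≤ #(Q ⊓ C[y] : Subgroup G) := by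
  have := h.qs.fin
  have e := card_le_mul (A := Q) (B := h.grp (ρ y + AddMonoidHom.id V).ker) (fun x => ρ y (π x) + π x)
    (S := (ρ y + AddMonoidHom.id V).range) (Set.toFinite _) (fun x _ => ⟨π x, rfl⟩) fun x hx a ha e =>
    ⟨mul_mem (inv_mem hx) ha, show ρ y (π (x⁻¹ * a)) + π (x⁻¹ * a) = 0 by
      rw [h.add _ (inv_mem hx) _ ha, h.pinv hx, map_add, add_add_add_comm, e, h.qs.two]⟩
  have e2 : #(h.grp (ρ y + AddMonoidHom.id V).ker) ≤ 2 * #(Q ⊓ C[y] : Subgroup G) :=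
    idx2 fun x hx a ha nx na => ⟨Q.mul_mem (Q.inv_mem hx.1) ha.1, mem_cent1.2 (by
      have k : ∀ x ∈ h.grp (ρ y + AddMonoidHom.id V).ker, x ∉ Q ⊓ C[y] → y * x * y⁻¹ = z * x := fun x hx n =>
        (h.fx' c hx.1 (h.qs.eq_iff.1 hx.2)).resolve_left fun c => n ⟨hx.1, mem_cent1.2 c.symm⟩
      rw [eq_comm, ← mul_inv_eq_iff_eq_mul, ← conj_mul, ← conj_inv, k x hx nx, k a ha na]; group)⟩
  have := h.c16 c yy
  rw [h.card, ← Nat.card_coe_set_eq] at e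
  change 512 ≤ Nat.card (ρ y + AddMonoidHom.id V).range * _ at e
  nlinarith

theorem cos' {b : G} (h : M Q z π ρ qv bv) (c : Commute z y) (ha : a ∈ Q) (hb : b ∈ Q) (e : ρ y (π b) + π b = π a) :
    b * y * b⁻¹ = a * y ∨ b * (z * y) * b⁻¹ = a * y := by
  refine (h.eq_of ha (h.mcm c hb) (by rw [h.pcm c hb, e])).imp (fun k => by rw [k]; group) fun k => ?_
  rw [k, ← mul_assoc, ← (h.zc hb).eq]; group
theorem cos (h : M Q z π ρ qv bv) (c : Commute z y) (ha : a ∈ Q) (e : ρ y u + u = π a) :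
    ∃ b ∈ Q, b * y * b⁻¹ = a * y ∨ b * (z * y) * b⁻¹ = a * y := by
  obtain ⟨b, hb, rfl⟩ := h.surj u
  exact ⟨b, hb, cos' h c ha hb e⟩
theorem fxa (h : M Q z π ρ qv bv) (c : Commute z x) (xx : x * x = 1) (yy : y * y = 1) (ha : y * x⁻¹ ∈ Q) :
    ρ x (π (y * x⁻¹)) = π (y * x⁻¹) := by
  rw [← h.conj x c _ ha, ← h.pinv ha]
  congr 1
  rw [inv_eq_of_mul_eq_one_right xx, eq_inv_iff_mul_eq_one]
  simp [mul_assoc, xx, ← mul_assoc x x, ← mul_assoc y y, yy]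

theorem sym' (h : H0.LE Q z) (m : z ∈ cj a Q) : a * z * a⁻¹ ∈ Q :=
  mem_cj_inv.1 (h.symm (g := a⁻¹) (by rw [inv_inv]; exact mem_cj.1 m))
theorem sym2 (h : H0.LE Q z) (k : a * z * a⁻¹ ∈ cj g Q) : g * z * g⁻¹ ∈ cj a Q := by
  have := h.symm (g := g⁻¹ * a) (by simpa [mul_assoc] using mem_cj.1 k)
  rwa [cj_mul, mem_cj_inv] at this

namespace Lc
variable (h : Lc Q z π ρ)
include h

theorem mm (hx : Commute z x) (hy : Commute z y) (m : Mo (ρ x) d' τ η) (m' : Mo (ρ y) d σ ε) :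
    Mo (ρ (x * y)) (fun i => d' (σ i) * bb (η (σ i)) (d i)) (τ * σ) fun i => η (σ i) * ε i := m.mul m' (h.rmul hx hy)
theorem mi (hx : Commute z x) (m : Mo (ρ x) d σ ε) :
    Mo (ρ x⁻¹) (fun i => bb (ε (σ⁻¹ i)) (d (σ⁻¹ i))⁻¹) σ⁻¹ fun i => ε (σ⁻¹ i) := m.inv (h.rinv' hx)

theorem kc (hx : Commute z x) (m : Mo (ρ x) d σ ε) (k : K4 σ) : ε = fun _ => ε 0 := by
  obtain ⟨y, hy, e⟩ := h.pur (σ, 1) k
  have m1 := h.mm hy hx ((mo_pu _).congr e) m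
  have c1 := hy.mul_right hx
  simp only [k.1, one_mul] at m1
  generalize y * x = x at *
  have c2 := c1.mul_right c1
  have c3 := c2.mul_right c1
  have m3 := h.mm c2 c1 (h.mm c1 c1 m1 m1) m1
  have q : x * x * x * (x * x * x) ∈ Q := h.triv (c3.mul_right c3) fun v => funext fun i => by
    have := fun v => m1.eq v i
    simp only [Perm.one_apply] at this
    simp only [h.rmul c3 c3, h.rmul c2 c1, h.rmul c1 c1, this]
    exact t2 _ (m1.ne i) _ _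
  obtain ⟨c, hc, k⟩ := h.two _ (h.pgz q) (zpowers_le.2 (mem_cent1.2 c3.symm))
  obtain ⟨γ, e⟩ := k _ (mem_zpowers _)
  obtain ⟨_, _, _, mc⟩ := h.mono hc
  have := fun i => (ty2 mc m3 e).2 i
  simp only [mul_one, Perm.one_apply, Int.units_mul_self, one_mul, mul_comm γ.2, mul_right_inj] at this
  ext1 i; rw [this, this]

theorem sg_sq (hp : Commute z p) : Sg (ρ (p * p)) :=
  let ⟨_, _, _, m⟩ := h.mono hp; ⟨_, _, _, h.mm hp hp m m, by rw [map_mul, Int.units_mul_self]⟩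
theorem sg_cj (hc : Commute z c) (hy : Commute z y) (s : Sg (ρ y)) : Sg (ρ (c * y * c⁻¹)) :=
  let ⟨_, _, _, m⟩ := h.mono hc; let ⟨_, _, _, m', e⟩ := s
  ⟨_, _, _, h.mm (hc.mul_right hy) hc.inv_right (h.mm hc hy m m') (h.mi hc m), by simp [e]⟩
theorem sg_cj' (hc : Commute z c) (hy : Commute z y) (s : Sg (ρ (c * y * c⁻¹))) : Sg (ρ y) := by
  simpa [mul_assoc] using h.sg_cj hc.inv_right ((hc.mul_right hy).mul_right hc.inv_right) s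
theorem sg_pu (k : K4 γ.1) (e : ∀ v, ρ y v = pu γ v) : Sg (ρ y) := ⟨_, _, _, (mo_pu γ).congr e, ((t1.1 _).1 k).2⟩
theorem sg_Q (hy : y ∈ Q) : Sg (ρ y) := h.sg_pu (γ := 1) (by decide) (h.rQ hy)

theorem tra' (T : Tt Q z π ρ g0) (m : g * z * g⁻¹ ∈ Q) (ne : g * z * g⁻¹ ≠ z) :
    ∃ c, Commute z c ∧ c * (g * z * g⁻¹) * c⁻¹ = g0 * z * g0⁻¹ := by
  obtain ⟨c, hc, e⟩ := h.tra m ne
  rcases h.eq_of (h.nm hc m) T.mem (by rw [h.conj c hc _ m, e, T.pt]) with k | k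
  · exact ⟨c, hc, k⟩
  obtain ⟨a, ha, e⟩ := h.le.es.exists_conj T.mem (h.nw T.mem (T.ne h.toM)).lp.notMem
  refine ⟨a⁻¹ * c, (h.zc ha).inv_right.mul_right hc, ?_⟩
  rw [← cc, k, (h.zc T.mem).eq, ← e]; group

theorem evA (m : z ∈ cj a Q) (hy : y ∈ cj a Q) (c : Commute z y) : Sg (ρ y) := by
  by_cases e : a * z * a⁻¹ = z
  · exact h.sg_Q (by rwa [h.le.cj_eq (b := 1) (by simpa using e), cj_one] at hy)
  obtain ⟨g0, T⟩ := h.ext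
  obtain ⟨k, hk, e⟩ := h.tra' T (sym' h.le m) e
  obtain ⟨γ, a, b⟩ := T.all (k * y * k⁻¹) ⟨by
    rw [← h.le.cj_eq (a := k * a) (by rw [← e]; group), cj_mul]; exact conj_mem_cj.2 hy,
    mem_cent1.2 ((hk.mul_right c).mul_right hk.inv_right).symm⟩
  exact h.sg_cj' hk c (h.sg_pu a b)

theorem exI (T : Tt Q z π ρ g0) (k : K4 γ.1) (n : γ ≠ 1) : ∃ y ∈ cj g0 Q ⊓ C[z], y * y = 1 ∧ ∀ v, ρ y v = pu γ v := by
  obtain ⟨y, hy, e⟩ := T.ex γ k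
  have N := h.nw T.mem (T.ne h.toM)
  have s := N.lp.r.es
  rcases s.sq y hy.1 with uu | uu
  · exact ⟨y, hy, uu, e⟩
  obtain ⟨v, -, a, b⟩ := (t1.2.2.1 γ k n).2
  obtain ⟨c, hc, rfl⟩ := (T.et v).2 a
  have cc := (h.sq c hc.1).2 (N.Eq0 ⟨c, hc, rfl⟩)
  refine ⟨y * c, ⟨mul_mem hy.1 hc.2, mul_mem hy.2 (h.le.es.le_cent hc.1)⟩,
    (s.sq _ (mul_mem hy.1 hc.2)).resolve_right fun k => b ?_, fun v => by rw [h.rmul (cy hy) (h.zc hc.1), h.rQ hc.1, e]⟩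
  rw [← e]
  refine h.fx (cy hy) hc.1 (mul_left_cancel (a := y) (mul_right_cancel (b := c) ?_))
  rw [mul_assoc, mul_assoc, cc, mul_one, uu, ← k]; simp [mul_assoc]

theorem pin (hy : Commute z y) (yy : y * y = 1) : ∃ c, Commute z c ∧ ∃ γ : Γ, γ * γ = 1 ∧ ∀ v, ρ (c * y * c⁻¹) v = pu γ v := by
  obtain ⟨c, hc, k⟩ := h.two _ (h.pgz (yy ▸ one_mem Q)) (zpowers_le.2 (mem_cent1.2 hy.symm))
  obtain ⟨γ, e⟩ := k _ (mem_zpowers _)
  refine ⟨c, hc, γ, pu_inj fun v => ?_, fun v => ?_⟩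
  · rw [← h.rinv' hc v, pu_mul, ← e, ← e, ← h.rmul hy hy, yy, h.r1, pu_one]
  · rw [h.rmul (hc.mul_right hy) hc.inv_right, h.rmul hc hy, e, h.rinv' hc]

theorem evB (T : Tt Q z π ρ g0) (hy : Commute z y) (yy : y * y = 1) (s : Sg (ρ y)) :
    ∃ c, Commute z c ∧ (y ∈ Q ∨ y ∈ cj (c * g0) Q) := by
  obtain ⟨c, hc, γ, g2, e⟩ := h.pin hy yy
  have hy' := (hc.mul_right hy).mul_right hc.inv_right
  obtain ⟨_, _, _, m, s⟩ := h.sg_cj hc hy s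
  have k : K4 γ.1 := (t1.1 _).2 ⟨congrArg Prod.fst g2, (m.uniq ((mo_pu γ).congr e)).1 ▸ s⟩
  by_cases n : γ = 1
  · exact ⟨c, hc, .inl (by simpa [mul_assoc] using h.nm hc.inv_right (h.triv hy' fun v => by rw [e, n, pu_one]))⟩
  obtain ⟨x, hx, xx, ex⟩ := h.exI T k n
  have cx := cy hx
  have ha : c * y * c⁻¹ * x⁻¹ ∈ Q := h.triv (hy'.mul_right cx.inv_right) fun v => by
    rw [h.rmul hy' cx.inv_right, e, ← ex, h.rinv' cx]
  obtain ⟨u, eu⟩ := fixc g2 (t1.2.2.1 γ k n).1 (ex _ ▸ fxa h.toM cx xx (by rw [conj_mul, yy]; group) ha)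
  obtain ⟨b, hb, k⟩ := cos h.toM cx ha (by rw [ex, eu])
  refine ⟨c⁻¹ * b, hc.inv_right.mul_right (h.zc hb), .inr ?_⟩
  rw [cj_mul, cj_mul, mem_cj_inv, ← inv_mul_cancel_right (c * y * c⁻¹) x]
  rcases k with k | k <;> rw [← k, conj_mem_cj]
  exacts [hx.1, mul_mem (h.nw T.mem (T.ne h.toM)).lp.zQ hx.1]

theorem evB' (hy : Commute z y) (yy : y * y = 1) (s : Sg (ρ y)) : ∃ a, z ∈ cj a Q ∧ y ∈ cj a Q := by
  obtain ⟨g0, T⟩ := h.ext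
  obtain ⟨c, hc, k | k⟩ := h.evB T hy yy s
  · exact ⟨1, by rw [cj_one]; exact h.zQ, by rwa [cj_one]⟩
  · exact ⟨_, h.le.symm (h.cQ hc T.mem).1, k⟩

theorem odd0 (hy : Commute z (g * z * g⁻¹)) (g2 : γ * γ = 1) (e : ∀ v, ρ (g * z * g⁻¹) v = pu γ v) : K4 γ.1 := by
  by_contra n
  have h' := h.J g
  have ns : ¬ Sg (ρ (g * z * g⁻¹)) := fun ⟨_, _, _, m, s⟩ =>
    n ((t1.1 _).2 ⟨congrArg Prod.fst g2, (m.uniq ((mo_pu γ).congr e)).1 ▸ s⟩)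
  have nz : ¬ Sg (ρ (g⁻¹ * z * g)) := fun s => by
    obtain ⟨a, k1, k2⟩ := h'.evB' hy.symm h.zz s
    rw [cj_cj] at k1 k2
    exact ns (h.evA k2 k1 hy)
  have yy := h'.zz
  have Ly := h'.le
  have sq : ∀ p ∈ Q ⊓ C[g * z * g⁻¹], p * p = 1 := fun p hp => (h.le.es.sq p hp.1).resolve_right fun k => nz (by
    simpa only [k] using h'.sg_sq (cy hp))
  have rk := (h'.rank (P := Q ⊓ C[g * z * g⁻¹]) inf_le_right fun x hx => sq x hx ▸ one_mem _).1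
  have ey : ∀ a, a * z * a⁻¹ ∈ cj g Q → g * z * g⁻¹ ∈ cj a Q := fun a => sym2 h.le
  have cz : IsConj z (g * z * g⁻¹) := isConj_iff.2 ⟨g, rfl⟩
  generalize g * z * g⁻¹ = y, cj g Q = Q' at *
  have fl : ∀ p ∈ Q, qv (π p) ≠ 0 → pu γ (π p) = π p → y * p * y⁻¹ = z * p := fun p hp a b =>
    (h.fx' hy hp (e _ ▸ b)).resolve_left fun c => a ((h.sq p hp).1 (sq p ⟨hp, mem_cent1.2 c.symm⟩))
  obtain ⟨i, hi⟩ := t1.2.1 _ (congrArg Prod.fst g2) n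
  obtain ⟨q1, q2, q3⟩ := t1.2.2.2 i
  obtain ⟨p, hp, ep⟩ := h.surj (Pi.single i 1)
  have fp := fl p hp (ep ▸ q1) (by rw [ep, pu_sg hi, bbo])
  rcases Int.units_eq_one_or γ.2 with a | a
  · obtain ⟨p', hp', ep'⟩ := h.surj (Pi.single i w)
    have fp' := fl p' hp' (ep' ▸ q2) (by rw [ep', pu_sg hi, a, bb1])
    refine q3 ?_
    rw [← ep, ← ep', ← h.add p hp p' hp', ← h.sq _ (mul_mem hp hp')]
    refine sq _ ⟨mul_mem hp hp', mem_cent1.2 ?_⟩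
    rw [eq_comm, ← mul_inv_eq_iff_eq_mul, ← conj_mul, fp, fp', mul_assoc, ← mul_assoc p, ← (h.zc hp).eq, mul_assoc,
      ← mul_assoc, h.zz, one_mul]
  have := c16 h.toM hy (yy ▸ one_mem _)
  obtain ⟨⟨b, hb⟩, b1⟩ := ne_bot_iff_exists_ne_one.1 (show Q ⊓ C[y] ⊓ Q' ≠ ⊥ from fun k => by rw [k, card_bot] at rk; omega)
  replace b1 : b ≠ 1 := fun k => b1 (Subtype.ext k)
  obtain ⟨u, eu⟩ := fixc g2 (.inl a) (v := π b) (e _ ▸ h.fx hy hb.1.1 (mem_cent1.1 hb.1.2).symm)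
  obtain ⟨x, hx, k⟩ := cos h.toM hy hb.1.1 (by rw [e, eu])
  have c1 : IsConj y (b * y) := k.elim (fun k => isConj_iff.2 ⟨x, k⟩) fun k => isConj_iff.2 ⟨x * p⁻¹, by
    rw [← k, ← cc, inv_inv, mul_assoc p⁻¹, mul_inv_eq_iff_eq_mul.1 fp, (h.zc hp).eq]
    simp [mul_assoc]⟩
  obtain ⟨q, -, k⟩ := Ly.es.exists_conj hb.2 fun k => (Ly.es.mem_zp.1 k).elim b1 fun k => ns (h.sg_Q (k ▸ hb.1.1))
  obtain ⟨a, rfl⟩ := isConj_iff.1 ((cz.trans c1).trans (isConj_iff.2 ⟨q, k⟩).symm)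
  exact ns (h.evA (h.le.symm hb.1.1) (ey a hb.2) hy)

theorem odd (hy : Commute z (g * z * g⁻¹)) : Sg (ρ (g * z * g⁻¹)) := by
  obtain ⟨c, hc, γ, g2, e⟩ := h.pin hy (h.J g).zz
  have k : c * (g * z * g⁻¹) * c⁻¹ = c * g * z * (c * g)⁻¹ := by group
  exact h.sg_cj' hc hy (h.sg_pu (h.odd0 (k ▸ (hc.mul_right hy).mul_right hc.inv_right) g2 (k ▸ e)) e)

theorem ev (hy : Commute z (g * z * g⁻¹)) : ∃ d σ e, K4 σ ∧ Mo (ρ (g * z * g⁻¹)) d σ fun _ => e := by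
  obtain ⟨d, σ, ε, m, s⟩ := h.odd hy
  have k : K4 σ := (t1.1 _).2 ⟨((h.mm hy hy m m).uniq ((mo_pu 1).congr fun v => by rw [(h.J g).zz, h.r1, pu_one])).1, s⟩
  exact ⟨d, σ, _, k, h.kc hy m k ▸ m⟩

theorem fus (T : Tt Q z π ρ g0) (hy : Commute z (g * z * g⁻¹)) :
    ∃ c, Commute z c ∧ (g * z * g⁻¹ ∈ Q ∨ g * z * g⁻¹ ∈ cj (c * g0) Q) := h.evB T hy (h.J g).zz (h.odd hy)

/-- fusion is controlled by any overgroup of the centralizer fusing `z` to `t` -/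
theorem ctl (T : Tt Q z π ρ g0) (h1 : C[z] ≤ P) (ha : a ∈ P) (e : a * z * a⁻¹ = g0 * z * g0⁻¹)
    (hy : Commute z (g * z * g⁻¹)) : ∃ k ∈ P, k * z * k⁻¹ = g * z * g⁻¹ := by
  have A : ∀ g, g * z * g⁻¹ ∈ Q → ∃ k ∈ P, k * z * k⁻¹ = g * z * g⁻¹ := fun g m => by
    by_cases n : g * z * g⁻¹ = z
    · exact ⟨1, one_mem _, by rw [n]; group⟩
    obtain ⟨c, hc, k⟩ := h.tra' T m n
    exact ⟨c⁻¹ * a, mul_mem (inv_mem (h1 (mem_cent1.2 hc.symm))) ha, by rw [← cc, e, ← k]; group⟩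
  obtain ⟨c, hc, k | k⟩ := h.fus T hy
  · exact A g k
  rw [cj_mul, ← h.le.cj_eq e, cj_cj] at k
  obtain ⟨k, hk, e⟩ := A ((c * a)⁻¹ * g) (by simpa [mul_assoc] using mem_cj.1 k)
  exact ⟨c * a * k, mul_mem (mul_mem (h1 (mem_cent1.2 hc.symm)) ha) hk, by rw [← cc, e]; group⟩

end Lc

end H14.P8
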