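import Cfsg.Agent.H14.P83

/-! The case of eighty-one conjugates: root elements. -/

set_option autoImplicit false
set_option linter.unusedSectionVars false
set_option synthInstance.maxSize 4000

open Subgroup
namespace H14.P8
open H10.Y (F4 w bar M NW Et cy cube barbar f4)
open Equiv (Perm swap)
open H19 hiding eq_bot_mono

/-- a diagonal map with one nontrivial entry -/
def sd (i : Fin 4) (ω : F4) : V := fun j => if j = i then ω else 1
theorem sd_i (i : Fin 4) (ω : F4) : sd i ω i = ω := if_pos rfl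
theorem sd_j {i j : Fin 4} (ω : F4) (n : j ≠ i) : sd i ω j = 1 := if_neg n
theorem sd_mul (i : Fin 4) (a b : F4) : sd i a * sd i b = sd i (a * b) := funext fun j => by
  by_cases k : j = i <;> simp [sd, k]
theorem sd_one (i : Fin 4) : sd i 1 = 1 := funext fun j => ite_self _
theorem sd_W4 (i : Fin 4) {a : F4} (n : a ≠ 0) : W4 (sd i a) := fun j => by
  by_cases k : j = i <;> simp [sd, k, n]

variable {G : Type*} [Group G] {Q Q' P : Subgroup G} {z t g g0 a b c x y y' p r : G} {π : G → V} {ρ : G → V →+ V}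
  {d d' u v : V} {σ τ : Perm (Fin 4)} {ε η : Fin 4 → ℤˣ} {γ : Γ} {i j : Fin 4} {ω : F4}

/-- root elements -/
structure Rt (z : G) (ρ : G → V →+ V) (i : Fin 4) (x : G) : Prop where
  c : Commute z x
  x3 : x * x * x = 1
  ex : ∃ ω, ω ≠ 0 ∧ ω ≠ 1 ∧ ∀ v, ρ x v = sd i ω * v
/-- semilinear diagonal maps -/
def Io (f : V → V) : Prop := ∃ d, Mo f d 1 fun _ => -1
/-- the subgroup generated by the root elements -/
def Yz (z : G) (ρ : G → V →+ V) : Subgroup G := closure {x | ∃ i, Rt z ρ i x}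
theorem Rt.mem (k : Rt z ρ i x) : x ∈ Yz z ρ := subset_closure ⟨i, k⟩
theorem Yz_le : Yz z ρ ≤ C[z] := (closure_le _).2 fun _ ⟨_, k⟩ => mem_cent1.2 k.c.symm
theorem z3 (zz : z * z = 1) (c : Commute z x) (x3 : x * x * x = 1) : z * x * (z * x) * (z * x) = z := by
  rw [c.symm.mul_mul_mul_comm, zz, one_mul, ← mul_assoc, ← (c.mul_right c).eq, mul_assoc, x3, mul_one]
theorem c3' (x3 : x * x * x = 1) (g : G) : g * x * g⁻¹ * (g * x * g⁻¹) * (g * x * g⁻¹) = 1 := by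
  rw [conj_mul, conj_mul, x3]; group

/-- the case of eighty-one conjugates -/
structure L81 (Q : Subgroup G) (z : G) (π : G → V) (ρ : G → V →+ V) : Prop extends Lc Q z π ρ where
  z81 : ∀ v, W4 v → Zs Q z π v

theorem L81.J (h : L81 Q z π ρ) (g : G) :
    L81 (cj g Q) (g * z * g⁻¹) (fun x => π (g⁻¹ * x * g)) (fun x => ρ (g⁻¹ * x * g)) :=
  ⟨h.toLc.J g, fun v hv => by
    obtain ⟨k, a, b, e⟩ := h.z81 v hv
    have e1 : g * k * g⁻¹ * (g * z * g⁻¹) * (g * k * g⁻¹)⁻¹ = g * (k * z * k⁻¹) * g⁻¹ := by group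
    exact ⟨g * k * g⁻¹, e1 ▸ conj_mem_cj.2 a, by rw [e1]; simpa using b, by simp only [e1, jj, e]⟩⟩

variable [Finite G]

namespace Lc
variable (h : Lc Q z π ρ)
include h

theorem rinv3 (k : Rt z ρ i x) : Rt z ρ i x⁻¹ := by
  obtain ⟨ω, a, b, e⟩ := k.ex
  refine ⟨k.c.inv_right, by rw [← _root_.mul_inv_rev, ← _root_.mul_inv_rev, ← mul_assoc, k.x3, inv_one], bar ω, ?_, ?_,
    fun v => h.rinj k.c ?_⟩
  · revert a; generalize ω = a; revert a; decide
  · revert b; generalize ω = a; revert a; decide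
  · rw [h.rinv' k.c, e, ← mul_assoc, sd_mul, cube ω a, sd_one, one_mul]
theorem rfx (k : Rt z ρ i x) (e : ρ x v = v) : v i = 0 := by
  obtain ⟨ω, -, b, f⟩ := k.ex
  have := congrFun ((f v).symm.trans e) i
  rw [Pi.mul_apply, sd_i] at this
  by_contra n; exact b (mul_right_cancel₀ n (this.trans (one_mul _).symm))
theorem rnQ (k : Rt z ρ i x) : x ∉ Q := fun m => one_ne_zero (h.rfx k (h.rQ m t0))
theorem rne (k : Rt z ρ i x) : x ≠ 1 := fun e => h.rnQ k (e ▸ one_mem _)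
theorem rconj (hc : Commute z c) (m : Mo (ρ c) d σ ε) (k : Rt z ρ i x) : Rt z ρ (σ i) (c * x * c⁻¹) := by
  obtain ⟨ω, a, b, e⟩ := k.ex
  refine ⟨(hc.mul_right k.c).mul_right hc.inv_right, c3' k.x3 c, bb (ε i) ω, mt (bb0 _ _).1 a,
    (by decide : ∀ e a, a ≠ 1 → bb e a ≠ 1) _ _ b, fun v => funext fun j => ?_⟩
  rw [h.rmul (hc.mul_right k.c) hc.inv_right, h.rmul hc k.c, e, ← σ.apply_symm_apply j, Pi.mul_apply, m.eq]
  conv_rhs => rw [← h.rinv' hc v, m.eq]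
  by_cases n : σ.symm j = i
  · rw [n, Pi.mul_apply, sd_i, sd_i, bbm, mul_left_comm]
  · rw [Pi.mul_apply, sd_j _ n, sd_j _ (σ.injective.ne n), one_mul, one_mul]
theorem rcQ (k : Rt z ρ i x) (ha : a ∈ Q) (e : π a i = 0) : Commute x a := by
  obtain ⟨ω, -, -, f⟩ := k.ex
  refine (h.fx' k.c ha (by
    rw [f]; ext1 j
    by_cases n : j = i
    · rw [Pi.mul_apply, n, e, mul_zero]
    · rw [Pi.mul_apply, sd_j _ n, one_mul])).resolve_right fun e => h.z1 ?_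
  have e2 : ∀ y, x * (z * y) * x⁻¹ = z * (x * y * x⁻¹) := fun y => by rw [← mul_assoc, ← k.c.eq]; group
  have : x * (x * (x * a * x⁻¹) * x⁻¹) * x⁻¹ = a := by rw [cc, cc, k.x3]; group
  rw [e, e2, e, e2, e2, e, ← mul_assoc z z, h.zz, one_mul] at this
  exact mul_eq_right.1 this
theorem sup (k : Rt z ρ i x) (ha : a ∈ Q) (e : a * x * (a * x) * (a * x) = 1) (n : j ≠ i) : π a j = 0 := by
  obtain ⟨ω, -, -, f⟩ := k.ex
  have m1 := h.nm k.c ha
  have m2 := h.nm k.c m1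
  have : a * (x * a * x⁻¹) * (x * (x * a * x⁻¹) * x⁻¹) = 1 := by
    rw [← e, ← mul_one (a * _ * (x * _ * _)), ← k.x3]; group
  have := congrFun ((congrArg π this).trans h.p1) j
  rw [h.add _ (mul_mem ha m1) _ m2, h.add _ ha _ m1, h.conj x k.c _ m1, h.conj x k.c _ ha, f, f] at this
  simpa [sd_j _ n, H10.Y.fadd] using this
theorem rcm' (k : Rt z ρ i x) (k' : Rt z ρ j y) (n : i ≠ j) : Commute x y := by
  obtain ⟨ω, -, -, f⟩ := k.ex
  obtain ⟨ω', -, -, f'⟩ := k'.ex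
  have c := (k'.c.mul_right k.c).mul_right k'.c.inv_right
  have m : y * x * y⁻¹ * x⁻¹ ∈ Q := h.triv (c.mul_right k.c.inv_right) fun v => by
    rw [h.rmul c k.c.inv_right, h.rmul (k'.c.mul_right k.c) k'.c.inv_right, h.rmul k'.c k.c, f', f, mul_left_comm, ← f',
      h.rinv' k'.c, ← f, h.rinv' k.c]
  rcases (h.ker _ m).1 (funext fun l => by
    by_cases e : l = i
    · rw [← h.pinv m]
      exact h.sup k' (inv_mem m) (by convert c3' k'.x3 x using 1; group) (e ▸ n)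
    · exact h.sup k m (by rw [inv_mul_cancel_right]; exact c3' k.x3 y) e) with e | e
  · exact (commutatorElement_eq_one_iff_commute.1 e).symm
  · have := c3' k.x3 y
    rw [mul_inv_eq_iff_eq_mul.1 e, z3 h.zz k.c k.x3] at this
    exact (h.z1 this).elim
theorem rcj (k : Rt z ρ i x) (k' : Rt z ρ i r) (e : ∀ v, ρ r v = ρ x v) :
    ∃ b ∈ Q, (∀ j, j ≠ i → π b j = 0) ∧ b * x * b⁻¹ = r := by
  obtain ⟨ω, -, w1, f⟩ := k.ex
  have m : r * x⁻¹ ∈ Q := h.triv (k'.c.mul_right k.c.inv_right) fun v => by rw [h.rmul k'.c k.c.inv_right, e, h.rinv' k.c]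
  obtain ⟨b, hb, eb⟩ := h.surj (Pi.single i ((ω + 1)⁻¹ * π (r * x⁻¹) i))
  refine ⟨b, hb, fun j n => by rw [eb, Pi.single_eq_of_ne n], ((cos' h.toM k.c m hb (funext fun j => ?_)).resolve_right
    fun e => h.z1 ?_).trans (inv_mul_cancel_right _ _)⟩
  · rw [f, eb, Pi.add_apply, Pi.mul_apply]
    by_cases n : j = i
    · rw [n, sd_i, Pi.single_eq_same, ← add_one_mul, mul_inv_cancel_left₀ fun e => w1 (H10.Y.feq.1 e)]
    · rw [Pi.single_eq_of_ne n, mul_zero, add_zero, h.sup k m (by rw [inv_mul_cancel_right, k'.x3]) n]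
  · have := k'.x3
    rw [inv_mul_cancel_right] at e
    rw [← e, conj_mul, conj_mul, z3 h.zz k.c k.x3] at this
    simpa using this
theorem rpm (k : Rt z ρ i x) (k' : Rt z ρ i r) : (∀ v, ρ r v = ρ x v) ∨ ∀ v, ρ r⁻¹ v = ρ x v := by
  obtain ⟨ω, a, b, f⟩ := k.ex
  obtain ⟨ω', a', b', f'⟩ := k'.ex
  rcases (by decide : ∀ a b : F4, a ≠ 0 → a ≠ 1 → b ≠ 0 → b ≠ 1 → b = a ∨ b * a = 1) _ _ a b a' b' with e | e
  · exact .inl fun v => by rw [f, f', e]
  · exact .inr fun v => h.rinj k'.c (by rw [h.rinv' k'.c, f, f', ← mul_assoc, sd_mul, e, sd_one, one_mul])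

theorem nsq (hp : Commute z p) (k : Io (ρ (p * p))) : False := by
  obtain ⟨d, σ, ε, m⟩ := h.mono hp
  obtain ⟨_, m'⟩ := k
  obtain ⟨a, -, b⟩ := (h.mm hp hp m m).uniq m'
  have k : K4 σ := ⟨a, .inr fun i e => by simpa [e] using congrFun b i⟩
  have := congrFun b 0
  rw [h.kc hp m k] at this
  simp at this
theorem io_cj (hc : Commute z c) (hy : Commute z y) (k : Io (ρ y)) : Io (ρ (c * y * c⁻¹)) := by
  obtain ⟨d, σ, ε, m⟩ := h.mono hc
  obtain ⟨_, m'⟩ := k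
  have := h.mm (hc.mul_right hy) hc.inv_right (h.mm hc hy m m') (h.mi hc m)
  simp only [mul_one, mul_inv_cancel, Perm.one_apply, mul_neg, neg_mul, Int.units_mul_self] at this
  exact ⟨_, this⟩
theorem io_Q (ha : a ∈ Q) (hy : Commute z y) (k : Io (ρ y)) : Io (ρ (a * y)) :=
  let ⟨_, m⟩ := k; ⟨_, m.congr fun v => by rw [h.rmul (h.zc ha) hy, h.rQ ha]⟩

end Lc

theorem Mo.io {f : V → V} (m : Mo f d 1 fun _ => -1) (v : V) (i : Fin 4) : f v i = d i * bar (v i) := m.eq v i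

/-- the partner of a root element -/
structure Op (z y x x' : G) : Prop where
  br : x * x' * x = x' * x * x'
  sq : x * x' * x * (x * x' * x) = z
  cj : x * x' * x * y * (x * x' * x)⁻¹ = z * y

namespace Lc
variable (h : Lc Q z π ρ) (hy : Commute z y) (io : Io (ρ y)) (ns : ∀ p, Commute y p → p * p ≠ z)
include h hy io ns

theorem exw (i : Fin 4) : ∃ a ∈ Q, a * a = z ∧ y * a * y⁻¹ = z * a ∧ π a i ≠ 0 ∧ (∀ j, j ≠ i → π a j = 0) ∧
    ∀ b ∈ Q, (∀ j, j ≠ i → π b j = 0) → π (b⁻¹ * (y * b * y⁻¹)) i = 0 → π b = 0 ∨ π b = π a := by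
  obtain ⟨d, m⟩ := io
  obtain ⟨a, ha, e⟩ := h.surj (Pi.single i (d i * d i))
  have n := mul_ne_zero (m.ne i) (m.ne i)
  have s := h.sqz ha (e ▸ (s5 i _ n).1)
  refine ⟨a, ha, s, (h.fx' hy ha (funext fun j => ?_)).resolve_left fun c => ns a c s, by rwa [e, Pi.single_eq_same],
    fun j k => by rw [e, Pi.single_eq_of_ne k], fun b hb k1 k2 => ?_⟩
  · rw [m.io, e]
    by_cases k : j = i
    · rw [k, Pi.single_eq_same]; exact (by decide : ∀ d : F4, d * bar (d * d) = d * d) _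
    · rw [Pi.single_eq_of_ne k, map_zero, mul_zero]
  rw [h.add _ (inv_mem hb) _ (h.nm hy hb), h.pinv hb, h.conj y hy b hb, Pi.add_apply, m.io] at k2
  refine ((by decide : ∀ d b : F4, d ≠ 0 → b + d * bar b = 0 → b = 0 ∨ b = d * d) _ _ (m.ne i) k2).imp
    (fun k => funext fun j => ?_) fun k => funext fun j => ?_
  · by_cases n : j = i
    exacts [n ▸ k, k1 j n]
  · by_cases n : j = i
    · rw [n, k, e, Pi.single_eq_same]
    · rw [k1 j n, e, Pi.single_eq_of_ne n]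

theorem pair (k : Rt z ρ i x) (e : y * x * y⁻¹ = x⁻¹) : ∃ x', Rt z ρ i x' ∧ y * x' * y⁻¹ = x'⁻¹ ∧ Op z y x x' ∧
    (∀ r, Rt z ρ i r → y * r * y⁻¹ = r⁻¹ → r = x ∨ r = x⁻¹ ∨ r = x' ∨ r = x'⁻¹) ∧
    ∀ b ∈ Q, (∀ j, j ≠ i → π b j = 0) → b ∈ closure {x, x'} := by
  obtain ⟨a, ha, aa, ya, a0, a1, u⟩ := h.exw hy io ns i
  obtain ⟨ω, w0, w1, f⟩ := k.ex
  have ca := h.zc ha
  have zc : ∀ g, Commute z g → z * g * z⁻¹ = g := fun g c => by rw [c.eq, mul_inv_cancel_right]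
  have m1 := h.nm k.c ha
  have m2 := h.nm k.c (h.nm k.c (inv_mem ha))
  have e1 : x * (a * x * a⁻¹) * x = x * a * x⁻¹ * (x * (x * a⁻¹ * x⁻¹) * x⁻¹) := by
    rw [← mul_one (_ * (x * _ * x⁻¹)), ← k.x3]; group
  have m : x * (a * x * a⁻¹) * x ∈ Q := e1 ▸ mul_mem m1 m2
  have pe : π (x * (a * x * a⁻¹) * x) = π a := by
    rw [e1, h.add _ m1 _ m2, h.conj x k.c _ (h.nm k.c (inv_mem ha)), h.conj x k.c _ (inv_mem ha), h.conj x k.c _ ha,
      h.pinv ha, f, f]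
    ext1 j
    by_cases n : j = i
    · simp only [n, Pi.add_apply, Pi.mul_apply, sd_i]
      exact (by decide : ∀ ω b : F4, ω ≠ 0 → ω ≠ 1 → ω * b + ω * (ω * b) = b) _ _ w0 w1
    · simp [a1 j n]
  have e2 : a * x * a⁻¹ * x * (a * x * a⁻¹) = a * (x * (a * x * a⁻¹) * x) * a⁻¹ := by
    rw [show a * x * a⁻¹ * x * (a * x * a⁻¹) = a * (x * (a⁻¹ * x * a) * x) * a⁻¹ by group,
      show a⁻¹ * x * a = a * ((a * a)⁻¹ * x * (a * a)) * a⁻¹ by group, aa, mul_assoc z⁻¹, ← k.c.eq, inv_mul_cancel_left]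
  have cj1 : a * y * a⁻¹ = z * y := by
    rw [mul_inv_eq_iff_eq_mul, mul_assoc, mul_inv_eq_iff_eq_mul.1 ya, ← mul_assoc, ← mul_assoc, h.zz, one_mul]
  have O : Op z y x (a * x * a⁻¹) := by
    rcases h.eq_of m ha pe with e3 | e3
    · exact ⟨by rw [e2, e3]; group, by rw [e3, aa], by rw [e3, cj1]⟩
    · exact ⟨by rw [e2, e3, ← mul_assoc, ← ca.eq]; group, by rw [e3, ca.symm.mul_mul_mul_comm, h.zz, one_mul, aa], by
        rw [e3, ← cc, cj1, zc _ ((Commute.refl z).mul_right hy)]⟩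
  have k' : Rt z ρ i (a * x * a⁻¹) := h.rconj ca ((mo_pu 1).congr (h.rQ ha)) k
  have U : ∀ r, Rt z ρ i r → y * r * y⁻¹ = r⁻¹ → (∀ v, ρ r v = ρ x v) → r = x ∨ r = a * x * a⁻¹ := fun r k1 k2 k3 => by
    obtain ⟨b, hb, b1, rfl⟩ := h.rcj k k1 k3
    have m := mul_mem (inv_mem hb) (h.nm hy hb)
    refine (u b hb b1 (h.rfx k (h.fx k.c m (Commute.inv_left_iff.1 ?_)))).imp (fun e => ?_) fun e => ?_
    · rw [← conj_mul, ← conj_mul, e, ← conj_inv, mul_inv_eq_iff_eq_mul] at k2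
      rw [Commute, SemiconjBy, mul_assoc b⁻¹, k2]; group
    · rcases (h.ker b hb).1 e with rfl | rfl
      exacts [by group, zc x k.c]
    · rcases h.eq_of hb ha e with rfl | rfl
      exacts [rfl, by rw [← cc, zc _ k'.c]]
  refine ⟨_, k', by rw [← conj_mul, ← conj_mul, e, ← conj_inv, ya, ← cc, zc _ (by simpa [mul_assoc] using k'.c.inv_right)]; group, O,
    fun r k1 k2 => (h.rpm k k1).elim (fun k3 => (U r k1 k2 k3).imp_right fun e => .inr (.inl e)) fun k3 =>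
      .inr ((U _ (h.rinv3 k1) (by rw [← conj_inv, k2]) k3).imp inv_eq_iff_eq_inv.1 fun e => .inr (inv_eq_iff_eq_inv.1 e)),
    fun b hb b1 => ?_⟩
  set K := closure {x, a * x * a⁻¹}
  have mx : x ∈ K := subset_closure (.inl rfl)
  have mw : x * (a * x * a⁻¹) * x ∈ K := mul_mem (mul_mem mx (subset_closure (.inr rfl))) mx
  have mz : z ∈ K := O.sq ▸ mul_mem mw mw
  have A : ∀ c ∈ Q, c ∈ K → ∀ b ∈ Q, π b = π c → b ∈ K := fun c hc mc b hb e => by
    rcases h.eq_of hb hc e with rfl | rfl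
    exacts [mc, mul_mem mz mc]
  have ma := A _ m mw a ha pe.symm
  have ma1 := mul_mem (mul_mem mx ma) (inv_mem mx)
  have B : ∀ c ∈ Q, c ∈ K → π b i = π c i → (∀ j, j ≠ i → π c j = 0) → b ∈ K := fun c hc mc e1 e2 =>
    A c hc mc b hb (funext fun j => by
      by_cases n : j = i
      exacts [n ▸ e1, (b1 j n).trans (e2 j n).symm])
  rcases (by decide : ∀ ω a b : F4, ω ≠ 0 → ω ≠ 1 → a ≠ 0 → b = 0 ∨ b = a ∨ b = ω * a ∨ b = ω * a + a) _ _ (π b i) w0 w1 a0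
    with e | e | e | e
  · exact B 1 (one_mem _) (one_mem _) (by rw [e, h.p1]; rfl) fun j _ => by rw [h.p1]; rfl
  · exact B a ha ma e a1
  · exact B _ m1 ma1 (by rw [e, h.conj x k.c a ha, f, Pi.mul_apply, sd_i]) fun j n => by
      rw [h.conj x k.c a ha, f, Pi.mul_apply, a1 j n, mul_zero]
  · exact B _ (mul_mem m1 ha) (mul_mem ma1 ma) (by
      rw [e, h.add _ m1 _ ha, h.conj x k.c a ha, f, Pi.add_apply, Pi.mul_apply, sd_i]) fun j n => by
      rw [h.add _ m1 _ ha, h.conj x k.c a ha, f, Pi.add_apply, Pi.mul_apply, a1 j n, mul_zero, add_zero]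

end Lc

namespace L81
variable (h : L81 Q z π ρ)
include h

theorem jd (hd : W4 d) : ∃ g, Commute z g ∧ ∀ v, ρ g v = d * v := by
  obtain ⟨k, a, b, e⟩ := h.z81 _ (sd_W4 0 H10.Y.w0)
  obtain ⟨c, hc, f⟩ := h.tra a b
  obtain ⟨ι, i1, i2⟩ := h.pur io s4.2
  have hg := hc.inv_right
  obtain ⟨d', σ, ε, m⟩ := h.mono hg
  have e1 : ∀ i, d' i = sd 0 w (σ i) := fun i => by rw [← m.t0, ← f, h.rinv hc, e]
  have A : ∀ v, ρ (c⁻¹ * ι * c * ι) v = sd 0 w * sd 0 w * v := fun v => funext fun j => by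
    rw [h.rmul ((hg.mul_right i1).mul_right hc) i1, h.rmul (hg.mul_right i1) hc, h.rmul hg i1, i2, i2,
      ← σ.apply_symm_apply j, m.eq, pu_io, Pi.mul_apply, Pi.mul_apply, ← e1]
    have := m.eq (ρ c (pu io v)) (σ.symm j)
    rw [h.rinv hc, pu_io] at this
    exact (by decide : ∀ (d s v : F4) e, d ≠ 0 → bar v = d * bb e s → d * bb e (bar s) = d * d * v) _ _ _ _ (m.ne _) this
  have cA := ((hg.mul_right i1).mul_right hc).mul_right i1
  have B : ∀ g u, Commute z g → W4 u → (∀ v, ρ g v = u * v) → pr d = pr u → ∃ g, Commute z g ∧ ∀ v, ρ g v = d * v :=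
    fun g u c1 c2 c3 c4 => by
      obtain ⟨k, k1, k2⟩ := h.d0 (d * pu io u) (by rw [pr_mul, pr_io, c4, cube _ (pr_W4.2 c2)])
      exact ⟨_, k1.mul_right c1, fun v => by rw [h.rmul k1 c1, k2, c3, ← mul_assoc, io_mul c2]⟩
  rcases (by decide : ∀ a : F4, a ≠ 0 → a = 1 ∨ a = pr (sd 0 w * sd 0 w) ∨ a = pr (sd 0 w * sd 0 w * (sd 0 w * sd 0 w))) _
    (pr_W4.2 hd) with e | e | e
  · exact h.d0 d e
  · exact B _ _ cA (by decide) A e
  · exact B _ _ (cA.mul_right cA) (by decide) (fun v => by rw [h.rmul cA cA, A, A, ← mul_assoc]) e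

theorem pw4 (hc : Commute z c) (a : ω ≠ 0) (b : ω ≠ 1) (e : ∀ v, ρ c v = sd i ω * v) :
    Rt z ρ i (c ^ 4) ∧ ∀ v, ρ (c ^ 4) v = sd i ω * v := by
  have m : c ^ 3 ∈ Q := h.triv (hc.pow_right 3) fun v => by
    rw [pow_three', h.rmul (hc.mul_right hc) hc, h.rmul hc hc, e, e, e, ← mul_assoc, ← mul_assoc, sd_mul, sd_mul,
      c3 ω a, sd_one, one_mul]
  have f : ∀ v, ρ (c ^ 4) v = sd i ω * v := fun v => by rw [pow_succ, h.rmul (hc.pow_right 3) hc, h.rQ m, e]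
  exact ⟨⟨hc.pow_right 4, by rw [← pow_three', ← pow_mul, mul_comm, pow_mul, h.le.es.pow4 m], ω, a, b, f⟩, f⟩

theorem exR (hy : Commute z y) (yy : y * y = 1) (io : Io (ρ y)) (i : Fin 4) : ∃ x, Rt z ρ i x ∧ y * x * y⁻¹ = x⁻¹ := by
  obtain ⟨g, hg, e⟩ := h.jd (sd_W4 i H10.Y.w0)
  obtain ⟨d, m⟩ := io
  have c := (hg.mul_right hy).mul_right hg.inv_right
  refine ⟨_, (h.pw4 (ω := w) (hy.mul_right c) H10.Y.w0 H10.Y.w1 fun v => funext fun j => ?_).1, ?_⟩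
  · have := congrFun (e (ρ g⁻¹ v)) j
    rw [h.rinv' hg] at this
    rw [h.rmul hy c, h.rmul (hg.mul_right hy) hg.inv_right, h.rmul hg hy, m.io, e, Pi.mul_apply, m.io, Pi.mul_apply, this,
      Pi.mul_apply]
    by_cases n : j = i
    · rw [n, sd_i]; exact (by decide : ∀ d s : F4, d ≠ 0 → d * bar (w * (d * bar s)) = w * (w * s)) _ _ (m.ne _)
    · rw [sd_j _ n]; exact (by decide : ∀ d s : F4, d ≠ 0 → d * bar (1 * (d * bar s)) = 1 * (1 * s)) _ _ (m.ne _)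
  · rw [← conj_pow, ← inv_pow, ← mul_assoc, yy, _root_.mul_inv_rev, conj_inv, inv_eq_of_mul_eq_one_right yy]; group

theorem dY (hd : W4 d) : ∃ k ∈ Yz z ρ, ∀ v, ρ k v = d * v := by
  have A : ∀ i, ∃ k ∈ Yz z ρ, ∀ v, ρ k v = sd i (d i) * v := fun i => by
    by_cases n : d i = 1
    · exact ⟨1, one_mem _, fun v => by rw [h.r1, n, sd_one, one_mul]⟩
    obtain ⟨g, hg, e⟩ := h.jd (sd_W4 i (hd i))
    exact ⟨_, (h.pw4 hg (hd i) n e).1.mem, (h.pw4 hg (hd i) n e).2⟩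
  choose k m e using A
  have c := fun i => (mem_cent1.1 (Yz_le (m i))).symm
  refine ⟨k 0 * (k 1 * (k 2 * k 3)), mul_mem (m _) (mul_mem (m _) (mul_mem (m _) (m _))), fun v => ?_⟩
  rw [h.rmul (c 0) (Commute.mul_right (c 1) (Commute.mul_right (c 2) (c 3))), h.rmul (c 1) (Commute.mul_right (c 2) (c 3)),
    h.rmul (c 2) (c 3), e, e, e, e]
  ext1 j; fin_cases j <;> simp [sd]

variable (hy : Commute z y) (yy : y * y = 1) (io : Io (ρ y)) (ns : ∀ p, Commute y p → p * p ≠ z)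
include hy yy io ns

theorem YP (H : ∀ i x, Rt z ρ i x → y * x * y⁻¹ = x⁻¹ → x ∈ P) : Q ≤ P ∧ Yz z ρ ≤ P := by
  have A : ∀ i, ∀ b ∈ Q, (∀ j, j ≠ i → π b j = 0) → b ∈ P := fun i b hb e => by
    obtain ⟨x, k1, k2⟩ := h.exR hy yy io i
    obtain ⟨x', k3, k4, -, -, k⟩ := h.pair hy io ns k1 k2
    exact (closure_le _).2 (Set.pair_subset (H i x k1 k2) (H i x' k3 k4)) (k b hb e)
  refine ⟨fun b hb => ?_, (closure_le _).2 fun r ⟨i, k⟩ => ?_⟩
  · choose s m e using fun i => h.surj (Pi.single i (π b i))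
    have k : ∀ i, s i ∈ P := fun i => A i _ (m i) fun j n => by rw [e, Pi.single_eq_of_ne n]
    have m' := mul_mem (m 0) (mul_mem (m 1) (mul_mem (m 2) (m 3)))
    have k' := mul_mem (k 0) (mul_mem (k 1) (mul_mem (k 2) (k 3)))
    rcases h.eq_of hb m' (by
      rw [h.add _ (m 0) _ (mul_mem (m 1) (mul_mem (m 2) (m 3))), h.add _ (m 1) _ (mul_mem (m 2) (m 3)), h.add _ (m 2) _ (m 3),
        e, e, e, e]
      ext1 j; fin_cases j <;> simp) with f | f <;> rw [f]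
    exacts [k', mul_mem (A 0 z h.zQ fun j _ => by rw [h.pz]; rfl) k']
  · obtain ⟨x, k1, k2⟩ := h.exR hy yy io i
    have B : ∀ r, Rt z ρ i r → (∀ v, ρ r v = ρ x v) → r ∈ P := fun r k e => by
      obtain ⟨b, hb, b1, rfl⟩ := h.rcj k1 k e
      exact mul_mem (mul_mem (A i b hb b1) (H i x k1 k2)) (inv_mem (A i b hb b1))
    exact (h.rpm k1 k).elim (B r k) fun e => inv_mem_iff.1 (B _ (h.rinv3 k) e)

theorem yc (hy' : Commute z y') (yy' : y' * y' = 1) (io' : Io (ρ y')) : ∃ k ∈ Yz z ρ, k * y * k⁻¹ = y' := by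
  have QY := (h.YP hy yy io ns fun i x k _ => k.mem).1
  obtain ⟨a, ha, -, ya, -⟩ := h.exw hy io ns 0
  obtain ⟨d, m⟩ := io
  obtain ⟨d', m'⟩ := io'
  obtain ⟨k, hk, e⟩ := h.dY (d := pu P8.io d' * d) fun i => mul_ne_zero (mt (bb0 _ _).1 (m'.ne _)) (m.ne i)
  have c : Commute z k := (mem_cent1.1 (Yz_le hk)).symm
  have c' := (c.mul_right hy).mul_right c.inv_right
  have f : ∀ v, ρ (k * y * k⁻¹) v = ρ y' v := fun v => funext fun j => by
    have := congrFun (e (ρ k⁻¹ v)) j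
    rw [h.rinv' c] at this
    rw [h.rmul (c.mul_right hy) c.inv_right, h.rmul c hy, e, Pi.mul_apply, m.io, m'.io, this, Pi.mul_apply, Pi.mul_apply, pu_io]
    exact (by decide : ∀ d d' s : F4, d ≠ 0 → d' ≠ 0 → bar d' * d * (d * bar s) = d' * bar (bar d' * d * s)) _ _ _
      (m.ne j) (m'.ne j)
  have n : y' * (k * y * k⁻¹)⁻¹ ∈ Q := h.triv (hy'.mul_right c'.inv_right) fun v => by
    rw [h.rmul hy' c'.inv_right, ← f, h.rinv' c']
  have fx := fxa h.toM c' (by rw [conj_mul, yy]; group) yy' n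
  obtain ⟨b, hb, k⟩ := cos h.toM c' n (u := w • π (y' * (k * y * k⁻¹)⁻¹)) (funext fun j => by
    have := congrFun fx j
    rw [f, m'.io] at this
    rw [f, Pi.add_apply, m'.io, Pi.smul_apply, smul_eq_mul, map_mul, mul_left_comm, this, ← add_mul, add_comm, H10.Y.wbar,
      one_mul])
  rw [inv_mul_cancel_right] at k
  rcases k with k | k
  · exact ⟨_, mul_mem (QY hb) hk, by rw [← cc, k]⟩
  · refine ⟨_, mul_mem (mul_mem (QY hb) hk) (inv_mem (QY ha)), ?_⟩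
    rw [← cc, ← cc, ← k, inv_inv, mul_assoc a⁻¹, mul_inv_eq_iff_eq_mul.1 ya, (h.zc ha).eq, ← mul_assoc a⁻¹,
      inv_mul_cancel_left, ← mul_assoc _ z y, ← c.eq]
    group

end L81

end H14.P8
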