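import Cfsg.Agent.H14.P84
import Cfsg.Agent.H17.HT27

/-! The four-group of conjugates and the odd core of the centralizer of a root element. -/

set_option autoImplicit false
set_option linter.unusedSectionVars false
set_option synthInstance.maxSize 4000

open Subgroup
namespace H14.P8
open H10.Y (F4 w bar M NW Et cy cube barbar f4)
open Equiv (Perm swap)
open H19 hiding eq_bot_mono
open H17.GS (OG O_og og_iff)
open scoped H17.GS commutatorElement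

variable {G : Type*} [Group G] [Finite G] {Q Q' P A O D : Subgroup G} {z t g g0 a b c x y y' p r : G} {π π' : G → V}
  {ρ ρ' : G → V →+ V} {d d' u v : V} {σ τ : Perm (Fin 4)} {ε η : Fin 4 → ℤˣ} {γ : Γ} {i j : Fin 4} {ω : F4}

theorem onto' (n : NW Q z π ρ qv bv Q' t) (hv : bv v (π t) ≠ 0) : ∃ g, g * z * g⁻¹ = t ∧ g * t * g⁻¹ = z * t ∧
    ∀ p ∈ Q, bv (π p) (π t) = 0 → Rl Q Q' z π ρ v (g * p * g⁻¹) (π p) := by
  obtain ⟨a, ha, rfl⟩ := n.surj v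
  obtain ⟨c, hc, ez⟩ := n.lp.r.es.exists_conj n.lp.zQ n.lp.symm.notMem
  have et := n.cjz ha n.tQ hv
  have e1 : a⁻¹ * c * z * (a⁻¹ * c)⁻¹ = t := by rw [← cc, ez, ← et]; group
  have ec : cj c Q = cj a Q' := by
    obtain ⟨g, e1, e2⟩ := n.lp.conj
    rw [← e2, cj_cj]
    exact n.le.cj_eq (by rw [ez, ← et, ← e1]; group)
  refine ⟨a⁻¹ * c, e1, ?_, fun p hp hu => ?_⟩
  · rw [← cc, ← (n.yt hc).eq, mul_inv_cancel_right, n.cjz (inv_mem ha) n.tQ (by rwa [n.pinv ha])]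
  have m1 := n.lp.symm.comm_P (c := p) ⟨mem_cent1.2 ((n.cm p hp t n.tQ).2 hu), mem_cent1.2 (n.zc hp).symm⟩ hc
  have m2 := mem_cj.1 (ec.le (conj_mem_cj.2 hp))
  have e : ⁅p, c⁆ * (c * p * c⁻¹) = p := by rw [commutatorElement_def]; group
  have z2 : Commute z (a⁻¹ * (c * p * c⁻¹) * a) := ((n.zc ha).inv_right.mul_right (by
    rw [← inv_mul_cancel_left ⁅p, c⁆ (c * p * c⁻¹), e]; exact (cy m1).inv_right.mul_right (n.zc hp))).mul_right (n.zc ha)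
  rw [← cc, inv_inv]
  set y := ⁅p, c⁆
  set y' := a⁻¹ * (c * p * c⁻¹) * a
  have e2 : y * y' = (y * (a * y' * a⁻¹ * y'⁻¹) * y⁻¹)⁻¹ * p := by rw [← e]; simp only [y']; group
  have m3 := n.nm (cy m1) (n.mcm z2 ha)
  have m4 : y * y' ∈ Q := e2 ▸ mul_mem (inv_mem m3) hp
  refine ⟨⟨m2, mem_cent1.2 z2.symm⟩, _, ⟨m4, Q'.mul_mem m1.1 m2⟩, ?_⟩
  rw [← n.rQ m4 (ρ y' (π a)), n.rmul (cy m1) z2, n.rsq z2 (sqQ n m2), e2, n.add _ (inv_mem m3) _ hp, n.pinv m3,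
    n.conj _ (cy m1) _ (n.mcm z2 ha), n.pcm z2 ha, map_add, ← n.rmul (cy m1) z2, n.rQ m4, add_comm (π a)]

theorem fix1 (h : M Q z π ρ qv bv) (hx : x ∈ Q) (hp : p ∈ Q) (e : π x = π p) :
    ∃ α, ∀ q ∈ Q, bv (π q) (π p) = α → q * x * q⁻¹ = p := by
  rcases h.eq_of hx hp e with rfl | rfl
  · exact ⟨0, fun q hq k => by rw [((h.cm q hq x hx).2 k).eq, mul_inv_cancel_right]⟩
  · exact ⟨1, fun q hq k => by
      rw [← mul_assoc, ← (h.zc hq).eq, mul_assoc z, mul_assoc z, h.cjz hq hp (k ▸ one_ne_zero), ← mul_assoc, h.zz, one_mul]⟩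

theorem u1 : ∀ s ∈ [vec (bar w) w w w], ∀ v ∈ [vec w 0 0 0], bv v t0 ≠ 0 ∧ bv s t0 = 0 ∧ W4 s ∧ s * s = t0 + s ∧
    (∀ α β, ∃ u, bv u s = α ∧ bv u (t0 + s) = β) ∧ ∀ γ : Γ, K4 γ.1 → RV (pu γ v + v + s) → γ = io := by decide +kernel

theorem L81.tri (h : L81 Q z π ρ) (T : Tt Q z π ρ g0) : ∃ r, Commute z (r * z * r⁻¹) ∧
    r * (r * z * r⁻¹) * r⁻¹ = z * (r * z * r⁻¹) ∧ Io (ρ (r * z * r⁻¹)) ∧ g0 * z * g0⁻¹ ∈ cj r Q := by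
  obtain ⟨a1, a2, a3, a4, a5, a6⟩ := u1 _ (.head _) _ (.head _)
  have n := h.nw T.mem (T.ne h.toM)
  obtain ⟨g, e1, e2, R⟩ := onto' n (T.pt ▸ a1)
  obtain ⟨k, hp, -, ep⟩ := h.z81 _ a3
  replace R := R _ hp (by rw [ep, T.pt, a2])
  obtain ⟨γ, k1, k2⟩ := T.all _ R.1
  obtain rfl := a6 γ k1 ((T.et _).1 (by rw [← k2, ← ep]; exact R.2))
  obtain ⟨c, hc, ec⟩ := h.jd a3
  have m := mul_mem T.mem h.zQ
  have pm : π (g0 * z * g0⁻¹ * z) = t0 := by rw [h.add _ T.mem _ h.zQ, T.pt, h.pz, add_zero]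
  have pm' := h.add _ m _ hp
  obtain ⟨α, f1⟩ := fix1 h.toM (h.nm hc m) hp (by rw [h.conj c hc _ m, ec, pm, ep]; exact mul_one _)
  obtain ⟨β, f2⟩ := fix1 h.toM (h.nm hc hp) (mul_mem m hp) (by rw [h.conj c hc _ hp, ec, pm', pm, ep, a4])
  obtain ⟨u, b1, b2⟩ := a5 α β
  obtain ⟨q, hq, rfl⟩ := h.surj u
  replace f1 := f1 q hq (by rw [ep, b1])
  replace f2 := f2 q hq (by rw [pm', pm, ep, b2])
  have e3 : g * (g0 * z * g0⁻¹ * z) * g⁻¹ = z := by rw [← conj_mul, e1, e2, mul_assoc, n.tt, mul_one]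
  have e4 : g * (q * c) * g⁻¹ * z * (g * (q * c) * g⁻¹)⁻¹ = g * (k * z * k⁻¹) * g⁻¹ := by
    rw [← f1]; nth_rewrite 1 [← e3]; group
  refine ⟨g * (q * c) * g⁻¹, ?_⟩
  rw [e4]
  refine ⟨cy R.1, ?_, ⟨_, (mo_pu io).congr k2⟩, sym2 h.le (e4 ▸ R.1.1)⟩
  exact (show _ = g * (q * (c * (k * z * k⁻¹) * c⁻¹) * q⁻¹) * g⁻¹ by group).trans (by rw [f2, ← conj_mul, e3])

theorem dec (ho : OG O) (hs : z ∈ N(O)) (ss : z * z = 1) (hx : x ∈ O) :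
    ∃ y ∈ O, ∃ c ∈ O, z * y * z⁻¹ = y⁻¹ ∧ c ∈ C[z] ∧ x = y * c := by
  have hw : x * (z * x⁻¹ * z⁻¹) ∈ O := mul_mem hx (conj_mem_of_norm hs (inv_mem hx))
  set w := x * (z * x⁻¹ * z⁻¹) with e
  have iw : z * w * z⁻¹ = w⁻¹ := by rw [e, ← conj_mul, cc, ss]; simp [mul_assoc]
  obtain ⟨k, hk⟩ := ho.odd_elt hw
  have yy : w ^ (k + 1) * w ^ (k + 1) = w := by
    rw [← pow_add, show k + 1 + (k + 1) = 2 * k + 1 + 1 by ring, pow_succ, ← hk, pow_orderOf_eq_one, one_mul]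
  have iy : z * w ^ (k + 1) * z⁻¹ = (w ^ (k + 1))⁻¹ := by rw [← conj_pow, iw, inv_pow]
  refine ⟨_, pow_mem hw (k + 1), _, mul_mem (inv_mem (pow_mem hw (k + 1))) hx, iy, mem_cent1_symm.1 (mem_cent1.2
    (mul_inv_eq_iff_eq_mul.1 ?_)), by simp⟩
  generalize w ^ (k + 1) = y at *
  rw [← conj_mul, ← conj_inv, iy, inv_inv, show z * x * z⁻¹ = w⁻¹ * x by rw [e]; group, ← yy]; group
theorem osq (ho : OG O) (hx : x ∈ O) : ∃ k, x ^ k * x ^ k = x := by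
  obtain ⟨k, hk⟩ := ho.odd_elt hx
  exact ⟨k + 1, by rw [← pow_add, show k + 1 + (k + 1) = 2 * k + 1 + 1 by ring, pow_succ, ← hk, pow_orderOf_eq_one, one_mul]⟩

/-- eigenvectors -/
def Eg (g u : G) (s : ℤˣ) : Prop := g * u * g⁻¹ = u ^ (s : ℤ)
theorem Eg.mul {s t : ℤˣ} (h : Eg a x s) (k : Eg b x t) : Eg (a * b) x (s * t) := by
  rw [Eg, ← cc, k, ← conj_zpow, h, ← zpow_mul, Units.val_mul]
theorem Eg.conj {s : ℤˣ} (h : Eg a x s) (c : G) : Eg (c * a * c⁻¹) (c * x * c⁻¹) s := by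
  rw [Eg, conj_zpow, ← h]; group
theorem Eg.can {s t : ℤˣ} (h : Eg a x s) (k : Eg (a * b) x t) : Eg b x (s * t) := by
  have : Eg a⁻¹ x s := by
    have e : a * x ^ (s : ℤ) * a⁻¹ = x := by rw [← conj_zpow, h, ← zpow_mul, ← Units.val_mul, Int.units_mul_self]; simp
    rw [Eg]; nth_rewrite 1 [← e]; group
  simpa using this.mul k
theorem eg1 : Eg a x 1 ↔ a * x * a⁻¹ = x := by simp [Eg]
theorem egm : Eg a x (-1) ↔ a * x * a⁻¹ = x⁻¹ := by simp [Eg]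
/-- eigenspaces -/
def Fx (A : Subgroup G) (h : ∀ x ∈ A, ∀ y ∈ A, Commute x y) (b : G) (s : ℤˣ) : Subgroup G where
  carrier := {u | u ∈ A ∧ Eg b u s}
  one_mem' := ⟨one_mem _, by simp [Eg]⟩
  mul_mem' := fun k l => ⟨mul_mem k.1 l.1, by rw [Eg, ← conj_mul, k.2, l.2, (h _ k.1 _ l.1).mul_zpow]⟩
  inv_mem' := fun k => ⟨inv_mem k.1, by rw [Eg, ← conj_inv, k.2, inv_zpow]⟩
theorem split (ho : OG A) (h : ∀ x ∈ A, ∀ y ∈ A, Commute x y) {X Y : Subgroup G} (k1 : X ≤ P ⊓ Fx A h b 1)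
    (k2 : Y ≤ P ⊓ Fx A h b (-1)) : #X * #Y ≤ #P := by
  rw [← card_sup_of_disjoint (fun y hy => norms_of_cents le_rfl fun x hx => h x (k1 hx).2.1 y (k2 hy).2.1)
    ((eq_bot_iff_forall _).2 fun x hx => ho.eq_one (k1 hx.1).2.1
      (mul_eq_one_iff_eq_inv.2 ((eg1.1 (k1 hx.1).2.2).symm.trans (egm.1 (k2 hx.2).2.2))))]
  exact card_le (sup_le (k1.trans inf_le_left) (k2.trans inf_le_left))
theorem c81' (ho : OG A) (h : ∀ x ∈ A, ∀ y ∈ A, Commute x y) (k : ∀ s t, ∃ u ∈ A, u ≠ 1 ∧ Eg a u s ∧ Eg b u t) :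
    81 ≤ #A := by
  have k1 : ∀ s t, 3 ≤ #(Fx A h a s ⊓ Fx A h b t : Subgroup G) := fun s t => by
    obtain ⟨u, m, n, e1, e2⟩ := k s t
    obtain ⟨l, hl⟩ := og_iff.1 (ho.of_le (H := Fx A h a s ⊓ Fx A h b t) fun _ k => k.1.1)
    have := (one_lt_card_iff_ne_bot _).2 (ne_bot_iff_exists_ne_one.2 ⟨(⟨u, ⟨m, e1⟩, m, e2⟩ : ↥(Fx A h a s ⊓ Fx A h b t)),
      fun e => n (congrArg Subtype.val e)⟩)
    omega
  have k2 : ∀ s, 9 ≤ #(Fx A h a s) := fun s =>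
    (Nat.mul_le_mul (k1 s 1) (k1 s (-1))).trans (split ho h le_rfl le_rfl)
  exact (Nat.mul_le_mul (k2 1) (k2 (-1))).trans (split ho h (le_inf (fun _ k => k.1) le_rfl) (le_inf (fun _ k => k.1) le_rfl))
theorem step (h : ∀ x ∈ A, ∀ y ∈ A, Commute x y) (hb : b ∈ N(A)) (bb : b * b = 1) (hx : x ∈ A) (n : x ≠ 1) :
    ∃ u ∈ A, u ≠ 1 ∧ ∃ s, Eg b u s := by
  by_cases e : x * (b * x * b⁻¹) = 1
  · exact ⟨x, hx, n, -1, egm.2 (eq_inv_of_mul_eq_one_right e)⟩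
  have m := conj_mem_of_norm hb hx
  exact ⟨_, mul_mem hx m, e, 1, eg1.2 (by rw [← conj_mul, cc, bb, (h _ hx _ m).eq]; group)⟩

theorem eig {b1 b2 g1 g2 : G} (ho : OG O) (iv : ∀ u ∈ O ⊓ C[y], z * u * z⁻¹ = u⁻¹) (ne : O ⊓ C[y] ≠ ⊥)
    (n1 : b1 ∈ N(O) ⊓ C[y]) (n2 : b2 ∈ N(O) ⊓ C[y]) (s1 : b1 * b1 = 1) (s2 : b2 * b2 = 1) (c12 : b2 * b1 * b2⁻¹ = b1)
    (na : a ∈ N(O)) (az : a * z * a⁻¹ = z) (ay : a * y * a⁻¹ = z * y) (a1 : a * b1 * a⁻¹ = b1) (a2 : a * b2 * a⁻¹ = b2)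
    (m1 : g1 ∈ N(O)) (z1 : g1 * z * g1⁻¹ = z) (y1 : g1 * y * g1⁻¹ = b1 * y ∨ g1 * (z * y) * g1⁻¹ = b1 * y)
    (e11 : g1 * b1 * g1⁻¹ = b1) (e12 : g1 * b2 * g1⁻¹ = z * b2)
    (m2 : g2 ∈ N(O)) (z2 : g2 * z * g2⁻¹ = z) (y2 : g2 * y * g2⁻¹ = b2 * y ∨ g2 * (z * y) * g2⁻¹ = b2 * y)
    (e21 : g2 * b1 * g2⁻¹ = z * b1) (e22 : g2 * b2 * g2⁻¹ = b2) : 81 ≤ #(O ⊓ C[y] : Subgroup G) := by
  have ab : ∀ x ∈ O ⊓ C[y], ∀ y' ∈ O ⊓ C[y], Commute x y' := fun x hx y' hy => Commute.inv_inv_iff.1 (by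
    rw [Commute, SemiconjBy, ← iv x hx, ← iv y' hy, conj_mul, iv _ (mul_mem hx hy), iv x hx, iv y' hy, _root_.mul_inv_rev])
  have nn : ∀ b ∈ N(O) ⊓ C[y], b ∈ N(O ⊓ C[y]) := fun b hb =>
    norms_inf (A := N(O) ⊓ C[y]) inf_le_left (norms_of_le inf_le_right) hb
  let E : ℤˣ → ℤˣ → Prop := fun s t => ∃ u ∈ O ⊓ C[y], u ≠ 1 ∧ Eg b1 u s ∧ Eg b2 u t
  have F : ∀ u ∈ O, u ≠ 1 → Eg z u (-1) → ∀ s t r, Eg b1 u s → Eg b2 u t → Eg y u r → E s t := fun u m n k s t r k1 k2 k3 => by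
    rcases Int.units_eq_one_or r with rfl | rfl
    · exact ⟨u, ⟨m, mem_cent1.2 (mul_inv_eq_iff_eq_mul.1 (eg1.1 k3)).symm⟩, n, k1, k2⟩
    have := (az ▸ k.conj a).can (ay ▸ k3.conj a)
    exact ⟨a * u * a⁻¹, ⟨conj_mem_of_norm na m, mem_cent1.2 (mul_inv_eq_iff_eq_mul.1 (eg1.1 (by simpa using this))).symm⟩,
      by simpa using n, a1 ▸ k1.conj a, a2 ▸ k2.conj a⟩
  have Y : ∀ g b : G, ∀ u ∈ O ⊓ C[y], ∀ s, Eg b (g * u * g⁻¹) s → (g * y * g⁻¹ = b * y ∨ g * (z * y) * g⁻¹ = b * y) →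
      ∃ r, Eg y (g * u * g⁻¹) r := fun g b u m s k e => by
    have := eg1.2 (mul_inv_eq_iff_eq_mul.2 (mem_cent1.1 m.2).symm)
    rcases e with e | e
    exacts [⟨_, k.can (e ▸ this.conj g)⟩, ⟨_, k.can (e ▸ ((egm.2 (iv u m)).mul this).conj g)⟩]
  have f1 : ∀ s t, E s t → E s (-t) := fun s t ⟨u, m, n, k1, k2⟩ => by
    have kz := z1 ▸ (egm.2 (iv u m)).conj g1
    obtain ⟨r, k⟩ := Y g1 b1 u m s (e11 ▸ k1.conj g1) y1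
    exact F _ (conj_mem_of_norm m1 m.1) (by simpa using n) kz _ _ r (e11 ▸ k1.conj g1)
      (by simpa using kz.can (e12 ▸ k2.conj g1)) k
  have f2 : ∀ s t, E s t → E (-s) t := fun s t ⟨u, m, n, k1, k2⟩ => by
    have kz := z2 ▸ (egm.2 (iv u m)).conj g2
    obtain ⟨r, k⟩ := Y g2 b2 u m t (e22 ▸ k2.conj g2) y2
    exact F _ (conj_mem_of_norm m2 m.1) (by simpa using n) kz _ _ r (by simpa using kz.can (e21 ▸ k1.conj g2))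
      (e22 ▸ k2.conj g2) k
  obtain ⟨⟨u, m⟩, n⟩ := ne_bot_iff_exists_ne_one.1 ne
  obtain ⟨u, m, n, s, k⟩ := step ab (nn _ n1) s1 m fun e => n (Subtype.ext e)
  obtain ⟨u, m, n, t, k⟩ := step (A := Fx _ ab b1 s) (fun x hx y hy => ab x hx.1 y hy.1) (mem_norm_of_cj_le fun x hx => by
    obtain ⟨x', hx', rfl⟩ := mem_cj'.1 hx
    exact ⟨conj_mem_of_norm (nn _ n2) hx'.1, c12 ▸ hx'.2.conj b2⟩) s2 ⟨m, k⟩ n
  have e : E s t := ⟨u, m.1, n, m.2, k⟩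
  refine c81' (a := b1) (b := b2) (ho.infl _) ab fun s' t' => ?_
  rcases Int.units_eq_one_or s with rfl | rfl <;> rcases Int.units_eq_one_or t with rfl | rfl <;>
    rcases Int.units_eq_one_or s' with rfl | rfl <;> rcases Int.units_eq_one_or t' with rfl | rfl <;>
    first | exact e | exact f1 _ _ e | exact f2 _ _ e | exact f1 _ _ (f2 _ _ e)

end H14.P8
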