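import Cfsg.Agent.H14.P85

/-! The centralizer of a root element. -/

set_option autoImplicit false
set_option linter.unusedSectionVars false
set_option synthInstance.maxSize 4000

open Subgroup
namespace H14.P8
open H10.Y (F4 w bar tr M NW Et cy cube barbar f4)
open Equiv (Perm swap)
open H19 hiding eq_bot_mono
open H17.GS (OG O_og og_iff)
open scoped H17.GS commutatorElement

variable {G : Type*} [Group G] [Finite G] {Q Q' P A O D : Subgroup G} {z t g g0 a b c x x' y y' p r : G} {π π' : G → V}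
  {ρ ρ' : G → V →+ V} {d d' u v : V} {σ τ : Perm (Fin 4)} {ε η : Fin 4 → ℤˣ} {γ : Γ} {i j : Fin 4} {ω : F4}

theorem bv0 (h : ∀ n, u n = 0 ∨ v n = 0) : bv u v = 0 := by
  have k : ∀ n, u n * bar (v n) = 0 := fun n => by rcases h n with e | e <;> simp [e]
  change tr (u 0 * bar (v 0) + u 1 * bar (v 1) + u 2 * bar (v 2) + u 3 * bar (v 3)) = 0
  simp only [k]; rfl
theorem u2 : (∀ (j : Fin 4) (a : F4), a ≠ 0 → bv (w • Pi.single j a) (Pi.single j a) = 1 ∧ pr (sd j a) = a) ∧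
    (∀ i : Fin 4, ∃ j k l, j ≠ i ∧ k ≠ i ∧ l ≠ i ∧ j ≠ k ∧ j ≠ l ∧ k ≠ l) ∧
    (∀ (i j : Fin 4) e, (∀ δ : V, pr δ = 1 → bb e (δ i) = δ j) → j = i ∧ e = 1) ∧
    ∀ i : Fin 4, ∃ δ : V, pr δ = 1 ∧ δ i ≠ 1 := by decide +kernel
theorem cW4 : Nat.card {d : V // W4 d} = 81 := by
  refine (Nat.card_congr (Equiv.subtypePiEquivPi (β := fun _ : Fin 4 => F4) (p := fun _ a => a ≠ 0))).trans ?_
  rw [Nat.card_pi]
  simp [H12.F4.card]

theorem ridx (k : Rt z ρ i x) (k' : Rt z ρ j x) : i = j := by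
  obtain ⟨ω, -, a, e⟩ := k.ex
  obtain ⟨ω', -, -, e'⟩ := k'.ex
  by_contra n
  simpa [sd_i, sd_j _ n, a] using congrFun ((e 1).symm.trans (e' 1)) i
theorem og3 (x3 : x * x * x = 1) : OG (zpowers x) := H17.GS.og_of_pg (pg_of_pow Nat.prime_three (by
  rintro _ ⟨k, rfl⟩
  rw [← zpow_natCast, ← zpow_mul, mul_comm, zpow_mul, zpow_natCast, pow_three', x3, one_zpow])) (by decide)
theorem xO (x3 : x * x * x = 1) : zpowers x ≤ O(C[x]) :=
  le_Oc ⟨zpowers_le.2 (mem_cent1_self x), cent1_le_norm_zpowers x⟩ (og3 x3)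
theorem OC (ha : a ∈ O(C[x])) (hc : c ∈ zpowers x) : Commute a c :=
  mem_cent1.1 (cent1_le_cent1_of_mem_zpowers hc (Oc_le _ _ ha))

namespace Lc
variable (h : Lc Q z π ρ)
include h

theorem oQ (ho : OG O) (m : a ∈ O) (m' : a ∈ Q) : a = 1 := ho.eq_one' h.le.es.pg m m'
theorem cub (hc : Commute z c) (hd : W4 d) (e : ∀ v, ρ c v = d * v) : c * c * c ∈ Q :=
  h.triv ((hc.mul_right hc).mul_right hc) fun v => funext fun j => by
    rw [h.rmul (hc.mul_right hc) hc, h.rmul hc hc, e, e, e]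
    simp only [Pi.mul_apply, ← mul_assoc, c3 _ (hd j), one_mul]

variable (k : Rt z ρ i x)
include k

theorem oz : O(C[x]) ⊓ C[z] ≤ zpowers x := fun a ha => by
  have c := cy ha
  have H : ∀ v, v i = 0 → ρ a v = v := fun v hv => by
    obtain ⟨e, he, rfl⟩ := h.surj v
    refine h.fx c he (commutatorElement_eq_one_iff_commute.1 (h.oQ (O_og C[x]) ?_ (h.mcm c he))).symm
    exact mul_mem ((Oc_normal _ _).conj_mem (mem_cent1.2 (h.rcQ k he hv).symm) ha.1) (inv_mem ha.1)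
  obtain ⟨d, σ, ε, m⟩ := h.mono c
  have B : ∀ j, j ≠ i → σ j = j ∧ d j = 1 ∧ ε j = 1 := fun j n => by
    have e := fun a => m.eq (Pi.single j a) j
    simp only [H _ (Pi.single_eq_of_ne n.symm _), Pi.single_eq_same] at e
    have s : σ j = j := by_contra fun s => m.ne j (by simpa [Pi.single_eq_of_ne s, bbo] using (e 1).symm)
    simp only [s, Pi.single_eq_same] at e
    have d1 : d j = 1 := by simpa [bbo] using (e 1).symm
    exact ⟨s, d1, bbi _ _ (by simpa only [d1, one_mul, bb1] using (e w).symm)⟩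
  obtain rfl : σ = 1 := Equiv.ext fun j => by
    by_cases n : j = i
    · exact n ▸ by_contra fun s => s (σ.injective (B _ s).1)
    · exact (B j n).1
  obtain ⟨j, n⟩ := exists_ne i
  obtain rfl : ε = 1 := by
    have := h.kc c m (by decide)
    rw [this, ← congrFun this j, (B j n).2.2]; rfl
  have e : ∀ v, ρ a v = sd i (d i) * v := fun v => by
    rw [m.dg]; congr 1; ext1 j
    by_cases n : j = i
    · rw [n, sd_i]
    · rw [sd_j _ n, (B j n).2.1]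
  by_cases n : d i = 1
  · rw [h.oQ (O_og _) ha.1 (h.triv c fun v => by rw [e, n, sd_one, one_mul])]; exact one_mem _
  have k' : Rt z ρ i a := ⟨c, h.oQ (O_og _) (mul_mem (mul_mem ha.1 ha.1) ha.1) (h.cub c (sd_W4 i (m.ne i)) e), _, m.ne i, n, e⟩
  have B : ∀ a ∈ O(C[x]), Commute z a → (∀ v, ρ a v = ρ x v) → a ∈ zpowers x := fun a ha c e => by
    rw [← inv_mul_eq_one.1 (h.oQ (O_og _) (mul_mem (inv_mem (xO k.x3 (mem_zpowers x))) ha) (h.triv' k.c c fun v => (e v).symm))]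
    exact mem_zpowers x
  exact (h.rpm k k').elim (B a ha.1 c) fun e => inv_mem_iff.1 (B _ (inv_mem ha.1) c.inv_right e)

theorem iso0 (hg : g ∈ C[x]) (c : Commute z (g * z * g⁻¹)) : g * z * g⁻¹ = z := by
  have cx : Commute (g * z * g⁻¹) x := mem_cent1.1 (mul_mem (mul_mem hg (mem_cent1.2 k.c)) (inv_mem hg))
  obtain ⟨d, σ, e, s, m⟩ := h.ev c
  have k' := h.rconj c m k
  rw [cx.eq, mul_inv_cancel_right] at k'
  obtain rfl : σ = 1 := s.2.resolve_right fun n => n i (ridx k' k)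
  obtain ⟨ω, w0, w1, f⟩ := k.ex
  have e1 := congrFun (h.rcm c k.c cx t0) i
  rw [f, f, Pi.mul_apply, sd_i, ← Perm.one_apply i, m.eq, m.eq, Pi.mul_apply, Perm.one_apply, sd_i] at e1
  obtain rfl := (by decide : ∀ (d ω : F4) e, d ≠ 0 → ω ≠ 0 → ω ≠ 1 → d * bb e (ω * 1) = ω * (d * bb e 1) → e = 1) _ _ _
    (m.ne i) w0 w1 e1
  have q : g * z * g⁻¹ ∈ Q := by
    have := h.cub c m.ne (Mo.dg m)
    rwa [(h.J g).zz, one_mul] at this
  by_contra n
  exact h.wt q n i (h.rfx k (h.fx k.c q cx.symm))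

theorem iso : ⁅C[x], zpowers z⁆ ≤ O(C[x]) := H17.HT.zs' (mem_cent1.2 k.c) h.zz fun _ => h.iso0 k

theorem o1 (ha : a ∈ O(C[x])) : z * a * z⁻¹ * a ∈ zpowers x := by
  obtain ⟨n, hn, c, hc, e1, e2, rfl⟩ := dec (O_og C[x]) (Oc_norm _ _ (mem_cent1.2 k.c)) h.zz ha
  have m := h.oz k ⟨hc, e2⟩
  rw [← conj_mul, e1, ← mem_cent1.1 e2, mul_inv_cancel_right, ← mul_assoc, mul_assoc n⁻¹, ← (OC hn m).eq,
    inv_mul_cancel_left]
  exact mul_mem m m

theorem ocm (ha : a ∈ O(C[x])) (hb : b ∈ O(C[x])) : ⁅a, b⁆ ∈ zpowers x := by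
  have m1 := h.o1 k (inv_mem ha)
  have m2 := h.o1 k (inv_mem hb)
  have m3 := h.o1 k (mul_mem (inv_mem ha) (inv_mem hb))
  have e : z * (a⁻¹ * b⁻¹) * z⁻¹ * (a⁻¹ * b⁻¹) = z * a⁻¹ * z⁻¹ * a⁻¹ * (a * (z * b⁻¹ * z⁻¹ * b⁻¹)) * (b * a⁻¹ * b⁻¹) := by group
  rw [e, (OC ha m2).eq, ← mul_assoc _ _ a, mul_assoc _ a] at m3
  simpa [commutatorElement_def, mul_assoc] using (mul_mem_cancel_left (mul_mem m1 m2)).1 m3

end Lc

theorem core (h : L81 Q z π ρ) (h' : L81 Q' y π' ρ') (hy : Commute z y) (io : Io (ρ y)) (io' : Io (ρ' z))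
    (k : Rt z ρ i x) (yx : y * x * y⁻¹ = x⁻¹) (nc : ¬ C[x] ≤ C[z]) (j : Fin 4) :
    ∃ u ∈ O(C[x]), Rt y ρ' j u ∧ z * u * z⁻¹ = u⁻¹ := by
  have yy := h'.zz
  have ho := O_og C[x]
  have iv : ∀ u ∈ O(C[x]) ⊓ C[y], z * u * z⁻¹ = u⁻¹ := fun u hu => by
    have m := h.o1 k hu.1
    obtain ⟨n, e⟩ := mem_zpowers_iff.1 m
    refine eq_inv_of_mul_eq_one_left (ho.eq_one (xO k.x3 m) (mul_eq_one_iff_eq_inv.2 ?_))
    have c : Commute y (z * u * z⁻¹ * u) := ((hy.symm.mul_right (cy hu)).mul_right hy.symm.inv_right).mul_right (cy hu)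
    rw [← e] at c ⊢
    rw [← inv_zpow, ← yx, conj_zpow, c.eq, mul_inv_cancel_right]
  choose a ma aa ya a0 a1 _ using h.exw hy io fun p c e => h'.nsq c (e ▸ io')
  choose q mq eq using fun j => h.surj (w • π (a j))
  have B1 : ∀ m, bv (π (q m)) (π (a m)) = 1 := fun m => by
    obtain ⟨l, b, n, e⟩ := W1.eq ⟨m, a0 m, a1 m⟩
    rw [eq, e]; exact (u2.1 l b n).1
  have A0 : ∀ m n, bv (π (a m)) (π (a n)) = 0 := fun m n => by
    by_cases e : m = n
    · rw [e, qsV.bs]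
    · exact bv0 fun l => (ne_or_eq l m).imp (a1 m l) fun s => a1 n l (s.trans_ne e)
  have B0 : ∀ m n, m ≠ n → bv (π (q m)) (π (a n)) = 0 := fun m n e => bv0 fun l => (ne_or_eq l m).imp
    (fun s => by rw [eq, Pi.smul_apply, a1 m l s, smul_zero]) fun s => a1 n l (s.trans_ne e)
  have c0 : ∀ g ∈ Q, ∀ b ∈ Q, bv (π g) (π b) = 0 → g * b * g⁻¹ = b := fun g hg b hb e => by
    rw [((h.cm g hg b hb).2 e).eq, mul_inv_cancel_right]
  have nO : ∀ g ∈ Q, π g i = 0 → g ∈ N(O(C[x])) := fun g hg e => Oc_norm _ _ (mem_cent1.2 (h.rcQ k hg e).symm)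
  have ab : ∀ m n, π (a m * a n) = π (a m) + π (a n) := fun m n => h.add _ (ma m) _ (ma n)
  have qb : ∀ m n, π (q m * q n) = π (q m) + π (q n) := fun m n => h.add _ (mq m) _ (mq n)
  have cb : ∀ m n, y * (a m * a n) * y⁻¹ = a m * a n := fun m n => by
    rw [← conj_mul, ya, ya, (h.zc (ma m)).symm.mul_mul_mul_comm, h.zz, one_mul]
  have nb : ∀ m n, m ≠ i → n ≠ i → a m * a n ∈ N(O(C[x])) ⊓ C[y] := fun m n s s' =>
    ⟨nO _ (mul_mem (ma m) (ma n)) (by rw [ab, Pi.add_apply, a1 m i s.symm, a1 n i s'.symm, add_zero]),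
      mem_cent1.2 (mul_inv_eq_iff_eq_mul.1 (cb m n)).symm⟩
  have nq : ∀ m n, m ≠ i → n ≠ i → q m * q n ∈ N(O(C[x])) := fun m n s s' => nO _ (mul_mem (mq m) (mq n)) (by
    rw [qb, eq, eq, Pi.add_apply, Pi.smul_apply, Pi.smul_apply, a1 m i s.symm, a1 n i s'.symm, smul_zero, add_zero])
  have sb : ∀ m n, a m * a n * (a m * a n) = 1 := fun m n => by
    rw [((h.cm _ (ma n) _ (ma m)).2 (A0 n m)).mul_mul_mul_comm, aa, aa, h.zz]
  have zq : ∀ g ∈ Q, g * z * g⁻¹ = z := fun g hg => by rw [← (h.zc hg).eq, mul_inv_cancel_right]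
  have yq : ∀ m, ρ y (π (q m)) + π (q m) = π (a m) := fun m => funext fun l => by
    obtain ⟨d, mo⟩ := io
    have := congrFun ((h.conj y hy _ (ma m)).symm.trans (by rw [ya, h.pzm (ma m)])) l
    rw [mo.io] at this
    rw [eq, Pi.add_apply, mo.io, Pi.smul_apply, smul_eq_mul, map_mul, mul_left_comm, this, ← add_mul, add_comm, H10.Y.wbar,
      one_mul]
  have yg : ∀ m n, q m * q n * y * (q m * q n)⁻¹ = a m * a n * y ∨ q m * q n * (z * y) * (q m * q n)⁻¹ = a m * a n * y :=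
    fun m n => cos' h.toM hy (mul_mem (ma m) (ma n)) (mul_mem (mq m) (mq n)) (by
      rw [qb, ab, map_add, add_add_add_comm, yq, yq])
  have ay : ∀ m, a m * y * (a m)⁻¹ = z * y := fun m => by
    rw [mul_inv_eq_iff_eq_mul, mul_assoc, mul_inv_eq_iff_eq_mul.1 (ya m), ← mul_assoc, ← mul_assoc, h.zz, one_mul]
  obtain ⟨l, m, n, s1, s2, s3, s4, s5, s6⟩ := u2.2.1 i
  have ny : y ∈ N(O(C[x])) := norm_le_norm_Oc _ _ (mem_norm_of_cj_le (by
    rw [cj_cent1, yx]; exact cent1_le_cent1_of_mem_zpowers (by simp)))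
  have nz : z ∈ N(O(C[x])) := Oc_norm _ _ (mem_cent1.2 k.c)
  have na := nO _ (ma l) (a1 l i s1.symm)
  have c81 := eig ho iv (fun e => nc fun g hg => ?_) (nb l m s1 s2) (nb m n s2 s3) (sb l m) (sb m n)
    (c0 _ (mul_mem (ma _) (ma _)) _ (mul_mem (ma _) (ma _)) (by simp only [ab, qsV.badd, qsV.badd', A0, add_zero]))
    na (zq _ (ma l)) (ay l)
    (c0 _ (ma _) _ (mul_mem (ma _) (ma _)) (by simp only [ab, qsV.badd', A0, add_zero]))
    (c0 _ (ma _) _ (mul_mem (ma _) (ma _)) (by simp only [ab, qsV.badd', A0, add_zero]))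
    (nq l m s1 s2) (zq _ (mul_mem (mq _) (mq _))) (yg l m)
    (c0 _ (mul_mem (mq _) (mq _)) _ (mul_mem (ma _) (ma _)) (by
      simp only [ab, qb, qsV.badd, qsV.badd', B1, B0 _ _ s4, B0 _ _ s4.symm]; rfl))
    (h.cjz (mul_mem (mq _) (mq _)) (mul_mem (ma _) (ma _)) (by
      simp only [ab, qb, qsV.badd, qsV.badd', B1, B0 _ _ s4, B0 _ _ s5, B0 _ _ s6]; decide))
    (nq m n s2 s3) (zq _ (mul_mem (mq _) (mq _))) (yg m n)
    (h.cjz (mul_mem (mq _) (mq _)) (mul_mem (ma _) (ma _)) (by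
      simp only [ab, qb, qsV.badd, qsV.badd', B1, B0 _ _ s4.symm, B0 _ _ s5.symm, B0 _ _ s6.symm]; decide))
    (c0 _ (mul_mem (mq _) (mq _)) _ (mul_mem (ma _) (ma _)) (by
      simp only [ab, qb, qsV.badd, qsV.badd', B1, B0 _ _ s6, B0 _ _ s6.symm]; rfl))
  swap
  · have e' : O(C[x]) ⊓ C[z * y] = ⊥ := by rw [← ay l, ← cj_cent1, ← cj_of_mem_norm na, ← cj_inf, e, cj_bot]
    have m := h.iso k (commutator_mem_commutator hg (mem_zpowers z))
    have f1 := H0.inverts_of_fpf (og_iff.1 ho) yy ny e m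
    have f2 := H0.inverts_of_fpf (og_iff.1 ho) (by rw [hy.symm.mul_mul_mul_comm, h.zz, yy, one_mul]) (mul_mem nz ny) e' m
    rw [← cc, f1, ← conj_inv, inv_inj, mul_inv_eq_iff_eq_mul] at f2
    refine H17.GS.conj_mem_cent1.2 (h.iso0 k hg ?_)
    rw [← inv_mul_cancel_right (g * z * g⁻¹) z]
    exact (show Commute z ⁅g, z⁆ from f2).mul_right (Commute.refl z)
  have T1 : ∀ u ∈ O(C[x]) ⊓ C[y], ∀ d σ ε, Mo (ρ' u) d σ ε → σ = 1 := fun u hu d σ ε mo => by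
    obtain ⟨n, e⟩ := osq ho hu.1
    have hu' := pow_mem hu n
    obtain ⟨d, τ, η, mo'⟩ := h'.mono (cy hu')
    obtain ⟨_, mz⟩ := io'
    have := ((h'.mm hy.symm (cy hu') mz mo').uniq (by
      rw [mul_inv_eq_iff_eq_mul.1 (iv _ hu')]; exact h'.mm (cy hu').inv_right hy.symm (h'.mi (cy hu') mo') mz)).1
    rw [(mo.uniq (e ▸ h'.mm (cy hu') (cy hu') mo' mo')).1]
    exact mul_eq_one_iff_eq_inv.2 (by simpa using this)
  have T2 : ∀ u ∈ O(C[x]) ⊓ C[y], ∃ d, W4 d ∧ ∀ v, ρ' u v = d * v := fun u hu => by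
    obtain ⟨n, e⟩ := osq ho hu.1
    have hu' := pow_mem hu n
    obtain ⟨d, τ, η, mo'⟩ := h'.mono (cy hu')
    obtain rfl := T1 _ hu' _ _ _ mo'
    have := e ▸ h'.mm (cy hu') (cy hu') mo' mo'
    simp only [mul_one, Perm.one_apply, Int.units_mul_self] at this
    exact ⟨_, this.ne, Mo.dg this⟩
  choose f f1 f2 using T2
  have inj : Function.Injective fun u : ↥(O(C[x]) ⊓ C[y]) => (⟨f u u.2, f1 u u.2⟩ : {d : V // W4 d}) := fun u u' e =>
    Subtype.ext (inv_mul_eq_one.1 (h'.oQ ho (mul_mem (inv_mem u.2.1) u'.2.1) (h'.triv' (cy u.2) (cy u'.2) fun v => by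
      rw [f2 u u.2, f2 u' u'.2, show f u u.2 = f u' u'.2 from congrArg Subtype.val e])))
  obtain ⟨u, e⟩ := (inj.bijective_of_nat_card_le (cW4 ▸ c81)).2 ⟨_, sd_W4 j H10.Y.w0⟩
  have hu := pow_mem u.2 4
  exact ⟨_, hu.1, (h'.pw4 (cy u.2) H10.Y.w0 H10.Y.w1 fun v => by
    rw [f2 u u.2, show f u u.2 = _ from congrArg Subtype.val e]).1, iv _ hu⟩

/-- the toral data -/
structure Td (z : G) (ρ : G → V →+ V) (D : Subgroup G) (x' : G) : Prop where
  le : D ≤ C[z]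
  pg : PG 3 D
  ab : D ≤ C(D)
  ex : ∀ d, pr d = 1 → ∃ g ∈ D, ∀ v, ρ g v = d * v
  xc : x' ∈ C(D)
  x3 : x' * x' * x' = 1
  x1 : x' ≠ 1
  zx : z * x' * z⁻¹ = x'⁻¹

theorem L81.nc (h : L81 Q z π ρ) (T : Td z ρ D x') (k : Rt z ρ i x) : ¬ C[x] ≤ C[z] := fun H => by
  have cd : ∀ g ∈ D, Commute z g := fun g hg => (mem_cent1.1 (T.le hg)).symm
  have dg : ∀ n, Commute z n → n ∈ C(D) → ∃ d, W4 d ∧ ∀ v, ρ n v = d * v := fun n c hn => by
    obtain ⟨d, σ, ε, m⟩ := h.mono c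
    have B := fun i => u2.2.2.1 i (σ i) (ε i) fun δ hδ => by
      obtain ⟨g, hg, e⟩ := T.ex δ hδ
      have := congrFun (h.rcm (cd g hg) c (hn g hg) t0) (σ i)
      rw [e, e, Pi.mul_apply, m.t0, m.eq, mul_comm, t0, mul_one] at this
      exact (mul_left_cancel₀ (m.ne i) this).symm
    obtain rfl : σ = 1 := Equiv.ext fun i => (B i).1
    obtain rfl : ε = 1 := funext fun i => (B i).2
    exact ⟨d, m.ne, m.dg⟩
  obtain ⟨ω, w0, w1, f⟩ := k.ex
  obtain ⟨n, hn, e⟩ := exists_mul_mem_cent (A := D) (H := Q) (k := x) (T.le.trans h.le.norm)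
    (h.le.es.pg.coprime (T.pg.sing_ne (by decide))) (.inr h.le.es.pg.sol) fun a ha => by
      obtain ⟨d, -, e⟩ := dg a (cd a ha) (T.ab ha)
      have c := cd a ha
      exact h.triv (((c.mul_right k.c).mul_right c.inv_right).mul_right k.c.inv_right) fun v => by
        rw [h.rmul ((c.mul_right k.c).mul_right c.inv_right) k.c.inv_right, h.rmul (c.mul_right k.c) c.inv_right,
          h.rmul c k.c, e, f, mul_left_comm, ← e, h.rinv' c, ← f, h.rinv' k.c]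
  obtain ⟨k1, f1⟩ := h.pw4 ((h.zc hn).mul_right k.c) w0 w1 fun v => by rw [h.rmul (h.zc hn) k.c, h.rQ hn, f]
  replace e := pow_mem e 4
  generalize (n * x) ^ 4 = s at *
  obtain ⟨b, hb, -, e1⟩ := h.rcj k k1 fun v => by rw [f1, f]
  have H1 : C[s] ≤ C[z] := by rw [← e1, ← cj_cent1]; exact cj_le_of_mem (h.le.es.le_cent hb) H
  have p3 : ∀ {x : G}, x * x * x = 1 → PG 3 (zpowers x) := fun x3 => pg_of_pow Nat.prime_three (by
    rintro _ ⟨k, rfl⟩
    rw [← zpow_natCast, ← zpow_mul, mul_comm, zpow_mul, zpow_natCast, pow_three', x3, one_zpow])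
  have pA : ∀ {x : G}, x * x * x = 1 → x ∈ C(D) → PG 3 (D ⊔ zpowers x : Subgroup G) ∧ D ⊔ zpowers x ≤ C(D) := fun x3 m =>
    ⟨T.pg.sup (p3 x3) (norms_of_cents (zpowers_le.2 m)), sup_le T.ab (zpowers_le.2 m)⟩
  have ms : s ∈ D ⊔ zpowers s := mem_sup_right (mem_zpowers s)
  have uz : ∀ a ∈ C(D), Commute z a → a * a = 1 → a = 1 ∨ a = z := fun a ha c aa => by
    obtain ⟨d, hd, e⟩ := dg a c ha
    have q := h.cub c hd e
    rw [aa, one_mul] at q
    refine (h.ker a q).1 (funext fun j => by_contra fun n => ?_)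
    obtain ⟨δ, a1, a2⟩ := u2.2.2.2 j
    obtain ⟨g, hg, e⟩ := T.ex δ a1
    exact a2 (mul_right_cancel₀ n ((congrFun ((e _).symm.trans (h.fx (cd g hg) q (ha g hg))) j).trans (one_mul _).symm))
  have nz : ∀ n ∈ N(D ⊔ zpowers s), Commute z n := fun n hn => by
    have m : n * z * n⁻¹ ∈ C(D ⊔ zpowers s) := conj_mem_of_norm (norms_cent le_rfl hn)
      (le_cent1_iff.1 (sup_le T.le (zpowers_le.2 (mem_cent1.2 k1.c.symm))))
    exact (mul_inv_eq_iff_eq_mul.1 ((uz _ (cent_mono le_sup_left m) (mem_cent1.1 (H1 (cent_le_cent1 ms m))).symm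
      (h.J n).zz).resolve_left (h.J n).z1)).symm
  have gen : ∀ P, PG 3 P → D ≤ P → ∀ a ∈ P, ∀ b ∈ P, ∀ d e, Commute z a → Commute z b → W4 d → W4 e → pr e ≠ 1 →
      (∀ v, ρ a v = d * v) → (∀ v, ρ b v = e * v) → a ∈ D ⊔ zpowers b := fun P hP l a ha b hb d e ca cb hd he n ea eb => by
    have B : ∀ c ∈ zpowers b, ∀ u, W4 u → (∀ v, ρ c v = u * v) → pr d = pr u → a ∈ D ⊔ zpowers b := fun c hc u hu ec s => by
      obtain ⟨g, hg, eg⟩ := T.ex (d * pu io u) (by rw [pr_mul, pr_io, s, cube _ (pr_W4.2 hu)])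
      have cc : Commute z c := (mem_cent1.1 (zpowers_le.2 (mem_cent1.2 cb.symm) hc)).symm
      rw [← inv_mul_eq_one.1 (h.oQ (H17.GS.og_of_pg hP (by decide))
        (mul_mem (inv_mem (mul_mem (l hg) (zpowers_le.2 hb hc))) ha) (h.triv' ((cd g hg).mul_right cc) ca fun v => by
          rw [h.rmul (cd g hg) cc, eg, ec, ← mul_assoc, io_mul hu, ea]))]
      exact mul_mem_sup hg hc
    rcases (by decide : ∀ a b : F4, a ≠ 0 → b ≠ 0 → b ≠ 1 → a = pr 1 ∨ a = b ∨ a = b * b) _ _ (pr_W4.2 hd) (pr_W4.2 he) n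
      with s | s | s
    · exact B 1 (one_mem _) 1 (by decide) (fun v => by rw [h.r1, one_mul]) s
    · exact B b (mem_zpowers b) e he eb s
    · exact B (b * b) (mul_mem (mem_zpowers b) (mem_zpowers b)) (e * e) (fun i => mul_ne_zero (he i) (he i))
        (fun v => by rw [h.rmul cb cb, eb, eb, mul_assoc]) (by rw [pr_mul, s])
  obtain ⟨P, hP, l⟩ := (pA k1.x3 e).1.exists_syl (pA k1.x3 e).2
  obtain rfl : D ⊔ zpowers s = P := by
    by_contra n
    obtain ⟨a, ha, n⟩ := SetLike.exists_of_lt (hP.pi.lt_norm (lt_of_le_of_ne l n))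
    obtain ⟨d, hd, ea⟩ := dg a (nz a ha.2) (hP.le ha.1)
    exact n (gen P hP.pi (le_sup_left.trans l) a ha.1 s (l ms) d _ (nz a ha.2) k1.c hd (sd_W4 i w0)
      (by rwa [(u2.1 i ω w0).2]) ea f1)
  obtain ⟨g, hg, l⟩ := hP.scj_le (pA T.x3 T.xc).2 (pA T.x3 T.xc).1
  have m := l (conj_mem_cj.2 (mem_sup_right (mem_zpowers x')))
  have cz := nz _ (le_normalizer m)
  have gz : g * z * g⁻¹ ∈ C(D) := mul_mem (mul_mem hg (le_cent1_iff.1 T.le)) (inv_mem hg)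
  have iv : g * z * g⁻¹ * (g * x' * g⁻¹) * (g * z * g⁻¹)⁻¹ = (g * x' * g⁻¹)⁻¹ := by rw [conj_inv (a := x'), ← T.zx]; group
  have fin : ¬ Commute (g * z * g⁻¹) (g * x' * g⁻¹) := fun c => T.x1 (by
    rw [c.eq, mul_inv_cancel_right, conj_inv, mul_left_inj, mul_right_inj] at iv
    rw [← T.x3, mul_eq_one_iff_eq_inv.2 iv, one_mul])
  obtain ⟨d, hd, ed⟩ := dg _ cz (hP.le m)
  by_cases n : pr d = 1
  · obtain ⟨a, ha, ea⟩ := T.ex d n
    exact fin (inv_mul_eq_one.1 (h.oQ (H17.GS.og_of_pg hP.pi (by decide)) (mul_mem (inv_mem (mem_sup_left ha)) m)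
      (h.triv' (cd a ha) cz fun v => by rw [ea, ed])) ▸ (show Commute a _ from gz a ha).symm)
  have e2 : D ⊔ zpowers s = D ⊔ zpowers (g * x' * g⁻¹) := le_antisymm (sup_le le_sup_left (zpowers_le.2
    (gen _ hP.pi le_sup_left s ms _ m _ d k1.c cz (sd_W4 i w0) hd n f1 ed))) (sup_le le_sup_left (zpowers_le.2 m))
  have c2 := nz (g * z * g⁻¹) (e2 ▸ mem_norm_of_cj_le (by
    rw [cj_sup, cj_of_mem_cent gz, cj_zpowers, iv, zpowers_inv]))
  exact fin (((uz _ gz c2 (h.J g).zz).resolve_left (h.J g).z1).symm ▸ cz)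

end H14.P8
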