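import Cfsg.Agent.H14.P86
import Cfsg.Agent.H14.P87
import Cfsg.Agent.H11.OmegaOrder

/-! The two global cases. -/

set_option autoImplicit false
set_option linter.unusedSectionVars false
set_option synthInstance.maxSize 4000

open Subgroup
namespace H14.P8
open H10.Y (F4 w bar tr M NW Et cy cube barbar f4)
open Equiv (Perm swap)
open H19 hiding eq_bot_mono
open H17.GS (OG O_og og_iff Sim Comp Lay Lay_le_iff)
open H17.HT (IsA)
open scoped H17.GS commutatorElement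

variable {G : Type*} [Group G] [Finite G] {Q Q' P A O D F L : Subgroup G} {z t g g0 a b c x x' y y' p r : G} {π π' : G → V}
  {ρ ρ' : G → V →+ V} {d d' u v : V} {σ τ : Perm (Fin 4)} {ε η : Fin 4 → ℤˣ} {γ : Γ} {i j : Fin 4} {ω : F4}

theorem nalt {X : Type*} [Group X] {m : ℕ} (h1 : (m + 2).factorial < 2 * Nat.card X) (h2 : 2 * Nat.card X < (m + 3).factorial)
    (n : ℕ) : ¬ IsA X n := fun ⟨e⟩ => by
  have c : Nat.card (Perm (Fin n)) = n.factorial := by rw [Nat.card_perm, Nat.card_eq_fintype_card, Fintype.card_fin]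
  rw [Nat.card_congr e.toEquiv] at h1 h2
  by_cases k : 2 ≤ n
  · have := Fin.nontrivial_iff_two_le.2 k
    rw [two_mul_nat_card_alternatingGroup, c] at h1 h2
    exact h2.not_ge (Nat.factorial_le (by_contra fun l => h1.not_ge (Nat.factorial_le (by omega))))
  · have := (Nat.le_of_dvd Nat.card_pos (card_subgroup_dvd_card (alternatingGroup (Fin n)))).trans
      (c.le.trans (Nat.factorial_le (show n ≤ 1 by omega)))
    have := Nat.factorial_le (show 2 ≤ m + 2 by omega)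
    simp only [Nat.factorial_one, Nat.factorial_two] at *
    omega

theorem Lc.fin (h : Lc Q z π ρ) (T : Tt Q z π ρ g0) (hF : Sim F) (na : ∀ n, ¬ IsA F n) (QF : Q ≤ F) (nF : C[z] ≤ N(F))
    (ha : a ∈ F) (e : a * z * a⁻¹ = g0 * z * g0⁻¹) : Cfsg.generalizedFittingSubgroup G = F := by
  have c0 : ∀ X, X ≤ C(F) → X = ⊥ := fun X k => (eq_bot_iff_forall _).2 fun x hx => by
    rcases h.le.es.mem_zp.1 (h.le.cent_eq.le (cent_mono QF (k hx))) with rfl | rfl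
    exacts [rfl, mem_bot.1 (hF.center.le ⟨QF h.zQ, k hx⟩)]
  have cF : Comp F (F ⊔ C[z]) := ⟨H1.SubnIn.of_le_normalizer le_sup_left (left_normal_sup nF).norm, hF.qs⟩
  obtain ⟨S, hS⟩ := exists_syl 2 C[z]
  have hS' := h.le.syl_top hS
  have hP := hS'.of_le (hS.le.trans le_sup_right : S ≤ F ⊔ C[z]) le_top
  rw [← H1.gfOf_top, H17.GS.gf_eq]
  refine H17.HT.holt_gf ((h.le.large_of_conj T.mem (T.ne h.toM)).2.2.2 _ (og_iff.1 (O_og ⊤)) (le_top.trans (Oc_norm _ _)))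
    le_top (P := F ⊔ C[z]) ?_ hF na hP ⟨h.le.le_syl hS h.zQ, QF h.zQ⟩ hS.le h.zz (inf_le_right.trans le_sup_right)
    fun g _ m => ?_
  · rw [c0 _ (cents_symm cF.cents_Fit), sup_bot_eq]
    refine cF.le_Lay.antisymm (Lay_le_iff.2 fun J hJ => by_contra fun n => H1.Quasisimple.ne_bot hJ.qs (c0 J ?_))
    exact hJ.cents cF fun e => n e.le
  obtain ⟨k, hk, l⟩ := hP.scj_le (zpowers_le.2 m) (H0.pg_zpowers (h.J g).zz)
  obtain ⟨k', hk', e'⟩ := h.ctl T le_sup_right (mem_sup_left ha) e (g := k * g)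
    (cc k g z ▸ (mem_cent1.1 (hS.le (l (conj_mem_cj.2 (mem_zpowers _))))).symm)
  obtain ⟨f, hf, c, hc, e2⟩ := (mem_sup_of_norm nF).1 (mul_mem (inv_mem hk) hk')
  refine ⟨f, hf, ?_⟩
  nth_rewrite 1 [← cjx (mem_cent1.1 hc)]
  rw [cc, ← e2, ← cc, e']
  group

theorem Lc.o0 (h : Lc Q z π ρ) (T : Tt Q z π ρ g0) (z0 : ∀ v, Zs Q z π v ↔ pr v = 1) (hL : Sim L) (QL : Q ≤ L)
    (QL' : cj g0 Q ≤ L) (dl : ∀ d, pr d = 1 → ∃ g ∈ L, Commute z g ∧ ∀ v, ρ g v = d * v)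
    (gen : L ≤ (L ⊓ C[z]) ⊔ cj g0 Q) : C[z] ≤ N(L) := by
  let E := closure {c | Commute z c ∧ ∃ d, W4 d ∧ ∀ v, ρ c v = d * v}
  have p1 : ∀ c, Commute z c → pr (ρ c t0) = 1 := fun c hc => (z0 _).1 (h.zc' hc ⟨g0, T.mem, T.ne h.toM, T.pt⟩)
  have EL : E ≤ L := (closure_le _).2 fun c ⟨hc, d, _, e⟩ => by
    obtain ⟨g, m, k, f⟩ := dl d (by simpa only [e, t0, mul_one] using p1 c hc)
    exact (mul_mem_cancel_left (inv_mem m)).1 (QL (h.triv' k hc fun v => by rw [e, f]))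
  have QE : Q ≤ E := fun a ha => subset_closure ⟨h.zc ha, 1, by decide, fun v => by rw [h.rQ ha, one_mul]⟩
  have nE : ∀ c, Commute z c → cj c E ≤ E := fun c hc => cj_le_iff.2 ((closure_le _).2 fun x ⟨hx, d', hd, e⟩ => by
    obtain ⟨d, σ, ε, m⟩ := h.mono hc
    have := h.mm (hc.mul_right hx) hc.inv_right (h.mm hc hx m (mo_dg hd e)) (h.mi hc m)
    simp only [mul_one, mul_inv_cancel, Perm.one_apply, Pi.one_apply, Int.units_mul_self] at this
    exact mem_cj_inv.2 (subset_closure ⟨(hc.mul_right hx).mul_right hc.inv_right, _, this.ne, Mo.dg this⟩))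
  have nL : C[z] ≤ N(E ⊔ cj g0 Q) := fun c hc => mem_norm_of_cj_le (by
    replace hc := (mem_cent1.1 hc).symm
    obtain ⟨g, k, f⟩ := h.d0 _ (p1 c hc)
    have gE : g ∈ E := subset_closure ⟨k, _, pr_W4.1 (p1 c hc ▸ one_ne_zero), f⟩
    obtain ⟨q, hq, e⟩ : ∃ q ∈ E, q * g0 * z * (q * g0)⁻¹ = c * g0 * z * (c * g0)⁻¹ := by
      rcases h.eq_of (h.cQ hc T.mem).1 (h.cQ k T.mem).1 (by
        rw [(h.cQ hc T.mem).2.1, (h.cQ k T.mem).2.1, T.pt, f, t0, mul_one]) with e | e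
      · exact ⟨g, gE, e.symm⟩
      obtain ⟨a, ha, e'⟩ := h.le.es.exists_conj T.mem (h.nw T.mem (T.ne h.toM)).lp.notMem
      exact ⟨g * a, mul_mem gE (QE ha), by rw [e, ← cc, ← cc, ← cc, e', ← (h.zc T.mem).eq, ← conj_mul, cjx k.symm]⟩
    rw [cj_sup, cj_cj, ← h.le.cj_eq e, ← cj_cj]
    exact sup_le ((nE c hc).trans le_sup_left) (cj_le_of_mem (mem_sup_left hq) le_sup_right))
  rwa [← (hL.cases (sup_le EL QL') (gen.trans (sup_le (inf_le_right.trans nL) (norms_of_le le_sup_right)))).resolve_left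
    fun e => h.z1 (mem_bot.1 (e.le (mem_sup_left (QE h.zQ))))]

theorem RtJ : Rt (g * z * g⁻¹) (fun x => ρ (g⁻¹ * x * g)) i x ↔ Rt z ρ i (g⁻¹ * x * g) :=
  ⟨fun k => ⟨cJ' k.c, by simpa using c3' k.x3 g⁻¹, k.ex⟩, fun k =>
    ⟨by simpa [mul_assoc] using cJ k.c g, by simpa [mul_assoc] using c3' k.x3 g, k.ex⟩⟩

/-- the root elements inverted by the four-group -/
def Rr (z : G) (ρ : G → V →+ V) (g : Fin 3 → G) (a : Fin 3) (i : Fin 4) (x : G) : Prop :=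
  Rt (g a * z * (g a)⁻¹) (fun x => ρ ((g a)⁻¹ * x * g a)) i x ∧
    ∀ b, a ≠ b → g b * z * (g b)⁻¹ * x * (g b * z * (g b)⁻¹)⁻¹ = x⁻¹

section
variable {g : Fin 3 → G} (h : L81 Q z π ρ) (T : Td z ρ D x')
  (tc : ∀ a b, Commute (g a * z * (g a)⁻¹) (g b * z * (g b)⁻¹))
  (tm : ∀ {a b c}, a ≠ b → a ≠ c → b ≠ c → g a * z * (g a)⁻¹ * (g b * z * (g b)⁻¹) = g c * z * (g c)⁻¹)
  (io : ∀ a b, a ≠ b → Io (ρ ((g a)⁻¹ * (g b * z * (g b)⁻¹) * g a)))
include tm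

theorem oth {a b : Fin 3} (k : Rt (g a * z * (g a)⁻¹) (fun x => ρ ((g a)⁻¹ * x * g a)) i x) (n : a ≠ b)
    (e : g b * z * (g b)⁻¹ * x * (g b * z * (g b)⁻¹)⁻¹ = x⁻¹) : Rr z ρ g a i x := ⟨k, fun c m => by
  by_cases s : b = c
  · exact s ▸ e
  · rw [← tm n m s, ← cc, e, cjx k.c.inv_right]⟩

include h T tc io

theorem L81.d4 : D4 (fun a => g a * z * (g a)⁻¹) (Rr z ρ g) := by
  have ns : ∀ a b, a ≠ b → ∀ p, Commute (g b * z * (g b)⁻¹) p → p * p ≠ g a * z * (g a)⁻¹ := fun a b n p c e =>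
    (h.J (g b)).nsq c (e ▸ io b a n.symm)
  have op : ∀ {a b i x}, Rr z ρ g a i x → a ≠ b → ∃ y, Pp (fun a => g a * z * (g a)⁻¹) (Rr z ρ g) a b i x y :=
    fun {a b i x} k n => by
      obtain ⟨y, k1, k2, o, u, -⟩ := (h.J (g a)).pair (tc a b) (io a b n) (ns a b n) k.1 (k.2 b n)
      exact ⟨y, k, oth tm k1 n k2, o.br, o.sq, o.cj, fun r l => u r l.1 (l.2 b n)⟩
  have co : ∀ {a b i x}, Rr z ρ g a i x → a ≠ b → ∀ j, ∃ u ∈ O(C[x]), Rr z ρ g b j u := fun {a b i x} k n j => by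
    obtain ⟨u, m, k1, k2⟩ := core (h.J (g a)) (h.J (g b)) (tc a b) (io a b n) (io b a n.symm) k.1 (k.2 b n) (fun l =>
      h.nc T (RtJ.1 k.1) fun p hp => mem_cent1.2 (show Commute p z by
        simpa [mul_assoc] using (cJ' (mem_cent1.1 (l (mem_cent1.2 (show Commute (g a * p * (g a)⁻¹) x by
          simpa [mul_assoc] using (show Commute _ _ from mem_cent1.1 hp).conj (g a))))).symm).symm)) j
    exact ⟨u, m, oth tm k1 n.symm k2⟩
  have inO : ∀ {a b i j x y}, Rr z ρ g a i x → Rr z ρ g b j y → b ≠ a → Commute x y → y ∈ O(C[x]) :=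
    fun {a b i j x y} k l n c => by
      obtain ⟨u, m, k1⟩ := co k n.symm j
      obtain ⟨v, e⟩ := op k1 n
      have A : Commute x v → v ∈ O(C[x]) := fun c => by
        rw [show v = u * v * u * (u * v)⁻¹ by rw [e.br]; group]
        exact (Oc_normal _ _).conj_mem (mul_mem (Oc_le _ _ m) (mem_cent1.2 c.symm)) m
      rcases e.un y l with rfl | rfl | rfl | rfl
      exacts [m, inv_mem m, A c, inv_mem (A (Commute.inv_right_iff.1 c))]
  refine ⟨fun a => (h.J _).zz, fun a => (h.J _).z1, tm, fun k => k.1.x3, fun k => ⟨(h.J _).rinv3 k.1, fun b n => by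
      rw [← conj_inv, k.2 b n]⟩, fun k l => ridx k.1 l.1, fun k => k.1.c, fun k => k.2 _, op,
    fun k l => (h.J _).rcm' k.1 l.1, fun {a b c w} ab ac e1 e2 => ?_, fun a i => ?_, fun k n j => ?_,
    fun k1 k2 k3 n1 n2 c1 c2 => (h.J _).ocm k3.1 (inO k3 k1 n1 c1) (inO k3 k2 n2 c2)⟩
  · have c : Commute z ((g c)⁻¹ * w * g b) := by
      rw [Commute, SemiconjBy]; nth_rewrite 1 [← jj (g c) z]; rw [← e2]; group
    obtain ⟨d, σ, ε, m⟩ := h.mono c
    refine ⟨σ, fun j x k => oth tm (RtJ.2 ?_) ac.symm ?_⟩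
    · convert h.rconj c m (RtJ.1 k.1) using 1; group
    · rw [← e1, conj_inv (a := x), ← k.2 a ab.symm]; group
  · obtain ⟨b, n⟩ := exists_ne a
    obtain ⟨x, k, e⟩ := (h.J (g a)).exR (tc a b) (h.J _).zz (io a b n.symm) i
    exact ⟨x, oth tm k n.symm e⟩
  · obtain ⟨u, m, l⟩ := co k n j
    exact ⟨u, l, (OC m (mem_zpowers _)).symm⟩

theorem L81.fin0 (T0 : Tt Q z π ρ g0) (e0 : g 0 = 1) (m0 : g0 * z * g0⁻¹ ∈ cj (g 1) Q) :
    Nonempty (Cfsg.generalizedFittingSubgroup G ≃* Cfsg.POmega (ZMod 3) (Cfsg.quadFormPlus 4 (ZMod 3))) := by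
  have d := h.d4 T tc tm io
  have ns : ∀ a b, a ≠ b → ∀ p, Commute (g b * z * (g b)⁻¹) p → p * p ≠ g a * z * (g a)⁻¹ := fun a b n p c e =>
    (h.J (g b)).nsq c (e ▸ io b a n.symm)
  set F := closure {x | ∃ a i, Rr z ρ g a i x}
  have mF : ∀ a i, Sb (Rr z ρ g) F a i := fun a i x k => subset_closure ⟨a, i, k⟩
  have YF : ∀ a, cj (g a) Q ≤ F ∧ Yz (g a * z * (g a)⁻¹) (fun x => ρ ((g a)⁻¹ * x * g a)) ≤ F := fun a => by
    obtain ⟨b, n⟩ := exists_ne a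
    exact (h.J (g a)).YP (tc a b) (h.J _).zz (io a b n.symm) (ns a b n.symm) fun i x k e => mF a i x (oth tm k n.symm e)
  have z0 : g 0 * z * (g 0)⁻¹ = z := by simp [e0]
  have QF : Q ≤ F := by simpa [e0, cj_one] using (YF 0).1
  obtain ⟨e⟩ := d.iso (P := F) (fun x _ m => by
    rcases h.le.es.mem_zp.1 (h.le.cent_eq.le (cent_mono QF m)) with rfl | rfl
    · rfl
    obtain ⟨y, k⟩ := d.ex 1 0
    have := k.2 0 (by decide)
    rw [z0, cjx (m y (mF _ _ y k)).symm] at this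
    exact ((h.J _).rne k.1 (by rw [← k.1.x3, mul_eq_one_iff_eq_inv.2 this, one_mul])).elim) mF
    fun A k => (closure_le _).2 fun x ⟨a, i, l⟩ => k a i x l
  have c : Nat.card F = 4952179814400 := by
    have := H11.card_pomegaPlus (F := ZMod 3) (m := 3) (by norm_num) (by norm_num)
    simp [Finset.prod_range_succ] at this
    rw [Nat.card_congr e.toEquiv]; omega
  have := H11.pomegaPlus_simple (F := ZMod 3) (m := 4) (by norm_num)
  have sF : Sim F := ⟨e.isSimpleGroup, fun k => by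
    obtain ⟨x, k1⟩ := d.ex 0 0
    obtain ⟨y, k2⟩ := d.op k1 (b := 1) (by decide)
    exact d.nc k2 (comm_iff_le_cent.1 k (mF _ _ y k2.ry) x (mF _ _ x k1))⟩
  have c1 := z0 ▸ tc 0 1
  have i1 : Io (ρ (g 1 * z * (g 1)⁻¹)) := by simpa [e0] using io 0 1 (by decide)
  obtain ⟨k, hk, ek⟩ := (h.J (g 1)).yc (tc 1 0) (h.J _).zz (io 1 0 (by decide)) (ns 1 0 (by decide))
    (y' := g0 * z * g0⁻¹ * z) (((h.J _).zc m0).mul_right c1.symm)
    (by rw [(h.zc T0.mem).mul_mul_mul_comm, (h.J _).zz, h.zz, one_mul]) ((h.J _).io_Q m0 c1.symm (z0 ▸ io 1 0 (by decide)))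
  obtain ⟨a, ha, ea⟩ := h.le.es.exists_conj T0.mem (h.nw T0.mem (T0.ne h.toM)).lp.notMem
  rw [h.fin T0 sF (nalt (m := 13) (by rw [c]; decide) (by rw [c]; decide)) QF (fun c hc => ?_)
    (mul_mem (inv_mem (QF ha)) ((YF 1).2 hk)) (by rw [← cc, ← z0, ek, z0, ← ea]; group)]
  · exact ⟨e⟩
  replace hc : Commute z c := (mem_cent1.1 hc).symm
  obtain ⟨k, hk, ek⟩ := h.yc c1 (h.J _).zz i1 (fun p c e => ns 0 1 (by decide) p c (e.trans z0.symm)) ((hc.mul_right c1).mul_right hc.inv_right)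
    (by rw [conj_mul, (h.J _).zz]; group) (h.io_cj hc c1 i1)
  have kF : k ∈ F := (YF 0).2 (by simpa [e0] using hk)
  refine (mul_mem_cancel_left (inv_mem (le_normalizer kF))).1 (mem_norm_of_cj_le (cj_le_iff.2 ((closure_le _).2 ?_)))
  have f0 : k⁻¹ * c * (g 0 * z * (g 0)⁻¹) * (k⁻¹ * c)⁻¹ = g 0 * z * (g 0)⁻¹ := by
    rw [z0, cjx ((Commute.inv_right (mem_cent1.1 (Yz_le hk)).symm).mul_right hc).symm]
  have f1 : k⁻¹ * c * (g 1 * z * (g 1)⁻¹) * (k⁻¹ * c)⁻¹ = g 1 * z * (g 1)⁻¹ := by rw [← cc, ← ek]; group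
  have f : ∀ a, k⁻¹ * c * (g a * z * (g a)⁻¹) * (k⁻¹ * c)⁻¹ = g a * z * (g a)⁻¹ := fun a => by
    fin_cases a
    exacts [f0, f1, by rw [← tm (a := 0) (b := 1) (by decide) (by decide) (by decide), ← conj_mul, f0, f1]]
  rintro x ⟨a, i, l⟩
  obtain ⟨b, n⟩ := exists_ne a
  obtain ⟨κ, s⟩ := d.tr n n (f b) (f a)
  exact mem_cj_inv.2 (mF _ _ _ (s i x l))

end

theorem L81.fin (h : L81 Q z π ρ) (T : Td z ρ D x') (T0 : Tt Q z π ρ g0) :
    Nonempty (Cfsg.generalizedFittingSubgroup G ≃* Cfsg.POmega (ZMod 3) (Cfsg.quadFormPlus 4 (ZMod 3))) := by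
  obtain ⟨r, c, e2, io, m⟩ := h.tri T0
  have yy : r * z * r⁻¹ * (r * z * r⁻¹) = 1 := (h.J r).zz
  have e3 : r * (z * (r * z * r⁻¹)) * r⁻¹ = z := by rw [← conj_mul, e2, ← mul_assoc, ← c.eq, mul_assoc, yy, mul_one]
  have io' := h.io_Q h.zQ c io
  have t0 : 1 * z * 1⁻¹ = z := by group
  have t2 : r * r * z * (r * r)⁻¹ = z * (r * z * r⁻¹) := by rw [← cc, e2]
  have zz := h.zz
  refine h.fin0 T (g := ![1, r, r * r]) (fun a b => ?_) (fun {a b c} k1 k2 k3 => ?_) (fun a b n => ?_) T0 rfl m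
  · have c1 := (Commute.refl z).mul_right c
    have c2 := c.symm.mul_right (Commute.refl _)
    fin_cases a <;> fin_cases b <;> simp only [Fin.zero_eta, Fin.mk_one, Fin.reduceFinMk, Matrix.cons_val, t0, t2]
    exacts [.refl _, c, c1, c.symm, .refl _, c2, c1.symm, c2.symm, .refl _]
  · fin_cases a <;> fin_cases b <;> fin_cases c <;> simp at k1 k2 k3 <;>
      simp only [Fin.zero_eta, Fin.mk_one, Fin.reduceFinMk, Matrix.cons_val, t0, t2] <;> generalize r * z * r⁻¹ = y at *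
    exacts [by rw [← mul_assoc, zz, one_mul], c.eq.symm, by rw [← mul_assoc, ← c.eq, mul_assoc, yy, mul_one],
      by rw [mul_assoc, ← c.eq, ← mul_assoc, zz, one_mul], by rw [mul_assoc, yy, mul_one]]
  have a1 : r⁻¹ * z * r = z * (r * z * r⁻¹) := by nth_rewrite 1 [← e3]; group
  have a2 : r⁻¹ * (z * (r * z * r⁻¹)) * r = r * z * r⁻¹ := by rw [← e2]; group
  fin_cases a <;> fin_cases b <;> simp only [Fin.zero_eta, Fin.mk_one, Fin.reduceFinMk, Matrix.cons_val, t0, t2] <;>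
    simp at n
  exacts [by simpa using io, by simpa using io', by rwa [a1], by rwa [a2],
    by rwa [show (r * r)⁻¹ * z * (r * r) = r⁻¹ * (r⁻¹ * z * r) * r by group, a1, a2],
    by rwa [show (r * r)⁻¹ * (r * z * r⁻¹) * (r * r) = r⁻¹ * z * r by group, a1]]

end H14.P8
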