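import Cfsg.Agent.H14.P88

/-! The local hypothesis from a subgroup of odd index. -/

set_option autoImplicit false
set_option linter.unusedSectionVars false
set_option synthInstance.maxSize 4000

open Subgroup
namespace H14.P8
open H10.Y (F4 w bar tr M NW Et cy cube barbar f4)
open Equiv (Perm swap)
open H19 hiding eq_bot_mono
open H17.GS (OG O_og og_iff Sim)
open scoped H17.GS commutatorElement

variable {G : Type*} [Group G] [Finite G] {Q Q' P R S D L : Subgroup G} {z t g g0 a b c x x' y : G} {π : G → V}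
  {ρ : G → V →+ V} {d d' u v : V} {σ : Perm (Fin 4)} {ε : Fin 4 → ℤˣ} {e : ℤˣ}

theorem dq (h : M Q z π ρ qv bv) (hP : PG 2 P) (m : x ∈ P) (c : Commute z x) (hd : W4 d) (e : ∀ v, ρ x v = d * v) :
    x ∈ Q := by
  have q : x ^ 3 ∈ Q := h.triv (c.pow_right 3) fun v => funext fun j => by
    rw [pow_three', h.rmul (c.mul_right c) c, h.rmul c c, e, e, e]
    simp only [Pi.mul_apply, ← mul_assoc, c3 _ (hd j), one_mul]
  exact zpowers_le.2 q (mem_zpowers_pow_iff.2 (((hP.elt m).sing_ne (q := 3) (by decide)).coprime_prime Nat.prime_three).symm)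
theorem cmd (h : M Q z π ρ qv bv) (hP : PG 2 P) (cx : Commute z x) (cy : Commute z y) (m : x * y * x⁻¹ * y⁻¹ ∈ P)
    (mx : Mo (ρ x) d σ ε) (my : Mo (ρ y) d' 1 fun _ => e) (v : V) : ρ y (ρ x v) = ρ x (ρ y v) := by
  have c1 := cx.mul_right cy
  have c2 := c1.mul_right cx.inv_right
  have := ((mx.mul my (h.rmul cx cy)).mul (mx.inv (h.rinv' cx)) (h.rmul c1 cx.inv_right)).mul (my.inv (h.rinv' cy))
    (h.rmul c2 cy.inv_right)
  simp only [mul_one, mul_inv_cancel, inv_one, Perm.one_apply,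
    (by decide : ∀ a e : ℤˣ, a * e * a * e = 1)] at this
  have q := dq h hP m (c2.mul_right cy.inv_right) this.ne (Mo.dg this)
  rw [← h.rmul cy cx, ← h.rmul cx cy, ← h.rQ q (ρ (y * x) v), ← h.rmul (h.zc q) (cy.mul_right cx)]
  congr 2; group

theorem u3 : ∀ i : Fin 4, ∃ δ δ' : V, pr δ = 1 ∧ pr δ' = 1 ∧ (∀ j, j ≠ i → δ j = 1 ∨ δ' j = 1) ∧ δ i ≠ 1 ∧ δ' i ≠ 1 ∧
    ∀ c, c ≠ 0 → ∃ d : V, pr d = 1 ∧ d i = c := by decide +kernel

namespace Lc
variable (h : Lc Q z π ρ)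
include h

theorem o2 : Oc {2} C[z] ≤ Q := fun r hr => by
  have c : Commute z r := (mem_cent1.1 (Oc_le _ _ hr)).symm
  obtain ⟨d, σ, ε, m⟩ := h.mono c
  have B := fun i => u2.2.2.1 i (σ i) (ε i) fun δ hδ => by
    obtain ⟨g, hg, e⟩ := h.d0 δ hδ
    have := congrFun (cmd h.toM (Oc_pi {2} C[z]) c hg (by
      rw [mul_assoc, mul_assoc, ← mul_assoc g]
      exact mul_mem hr ((Oc_normal _ _).conj_mem (mem_cent1.2 hg.symm) (inv_mem hr))) m
      (mo_dg (pr_W4.1 (hδ ▸ one_ne_zero)) e) t0) (σ i)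
    rw [e, e, Pi.mul_apply, m.t0, m.eq, mul_comm, t0, mul_one] at this
    exact (mul_left_cancel₀ (m.ne i) this).symm
  obtain rfl : σ = 1 := Equiv.ext fun i => (B i).1
  obtain rfl : ε = 1 := funext fun i => (B i).2
  exact dq h.toM (Oc_pi {2} C[z]) hr c m.ne m.dg

theorem a1 (α : G ≃* G) (e : α z = z) (hx : x ∈ Q) : α x ∈ Q :=
  h.o2 (le_Oc (K := Q.map α.toMonoidHom) ⟨by
    rintro _ ⟨y, hy, rfl⟩; exact mem_cent1.2 (e ▸ (h.zc hy).symm.map α : Commute (α y) z), fun c hc => mem_norm_of_cj_le (by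
      rintro _ ⟨_, ⟨y, hy, rfl⟩, rfl⟩
      exact ⟨_, h.nm (g := α.symm c) (α.injective (by simpa [e] using (mem_cent1.1 hc).symm)) hy, by simp⟩)⟩
    (h.le.es.pg.dvd (card_map_dvd _ _)) ⟨x, hx, rfl⟩)

theorem irr (l : R ≤ Q) (n : C[z] ≤ N(R)) (k : ∀ x ∈ Q, x ∈ C(R) → x ∈ R) : Q ≤ R := by
  have E : ∀ a ∈ R, ∀ b ∈ Q, π b = π a → b ∈ R := fun a ha b hb e => by
    rcases h.eq_of hb (l ha) e with rfl | rfl
    exacts [ha, mul_mem (k z h.zQ fun r hr => (h.zc (l hr)).symm) ha]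
  have F : ∀ δ, pr δ = 1 → ∀ a ∈ R, ∃ b ∈ R, π b = δ * π a := fun δ hδ a ha => by
    obtain ⟨g, hg, e⟩ := h.d0 δ hδ
    exact ⟨_, conj_mem_of_norm (n (mem_cent1.2 hg.symm)) ha, by rw [h.conj g hg a (l ha), e]⟩
  have A : ∀ i, ∀ b ∈ Q, (∀ j, j ≠ i → π b j = 0) → b ∈ R := fun i b hb e => by_contra fun m => m (k b hb fun r hr =>
    (h.cm r (l hr) b hb).2 (bv0 fun j => (eq_or_ne j i).imp (fun s => by_contra fun s' => m ?_) (e j)))
  · intro b hb
    choose s m e using fun i => h.surj (Pi.single i (π b i))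
    have k : ∀ i, s i ∈ R := fun i => A i _ (m i) fun j n => by rw [e, Pi.single_eq_of_ne n]
    refine E _ (mul_mem (k 0) (mul_mem (k 1) (mul_mem (k 2) (k 3)))) b hb ?_
    rw [h.add _ (m 0) _ (mul_mem (m 1) (mul_mem (m 2) (m 3))), h.add _ (m 1) _ (mul_mem (m 2) (m 3)), h.add _ (m 2) _ (m 3),
      e, e, e, e]
    ext1 j; fin_cases j <;> simp
  subst s
  obtain ⟨δ, δ', p1, p2, p3, p4, p5, p6⟩ := u3 j
  obtain ⟨r1, m1, e1⟩ := F δ p1 r hr
  obtain ⟨r2, m2, e2⟩ := F δ' p2 _ (mul_mem m1 hr)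
  have e3 : ∀ i, π (r2 * (r1 * r)) i = (δ' i + 1) * ((δ i + 1) * π r i) := fun i => by
    rw [h.add _ (l m2) _ (l (mul_mem m1 hr)), e2, h.add _ (l m1) _ (l hr), e1]; simp only [Pi.add_apply, Pi.mul_apply]; ring
  have n1 : π (r2 * (r1 * r)) j ≠ 0 := e3 j ▸ mul_ne_zero (fun k => p5 (H10.Y.feq.1 k)) (mul_ne_zero (fun k => p4 (H10.Y.feq.1 k)) s')
  by_cases b0 : π b j = 0
  · exact E 1 (one_mem _) b hb (funext fun i => by
      rw [h.p1]; by_cases k : i = j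
      exacts [k ▸ b0, e i k])
  obtain ⟨d, p7, p8⟩ := p6 _ (div_ne_zero b0 n1)
  obtain ⟨r3, m3, e4⟩ := F d p7 _ (mul_mem m2 (mul_mem m1 hr))
  refine E r3 m3 b hb (funext fun i => ?_)
  rw [e4, Pi.mul_apply]
  by_cases k : i = j
  · rw [k, p8, div_mul_cancel₀ _ n1]
  · rw [e i k, e3]; rcases p3 i k with k | k <;> simp [k, H10.Y.fadd]

end Lc

/-- the configuration inside a subgroup -/
structure Rp (L Q : Subgroup G) (z : G) (π : G → V) (ρ : G → V →+ V) (g0 : G) (D : Subgroup G) (x' : G) : Prop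
    extends M Q z π ρ qv bv where
  tt : Tt Q z π ρ g0
  td : Td z ρ D x'
  zs : ∀ b ∈ L, b * z * b⁻¹ ∈ Q → b * z * b⁻¹ ≠ z → pr (π (b * z * b⁻¹)) = 1
  gL : g0 ∈ L
  g2 : g0 * g0 = 1
  gen : L = Q ⊔ cj g0 Q ⊔ D

theorem exr (add : ∀ x ∈ Q, ∀ y ∈ Q, π (x * y) = π x + π y) (ker : ∀ x ∈ Q, π x = 0 ↔ x = 1 ∨ x = z)
    (surj : ∀ v, ∃ x ∈ Q, π x = v) (nm : ∀ x ∈ Q, g * x * g⁻¹ ∈ Q) (c : Commute z g) :
    ∃ f : V →+ V, ∀ x ∈ Q, π (g * x * g⁻¹) = f (π x) := by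
  choose s m e using surj
  have k : ∀ x ∈ Q, ∀ y ∈ Q, π x = π y → π (g * x * g⁻¹) = π (g * y * g⁻¹) := fun x hx y hy e => by
    have m := mul_mem hx (inv_mem hy)
    have := add _ m _ hy
    rw [inv_mul_cancel_right, e, right_eq_add, ker _ m] at this
    rw [← inv_mul_cancel_right x y, ← conj_mul, add _ (nm _ m) _ (nm _ hy), (ker _ (nm _ m)).2 (this.imp
      (fun e => by rw [e]; group) fun e => by rw [e, cjx c.symm]), zero_add]
  exact ⟨.mk' (fun v => π (g * s v * g⁻¹)) fun u v => by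
    rw [← add _ (nm _ (m u)) _ (nm _ (m v)), conj_mul]
    exact k _ (m _) _ (mul_mem (m u) (m v)) (by rw [add _ (m u) _ (m v), e, e, e]), fun x hx => k _ hx _ (m _) (e _).symm⟩

namespace Rp
variable (h : Rp L Q z π ρ g0 D x')
include h

theorem cd (hg : g ∈ D) : Commute z g := (mem_cent1.1 (h.td.le hg)).symm
theorem DL : D ≤ L := h.gen ▸ le_sup_right
theorem QL : Q ≤ L := h.gen ▸ le_sup_of_le_left le_sup_left
theorem p1 (hc : Commute z c) (n : c ∈ N(L)) (hv : pr v = 1) : pr (ρ c v) = 1 := by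
  obtain ⟨g, hg, e⟩ := h.td.ex v hv
  have c2 := hc.mul_right (h.cd hg)
  have e1 : c * (g * g0) * c⁻¹ * z * (c * (g * g0) * c⁻¹)⁻¹ = c * g * (g0 * z * g0⁻¹) * (c * g)⁻¹ := by
    nth_rewrite 2 [← cjx hc.symm.inv_left]; group
  have := h.zs _ (conj_mem_of_norm n (mul_mem (h.DL hg) h.gL)) (e1 ▸ h.nm c2 h.tt.mem) (e1 ▸ fun k => h.tt.ne h.toM (by
    rw [← jj (c * g) (g0 * z * g0⁻¹), k, mul_assoc, c2.eq, inv_mul_cancel_left]))
  rwa [e1, h.conj _ c2 _ h.tt.mem, h.tt.pt, h.rmul hc (h.cd hg), e, t0, mul_one] at this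

theorem lc (hS : Syl 2 S C[z]) (n : S ≤ N(L)) (l : cj g0 Q ⊓ C[z] ≤ S) : Lc Q z π ρ := by
  refine ⟨h.toM, fun d hd => let ⟨g, m, e⟩ := h.td.ex d hd; ⟨g, h.cd m, e⟩, fun P hP hl => ?_, _, h.tt⟩
  obtain ⟨c, hc, k⟩ := hS.scj_le hl hP
  replace hc : Commute z c := (mem_cent1.1 hc).symm
  refine ⟨c, hc, fun x hx => ?_⟩
  have cx : Commute z x := (mem_cent1.1 (hl hx)).symm
  have m := k (conj_mem_cj.2 hx)
  have cs := (hc.mul_right cx).mul_right hc.inv_right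
  have e : ∀ v, ρ c (ρ x v) = ρ (c * x * c⁻¹) (ρ c v) := fun v => by
    rw [← h.rmul cs hc, inv_mul_cancel_right, h.rmul hc cx]
  simp only [e]
  generalize c * x * c⁻¹ = s at *
  have p := fun v => h.p1 (v := v) cs.inv_right (inv_mem (n m))
  obtain ⟨d, σ, ε, mo⟩ := mono _ (fun _ _ => h.rinj cs) fun u hu => c0.2 ⟨h.rq cs u ▸ (c0.1 hu).1, fun v a b =>
    (c0.1 hu).2 _ (p v a) (by simpa only [map_add, h.rinv cs] using p _ b)⟩
  have d1 : pr d = 1 := by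
    have := h.p1 (v := t0) cs (n m) (by decide)
    rwa [mo.pr, show (fun i => bb (ε i) (t0 i)) = 1 from funext fun i => bbo _, show pr 1 = 1 by decide, mul_one] at this
  rw [cst (ε := ε) fun v hv => by simpa only [mo.pr, d1, one_mul] using h.p1 cs (n m) hv] at mo
  obtain ⟨y, hy, f⟩ := h.tt.ex io s4.2
  have := cmd h.toM hS.pi cs (cy hy) (mul_mem (mul_mem (mul_mem m (l hy)) (inv_mem m)) (inv_mem (l hy))) mo
    ((mo_pu io).congr f) t0
  rw [f, f, show pu io t0 = t0 by decide] at this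
  exact ⟨_, fun v => mo.pure (s4.1 _ (mo.w4 (by decide)) this) _⟩

theorem nw : NW Q z π ρ qv bv (cj g0 Q) (g0 * z * g0⁻¹) := ⟨h.toM, h.le.lp h.tt.mem (h.tt.ne h.toM)⟩
theorem cE (hx : x ∈ cj g0 Q) (H : ∀ e ∈ Q ⊓ cj g0 Q, Commute x e) : x ∈ Q := by
  have i := inv_eq_of_mul_eq_one_right h.g2
  have m := mem_cj.1 hx
  have s : ∀ e, e ∈ Q ↔ g0⁻¹ * e * g0 ∈ cj g0 Q := fun e => by
    rw [mem_cj, i, ← mul_assoc, ← mul_assoc, h.g2, one_mul, mul_assoc, h.g2, mul_one]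
  obtain ⟨c, hc, e⟩ := (h.tt.et _).2 ((by decide +kernel : ∀ v, (∀ u ∈ [vec 1 1 0 0, vec 1 0 1 0, t0, vec w w w w],
    RV u → bv v u = 0) → RV v) (π (g0⁻¹ * x * g0)) fun u _ k => by
      obtain ⟨c, hc, rfl⟩ := (h.tt.et u).2 k
      exact (h.cm _ m c hc.1).1 (by simpa [mul_assoc] using (H (g0 * c * g0⁻¹) ⟨by
        simpa [i] using mem_cj.1 hc.2, conj_mem_cj.2 hc.1⟩).conj g0⁻¹))
  rw [s]
  rcases h.eq_of m hc.1 e.symm with k | k <;> rw [k]
  exacts [hc.2, mul_mem h.nw.lp.zQ hc.2]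

theorem a2 (α : G →* G) (fx : ∀ x ∈ Q, α x = x) (mp : ∀ x ∈ cj g0 Q, α x ∈ cj g0 Q) :
    ∃ u ∈ Q, ∀ x ∈ L, α x = u * x * u⁻¹ := by
  have n := h.nw
  have cE := fun x => h.cE (x := x)
  have gen := h.gen
  generalize cj g0 Q = Q', g0 * z * g0⁻¹ = t at *
  have s := n.lp.r.es
  have k : ∀ b e, e ∈ Q → b * e * b⁻¹ ∈ Q → Commute (b⁻¹ * α b) e := fun b e m m' => by
    have := fx _ m'
    rw [map_mul, map_mul, map_inv, fx e m, mul_inv_eq_iff_eq_mul] at this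
    rw [Commute, SemiconjBy, mul_assoc, this]; group
  have c1 : ∀ c, Commute z c → α c = c ∨ α c = c * z := fun c hc =>
    (h.cent fun x hx => k c x hx (h.nm hc hx)).imp (fun e => (inv_mul_eq_one.1 e).symm) fun e => inv_mul_eq_iff_eq_mul.1 e
  have c2 : ∀ b ∈ Q', b ∉ C[z] → α b = b ∨ α b = b * t := fun b hb nb => by
    have bz := s.conj_eq hb n.lp.zQ fun e => nb (mem_cent1.2 e)
    have m := cE _ (mul_mem (inv_mem hb) (mp b hb)) fun e he => k b e he.1 (by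
      by_cases c : b * e = e * b
      · rw [c, mul_inv_cancel_right]; exact he.1
      · rw [s.conj_eq hb he.2 c]; exact mul_mem he.1 n.tQ)
    have m' := (h.le.es.cent_four n.tQ).le ⟨m, fun a ha => by_contra fun c => by
      have p := n.lp.symm.comm_P (c := a) ⟨ha.2, h.le.es.le_cent ha.1⟩ hb
      have e1 : α ⁅a, b⁆ = ⁅a, b⁆ * (z * t) := by
        rw [map_commutatorElement, fx a ha.1, ← mul_inv_cancel_left b (α b), commutatorElement_def, mul_assoc a, mul_assoc a,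
          ← cc, h.le.es.conj_eq m (inv_mem ha.1) (fun e => c (Commute.inv_right_iff.1 e).symm), ← conj_mul, bz,
          commutatorElement_def]
        group
      rcases c1 _ (cy p) with e | e <;> rw [e1] at e
      exacts [n.lp.ne (mul_left_cancel ((mul_eq_left.1 e).trans h.zz.symm)), s.z1 (mul_eq_left.1 (mul_left_cancel e))]⟩
    have q := fx _ (sqQ n hb)
    rw [map_mul, ← mul_inv_cancel_left b (α b), mul_assoc, mul_right_inj] at q
    have A : z * (b * z) ≠ b := fun q => nb (mem_cent1.2 (by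
      rw [eq_inv_mul_of_mul_eq q, inv_eq_of_mul_eq_one_right h.zz]))
    rcases (H0.mem_four h.zz n.tt n.lp.comm).1 m' with e | e | e | e <;> rw [e] at q
    exacts [.inl (inv_mul_eq_one.1 e).symm, (A q).elim, .inr (inv_mul_eq_iff_eq_mul.1 e), (A (by
      rwa [mul_assoc z t, ← mul_assoc b, ← mul_assoc t, ((n.yt hb).mul_right (show Commute t z from n.lp.comm.symm)).eq,
        mul_assoc (b * z), n.tt, mul_one] at q)).elim]
  obtain ⟨b, hb, eb⟩ := s.exists_conj n.lp.zQ n.lp.symm.notMem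
  have nb : b ∉ C[z] := fun c => s.z1 (by rwa [mem_cent1.1 c, mul_inv_cancel_right, left_eq_mul] at eb)
  have c3 : ∀ p ∈ Q' ⊓ C[z], α p = p := fun p hp => (c1 p (cy hp)).resolve_right fun e => by
    have := c2 _ (mul_mem hb hp.1) fun c => nb ((C[z].mul_mem_cancel_right hp.2).1 c)
    rw [map_mul, e] at this
    have e1 : b * t * (p * z) = b * p * (t * z) := by rw [mul_assoc, ← mul_assoc t, (n.yt hp.1).eq]; group
    rcases c2 b hb nb with e | e <;> rw [e] at this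
    · rw [← mul_assoc, mul_eq_left, mul_right_inj] at this
      exact this.elim h.z1 n.lp.ne.symm
    · rw [e1, mul_eq_left, mul_right_inj, mul_eq_left] at this
      exact this.elim (fun e => n.lp.ne (mul_right_cancel (e.trans h.zz.symm))) h.z1
  obtain ⟨u, hu, c, e⟩ : ∃ u ∈ Q, (∀ c, Commute z c → u * c * u⁻¹ = c) ∧ α b = u * b * u⁻¹ := by
    rcases c2 b hb nb with e | e
    · exact ⟨1, one_mem _, by simp, by simpa using e⟩
    · exact ⟨z, h.zQ, fun c => cjx, by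
        rw [e, inv_eq_of_mul_eq_one_right h.zz, mul_assoc, mul_inv_eq_iff_eq_mul.1 eb, ← mul_assoc, ← mul_assoc, h.zz,
          one_mul, (n.yt hb).eq]⟩
  have : L ≤ α.eqLocus (MulAut.conj u).toMonoidHom := gen ▸ sup_le (sup_le (fun x hx => (fx x hx).trans (c x (h.zc hx)).symm)
    fun x hx => by
      by_cases m : x ∈ C[z]
      · exact (c3 x ⟨hx, m⟩).trans (c x (cy ⟨hx, m⟩)).symm
      have p := n.lp.symm.mul_inv_mem hb hx nb m
      rw [← inv_mul_cancel_right x b]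
      exact mul_mem ((c3 _ p).trans (c _ (cy p)).symm) e) fun x hx => ((c1 x (h.cd hx)).resolve_right fun e => h.z1 (by
        obtain ⟨k, hk⟩ := (H17.GS.og_of_pg h.td.pg (by decide)).odd_elt hx
        have := congrArg (· ^ orderOf x) e
        simp only [← map_pow, pow_orderOf_eq_one, map_one, (h.cd hx).symm.mul_pow, one_mul] at this
        rw [this, hk, pow_succ, pow_mul, pow_two, h.zz, one_pow, one_mul])).trans (c x (h.cd hx)).symm
  exact ⟨u, hu, this⟩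

end Rp

end H14.P8
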