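import Cfsg.Agent.H11.Rec2

/-! Recognition from standard pairs for groups with trivial centre (after `H11.Rec.recog`). -/

set_option autoImplicit false
set_option linter.unusedSectionVars false
set_option maxHeartbeats 800000

namespace H14.P8R

open Subgroup hiding coe_pow coe_mul coe_one coe_inv
open H13.SL2 H11 H11.Md H11.PSL H11.C2 H11.Rec H14 H14.RootSys H14.PreSt
open Matrix hiding transvection mul_apply'
open Matrix.SpecialLinearGroup
open scoped MatrixGroups commutatorElement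

variable {ι κ : Type*} [Fintype κ] [DecidableEq κ] [Fintype ι] [DecidableEq ι] {R : RootSys ι κ}
  {C : Chev R} {K G : Type*} [Field K] [Group G]

theorem eqv {G' : Type*} [Group G'] {S : St C K G} (hR : R.Conn) (hS : S.Sep) (hG : S.U Set.univ = ⊤) (hp : commutator G = ⊤)
    (hh : S.HMul) {S' : St C K G'} (hG' : S'.U Set.univ = ⊤) [Nontrivial G'] (hZ : center G' = ⊥) :
    Nonempty (G' ≃* G ⧸ center G) := by
  obtain ⟨f, h1, -⟩ := exists_hom_quot hS hG hG'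
  let e : G' ⧸ center G' ≃* G' := (QuotientGroup.quotientMulEquivOfEq hZ).trans QuotientGroup.quotientBot
  have h2 := e.surjective.comp h1
  have h3 : (e.toMonoidHom.comp f).ker = center G := by
    refine le_antisymm ((St.le_center_or_eq_top hS hG hR hh.comm hp _).resolve_right fun h => ?_) fun z hz =>
      hZ.le (mem_center_iff.2 fun g => ?_)
    · obtain ⟨g, hg⟩ := exists_ne (1 : G')
      obtain ⟨a, rfl⟩ := h2 g
      exact hg (h.ge (mem_top a))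
    · obtain ⟨a, rfl⟩ := h2 g
      exact (map_mul (e.toMonoidHom.comp f) _ _).symm.trans (by rw [mem_center_iff.1 hz, map_mul]; rfl)
  exact ⟨((QuotientGroup.quotientMulEquivOfEq h3.symm).trans (QuotientGroup.quotientKerEquivOfSurjective _ h2)).symm⟩

theorem recog [Fintype K] (hF : Odd (Fintype.card K)) [Nontrivial κ] (hC : COk C.toPreChev) (hd : ∀ r, R.d r = 1)
    (hR : R.Conn) {G₀ G₁ : Type*} [Group G₀] [Group G₁] {S₀ : St C K G₀} (hS₀ : S₀.Sep) (hG₀ : S₀.U Set.univ = ⊤)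
    (hi : Function.Injective (hmul_of_finite S₀).tor) {S₁ : St C K G₁} (hS₁ : S₁.Sep) (hG₁ : S₁.U Set.univ = ⊤)
    [Finite G] [Nontrivial G] (hZ : center G = ⊥) {L : κ → Subgroup G} (e : ∀ i, SL(2, K) ≃* L i) (hgen : ⨆ i, L i = ⊤) {z : κ → G}
    (hz : ∀ i, z i ∈ L i ∧ z i ∈ centralizer (L i : Set G) ∧ z i ≠ 1 ∧ z i * z i = 1) {Adj : κ → κ → Prop}
    (h1 : ∀ i j, i ≠ j → Adj i j → Nonempty (↥(L i ⊔ L j) ≃* SL(3, K)) ∨
      Nonempty (↥(L i ⊔ L j) ≃* ProjectiveSpecialLinearGroup (Fin 3) K))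
    (h1' : ∀ i j, i ≠ j → ¬ Adj i j → ∀ a ∈ L i, ∀ b ∈ L j, a * b = b * a) (h2 : ∀ i j, z i * z j = z j * z i)
    {H : Subgroup G} (hH : H = closure (Set.range z))
    (h3 : ∀ i, ((H ⊓ centralizer (L i : Set G)).subgroupOf H).index ≤ 2) (o : κ → ℕ) (par : κ → κ)
    (hA : ∀ i j, i ≠ j → (Adj i j ↔ R.A i j ≠ 0) ∧ (Adj i j ↔ par j = i ∧ o i < o j ∨ par i = j ∧ o j < o i)) :
    Nonempty (G ≃* G₁ ⧸ center G₁) := by
  have k2 : (2 : K) ≠ 0 := Ring.two_ne_zero fun e => by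
    have := FiniteField.even_card_of_char_two e
    rw [Nat.odd_iff] at hF; omega
  have hz' : ∀ i, z i ∈ H := fun i => hH ▸ subset_closure ⟨i, rfl⟩
  have ed : ∀ i j, i ≠ j → Adj i j → ∃ ψ : SL(3, K) →* G, Gd H (L i) (ψ.comp ea) ∧ Gd H (L j) (ψ.comp eb) :=
    fun i j hij h => by
      obtain ⟨ψ, a1, a2, a3, a4⟩ := edge k2 (e i) (e j) (hz i) (hz j) (h2 i j) (h1 i j hij h)
      exact ⟨ψ, ⟨a1, _, hz' j, fun g => by simp [← a4, ← dg_ea]⟩, a2, _, hz' i, fun g => by simp [← a3, ← dg_eb]⟩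
  obtain ⟨Φ, hΦ⟩ := exists_tree o par (fun i => Gd H (L i))
    (fun _ φ φ' => ∃ ψ : SL(3, K) →* G, ψ.comp ea = φ ∧ ψ.comp eb = φ') (fun i => by
      obtain ⟨j, h1, h2⟩ := exists_adj hR i
      exact (ed i j h1.symm ((hA i j h1.symm).1.2 h2)).elim fun _ h => ⟨_, h.1⟩) fun j hj φ hφ => by
    have : par j ≠ j := fun e => by simp [e] at hj
    obtain ⟨ψ, a1, a2⟩ := ed _ j this ((hA _ _ this).2.2 (.inl ⟨rfl, hj⟩))
    obtain ⟨ψ', b1, b2⟩ := Gd.step k2 (e _) (fun a ha b hb c1 c2 => by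
      rcases (h3 (par j)).eq_or_lt with h | h
      swap
      · exact absurd ((index_eq_one.1 (le_antisymm (Nat.le_of_lt_succ h)
          (Nat.pos_of_ne_zero index_ne_zero_of_finite))).ge (mem_top (⟨a, ha⟩ : H))).2 c1
      · exact ((mul_mem_iff_of_index_two h (a := (⟨a, ha⟩ : H)⁻¹) (b := (⟨b, hb⟩ : H))).2 (by
          simp [mem_subgroupOf, c1, c2])).2) a1 a2 hφ
    exact ⟨_, b2, ψ', b1, rfl⟩
  choose f hf using exists_nd hS₀ hi
  have gr : ∀ i j, i ≠ j → Adj i j → par j = i → o i < o j →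
      ∃ M : Subgroup (G₀ × G), Gph M ∧ ∀ g, (f i g, Φ i g) ∈ M ∧ (f j g, Φ j g) ∈ M := by
    rintro _ j hij h rfl h'
    obtain ⟨ψ, a1, a2⟩ := (hΦ j).2 h'
    exact a1 ▸ a2 ▸ a2_graph hC hd hi hij ((hA _ _ hij).1.1 h) (hf _) (hf _) ψ
  obtain ⟨φ, hφ⟩ := amalgam hC hR hS₀ hG₀ hi hf Φ fun i j => by
    by_cases hij : i = j
    · subst hij
      refine ⟨((f i).prod (Φ i)).range, ?_, fun g => ⟨⟨g, rfl⟩, ⟨g, rfl⟩⟩⟩
      rintro g ⟨u, hu⟩
      obtain rfl : u = 1 := (hf i).inj _ _ ((congrArg Prod.fst hu).trans (by simp))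
      simpa using (congrArg Prod.snd hu).symm
    by_cases h : Adj i j
    · rcases (hA i j hij).2.1 h with h' | h'
      · exact gr i j hij h h'.1 h'.2
      · exact (gr j i (Ne.symm hij) ((hA _ _ (Ne.symm hij)).2.2 (.inl h')) h'.1 h'.2).imp fun M h =>
          ⟨h.1, fun g => (h.2 g).symm⟩
    · exact orth_graph hi hij (hf i) (hf j) (Nd.commute hij (not_not.1 ((hA i j hij).1.not.1 h)) (hf i) (hf j))
        fun g g' => h1' i j hij h _ ((hΦ i).1.1.le ⟨g, rfl⟩) _ ((hΦ j).1.1.le ⟨g', rfl⟩)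
  refine eqv hR hS₁ hG₁ (perfect_of_d hR hd hG₁) (hmul_of_finite _) (S' := stMap S₀ φ) ?_ hZ
  rw [← (stMap_isHom S₀ φ).map_U, hG₀, ← MonoidHom.range_eq_map, eq_top_iff, ← hgen]
  exact iSup_le fun i => by rw [← (hΦ i).1.1, ← hφ i]; rintro _ ⟨g, rfl⟩; exact ⟨_, rfl⟩

theorem typeD (n : ℕ) (hn : 4 ≤ n)
    [Finite G] [Nontrivial G] (hZ : center G = ⊥)
    (F : Type*) [Field F] [Fintype F] (hF : Odd (Fintype.card F))
    (L : Fin n → Subgroup G) (e : ∀ i, Matrix.SpecialLinearGroup (Fin 2) F ≃* L i)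
    (hgen : ⨆ i, L i = ⊤)
    (z : Fin n → G) (hz : ∀ i, z i ∈ L i ∧ z i ∈ Subgroup.centralizer ((L i : Subgroup G) : Set G) ∧ z i ≠ 1 ∧ z i * z i = 1)
    (Adj : Fin n → Fin n → Prop)
    (hAdj : ∀ i j, Adj i j ↔
      ((j.val = i.val + 1 ∧ j.val ≤ n - 2) ∨ (i.val = j.val + 1 ∧ i.val ≤ n - 2) ∨
        (i.val = n - 3 ∧ j.val = n - 1) ∨ (j.val = n - 3 ∧ i.val = n - 1)))
    (h1 : ∀ i j, i ≠ j → Adj i j →
      Nonempty (↥(L i ⊔ L j) ≃* Matrix.SpecialLinearGroup (Fin 3) F) ∨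
        Nonempty (↥(L i ⊔ L j) ≃* Matrix.ProjectiveSpecialLinearGroup (Fin 3) F))
    (h1' : ∀ i j, i ≠ j → ¬ Adj i j → ∀ a ∈ L i, ∀ b ∈ L j, a * b = b * a)
    (h2 : ∀ i j, z i * z j = z j * z i)
    (H₀ : Subgroup G) (hH₀ : H₀ = Subgroup.closure (Set.range z))
    (h3 : ∀ i, ((H₀ ⊓ Subgroup.centralizer ((L i : Subgroup G) : Set G)).subgroupOf H₀).index ≤ 2) :
    Nonempty (G ≃* Cfsg.POmega F (Cfsg.quadFormPlus n F)) := by
  haveI : Nontrivial (Fin n) := Fin.nontrivial_iff_two_le.2 (by omega)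
  refine recog hF (H11.wbD n (by omega)).mb.cok (H11.hdD _) (H11.connD (by omega))
    (H11.sumSt_sep F _ _ ((H11.wbD n _).nat_sep F)) (H11.sumSt_top F _ _) (H11.spinD_tor n _ F)
    (S₁ := H11.stPull _ (H11.omToGL_injective F _) (H11.range_omD n F (by omega) (.inr (by simp; omega))))
    (H11.stPull_sep _ _ _ ((H11.wbD n _).nat_sep F)) (H11.stPull_top _ _ _) hZ e hgen hz h1 h1' h2 hH₀ h3 Fin.val
    (fun j => ⟨if (j : ℕ) + 1 < n then j - 1 else j - 2, by split_ifs <;> omega⟩) fun i j hij => ⟨?_, ?_⟩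
  · rw [hAdj]
    change _ ↔ (H11.wbD n (by omega)).wd.R.A i j ≠ 0
    rw [H11.Wd.A_eq, H11.φD]
    have := Fin.val_ne_of_ne hij
    have := i.2
    have := j.2
    simp only [H11.Wb.wd, H11.wbC, H11.wbD, H11.barC, H11.barD, H11.nx]
    split_ifs <;> simp only [Pi.sub_apply, H11.μ2_apply, H11.ix_inl, H11.ix_inr, H11.sg_inl, H11.sg_inr] <;>
      split_ifs <;> omega
  · have := i.2
    have := j.2
    rw [hAdj]; simp only [Fin.ext_iff]; split_ifs <;> omega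

end H14.P8R
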