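import Cfsg.Agent.H14.P88

/-! The monomial hypothesis and the fusion of the central involution. -/

set_option autoImplicit false
set_option linter.unusedSectionVars false
set_option synthInstance.maxSize 4000

open Subgroup
namespace H14.P9
open H10.Y (F4 w bar M NW Et cy cube inv_cm)
open Equiv (Perm swap)
open H19 hiding eq_bot_mono
open H14.P8

instance (priority := high) dS (P : (Fin 4 → ℤˣ) → Prop) [DecidablePred P] : Decidable (∀ v, P v) :=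
  decidable_of_iff (∀ a b c d, P ![a, b, c, d]) ⟨fun h v => by
    rw [show v = ![v 0, v 1, v 2, v 3] from funext fun i => by fin_cases i <;> rfl]; exact h _ _ _ _, fun h _ _ _ _ => h _⟩
/-- even sign vectors -/
def Ev (a : Fin 4 → ℤˣ) : Prop := a 0 * a 1 * a 2 * a 3 = 1
instance : DecidablePred Ev := fun a => inferInstanceAs (Decidable (_ = _))
theorem k1 : ∀ σ, K4 σ → (∀ a, Ev a → ∃ κ, ∀ i, a (σ i) = κ * a i) ∧ (∀ τ, K4 (τ * σ * τ⁻¹) ∧ (K4 τ → K4 (τ * σ))) ∧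
    (σ = 1 ∨ ∃ i k, (σ i ≠ i ∧ σ i ≠ k ∧ σ k ≠ i ∧ σ k ≠ k ∧ i ≠ k) ∧ ∀ j, j = i ∨ j = k ∨ j = σ i ∨ j = σ k) := by
  decide +kernel
theorem k2 : ∀ σ : Perm (Fin 4), Perm.sign σ = 1 → (σ * σ * (σ * σ) = 1 → K4 σ) ∧ ∀ τ, τ * τ * τ = 1 →
    (τ * σ * τ = σ ∨ K4 σ ∧ σ ≠ 1 ∧ σ * τ = τ * σ) → τ = 1 := by decide +kernel
theorem k3 : ∀ a b c, Ev a → Ev b → Ev c → ∃ s ∈ [a, b, c, a * b, a * c, b * c, a * (b * c)], ∀ i, s i = s 0 := by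
  decide +kernel
theorem k4 : (∀ a, Ev a → (∀ i, a i = a 0) ∨ ∃ i, a i = 1) ∧ (∀ a b, Ev a → Ev b → Ev (a * b)) ∧ (∀ v, W4 v → qv v = 0) ∧
    K4 1 := by decide +kernel

variable {G : Type*} [Group G] {Q Q' P : Subgroup G} {z t g g0 a b c k x y p : G} {π : G → V} {ρ : G → V →+ V}
  {d d' u v : V} {σ τ : Perm (Fin 4)} {ε η : Fin 4 → ℤˣ} {γ : Γ} {e : ℤˣ} {f : V → V}

/-- the monomial hypothesis -/
structure Lm (Q : Subgroup G) (z : G) (π : G → V) (ρ : G → V →+ V) : Prop extends M Q z π ρ qv bv where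
  mon : ∀ c, Commute z c → ∃ d σ ε, Mo (ρ c) d σ ε ∧ Perm.sign σ = 1 ∧ Ev ε
  wt : ∀ {g}, g * z * g⁻¹ ∈ Q → g * z * g⁻¹ ≠ z → W4 (π (g * z * g⁻¹))
  jd : ∀ {d}, W4 d → ∃ g, Commute z g ∧ ∀ v, ρ g v = d * v
  ext : ∃ g, Tt Q z π ρ g

theorem Lm.J (h : Lm Q z π ρ) (g : G) :
    Lm (cj g Q) (g * z * g⁻¹) (fun x => π (g⁻¹ * x * g)) (fun x => ρ (g⁻¹ * x * g)) := by
  refine ⟨h.toM.J g, fun c hc => h.mon _ (cJ' hc), fun {k} m n => ?_, fun hd => ?_, let ⟨_, k⟩ := h.ext; ⟨_, k.J g⟩⟩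
  · have e : g⁻¹ * (k * (g * z * g⁻¹) * k⁻¹) * g = g⁻¹ * k * g * z * (g⁻¹ * k * g)⁻¹ := by group
    rw [e]
    exact h.wt (e ▸ mem_cj.1 m) fun s => n (by rw [← e] at s; nth_rewrite 2 [← s]; group)
  · obtain ⟨c, hc, e⟩ := h.jd hd
    exact ⟨_, cJ hc g, fun v => by rw [jj, e]⟩

/-- maps of constant type -/
def Nn (f : V → V) : Prop := ∃ d σ e, K4 σ ∧ Mo f d σ fun _ => e
/-- maps of a given type -/
def Nc (f : V → V) (a : Fin 4 → ℤˣ) : Prop := Ev a ∧ ∃ d σ e, K4 σ ∧ Mo f d σ fun i => e * a i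
theorem Nc.nn (k : Nc f ε) (s : ∀ i, ε i = ε 0) : Nn f :=
  let ⟨_, d, σ, e, a, m⟩ := k; ⟨d, σ, e * ε 0, a, by simpa only [s] using m⟩
theorem fixv (m : Mo f d σ fun _ => e) (ff : ∀ v, f (f v) = v) : f (f t0 * f t0) = f t0 * f t0 := funext fun i => by
  have := congrFun (ff t0) i
  rw [← σ.apply_symm_apply i] at this ⊢
  rw [m.eq] at this
  rw [m.eq, Pi.mul_apply, Pi.mul_apply, m.t0, bbm]
  exact (by decide : ∀ d s : F4, d * s = 1 → d * (s * s) = d * d) _ _ this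

variable [Finite G]

namespace Lm
variable (h : Lm Q z π ρ)
include h

theorem mono (hc : Commute z c) : ∃ d σ ε, Mo (ρ c) d σ ε := let ⟨d, σ, ε, m, _⟩ := h.mon c hc; ⟨d, σ, ε, m⟩
theorem par (hc : Commute z c) (m : Mo (ρ c) d σ ε) : Perm.sign σ = 1 ∧ Ev ε := by
  obtain ⟨_, _, _, m', k⟩ := h.mon c hc
  obtain ⟨rfl, -, rfl⟩ := m.uniq m'
  exact k
theorem nw (m : g * z * g⁻¹ ∈ Q) (ne : g * z * g⁻¹ ≠ z) : NW Q z π ρ qv bv (cj g Q) (g * z * g⁻¹) :=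
  ⟨h.toM, h.le.lp m ne⟩
theorem d0 (d : V) (hd : pr d = 1) : ∃ g, Commute z g ∧ ∀ v, ρ g v = d * v := h.jd (pr_W4.1 (hd ▸ one_ne_zero))
theorem cQ (hc : Commute z c) (m : g * z * g⁻¹ ∈ Q) : c * g * z * (c * g)⁻¹ ∈ Q ∧
    π (c * g * z * (c * g)⁻¹) = ρ c (π (g * z * g⁻¹)) ∧ (g * z * g⁻¹ ≠ z → c * g * z * (c * g)⁻¹ ≠ z) := by
  rw [show c * g * z * (c * g)⁻¹ = c * (g * z * g⁻¹) * c⁻¹ by group]
  exact ⟨h.nm hc m, h.conj c hc _ m, fun n e => n (by rw [← jj c (g * z * g⁻¹), e, mul_assoc, hc.eq, inv_mul_cancel_left])⟩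
theorem to0 (hu : W4 u) : ∃ c, Commute z c ∧ ρ c u = t0 ∧ ∃ d, Mo (ρ c) d 1 1 :=
  have k : W4 (pu io u) := (mo_pu io).w4 hu
  let ⟨c, hc, e⟩ := h.jd k; ⟨c, hc, by rw [e, ← one_mul (pu io u), io_mul hu]; rfl, _, mo_dg k e⟩
theorem z81 (v : V) (hv : W4 v) : Zs Q z π v := by
  obtain ⟨g, T⟩ := h.ext
  obtain ⟨c, hc, e⟩ := h.jd hv
  exact ⟨_, (h.cQ hc T.mem).1, (h.cQ hc T.mem).2.2 (T.ne h.toM), by rw [(h.cQ hc T.mem).2.1, T.pt, e, t0, mul_one]⟩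
theorem zq (hx : x ∈ Q) (hv : W4 (π x)) : ∃ k, k * z * k⁻¹ = x ∧ x ≠ z := by
  obtain ⟨k, m, n, e⟩ := h.z81 _ hv
  have nz : x ≠ z := fun s => hv 0 (by rw [s, h.pz]; rfl)
  rcases h.eq_of hx m e.symm with s | s
  · exact ⟨k, s.symm, nz⟩
  obtain ⟨a, -, s'⟩ := h.le.es.exists_conj m (h.nw m n).lp.notMem
  exact ⟨a * k, by rw [← cc, s', s, (h.zc m).eq], nz⟩

theorem mm (hx : Commute z x) (hy : Commute z y) (m : Mo (ρ x) d' τ η) (m' : Mo (ρ y) d σ ε) :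
    Mo (ρ (x * y)) (fun i => d' (σ i) * bb (η (σ i)) (d i)) (τ * σ) fun i => η (σ i) * ε i := m.mul m' (h.rmul hx hy)
theorem mi (hx : Commute z x) (m : Mo (ρ x) d σ ε) :
    Mo (ρ x⁻¹) (fun i => bb (ε (σ⁻¹ i)) (d (σ⁻¹ i))⁻¹) σ⁻¹ fun i => ε (σ⁻¹ i) := m.inv (h.rinv' hx)
theorem m1 (m : Mo (ρ 1) d σ ε) : σ = 1 ∧ d = 1 ∧ ε = 1 := m.uniq ((mo_pu 1).congr h.r1)
theorem k4' (hp : Commute z p) (e : p * p * (p * p) = 1) (m : Mo (ρ p) d σ ε) : K4 σ :=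
  (k2 σ (h.par hp m).1).1 (h.m1 (e ▸ h.mm (hp.mul_right hp) (hp.mul_right hp) (h.mm hp hp m m) (h.mm hp hp m m))).1

theorem n_sq (hp : Commute z p) (e : p * p * (p * p) = 1) : Nn (ρ (p * p)) := by
  obtain ⟨d, σ, ε, m⟩ := h.mono hp
  have k := h.k4' hp e m
  obtain ⟨κ, s⟩ := (k1 σ k).1 ε (h.par hp m).2
  exact ⟨_, _, κ, k.1 ▸ k4.2.2.2, by simpa only [s, mul_assoc, Int.units_mul_self, mul_one] using h.mm hp hp m m⟩
theorem n_cj (hc : Commute z c) (hy : Commute z y) (s : Nn (ρ y)) : Nn (ρ (c * y * c⁻¹)) := by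
  obtain ⟨_, τ, η, m⟩ := h.mono hc
  obtain ⟨_, σ, e, k, m'⟩ := s
  obtain ⟨κ, s⟩ := (k1 σ k).1 η (h.par hc m).2
  exact ⟨_, _, κ * e, ((k1 σ k).2.1 τ).1, by
    simpa only [s, mul_assoc, mul_comm e, Int.units_mul_self, ← mul_assoc (η _) (η _), one_mul] using
      h.mm (hc.mul_right hy) hc.inv_right (h.mm hc hy m m') (h.mi hc m)⟩
theorem n_cj' (hc : Commute z c) (hy : Commute z y) (s : Nn (ρ (c * y * c⁻¹))) : Nn (ρ y) := by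
  simpa [mul_assoc] using h.n_cj hc.inv_right ((hc.mul_right hy).mul_right hc.inv_right) s
theorem n_pu (k : K4 γ.1) (e : ∀ v, ρ y v = pu γ v) : Nn (ρ y) := ⟨_, _, _, k, (mo_pu γ).congr e⟩
theorem n_Q (hy : y ∈ Q) : Nn (ρ y) := h.n_pu (γ := 1) k4.2.2.2 (h.rQ hy)
theorem nc_mul (hx : Commute z x) (hy : Commute z y) (s : Nc (ρ x) η) (s' : Nc (ρ y) ε) : Nc (ρ (x * y)) (η * ε) := by
  obtain ⟨a, _, τ, e, k, m⟩ := s
  obtain ⟨b, _, σ, e', k', m'⟩ := s'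
  obtain ⟨κ, s⟩ := (k1 σ k').1 η a
  have := h.mm hx hy m m'
  simp only [s, show ∀ a b, e * (κ * a) * (e' * b) = e * κ * e' * (a * b) from fun a b => by ac_rfl] at this
  exact ⟨k4.2.1 _ _ a b, _, _, _, ((k1 σ k').2.1 τ).2 k, this⟩
theorem nc_ex (hx : Commute z x) (xx : x * x = 1) : ∃ a, Nc (ρ x) a :=
  let ⟨_, _, ε, m⟩ := h.mono hx
  ⟨ε, (h.par hx m).2, _, _, 1, h.k4' hx (by rw [xx, one_mul]) m, by simpa only [one_mul] using m⟩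

theorem tra' (T : Tt Q z π ρ g0) (m : g * z * g⁻¹ ∈ Q) (ne : g * z * g⁻¹ ≠ z) :
    ∃ c, Commute z c ∧ c * (g * z * g⁻¹) * c⁻¹ = g0 * z * g0⁻¹ := by
  obtain ⟨c, hc, e, -⟩ := h.to0 (h.wt m ne)
  rcases h.eq_of (h.nm hc m) T.mem (by rw [h.conj c hc _ m, e, T.pt]) with k | k
  · exact ⟨c, hc, k⟩
  obtain ⟨a, ha, e⟩ := h.le.es.exists_conj T.mem (h.nw T.mem (T.ne h.toM)).lp.notMem
  refine ⟨a⁻¹ * c, (h.zc ha).inv_right.mul_right hc, ?_⟩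
  rw [← cc, k, (h.zc T.mem).eq, ← e]; group

theorem evA (m : z ∈ cj a Q) (hy : y ∈ cj a Q) (c : Commute z y) : Nn (ρ y) := by
  by_cases e : a * z * a⁻¹ = z
  · exact h.n_Q (by rwa [h.le.cj_eq (b := 1) (by simpa using e), cj_one] at hy)
  obtain ⟨g0, T⟩ := h.ext
  obtain ⟨k, hk, e⟩ := h.tra' T (sym' h.le m) e
  obtain ⟨γ, a, b⟩ := T.all (k * y * k⁻¹) ⟨by
    rw [← h.le.cj_eq (a := k * a) (by rw [← e]; group), cj_mul]; exact conj_mem_cj.2 hy,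
    mem_cent1.2 ((hk.mul_right c).mul_right hk.inv_right).symm⟩
  exact h.n_cj' hk c (h.n_pu a b)

theorem exI (T : Tt Q z π ρ g0) (k : K4 γ.1) (n : γ ≠ 1) : ∃ y ∈ cj g0 Q ⊓ C[z], y * y = 1 ∧ ∀ v, ρ y v = pu γ v := by
  obtain ⟨y, hy, e⟩ := T.ex γ k
  have N := h.nw T.mem (T.ne h.toM)
  have s := N.lp.r.es
  rcases s.sq y hy.1 with uu | uu
  · exact ⟨y, hy, uu, e⟩
  obtain ⟨v, -, a, b⟩ := (t1.2.2.1 γ k n).2
  obtain ⟨c, hc, rfl⟩ := (T.et v).2 a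
  have cc := (h.sq c hc.1).2 (N.Eq0 ⟨c, hc, rfl⟩)
  refine ⟨y * c, ⟨mul_mem hy.1 hc.2, mul_mem hy.2 (h.le.es.le_cent hc.1)⟩,
    (s.sq _ (mul_mem hy.1 hc.2)).resolve_right fun k => b ?_, fun v => by rw [h.rmul (cy hy) (h.zc hc.1), h.rQ hc.1, e]⟩
  rw [← e]
  refine h.fx (cy hy) hc.1 (mul_left_cancel (a := y) (mul_right_cancel (b := c) ?_))
  rw [mul_assoc, mul_assoc, cc, mul_one, uu, ← k]; simp [mul_assoc]

theorem pin (hy : Commute z y) (yy : y * y = 1) (s : Nn (ρ y)) :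
    ∃ c, Commute z c ∧ ∃ γ : Γ, K4 γ.1 ∧ ∀ v, ρ (c * y * c⁻¹) v = pu γ v := by
  obtain ⟨d, σ, e, k, m⟩ := s
  have w4 := m.w4 (v := t0) (by decide)
  obtain ⟨c, hc, s, _, mc⟩ := h.to0 (u := ρ y t0 * ρ y t0) fun i => mul_ne_zero (w4 i) (w4 i)
  have := h.mm (hc.mul_right hy) hc.inv_right (h.mm hc hy mc m) (h.mi hc mc)
  simp only [inv_one, mul_one, one_mul, Pi.one_apply] at this
  exact ⟨c, hc, (σ, e), k, Mo.pure (ε := fun _ => e) this (by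
    rw [h.rmul (hc.mul_right hy) hc.inv_right, h.rmul hc hy, ← s, h.rinv hc, fixv m (h.rsq hy (yy ▸ one_mem _))])⟩

theorem evB (T : Tt Q z π ρ g0) (hy : Commute z y) (yy : y * y = 1) (s : Nn (ρ y)) :
    ∃ c, Commute z c ∧ (y ∈ Q ∨ y ∈ cj (c * g0) Q) := by
  obtain ⟨c, hc, γ, k, e⟩ := h.pin hy yy s
  have hy' := (hc.mul_right hy).mul_right hc.inv_right
  by_cases n : γ = 1
  · exact ⟨c, hc, .inl (by simpa [mul_assoc] using h.nm hc.inv_right (h.triv hy' fun v => by rw [e, n, pu_one]))⟩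
  obtain ⟨x, hx, xx, ex⟩ := h.exI T k n
  have cx := cy hx
  have ha : c * y * c⁻¹ * x⁻¹ ∈ Q := h.triv (hy'.mul_right cx.inv_right) fun v => by
    rw [h.rmul hy' cx.inv_right, e, ← ex, h.rinv' cx]
  obtain ⟨u, eu⟩ := fixc (Prod.ext k.1 (Int.units_mul_self _)) (t1.2.2.1 γ k n).1
    (ex _ ▸ fxa h.toM cx xx (by rw [conj_mul, yy]; group) ha)
  obtain ⟨b, hb, k⟩ := cos h.toM cx ha (by rw [ex, eu])
  refine ⟨c⁻¹ * b, hc.inv_right.mul_right (h.zc hb), .inr ?_⟩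
  rw [cj_mul, cj_mul, mem_cj_inv, ← inv_mul_cancel_right (c * y * c⁻¹) x]
  rcases k with k | k <;> rw [← k, conj_mem_cj]
  exacts [hx.1, mul_mem (h.nw T.mem (T.ne h.toM)).lp.zQ hx.1]

theorem evB' (hy : Commute z y) (yy : y * y = 1) (s : Nn (ρ y)) : ∃ a, z ∈ cj a Q ∧ y ∈ cj a Q := by
  obtain ⟨g0, T⟩ := h.ext
  obtain ⟨c, hc, k | k⟩ := h.evB T hy yy s
  · exact ⟨1, by rw [cj_one]; exact h.zQ, by rwa [cj_one]⟩
  · exact ⟨_, h.le.symm (h.cQ hc T.mem).1, k⟩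

theorem sym (c : Commute (a * z * a⁻¹) (b * z * b⁻¹)) (s : Nn (ρ (b⁻¹ * (a * z * a⁻¹) * b))) :
    Nn (ρ (a⁻¹ * (b * z * b⁻¹) * a)) := by
  obtain ⟨k, k1, k2⟩ := (h.J b).evB' c.symm (h.J a).zz s
  have e : cj k (cj b Q) = cj (k * b * a⁻¹) (cj a Q) := by rw [cj_cj, cj_cj, inv_mul_cancel_right]
  exact (h.J a).evA (e ▸ k2) (e ▸ k1) c

theorem dec (m : k * z * k⁻¹ ∈ Q) (n : k * z * k⁻¹ ≠ z) (hy : Commute z y) (c : Commute (k * z * k⁻¹) y) (s : Nn (ρ y)) :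
    ∃ p ∈ cj k Q, y * p⁻¹ ∈ Q := by
  obtain ⟨g0, T⟩ := h.ext
  obtain ⟨a, ha, e⟩ := h.tra' T m n
  have hy' := (ha.mul_right hy).mul_right ha.inv_right
  obtain ⟨d, σ, s, l, mo⟩ := h.n_cj ha hy s
  obtain ⟨p, hp, ep⟩ := T.ex (σ, s) l
  refine ⟨a⁻¹ * p * a, by
    have : p ∈ cj g0 Q := hp.1
    rwa [← h.le.cj_eq (a := a * k) (by rw [← e]; group), cj_mul, mem_cj] at this, ?_⟩
  have := h.nm ha.inv_right (h.triv (hy'.mul_right (cy hp).inv_right) fun v => by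
    rw [h.rmul hy' (cy hp).inv_right, Mo.pure (ε := fun _ => s) mo (T.pt ▸ h.fx hy' T.mem (e ▸ c.symm.conj a)), ← ep,
      h.rinv' (cy hp)])
  simpa [mul_assoc] using this

theorem prin (m : k * z * k⁻¹ ∈ Q) (n : k * z * k⁻¹ ≠ z) (hy : Commute z y) (c : Commute (k * z * k⁻¹) y)
    (s : Nn (ρ (k⁻¹ * y * k))) : Nn (ρ y) := by
  have e : k⁻¹ * (k * z * k⁻¹) * k⁻¹⁻¹ = z := by group
  obtain ⟨p, hp, q⟩ := (h.J k).dec (k := k⁻¹) (e.symm ▸ h.le.symm m) (e.symm ▸ n.symm) c (e.symm ▸ hy) s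
  rw [cj_cj, inv_mul_cancel, cj_one] at hp
  obtain ⟨d, σ, e, l, mo⟩ := h.evA (h.le.symm m) q (hy.mul_right (h.zc hp).inv_right)
  exact ⟨d, σ, e, l, mo.congr fun v => by rw [h.rmul hy (h.zc hp).inv_right, h.rQ (inv_mem hp)]⟩

theorem ev (hy : Commute z (g * z * g⁻¹)) : Nn (ρ (g * z * g⁻¹)) := by
  by_contra ns
  have h' := h.J g
  have S : ∀ k, k * z * k⁻¹ ∈ Q → Commute (k * z * k⁻¹) (g * z * g⁻¹) → ¬ Nn (ρ (g⁻¹ * (k * z * k⁻¹) * g)) := fun k m c s => by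
    have := h.sym c s
    by_cases n : k * z * k⁻¹ = z
    · have c : Commute z k := (mul_inv_eq_iff_eq_mul.1 n).symm
      exact ns (h.n_cj' c.inv_right hy (by rwa [inv_inv]))
    · exact ns (h.prin m n hy c this)
  have nz : ¬ Nn (ρ (g⁻¹ * z * g)) := by simpa using S 1 (by simpa using h.zQ) (by simpa using hy)
  have yy := h'.zz
  have sq : ∀ p ∈ Q, Commute (g * z * g⁻¹) p → qv (π p) = 0 := fun p hp c => by_contra fun n => nz (by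
    simpa only [h.sqz hp n] using h'.n_sq c (by rw [h.sqz hp n, h.zz]))
  obtain ⟨d, σ, ε, m⟩ := h.mono hy
  have k := h.k4' hy (by rw [yy, one_mul]) m
  have e := h.m1 (yy ▸ h.mm hy hy m m)
  rcases (k1 σ k).2.2 with rfl | ⟨i, j, ⟨a1, a2, a3, a4, a5⟩, a6⟩
  · obtain ⟨i, hi⟩ := (k4.1 ε (h.par hy m).2).resolve_left fun s => ns ⟨d, 1, ε 0, k, by simpa only [← funext s] using m⟩
    have d1 : d i = 1 := (by decide : ∀ a : F4, a * a = 1 → a = 1) _ (by simpa [hi, bb1] using congrFun e.2.1 i)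
    generalize g * z * g⁻¹ = y at *
    have fl : ∀ a, ∀ p ∈ Q, π p = Pi.single i a → qv (π p) ≠ 0 → y * p * y⁻¹ = z * p := fun a p hp ep n =>
      (h.fx' hy hp (funext fun l => by
        rw [← Perm.one_apply l, m.eq, Perm.one_apply, ep]
        by_cases s : l = i
        · rw [s, d1, hi, bb1, one_mul]
        · rw [Pi.single_eq_of_ne s, (bb0 _ _).2 rfl, mul_zero])).resolve_left fun c => n (sq p hp c)
    obtain ⟨q1, q2, q3⟩ := t1.2.2.2 i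
    obtain ⟨p, hp, ep⟩ := h.surj (Pi.single i 1)
    obtain ⟨p', hp', ep'⟩ := h.surj (Pi.single i w)
    refine q3 ?_
    rw [← ep, ← ep', ← h.add p hp p' hp']
    refine sq _ (mul_mem hp hp') (mul_inv_eq_iff_eq_mul.1 ?_)
    rw [← conj_mul, fl _ p hp ep (ep ▸ q1), fl _ p' hp' ep' (ep' ▸ q2), (h.zc hp).symm.mul_mul_mul_comm, h.zz, one_mul]
  have W : ∀ a, a ≠ 0 → W4 (ρ (g * z * g⁻¹) (Pi.single i a + Pi.single j a) + (Pi.single i a + Pi.single j a)) := fun a n l => by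
    have b1 := m.eq (Pi.single i a + Pi.single j a)
    have s : ∀ l, σ (σ l) = l := fun l => congrFun (congrArg DFunLike.coe k.1) l
    have z0 := fun e => (bb0 e 0).2 rfl
    rcases a6 l with rfl | rfl | rfl | rfl
    · have := b1 (σ l); rw [s] at this; simp [-map_add, this, a1, a2, a5, z0, n]
    · have := b1 (σ l); rw [s] at this; simp [-map_add, this, a3, a4, a5.symm, z0, n]
    · simp [-map_add, b1, a1, a2, a5, bb0, n, m.ne i]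
    · simp [-map_add, b1, a3, a4, a5.symm, bb0, n, m.ne j]
  have X : ∀ a, a ≠ 0 → ∃ p ∈ Q, Commute (g * z * g⁻¹) p ∧
      π p = ρ (g * z * g⁻¹) (Pi.single i a + Pi.single j a) + (Pi.single i a + Pi.single j a) := fun a n => by
    obtain ⟨x, hx, ex⟩ := h.surj (Pi.single i a + Pi.single j a)
    have := h.pcm hy hx
    rw [ex] at this
    exact ⟨_, h.mcm hy hx, mul_inv_eq_iff_eq_mul.1 ((inv_cm yy).trans (inv_eq_of_mul_eq_one_right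
      ((h.sq _ (h.mcm hy hx)).2 (k4.2.2.1 _ (this ▸ W a n))))), this⟩
  obtain ⟨p, hp, cp, ep⟩ := X 1 one_ne_zero
  obtain ⟨r, hr, cr, er⟩ := X w H10.Y.w0
  have wp : W4 (π p) := ep ▸ W _ one_ne_zero
  have wr : W4 (π r) := er ▸ W _ H10.Y.w0
  have wpr : W4 (π (p * r)) := by
    rw [h.add p hp r hr, ep, er, add_add_add_comm, ← map_add, add_add_add_comm (Pi.single i 1), ← Pi.single_add,
      ← Pi.single_add]
    exact W _ (by decide)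
  have B : ∀ p ∈ Q, W4 (π p) → Commute (g * z * g⁻¹) p → ¬ Nn (ρ (g⁻¹ * p * g)) := fun p hp a c => by
    obtain ⟨k, rfl, -⟩ := h.zq hp a
    exact S k hp c.symm
  have B' : ∀ p ∈ Q, W4 (π p) → Commute (g * z * g⁻¹) p → ¬ Nn (ρ (g⁻¹ * (z * p) * g)) := fun p hp a c =>
    B _ (mul_mem h.zQ hp) (by rwa [h.pzm hp]) (hy.symm.mul_right c)
  obtain ⟨s0, n0⟩ := h'.nc_ex hy.symm h.zz
  obtain ⟨s1, n1⟩ := h'.nc_ex cp ((h.sq _ hp).2 (k4.2.2.1 _ wp))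
  obtain ⟨s2, n2⟩ := h'.nc_ex cr ((h.sq _ hr).2 (k4.2.2.1 _ wr))
  obtain ⟨s, hs, l⟩ := k3 s0 s1 s2 n0.1 n1.1 n2.1
  simp only [List.mem_cons, List.not_mem_nil, or_false] at hs
  rcases hs with rfl | rfl | rfl | rfl | rfl | rfl | rfl
  exacts [nz (n0.nn l), B p hp wp cp (n1.nn l), B r hr wr cr (n2.nn l), B' p hp wp cp ((h'.nc_mul hy.symm cp n0 n1).nn l),
    B' r hr wr cr ((h'.nc_mul hy.symm cr n0 n2).nn l), B _ (mul_mem hp hr) wpr (cp.mul_right cr) ((h'.nc_mul cp cr n1 n2).nn l),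
    B' _ (mul_mem hp hr) wpr (cp.mul_right cr) ((h'.nc_mul hy.symm (cp.mul_right cr) n0 (h'.nc_mul cp cr n1 n2)).nn l)]

theorem fus (T : Tt Q z π ρ g0) (hy : Commute z (g * z * g⁻¹)) :
    ∃ c, Commute z c ∧ (g * z * g⁻¹ ∈ Q ∨ g * z * g⁻¹ ∈ cj (c * g0) Q) := h.evB T hy (h.J g).zz (h.ev hy)

/-- fusion is controlled by any overgroup of the centralizer fusing `z` to `t` -/
theorem ctl (T : Tt Q z π ρ g0) (h1 : C[z] ≤ P) (ha : a ∈ P) (e : a * z * a⁻¹ = g0 * z * g0⁻¹)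
    (hy : Commute z (g * z * g⁻¹)) : ∃ k ∈ P, k * z * k⁻¹ = g * z * g⁻¹ := by
  have A : ∀ g, g * z * g⁻¹ ∈ Q → ∃ k ∈ P, k * z * k⁻¹ = g * z * g⁻¹ := fun g m => by
    by_cases n : g * z * g⁻¹ = z
    · exact ⟨1, one_mem _, by rw [n]; group⟩
    obtain ⟨c, hc, k⟩ := h.tra' T m n
    exact ⟨c⁻¹ * a, mul_mem (inv_mem (h1 (mem_cent1.2 hc.symm))) ha, by rw [← cc, e, ← k]; group⟩
  obtain ⟨c, hc, k | k⟩ := h.fus T hy
  · exact A g k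
  rw [cj_mul, ← h.le.cj_eq e, cj_cj] at k
  obtain ⟨k, hk, e⟩ := A ((c * a)⁻¹ * g) (by simpa [mul_assoc] using mem_cj.1 k)
  exact ⟨c * a * k, mul_mem (mul_mem (h1 (mem_cent1.2 hc.symm)) ha) hk, by rw [← cc, e]; group⟩

end Lm

end H14.P9
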