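import Cfsg.Agent.H14.P92

/-! The centralizer of a root element and the recognition under the monomial hypothesis. -/

set_option autoImplicit false
set_option linter.unusedSectionVars false
set_option synthInstance.maxSize 4000

open Subgroup
namespace H14.P9
open H10.Y (F4 w bar tr M NW Et cy cube barbar f4)
open Equiv (Perm swap)
open H19 hiding eq_bot_mono
open H17.GS (OG O_og og_iff Sim Comp Lay Lay_le_iff)
open H17.HT (IsA)
open H14.P8
open scoped H17.GS commutatorElement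

variable {G : Type*} [Group G] [Finite G] {Q Q' P A O D F L : Subgroup G} {z t g g0 a b c x x' y y' p r : G} {π π' : G → V}
  {ρ ρ' : G → V →+ V} {d d' u v : V} {σ τ : Perm (Fin 4)} {ε η : Fin 4 → ℤˣ} {γ : Γ} {i j : Fin 4} {ω : F4}

theorem Lm.tri (h : Lm Q z π ρ) (T : Tt Q z π ρ g0) : ∃ r, Commute z (r * z * r⁻¹) ∧
    r * (r * z * r⁻¹) * r⁻¹ = z * (r * z * r⁻¹) ∧ Io (ρ (r * z * r⁻¹)) ∧ g0 * z * g0⁻¹ ∈ cj r Q := by
  obtain ⟨a1, a2, a3, a4, a5, a6⟩ := u1 _ (.head _) _ (.head _)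
  have n := h.nw T.mem (T.ne h.toM)
  obtain ⟨g, e1, e2, R⟩ := onto' n (T.pt ▸ a1)
  obtain ⟨k, hp, -, ep⟩ := h.z81 _ a3
  replace R := R _ hp (by rw [ep, T.pt, a2])
  obtain ⟨γ, k1, k2⟩ := T.all _ R.1
  obtain rfl := a6 γ k1 ((T.et _).1 (by rw [← k2, ← ep]; exact R.2))
  obtain ⟨c, hc, ec⟩ := h.jd a3
  have m := mul_mem T.mem h.zQ
  have pm : π (g0 * z * g0⁻¹ * z) = t0 := by rw [h.add _ T.mem _ h.zQ, T.pt, h.pz, add_zero]
  have pm' := h.add _ m _ hp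
  obtain ⟨α, f1⟩ := fix1 h.toM (h.nm hc m) hp (by rw [h.conj c hc _ m, ec, pm, ep]; exact mul_one _)
  obtain ⟨β, f2⟩ := fix1 h.toM (h.nm hc hp) (mul_mem m hp) (by rw [h.conj c hc _ hp, ec, pm', pm, ep, a4])
  obtain ⟨u, b1, b2⟩ := a5 α β
  obtain ⟨q, hq, rfl⟩ := h.surj u
  replace f1 := f1 q hq (by rw [ep, b1])
  replace f2 := f2 q hq (by rw [pm', pm, ep, b2])
  have e3 : g * (g0 * z * g0⁻¹ * z) * g⁻¹ = z := by rw [← conj_mul, e1, e2, mul_assoc, n.tt, mul_one]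
  have e4 : g * (q * c) * g⁻¹ * z * (g * (q * c) * g⁻¹)⁻¹ = g * (k * z * k⁻¹) * g⁻¹ := by
    rw [← f1]; nth_rewrite 1 [← e3]; group
  refine ⟨g * (q * c) * g⁻¹, ?_⟩
  rw [e4]
  refine ⟨cy R.1, ?_, ⟨_, (mo_pu io).congr k2⟩, sym2 h.le (e4 ▸ R.1.1)⟩
  exact (show _ = g * (q * (c * (k * z * k⁻¹) * c⁻¹) * q⁻¹) * g⁻¹ by group).trans (by rw [f2, ← conj_mul, e3])

namespace Lm
variable (h : Lm Q z π ρ)
include h

theorem oQ (ho : OG O) (m : a ∈ O) (m' : a ∈ Q) : a = 1 := ho.eq_one' h.le.es.pg m m'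
theorem cub (hc : Commute z c) (hd : W4 d) (e : ∀ v, ρ c v = d * v) : c * c * c ∈ Q :=
  h.triv ((hc.mul_right hc).mul_right hc) fun v => funext fun j => by
    rw [h.rmul (hc.mul_right hc) hc, h.rmul hc hc, e, e, e]
    simp only [Pi.mul_apply, ← mul_assoc, c3 _ (hd j), one_mul]

variable (k : Rt z ρ i x)
include k

theorem oz : O(C[x]) ⊓ C[z] ≤ zpowers x := fun a ha => by
  have c := cy ha
  have H : ∀ v, v i = 0 → ρ a v = v := fun v hv => by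
    obtain ⟨e, he, rfl⟩ := h.surj v
    refine h.fx c he (commutatorElement_eq_one_iff_commute.1 (h.oQ (O_og C[x]) ?_ (h.mcm c he))).symm
    exact mul_mem ((Oc_normal _ _).conj_mem (mem_cent1.2 (h.rcQ k he hv).symm) ha.1) (inv_mem ha.1)
  obtain ⟨d, σ, ε, m⟩ := h.mono c
  have B : ∀ j, j ≠ i → σ j = j ∧ d j = 1 ∧ ε j = 1 := fun j n => by
    have e := fun a => m.eq (Pi.single j a) j
    simp only [H _ (Pi.single_eq_of_ne n.symm _), Pi.single_eq_same] at e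
    have s : σ j = j := by_contra fun s => m.ne j (by simpa [Pi.single_eq_of_ne s, bbo] using (e 1).symm)
    simp only [s, Pi.single_eq_same] at e
    have d1 : d j = 1 := by simpa [bbo] using (e 1).symm
    exact ⟨s, d1, bbi _ _ (by simpa only [d1, one_mul, bb1] using (e w).symm)⟩
  obtain rfl : σ = 1 := Equiv.ext fun j => by
    by_cases n : j = i
    · exact n ▸ by_contra fun s => s (σ.injective (B _ s).1)
    · exact (B j n).1
  obtain rfl : ε = 1 := (by decide : ∀ (i : Fin 4) a, Ev a → (∀ j, j ≠ i → a j = 1) → a = 1) i ε (h.par c m).2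
    fun j n => (B j n).2.2
  have e : ∀ v, ρ a v = sd i (d i) * v := fun v => by
    rw [m.dg]; congr 1; ext1 j
    by_cases n : j = i
    · rw [n, sd_i]
    · rw [sd_j _ n, (B j n).2.1]
  by_cases n : d i = 1
  · rw [h.oQ (O_og _) ha.1 (h.triv c fun v => by rw [e, n, sd_one, one_mul])]; exact one_mem _
  have k' : Rt z ρ i a := ⟨c, h.oQ (O_og _) (mul_mem (mul_mem ha.1 ha.1) ha.1) (h.cub c (sd_W4 i (m.ne i)) e), _, m.ne i, n, e⟩
  have B : ∀ a ∈ O(C[x]), Commute z a → (∀ v, ρ a v = ρ x v) → a ∈ zpowers x := fun a ha c e => by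
    rw [← inv_mul_eq_one.1 (h.oQ (O_og _) (mul_mem (inv_mem (xO k.x3 (mem_zpowers x))) ha) (h.triv' k.c c fun v => (e v).symm))]
    exact mem_zpowers x
  exact (h.rpm k k').elim (B a ha.1 c) fun e => inv_mem_iff.1 (B _ (inv_mem ha.1) c.inv_right e)

theorem iso0 (hg : g ∈ C[x]) (c : Commute z (g * z * g⁻¹)) : g * z * g⁻¹ = z := by
  have cx : Commute (g * z * g⁻¹) x := mem_cent1.1 (mul_mem (mul_mem hg (mem_cent1.2 k.c)) (inv_mem hg))
  obtain ⟨d, σ, e, s, m⟩ := h.ev c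
  have k' := h.rconj c m k
  rw [cx.eq, mul_inv_cancel_right] at k'
  obtain rfl : σ = 1 := s.2.resolve_right fun n => n i (ridx k' k)
  obtain ⟨ω, w0, w1, f⟩ := k.ex
  have e1 := congrFun (h.rcm c k.c cx t0) i
  rw [f, f, Pi.mul_apply, sd_i, ← Perm.one_apply i, m.eq, m.eq, Pi.mul_apply, Perm.one_apply, sd_i] at e1
  obtain rfl := (by decide : ∀ (d ω : F4) e, d ≠ 0 → ω ≠ 0 → ω ≠ 1 → d * bb e (ω * 1) = ω * (d * bb e 1) → e = 1) _ _ _
    (m.ne i) w0 w1 e1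
  have q : g * z * g⁻¹ ∈ Q := by
    have := h.cub c m.ne (Mo.dg m)
    rwa [(h.J g).zz, one_mul] at this
  by_contra n
  exact h.wt q n i (h.rfx k (h.fx k.c q cx.symm))

theorem iso : ⁅C[x], zpowers z⁆ ≤ O(C[x]) := H17.HT.zs' (mem_cent1.2 k.c) h.zz fun _ => h.iso0 k

theorem o1 (ha : a ∈ O(C[x])) : z * a * z⁻¹ * a ∈ zpowers x := by
  obtain ⟨n, hn, c, hc, e1, e2, rfl⟩ := P8.dec (O_og C[x]) (Oc_norm _ _ (mem_cent1.2 k.c)) h.zz ha
  have m := h.oz k ⟨hc, e2⟩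
  rw [← conj_mul, e1, ← mem_cent1.1 e2, mul_inv_cancel_right, ← mul_assoc, mul_assoc n⁻¹, ← (OC hn m).eq,
    inv_mul_cancel_left]
  exact mul_mem m m

theorem ocm (ha : a ∈ O(C[x])) (hb : b ∈ O(C[x])) : ⁅a, b⁆ ∈ zpowers x := by
  have m1 := h.o1 k (inv_mem ha)
  have m2 := h.o1 k (inv_mem hb)
  have m3 := h.o1 k (mul_mem (inv_mem ha) (inv_mem hb))
  have e : z * (a⁻¹ * b⁻¹) * z⁻¹ * (a⁻¹ * b⁻¹) = z * a⁻¹ * z⁻¹ * a⁻¹ * (a * (z * b⁻¹ * z⁻¹ * b⁻¹)) * (b * a⁻¹ * b⁻¹) := by group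
  rw [e, (OC ha m2).eq, ← mul_assoc _ _ a, mul_assoc _ a] at m3
  simpa [commutatorElement_def, mul_assoc] using (mul_mem_cancel_left (mul_mem m1 m2)).1 m3

end Lm

theorem core (h : Lm Q z π ρ) (h' : Lm Q' y π' ρ') (hy : Commute z y) (io : Io (ρ y)) (io' : Io (ρ' z))
    (k : Rt z ρ i x) (yx : y * x * y⁻¹ = x⁻¹) (nc : ¬ C[x] ≤ C[z]) (j : Fin 4) :
    ∃ u ∈ O(C[x]), Rt y ρ' j u ∧ z * u * z⁻¹ = u⁻¹ := by
  have yy := h'.zz
  have ho := O_og C[x]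
  have iv : ∀ u ∈ O(C[x]) ⊓ C[y], z * u * z⁻¹ = u⁻¹ := fun u hu => by
    have m := h.o1 k hu.1
    obtain ⟨n, e⟩ := mem_zpowers_iff.1 m
    refine eq_inv_of_mul_eq_one_left (ho.eq_one (xO k.x3 m) (mul_eq_one_iff_eq_inv.2 ?_))
    have c : Commute y (z * u * z⁻¹ * u) := ((hy.symm.mul_right (cy hu)).mul_right hy.symm.inv_right).mul_right (cy hu)
    rw [← e] at c ⊢
    rw [← inv_zpow, ← yx, conj_zpow, c.eq, mul_inv_cancel_right]
  choose a ma aa ya a0 a1 _ using h.exw hy yy io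
  choose q mq eq using fun j => h.surj (w • π (a j))
  have B1 : ∀ m, bv (π (q m)) (π (a m)) = 1 := fun m => by
    obtain ⟨l, b, n, e⟩ := W1.eq ⟨m, a0 m, a1 m⟩
    rw [eq, e]; exact (u2.1 l b n).1
  have A0 : ∀ m n, bv (π (a m)) (π (a n)) = 0 := fun m n => by
    by_cases e : m = n
    · rw [e, qsV.bs]
    · exact bv0 fun l => (ne_or_eq l m).imp (a1 m l) fun s => a1 n l (s.trans_ne e)
  have B0 : ∀ m n, m ≠ n → bv (π (q m)) (π (a n)) = 0 := fun m n e => bv0 fun l => (ne_or_eq l m).imp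
    (fun s => by rw [eq, Pi.smul_apply, a1 m l s, smul_zero]) fun s => a1 n l (s.trans_ne e)
  have c0 : ∀ g ∈ Q, ∀ b ∈ Q, bv (π g) (π b) = 0 → g * b * g⁻¹ = b := fun g hg b hb e => by
    rw [((h.cm g hg b hb).2 e).eq, mul_inv_cancel_right]
  have nO : ∀ g ∈ Q, π g i = 0 → g ∈ N(O(C[x])) := fun g hg e => Oc_norm _ _ (mem_cent1.2 (h.rcQ k hg e).symm)
  have ab : ∀ m n, π (a m * a n) = π (a m) + π (a n) := fun m n => h.add _ (ma m) _ (ma n)
  have qb : ∀ m n, π (q m * q n) = π (q m) + π (q n) := fun m n => h.add _ (mq m) _ (mq n)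
  have cb : ∀ m n, y * (a m * a n) * y⁻¹ = a m * a n := fun m n => by
    rw [← conj_mul, ya, ya, (h.zc (ma m)).symm.mul_mul_mul_comm, h.zz, one_mul]
  have nb : ∀ m n, m ≠ i → n ≠ i → a m * a n ∈ N(O(C[x])) ⊓ C[y] := fun m n s s' =>
    ⟨nO _ (mul_mem (ma m) (ma n)) (by rw [ab, Pi.add_apply, a1 m i s.symm, a1 n i s'.symm, add_zero]),
      mem_cent1.2 (mul_inv_eq_iff_eq_mul.1 (cb m n)).symm⟩
  have nq : ∀ m n, m ≠ i → n ≠ i → q m * q n ∈ N(O(C[x])) := fun m n s s' => nO _ (mul_mem (mq m) (mq n)) (by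
    rw [qb, eq, eq, Pi.add_apply, Pi.smul_apply, Pi.smul_apply, a1 m i s.symm, a1 n i s'.symm, smul_zero, add_zero])
  have sb : ∀ m n, a m * a n * (a m * a n) = 1 := fun m n => by
    rw [((h.cm _ (ma n) _ (ma m)).2 (A0 n m)).mul_mul_mul_comm, aa, aa, h.zz]
  have zq : ∀ g ∈ Q, g * z * g⁻¹ = z := fun g hg => by rw [← (h.zc hg).eq, mul_inv_cancel_right]
  have yq : ∀ m, ρ y (π (q m)) + π (q m) = π (a m) := fun m => funext fun l => by
    obtain ⟨d, mo⟩ := io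
    have := congrFun ((h.conj y hy _ (ma m)).symm.trans (by rw [ya, h.pzm (ma m)])) l
    rw [mo.io] at this
    rw [eq, Pi.add_apply, mo.io, Pi.smul_apply, smul_eq_mul, map_mul, mul_left_comm, this, ← add_mul, add_comm, H10.Y.wbar,
      one_mul]
  have yg : ∀ m n, q m * q n * y * (q m * q n)⁻¹ = a m * a n * y ∨ q m * q n * (z * y) * (q m * q n)⁻¹ = a m * a n * y :=
    fun m n => cos' h.toM hy (mul_mem (ma m) (ma n)) (mul_mem (mq m) (mq n)) (by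
      rw [qb, ab, map_add, add_add_add_comm, yq, yq])
  have ay : ∀ m, a m * y * (a m)⁻¹ = z * y := fun m => by
    rw [mul_inv_eq_iff_eq_mul, mul_assoc, mul_inv_eq_iff_eq_mul.1 (ya m), ← mul_assoc, ← mul_assoc, h.zz, one_mul]
  obtain ⟨l, m, n, s1, s2, s3, s4, s5, s6⟩ := u2.2.1 i
  have ny : y ∈ N(O(C[x])) := norm_le_norm_Oc _ _ (mem_norm_of_cj_le (by
    rw [cj_cent1, yx]; exact cent1_le_cent1_of_mem_zpowers (by simp)))
  have nz : z ∈ N(O(C[x])) := Oc_norm _ _ (mem_cent1.2 k.c)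
  have na := nO _ (ma l) (a1 l i s1.symm)
  have c81 := eig ho iv (fun e => nc fun g hg => ?_) (nb l m s1 s2) (nb m n s2 s3) (sb l m) (sb m n)
    (c0 _ (mul_mem (ma _) (ma _)) _ (mul_mem (ma _) (ma _)) (by simp only [ab, qsV.badd, qsV.badd', A0, add_zero]))
    na (zq _ (ma l)) (ay l)
    (c0 _ (ma _) _ (mul_mem (ma _) (ma _)) (by simp only [ab, qsV.badd', A0, add_zero]))
    (c0 _ (ma _) _ (mul_mem (ma _) (ma _)) (by simp only [ab, qsV.badd', A0, add_zero]))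
    (nq l m s1 s2) (zq _ (mul_mem (mq _) (mq _))) (yg l m)
    (c0 _ (mul_mem (mq _) (mq _)) _ (mul_mem (ma _) (ma _)) (by
      simp only [ab, qb, qsV.badd, qsV.badd', B1, B0 _ _ s4, B0 _ _ s4.symm]; rfl))
    (h.cjz (mul_mem (mq _) (mq _)) (mul_mem (ma _) (ma _)) (by
      simp only [ab, qb, qsV.badd, qsV.badd', B1, B0 _ _ s4, B0 _ _ s5, B0 _ _ s6]; decide))
    (nq m n s2 s3) (zq _ (mul_mem (mq _) (mq _))) (yg m n)
    (h.cjz (mul_mem (mq _) (mq _)) (mul_mem (ma _) (ma _)) (by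
      simp only [ab, qb, qsV.badd, qsV.badd', B1, B0 _ _ s4.symm, B0 _ _ s5.symm, B0 _ _ s6.symm]; decide))
    (c0 _ (mul_mem (mq _) (mq _)) _ (mul_mem (ma _) (ma _)) (by
      simp only [ab, qb, qsV.badd, qsV.badd', B1, B0 _ _ s6, B0 _ _ s6.symm]; rfl))
  swap
  · have e' : O(C[x]) ⊓ C[z * y] = ⊥ := by rw [← ay l, ← cj_cent1, ← cj_of_mem_norm na, ← cj_inf, e, cj_bot]
    have m := h.iso k (commutator_mem_commutator hg (mem_zpowers z))
    have f1 := H0.inverts_of_fpf (og_iff.1 ho) yy ny e m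
    have f2 := H0.inverts_of_fpf (og_iff.1 ho) (by rw [hy.symm.mul_mul_mul_comm, h.zz, yy, one_mul]) (mul_mem nz ny) e' m
    rw [← cc, f1, ← conj_inv, inv_inj, mul_inv_eq_iff_eq_mul] at f2
    refine H17.GS.conj_mem_cent1.2 (h.iso0 k hg ?_)
    rw [← inv_mul_cancel_right (g * z * g⁻¹) z]
    exact (show Commute z ⁅g, z⁆ from f2).mul_right (Commute.refl z)
  have T1 : ∀ u ∈ O(C[x]) ⊓ C[y], ∀ d σ ε, Mo (ρ' u) d σ ε → σ = 1 := fun u hu d σ ε mo => by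
    obtain ⟨n, e⟩ := osq ho hu.1
    have hu' := pow_mem hu n
    obtain ⟨d, τ, η, mo'⟩ := h'.mono (cy hu')
    obtain ⟨_, mz⟩ := io'
    have := ((h'.mm hy.symm (cy hu') mz mo').uniq (by
      rw [mul_inv_eq_iff_eq_mul.1 (iv _ hu')]; exact h'.mm (cy hu').inv_right hy.symm (h'.mi (cy hu') mo') mz)).1
    rw [(mo.uniq (e ▸ h'.mm (cy hu') (cy hu') mo' mo')).1]
    exact mul_eq_one_iff_eq_inv.2 (by simpa using this)
  have T2 : ∀ u ∈ O(C[x]) ⊓ C[y], ∃ d, W4 d ∧ ∀ v, ρ' u v = d * v := fun u hu => by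
    obtain ⟨n, e⟩ := osq ho hu.1
    have hu' := pow_mem hu n
    obtain ⟨d, τ, η, mo'⟩ := h'.mono (cy hu')
    obtain rfl := T1 _ hu' _ _ _ mo'
    have := e ▸ h'.mm (cy hu') (cy hu') mo' mo'
    simp only [mul_one, Perm.one_apply, Int.units_mul_self] at this
    exact ⟨_, this.ne, Mo.dg this⟩
  choose f f1 f2 using T2
  have inj : Function.Injective fun u : ↥(O(C[x]) ⊓ C[y]) => (⟨f u u.2, f1 u u.2⟩ : {d : V // W4 d}) := fun u u' e =>
    Subtype.ext (inv_mul_eq_one.1 (h'.oQ ho (mul_mem (inv_mem u.2.1) u'.2.1) (h'.triv' (cy u.2) (cy u'.2) fun v => by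
      rw [f2 u u.2, f2 u' u'.2, show f u u.2 = f u' u'.2 from congrArg Subtype.val e])))
  obtain ⟨u, e⟩ := (inj.bijective_of_nat_card_le (cW4 ▸ c81)).2 ⟨_, sd_W4 j H10.Y.w0⟩
  have hu := pow_mem u.2 4
  exact ⟨_, hu.1, (h'.pw4 (cy u.2) H10.Y.w0 H10.Y.w1 fun v => by
    rw [f2 u u.2, show f u u.2 = _ from congrArg Subtype.val e]).1, iv _ hu⟩

theorem Lm.nc (h : Lm Q z π ρ) (T : Td z ρ D x') (k : Rt z ρ i x) : ¬ C[x] ≤ C[z] := fun H => by
  have cd : ∀ g ∈ D, Commute z g := fun g hg => (mem_cent1.1 (T.le hg)).symm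
  have dg : ∀ n, Commute z n → n ∈ C(D) → ∃ d, W4 d ∧ ∀ v, ρ n v = d * v := fun n c hn => by
    obtain ⟨d, σ, ε, m⟩ := h.mono c
    have B := fun i => u2.2.2.1 i (σ i) (ε i) fun δ hδ => by
      obtain ⟨g, hg, e⟩ := T.ex δ hδ
      have := congrFun (h.rcm (cd g hg) c (hn g hg) t0) (σ i)
      rw [e, e, Pi.mul_apply, m.t0, m.eq, mul_comm, t0, mul_one] at this
      exact (mul_left_cancel₀ (m.ne i) this).symm
    obtain rfl : σ = 1 := Equiv.ext fun i => (B i).1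
    obtain rfl : ε = 1 := funext fun i => (B i).2
    exact ⟨d, m.ne, m.dg⟩
  obtain ⟨ω, w0, w1, f⟩ := k.ex
  obtain ⟨n, hn, e⟩ := exists_mul_mem_cent (A := D) (H := Q) (k := x) (T.le.trans h.le.norm)
    (h.le.es.pg.coprime (T.pg.sing_ne (by decide))) (.inr h.le.es.pg.sol) fun a ha => by
      obtain ⟨d, -, e⟩ := dg a (cd a ha) (T.ab ha)
      have c := cd a ha
      exact h.triv (((c.mul_right k.c).mul_right c.inv_right).mul_right k.c.inv_right) fun v => by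
        rw [h.rmul ((c.mul_right k.c).mul_right c.inv_right) k.c.inv_right, h.rmul (c.mul_right k.c) c.inv_right,
          h.rmul c k.c, e, f, mul_left_comm, ← e, h.rinv' c, ← f, h.rinv' k.c]
  obtain ⟨k1, f1⟩ := h.pw4 ((h.zc hn).mul_right k.c) w0 w1 fun v => by rw [h.rmul (h.zc hn) k.c, h.rQ hn, f]
  replace e := pow_mem e 4
  generalize (n * x) ^ 4 = s at *
  obtain ⟨b, hb, -, e1⟩ := h.rcj k k1 fun v => by rw [f1, f]
  have H1 : C[s] ≤ C[z] := by rw [← e1, ← cj_cent1]; exact cj_le_of_mem (h.le.es.le_cent hb) H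
  have p3 : ∀ {x : G}, x * x * x = 1 → PG 3 (zpowers x) := fun x3 => pg_of_pow Nat.prime_three (by
    rintro _ ⟨k, rfl⟩
    rw [← zpow_natCast, ← zpow_mul, mul_comm, zpow_mul, zpow_natCast, pow_three', x3, one_zpow])
  have pA : ∀ {x : G}, x * x * x = 1 → x ∈ C(D) → PG 3 (D ⊔ zpowers x : Subgroup G) ∧ D ⊔ zpowers x ≤ C(D) := fun x3 m =>
    ⟨T.pg.sup (p3 x3) (norms_of_cents (zpowers_le.2 m)), sup_le T.ab (zpowers_le.2 m)⟩
  have ms : s ∈ D ⊔ zpowers s := mem_sup_right (mem_zpowers s)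
  have uz : ∀ a ∈ C(D), Commute z a → a * a = 1 → a = 1 ∨ a = z := fun a ha c aa => by
    obtain ⟨d, hd, e⟩ := dg a c ha
    have q := h.cub c hd e
    rw [aa, one_mul] at q
    refine (h.ker a q).1 (funext fun j => by_contra fun n => ?_)
    obtain ⟨δ, a1, a2⟩ := u2.2.2.2 j
    obtain ⟨g, hg, e⟩ := T.ex δ a1
    exact a2 (mul_right_cancel₀ n ((congrFun ((e _).symm.trans (h.fx (cd g hg) q (ha g hg))) j).trans (one_mul _).symm))
  have nz : ∀ n ∈ N(D ⊔ zpowers s), Commute z n := fun n hn => by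
    have m : n * z * n⁻¹ ∈ C(D ⊔ zpowers s) := conj_mem_of_norm (norms_cent le_rfl hn)
      (le_cent1_iff.1 (sup_le T.le (zpowers_le.2 (mem_cent1.2 k1.c.symm))))
    exact (mul_inv_eq_iff_eq_mul.1 ((uz _ (cent_mono le_sup_left m) (mem_cent1.1 (H1 (cent_le_cent1 ms m))).symm
      (h.J n).zz).resolve_left (h.J n).z1)).symm
  have gen : ∀ P, PG 3 P → D ≤ P → ∀ a ∈ P, ∀ b ∈ P, ∀ d e, Commute z a → Commute z b → W4 d → W4 e → pr e ≠ 1 →
      (∀ v, ρ a v = d * v) → (∀ v, ρ b v = e * v) → a ∈ D ⊔ zpowers b := fun P hP l a ha b hb d e ca cb hd he n ea eb => by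
    have B : ∀ c ∈ zpowers b, ∀ u, W4 u → (∀ v, ρ c v = u * v) → pr d = pr u → a ∈ D ⊔ zpowers b := fun c hc u hu ec s => by
      obtain ⟨g, hg, eg⟩ := T.ex (d * pu io u) (by rw [pr_mul, pr_io, s, cube _ (pr_W4.2 hu)])
      have cc : Commute z c := (mem_cent1.1 (zpowers_le.2 (mem_cent1.2 cb.symm) hc)).symm
      rw [← inv_mul_eq_one.1 (h.oQ (H17.GS.og_of_pg hP (by decide))
        (mul_mem (inv_mem (mul_mem (l hg) (zpowers_le.2 hb hc))) ha) (h.triv' ((cd g hg).mul_right cc) ca fun v => by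
          rw [h.rmul (cd g hg) cc, eg, ec, ← mul_assoc, io_mul hu, ea]))]
      exact mul_mem_sup hg hc
    rcases (by decide : ∀ a b : F4, a ≠ 0 → b ≠ 0 → b ≠ 1 → a = pr 1 ∨ a = b ∨ a = b * b) _ _ (pr_W4.2 hd) (pr_W4.2 he) n
      with s | s | s
    · exact B 1 (one_mem _) 1 (by decide) (fun v => by rw [h.r1, one_mul]) s
    · exact B b (mem_zpowers b) e he eb s
    · exact B (b * b) (mul_mem (mem_zpowers b) (mem_zpowers b)) (e * e) (fun i => mul_ne_zero (he i) (he i))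
        (fun v => by rw [h.rmul cb cb, eb, eb, mul_assoc]) (by rw [pr_mul, s])
  obtain ⟨P, hP, l⟩ := (pA k1.x3 e).1.exists_syl (pA k1.x3 e).2
  obtain rfl : D ⊔ zpowers s = P := by
    by_contra n
    obtain ⟨a, ha, n⟩ := SetLike.exists_of_lt (hP.pi.lt_norm (lt_of_le_of_ne l n))
    obtain ⟨d, hd, ea⟩ := dg a (nz a ha.2) (hP.le ha.1)
    exact n (gen P hP.pi (le_sup_left.trans l) a ha.1 s (l ms) d _ (nz a ha.2) k1.c hd (sd_W4 i w0)
      (by rwa [(u2.1 i ω w0).2]) ea f1)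
  obtain ⟨g, hg, l⟩ := hP.scj_le (pA T.x3 T.xc).2 (pA T.x3 T.xc).1
  have m := l (conj_mem_cj.2 (mem_sup_right (mem_zpowers x')))
  have cz := nz _ (le_normalizer m)
  have gz : g * z * g⁻¹ ∈ C(D) := mul_mem (mul_mem hg (le_cent1_iff.1 T.le)) (inv_mem hg)
  have iv : g * z * g⁻¹ * (g * x' * g⁻¹) * (g * z * g⁻¹)⁻¹ = (g * x' * g⁻¹)⁻¹ := by rw [conj_inv (a := x'), ← T.zx]; group
  have fin : ¬ Commute (g * z * g⁻¹) (g * x' * g⁻¹) := fun c => T.x1 (by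
    rw [c.eq, mul_inv_cancel_right, conj_inv, mul_left_inj, mul_right_inj] at iv
    rw [← T.x3, mul_eq_one_iff_eq_inv.2 iv, one_mul])
  obtain ⟨d, hd, ed⟩ := dg _ cz (hP.le m)
  by_cases n : pr d = 1
  · obtain ⟨a, ha, ea⟩ := T.ex d n
    exact fin (inv_mul_eq_one.1 (h.oQ (H17.GS.og_of_pg hP.pi (by decide)) (mul_mem (inv_mem (mem_sup_left ha)) m)
      (h.triv' (cd a ha) cz fun v => by rw [ea, ed])) ▸ (show Commute a _ from gz a ha).symm)
  have e2 : D ⊔ zpowers s = D ⊔ zpowers (g * x' * g⁻¹) := le_antisymm (sup_le le_sup_left (zpowers_le.2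
    (gen _ hP.pi le_sup_left s ms _ m _ d k1.c cz (sd_W4 i w0) hd n f1 ed))) (sup_le le_sup_left (zpowers_le.2 m))
  have c2 := nz (g * z * g⁻¹) (e2 ▸ mem_norm_of_cj_le (by
    rw [cj_sup, cj_of_mem_cent gz, cj_zpowers, iv, zpowers_inv]))
  exact fin (((uz _ gz c2 (h.J g).zz).resolve_left (h.J g).z1).symm ▸ cz)

theorem Lm.hol (h : Lm Q z π ρ) (T : Tt Q z π ρ g0) (hF : Sim F) (na : ∀ n, ¬ IsA F n) (QF : Q ≤ F) (nF : C[z] ≤ N(F))
    (ha : a ∈ F) (e : a * z * a⁻¹ = g0 * z * g0⁻¹) : Cfsg.generalizedFittingSubgroup G = F := by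
  have c0 : ∀ X, X ≤ C(F) → X = ⊥ := fun X k => (eq_bot_iff_forall _).2 fun x hx => by
    rcases h.le.es.mem_zp.1 (h.le.cent_eq.le (cent_mono QF (k hx))) with rfl | rfl
    exacts [rfl, mem_bot.1 (hF.center.le ⟨QF h.zQ, k hx⟩)]
  have cF : Comp F (F ⊔ C[z]) := ⟨H1.SubnIn.of_le_normalizer le_sup_left (left_normal_sup nF).norm, hF.qs⟩
  obtain ⟨S, hS⟩ := exists_syl 2 C[z]
  have hS' := h.le.syl_top hS
  have hP := hS'.of_le (hS.le.trans le_sup_right : S ≤ F ⊔ C[z]) le_top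
  rw [← H1.gfOf_top, H17.GS.gf_eq]
  refine H17.HT.holt_gf ((h.le.large_of_conj T.mem (T.ne h.toM)).2.2.2 _ (og_iff.1 (O_og ⊤)) (le_top.trans (Oc_norm _ _)))
    le_top (P := F ⊔ C[z]) ?_ hF na hP ⟨h.le.le_syl hS h.zQ, QF h.zQ⟩ hS.le h.zz (inf_le_right.trans le_sup_right)
    fun g _ m => ?_
  · rw [c0 _ (cents_symm cF.cents_Fit), sup_bot_eq]
    refine cF.le_Lay.antisymm (Lay_le_iff.2 fun J hJ => by_contra fun n => H1.Quasisimple.ne_bot hJ.qs (c0 J ?_))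
    exact hJ.cents cF fun e => n e.le
  obtain ⟨k, hk, l⟩ := hP.scj_le (zpowers_le.2 m) (H0.pg_zpowers (h.J g).zz)
  obtain ⟨k', hk', e'⟩ := h.ctl T le_sup_right (mem_sup_left ha) e (g := k * g)
    (cc k g z ▸ (mem_cent1.1 (hS.le (l (conj_mem_cj.2 (mem_zpowers _))))).symm)
  obtain ⟨f, hf, c, hc, e2⟩ := (mem_sup_of_norm nF).1 (mul_mem (inv_mem hk) hk')
  refine ⟨f, hf, ?_⟩
  nth_rewrite 1 [← cjx (mem_cent1.1 hc)]
  rw [cc, ← e2, ← cc, e']
  group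

section
variable {g : Fin 3 → G} (h : Lm Q z π ρ) (T : Td z ρ D x')
  (tc : ∀ a b, Commute (g a * z * (g a)⁻¹) (g b * z * (g b)⁻¹))
  (tm : ∀ {a b c}, a ≠ b → a ≠ c → b ≠ c → g a * z * (g a)⁻¹ * (g b * z * (g b)⁻¹) = g c * z * (g c)⁻¹)
  (io : ∀ a b, a ≠ b → Io (ρ ((g a)⁻¹ * (g b * z * (g b)⁻¹) * g a)))
include h T tc tm io

theorem Lm.d4 : D4 (fun a => g a * z * (g a)⁻¹) (Rr z ρ g) := by
  have op : ∀ {a b i x}, Rr z ρ g a i x → a ≠ b → ∃ y, Pp (fun a => g a * z * (g a)⁻¹) (Rr z ρ g) a b i x y :=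
    fun {a b i x} k n => by
      obtain ⟨y, k1, k2, o, u, -⟩ := (h.J (g a)).pair (tc a b) (h.J _).zz (io a b n) k.1 (k.2 b n)
      exact ⟨y, k, oth tm k1 n k2, o.br, o.sq, o.cj, fun r l => u r l.1 (l.2 b n)⟩
  have co : ∀ {a b i x}, Rr z ρ g a i x → a ≠ b → ∀ j, ∃ u ∈ O(C[x]), Rr z ρ g b j u := fun {a b i x} k n j => by
    obtain ⟨u, m, k1, k2⟩ := core (h.J (g a)) (h.J (g b)) (tc a b) (io a b n) (io b a n.symm) k.1 (k.2 b n) (fun l =>
      h.nc T (RtJ.1 k.1) fun p hp => mem_cent1.2 (show Commute p z by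
        simpa [mul_assoc] using (cJ' (mem_cent1.1 (l (mem_cent1.2 (show Commute (g a * p * (g a)⁻¹) x by
          simpa [mul_assoc] using (show Commute _ _ from mem_cent1.1 hp).conj (g a))))).symm).symm)) j
    exact ⟨u, m, oth tm k1 n.symm k2⟩
  have inO : ∀ {a b i j x y}, Rr z ρ g a i x → Rr z ρ g b j y → b ≠ a → Commute x y → y ∈ O(C[x]) :=
    fun {a b i j x y} k l n c => by
      obtain ⟨u, m, k1⟩ := co k n.symm j
      obtain ⟨v, e⟩ := op k1 n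
      have A : Commute x v → v ∈ O(C[x]) := fun c => by
        rw [show v = u * v * u * (u * v)⁻¹ by rw [e.br]; group]
        exact (Oc_normal _ _).conj_mem (mul_mem (Oc_le _ _ m) (mem_cent1.2 c.symm)) m
      rcases e.un y l with rfl | rfl | rfl | rfl
      exacts [m, inv_mem m, A c, inv_mem (A (Commute.inv_right_iff.1 c))]
  refine ⟨fun a => (h.J _).zz, fun a => (h.J _).z1, tm, fun k => k.1.x3, fun k => ⟨(h.J _).rinv3 k.1, fun b n => by
      rw [← conj_inv, k.2 b n]⟩, fun k l => ridx k.1 l.1, fun k => k.1.c, fun k => k.2 _, op,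
    fun k l => (h.J _).rcm' k.1 l.1, fun {a b c w} ab ac e1 e2 => ?_, fun a i => ?_, fun k n j => ?_,
    fun k1 k2 k3 n1 n2 c1 c2 => (h.J _).ocm k3.1 (inO k3 k1 n1 c1) (inO k3 k2 n2 c2)⟩
  · have c : Commute z ((g c)⁻¹ * w * g b) := by
      rw [Commute, SemiconjBy]; nth_rewrite 1 [← jj (g c) z]; rw [← e2]; group
    obtain ⟨d, σ, ε, m⟩ := h.mono c
    refine ⟨σ, fun j x k => oth tm (RtJ.2 ?_) ac.symm ?_⟩
    · convert h.rconj c m (RtJ.1 k.1) using 1; group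
    · rw [← e1, conj_inv (a := x), ← k.2 a ab.symm]; group
  · obtain ⟨b, n⟩ := exists_ne a
    obtain ⟨x, k, e⟩ := (h.J (g a)).exR (tc a b) (h.J _).zz (io a b n.symm) i
    exact ⟨x, oth tm k n.symm e⟩
  · obtain ⟨u, m, l⟩ := co k n j
    exact ⟨u, l, (OC m (mem_zpowers _)).symm⟩

theorem Lm.fin0 (T0 : Tt Q z π ρ g0) (e0 : g 0 = 1) (m0 : g0 * z * g0⁻¹ ∈ cj (g 1) Q) :
    Nonempty (Cfsg.generalizedFittingSubgroup G ≃* Cfsg.POmega (ZMod 3) (Cfsg.quadFormPlus 4 (ZMod 3))) := by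
  have d := h.d4 T tc tm io
  set F := closure {x | ∃ a i, Rr z ρ g a i x}
  have mF : ∀ a i, Sb (Rr z ρ g) F a i := fun a i x k => subset_closure ⟨a, i, k⟩
  have YF : ∀ a, cj (g a) Q ≤ F ∧ Yz (g a * z * (g a)⁻¹) (fun x => ρ ((g a)⁻¹ * x * g a)) ≤ F := fun a => by
    obtain ⟨b, n⟩ := exists_ne a
    exact (h.J (g a)).YP (tc a b) (h.J _).zz (io a b n.symm) fun i x k e => mF a i x (oth tm k n.symm e)
  have z0 : g 0 * z * (g 0)⁻¹ = z := by simp [e0]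
  have QF : Q ≤ F := by simpa [e0, cj_one] using (YF 0).1
  obtain ⟨e⟩ := d.iso (P := F) (fun x _ m => by
    rcases h.le.es.mem_zp.1 (h.le.cent_eq.le (cent_mono QF m)) with rfl | rfl
    · rfl
    obtain ⟨y, k⟩ := d.ex 1 0
    have := k.2 0 (by decide)
    rw [z0, cjx (m y (mF _ _ y k)).symm] at this
    exact ((h.J _).rne k.1 (by rw [← k.1.x3, mul_eq_one_iff_eq_inv.2 this, one_mul])).elim) mF
    fun A k => (closure_le _).2 fun x ⟨a, i, l⟩ => k a i x l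
  have c : Nat.card F = 4952179814400 := by
    have := H11.card_pomegaPlus (F := ZMod 3) (m := 3) (by norm_num) (by norm_num)
    simp [Finset.prod_range_succ] at this
    rw [Nat.card_congr e.toEquiv]; omega
  have := H11.pomegaPlus_simple (F := ZMod 3) (m := 4) (by norm_num)
  have sF : Sim F := ⟨e.isSimpleGroup, fun k => by
    obtain ⟨x, k1⟩ := d.ex 0 0
    obtain ⟨y, k2⟩ := d.op k1 (b := 1) (by decide)
    exact d.nc k2 (comm_iff_le_cent.1 k (mF _ _ y k2.ry) x (mF _ _ x k1))⟩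
  have c1 := z0 ▸ tc 0 1
  have i1 : Io (ρ (g 1 * z * (g 1)⁻¹)) := by simpa [e0] using io 0 1 (by decide)
  obtain ⟨k, hk, ek⟩ := (h.J (g 1)).yc (tc 1 0) (h.J _).zz (io 1 0 (by decide))
    (y' := g0 * z * g0⁻¹ * z) (((h.J _).zc m0).mul_right c1.symm)
    (by rw [(h.zc T0.mem).mul_mul_mul_comm, (h.J _).zz, h.zz, one_mul]) ((h.J _).io_Q m0 c1.symm (z0 ▸ io 1 0 (by decide)))
  obtain ⟨a, ha, ea⟩ := h.le.es.exists_conj T0.mem (h.nw T0.mem (T0.ne h.toM)).lp.notMem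
  rw [h.hol T0 sF (nalt (m := 13) (by rw [c]; decide) (by rw [c]; decide)) QF (fun c hc => ?_)
    (mul_mem (inv_mem (QF ha)) ((YF 1).2 hk)) (by rw [← cc, ← z0, ek, z0, ← ea]; group)]
  · exact ⟨e⟩
  replace hc : Commute z c := (mem_cent1.1 hc).symm
  obtain ⟨k, hk, ek⟩ := h.yc c1 (h.J _).zz i1 ((hc.mul_right c1).mul_right hc.inv_right)
    (by rw [conj_mul, (h.J _).zz]; group) (h.io_cj hc c1 i1)
  have kF : k ∈ F := (YF 0).2 (by simpa [e0] using hk)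
  refine (mul_mem_cancel_left (inv_mem (le_normalizer kF))).1 (mem_norm_of_cj_le (cj_le_iff.2 ((closure_le _).2 ?_)))
  have f0 : k⁻¹ * c * (g 0 * z * (g 0)⁻¹) * (k⁻¹ * c)⁻¹ = g 0 * z * (g 0)⁻¹ := by
    rw [z0, cjx ((Commute.inv_right (mem_cent1.1 (Yz_le hk)).symm).mul_right hc).symm]
  have f1 : k⁻¹ * c * (g 1 * z * (g 1)⁻¹) * (k⁻¹ * c)⁻¹ = g 1 * z * (g 1)⁻¹ := by rw [← cc, ← ek]; group
  have f : ∀ a, k⁻¹ * c * (g a * z * (g a)⁻¹) * (k⁻¹ * c)⁻¹ = g a * z * (g a)⁻¹ := fun a => by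
    fin_cases a
    exacts [f0, f1, by rw [← tm (a := 0) (b := 1) (by decide) (by decide) (by decide), ← conj_mul, f0, f1]]
  rintro x ⟨a, i, l⟩
  obtain ⟨b, n⟩ := exists_ne a
  obtain ⟨κ, s⟩ := d.tr n n (f b) (f a)
  exact mem_cj_inv.2 (mF _ _ _ (s i x l))

end

theorem Lm.fin (h : Lm Q z π ρ) (T : Td z ρ D x') (T0 : Tt Q z π ρ g0) :
    Nonempty (Cfsg.generalizedFittingSubgroup G ≃* Cfsg.POmega (ZMod 3) (Cfsg.quadFormPlus 4 (ZMod 3))) := by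
  obtain ⟨r, c, e2, io, m⟩ := h.tri T0
  have yy : r * z * r⁻¹ * (r * z * r⁻¹) = 1 := (h.J r).zz
  have e3 : r * (z * (r * z * r⁻¹)) * r⁻¹ = z := by rw [← conj_mul, e2, ← mul_assoc, ← c.eq, mul_assoc, yy, mul_one]
  have io' := h.io_Q h.zQ c io
  have t0 : 1 * z * 1⁻¹ = z := by group
  have t2 : r * r * z * (r * r)⁻¹ = z * (r * z * r⁻¹) := by rw [← cc, e2]
  have zz := h.zz
  refine h.fin0 T (g := ![1, r, r * r]) (fun a b => ?_) (fun {a b c} k1 k2 k3 => ?_) (fun a b n => ?_) T0 rfl m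
  · have c1 := (Commute.refl z).mul_right c
    have c2 := c.symm.mul_right (Commute.refl _)
    fin_cases a <;> fin_cases b <;> simp only [Fin.zero_eta, Fin.mk_one, Fin.reduceFinMk, Matrix.cons_val, t0, t2]
    exacts [.refl _, c, c1, c.symm, .refl _, c2, c1.symm, c2.symm, .refl _]
  · fin_cases a <;> fin_cases b <;> fin_cases c <;> simp at k1 k2 k3 <;>
      simp only [Fin.zero_eta, Fin.mk_one, Fin.reduceFinMk, Matrix.cons_val, t0, t2] <;> generalize r * z * r⁻¹ = y at *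
    exacts [by rw [← mul_assoc, zz, one_mul], c.eq.symm, by rw [← mul_assoc, ← c.eq, mul_assoc, yy, mul_one],
      by rw [mul_assoc, ← c.eq, ← mul_assoc, zz, one_mul], by rw [mul_assoc, yy, mul_one]]
  have a1 : r⁻¹ * z * r = z * (r * z * r⁻¹) := by nth_rewrite 1 [← e3]; group
  have a2 : r⁻¹ * (z * (r * z * r⁻¹)) * r = r * z * r⁻¹ := by rw [← e2]; group
  fin_cases a <;> fin_cases b <;> simp only [Fin.zero_eta, Fin.mk_one, Fin.reduceFinMk, Matrix.cons_val, t0, t2] <;>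
    simp at n
  exacts [by simpa using io, by simpa using io', by rwa [a1], by rwa [a2],
    by rwa [show (r * r)⁻¹ * z * (r * r) = r⁻¹ * (r⁻¹ * z * r) * r by group, a1, a2],
    by rwa [show (r * r)⁻¹ * (r * z * r⁻¹) * (r * r) = r⁻¹ * z * r by group, a1]]

end H14.P9
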