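import Cfsg.Agent.H14.P93

/-! The toral data under the monomial hypothesis. -/

set_option autoImplicit false
set_option linter.unusedSectionVars false
set_option synthInstance.maxSize 4000

open Subgroup
namespace H14.P9
open H10.Y (F4 w bar tr M NW Et cy cube barbar f4)
open Equiv (Perm swap)
open H19 hiding eq_bot_mono
open H14.P8

variable {G : Type*} [Group G] [Finite G] {Q : Subgroup G} {z g a a' b c q s x y r : G} {π : G → V}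
  {ρ : G → V →+ V} {d δ δ' δ0 : V} {σ : Perm (Fin 4)} {ε : Fin 4 → ℤˣ} {γ : Γ}

theorem l1 : ∀ σ, K4 σ → ∀ τ, K4 τ → ∀ (e e' : ℤˣ) (r : V), W4 r → r ≠ 1 → (∀ i, r (σ i) = bb e (r i)) →
    (∀ i, (r * r) (τ i) = bb e' (r i)) → (σ = 1 → e = 1) ∧ (σ ≠ 1 → ∀ s : V, W4 s → s ≠ 1 → (∀ i, s (σ i) = bb e (s i)) →
      (∀ i, s (τ i) = bb e' (s i)) → (∀ i, s i ≠ 1) ∧ ∃ x : V, W4 x ∧ x ≠ 1 ∧ (∀ i, x (τ i) = bb e' (x i)) ∧
        ∀ i, (x * x) (σ i) = bb e (x i)) := by decide +kernel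
/-- the three axes -/
def ax (k : Fin 3) : V := ![vec w w (bar w) (bar w), vec w (bar w) w (bar w), vec w (bar w) (bar w) w] k
/-- two types -/
def ty (k : Bool) : Γ := bif k then (swap 0 2 * swap 1 3, -1) else (swap 0 3 * swap 1 2, -1)
theorem l2 : (∀ k, W4 (ax k) ∧ ax k ≠ 1) ∧ (∀ i, ax 0 i ≠ 1) ∧ (∀ d : V, pr d = 1 → ∃ a ∈ [1, ax 0, ax 0 * ax 0],
    ∃ b ∈ [1, ax 1, ax 1 * ax 1], ∃ c ∈ [1, ax 2, ax 2 * ax 2], d = a * (b * c)) ∧ (∀ k, K4 (ty k).1 ∧ ty k ≠ 1 ∧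
      (∀ i, ax 0 ((ty k).1 i) = bb (ty k).2 (ax 0 i)) ∧ ∀ v ∈ [vec w 0 0 0], bv v t0 ≠ 0 ∧
        ∃ s ∈ [vec 1 w 1 (bar w), vec 1 w (bar w) 1], W4 s ∧ bv s t0 = 0 ∧ ∀ γ : Γ, K4 γ.1 → RV (pu γ v + v + s) → γ = ty k) ∧
    (∀ i, ax 2 ((ty true).1 i) = bb (ty true).2 (ax 2 i) ∧ ax 1 ((ty false).1 i) = bb (ty false).2 (ax 1 i) ∧
      (ax 1 * ax 1) ((ty true).1 i) = bb (ty true).2 (ax 1 i) ∧ (ax 2 * ax 2) ((ty false).1 i) = bb (ty false).2 (ax 2 i)) ∧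
    K4 (ty true * ty false).1 ∧ ty true * ty false ≠ 1 ∧ ty true * ty false = ty false * ty true := by decide +kernel

/-- toral elements -/
structure Tr (z : G) (ρ : G → V →+ V) (s a : G) (δ : V) : Prop where
  cz : Commute z a
  cs : Commute s a
  a3 : a * a * a = 1
  ne : W4 δ
  eq : ∀ v, ρ a v = δ * v

namespace Lm
variable (h : Lm Q z π ρ)
include h

theorem dcj (hc : Commute z c) (ha : Commute z a) (m : Mo (ρ c) d σ ε) (e : ∀ v, ρ a v = δ * v)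
    (k : ∀ i, δ' (σ i) = bb (ε i) (δ i)) (v : V) : ρ (c * a * c⁻¹) v = δ' * v := funext fun j => by
  rw [h.rmul (hc.mul_right ha) hc.inv_right, h.rmul hc ha, e, ← σ.apply_symm_apply j, m.eq, Pi.mul_apply, Pi.mul_apply, k]
  conv_rhs => rw [← h.rinv' hc v, m.eq]
  rw [bbm, mul_left_comm]
theorem dcj' (hc : Commute z c) (ha : Commute z a) (m : Mo (ρ c) d σ ε) (e : ∀ v, ρ a v = δ * v)
    (e' : ∀ v, ρ (c * a * c⁻¹) v = δ' * v) (i : Fin 4) : δ' (σ i) = bb (ε i) (δ i) := by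
  have := congrFun ((h.dcj hc ha m e (δ' := fun j => bb (ε (σ⁻¹ j)) (δ (σ⁻¹ j))) (fun i => by rw [ia]) 1).symm.trans (e' 1)) (σ i)
  simpa only [Pi.mul_apply, Pi.one_apply, mul_one, ia] using this.symm
theorem z3' (c : Commute z s) (s3 : s * s * s = 1) : s * a * s⁻¹ ≠ z * a := fun e => h.z1 (by
  have e2 : ∀ y, s * (z * y) * s⁻¹ = z * (s * y * s⁻¹) := fun y => by rw [← mul_assoc, ← c.eq]; group
  have : s * (s * (s * a * s⁻¹) * s⁻¹) * s⁻¹ = a := by rw [cc, cc, s3]; group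
  rw [e, e2, e, e2, e2, e, ← mul_assoc z z, h.zz, one_mul] at this
  exact mul_eq_right.1 this)
theorem p4 (hc : Commute z c) (hd : W4 δ) (e : ∀ v, ρ c v = δ * v) :
    c ^ 4 * c ^ 4 * c ^ 4 = 1 ∧ ∀ v, ρ (c ^ 4) v = δ * v := by
  have m : c ^ 3 ∈ Q := pow_three' c ▸ h.cub hc hd e
  exact ⟨by rw [← pow_three', ← pow_mul, mul_comm, pow_mul, h.le.es.pow4 m], fun v => by
    rw [pow_succ, h.rmul (hc.pow_right 3) hc, h.rQ m, e]⟩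
theorem n1 (a3 : a * a * a = 1) (n : a ≠ 1) (c : Commute z a) (e : ∀ v, ρ a v = δ * v) : δ ≠ 1 := fun k =>
  n (h.oQ (og3 a3) (mem_zpowers a) (h.triv c fun v => by rw [e, k, one_mul]))
theorem dia (ha : Commute z a) (a3 : a * a * a = 1) (hc : Commute z c) (m : Mo (ρ c) d σ ε)
    (k : c * a * c⁻¹ = a⁻¹ ∨ K4 σ ∧ σ ≠ 1 ∧ Commute c a) : ∃ δ, W4 δ ∧ ∀ v, ρ a v = δ * v := by
  obtain ⟨δ, τ, η, mo⟩ := h.mono ha
  have e := h.m1 (a3 ▸ h.mm (ha.mul_right ha) ha (h.mm ha ha mo mo) mo)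
  obtain rfl := (k2 σ (h.par hc m).1).2 τ e.1 (k.imp (fun k => ((show a * c * a = c by
      rw [mul_assoc, mul_inv_eq_iff_eq_mul.1 k, mul_inv_cancel_left]) ▸
      h.mm (ha.mul_right hc) ha (h.mm ha hc mo m) mo).uniq m |>.1) fun k =>
    ⟨k.1, k.2.1, ((k.2.2.eq ▸ h.mm hc ha m mo).uniq (h.mm ha hc mo m)).1⟩)
  obtain rfl : η = 1 := funext fun i => by simpa using congrFun e.2.2 i
  exact ⟨δ, mo.ne, mo.dg⟩
theorem cos2 (hx : Commute z x) (xx : x * x = 1) (k : K4 γ.1) (n : γ ≠ 1) (e : ∀ v, ρ x v = pu γ v) (hq : q ∈ Q)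
    (s : q * x * (q * x) = 1 ∨ q * x * (q * x) = z) : ∃ b ∈ Q, b * x * b⁻¹ = q * x ∨ b * (z * x) * b⁻¹ = q * x := by
  have m := mul_mem hq (h.nm hx hq)
  have f := (h.ker _ m).2 (by rwa [inv_eq_of_mul_eq_one_right xx, ← mul_assoc, ← mul_assoc, mul_assoc (q * x)])
  rw [h.add _ hq _ (h.nm hx hq), h.conj x hx q hq, qsV.eq_iff, e] at f
  obtain ⟨u, eu⟩ := fixc (Prod.ext k.1 (Int.units_mul_self _)) (t1.2.2.1 γ k n).1 f.symm
  exact cos h.toM hx hq (by rw [e, eu])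

variable (S : Tr z ρ s s δ0) (n : ∀ i, δ0 i ≠ 1)
include S n

theorem cq (hq : q ∈ Q) (c : Commute s q) : q = 1 ∨ q = z := (h.ker q hq).1 (funext fun i => by_contra fun k =>
  n i (mul_right_cancel₀ k ((congrFun ((S.eq _).symm.trans (h.fx S.cz hq c)) i).trans (one_mul _).symm)))
theorem un (k : Tr z ρ s a δ) (k' : Tr z ρ s a' δ) : a = a' := by
  rcases h.cq S n (h.triv' k.cz k'.cz fun v => by rw [k.eq, k'.eq]) (k.cs.inv_right.mul_right k'.cs) with e | e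
  · exact inv_mul_eq_one.1 e
  have := k'.a3
  rw [inv_mul_eq_iff_eq_mul.1 e, ← k.cz.eq, z3 h.zz k.cz k.a3] at this
  exact (h.z1 this).elim
theorem exq (hc : Commute z c) (e : ∀ v, ρ (c * s * c⁻¹) v = δ0 * v) : ∃ q ∈ Q, Commute s (q * c) := by
  have c1 := (hc.mul_right S.cz).mul_right hc.inv_right
  have m : s * c * s⁻¹ * c⁻¹ ∈ Q := by
    simpa [mul_assoc] using h.nm S.cz (inv_mem (h.triv' S.cz c1 fun v => by rw [e, S.eq]))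
  obtain ⟨q, hq, k⟩ := h.surj ((δ0 + 1) * (δ0 + 1) * π (s * c * s⁻¹ * c⁻¹))
  have m1 := mul_mem (h.nm S.cz hq) m
  rcases h.eq_of m1 hq (funext fun i => by
    rw [h.add _ (h.nm S.cz hq) _ m, h.conj s S.cz q hq, S.eq, k]
    exact (by decide : ∀ d a : F4, d ≠ 1 → d * ((d + 1) * (d + 1) * a) + a = (d + 1) * (d + 1) * a) _ _ (n i)) with l | l
  · exact ⟨q, hq, mul_inv_eq_iff_eq_mul.1 (by nth_rewrite 2 [← l]; group)⟩
  · exact (h.z3' (a := q * c) S.cz S.a3 (by rw [← mul_assoc z, ← l]; group)).elim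
theorem exT (hd : W4 δ) : ∃ a, Tr z ρ s a δ := by
  obtain ⟨c, hc, e⟩ := h.jd hd
  obtain ⟨q, hq, k⟩ := h.exq S n hc (h.dcj hc S.cz (mo_dg hd e) S.eq fun _ => rfl)
  have c := (h.zc hq).mul_right hc
  have := h.p4 c hd fun v => by rw [h.rmul (h.zc hq) hc, h.rQ hq, e]
  exact ⟨_, c.pow_right 4, k.pow_right 4, this.1, hd, this.2⟩
theorem tcj (k : Tr z ρ s a δ) (k' : Tr z ρ s a' δ') (hc : Commute z c) (cs : Commute s c) (m : Mo (ρ c) d σ ε)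
    (e : ∀ i, δ' (σ i) = bb (ε i) (δ i)) : c * a * c⁻¹ = a' :=
  h.un S n ⟨(hc.mul_right k.cz).mul_right hc.inv_right, (cs.mul_right k.cs).mul_right cs.inv_right, c3' k.a3 c, k'.ne,
    h.dcj hc k.cz m k.eq e⟩ k'
theorem tcm (k : Tr z ρ s a δ) (k' : Tr z ρ s a' δ') : Commute a a' :=
  mul_inv_eq_iff_eq_mul.1 (h.tcj S n k' k' k.cz k.cs (mo_dg k.ne k.eq) fun _ => rfl)
theorem tmul (k : Tr z ρ s a δ) (k' : Tr z ρ s a' δ') : Tr z ρ s (a * a') (δ * δ') :=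
  ⟨k.cz.mul_right k'.cz, k.cs.mul_right k'.cs, by
    rw [← pow_three', (h.tcm S n k k').mul_pow, pow_three', pow_three', k.a3, k'.a3, one_mul],
    fun i => mul_ne_zero (k.ne i) (k'.ne i), fun v => by rw [h.rmul k.cz k'.cz, k'.eq, k.eq, mul_assoc]⟩
theorem tinv (k : Tr z ρ s a δ) : Tr z ρ s a⁻¹ (δ * δ) := inv_eq_of_mul_eq_one_left k.a3 ▸ h.tmul S n k k
theorem tone : Tr z ρ s 1 1 := ⟨.one_right _, .one_right _, by simp, by decide, fun v => by rw [h.r1, one_mul]⟩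

theorem exy (k : Bool) (e0 : δ0 = ax 0) :
    ∃ g, Commute z (g * z * g⁻¹) ∧ Commute s (g * z * g⁻¹) ∧ ∀ v, ρ (g * z * g⁻¹) v = pu (ty k) v := by
  obtain ⟨a1, a2, a3, a4⟩ := l2.2.2.2.1 k
  obtain ⟨a4, u, -, a5, a6, a7⟩ := a4 _ (.head _)
  obtain ⟨g0, T⟩ := h.ext
  obtain ⟨g, -, -, R⟩ := onto' (h.nw T.mem (T.ne h.toM)) (T.pt ▸ a4)
  obtain ⟨k, hp, -, ep⟩ := h.z81 _ a5
  replace R := R _ hp (by rw [ep, T.pt, a6])
  obtain ⟨γ, k1, k2⟩ := T.all _ R.1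
  obtain rfl := a7 γ k1 ((T.et _).1 (by rw [← k2, ← ep]; exact R.2))
  have c := cy R.1
  rw [cc] at c k2
  obtain ⟨q, hq, l⟩ := h.exq S n c (h.dcj c S.cz ((mo_pu _).congr k2) S.eq (e0 ▸ a3))
  have c' := (h.zc hq).mul_right c
  obtain ⟨b, hb, l'⟩ := h.cos2 c (h.J _).zz a1 a2 k2 hq (h.cq S n (h.triv (c'.mul_right c') fun v => by
    simp only [h.rmul c' c', h.rmul (h.zc hq) c, h.rQ hq, h.rsq c ((h.J _).zz ▸ one_mem Q)]) (l.mul_right l))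
  have cb := ((h.zc hb).mul_right c).mul_right (h.zc hb).inv_right
  refine ⟨b * (g * k), cc b _ z ▸ cb, ?_, fun v => by
    rw [← cc, h.rmul ((h.zc hb).mul_right c) (h.zc hb).inv_right, h.rmul (h.zc hb) c, h.rQ hb, h.rQ (inv_mem hb), k2]⟩
  rw [← cc]
  rcases l' with l' | l'
  · exact l' ▸ l
  · rw [← conj_mul, cjx (h.zc hb).symm] at l'
    exact eq_inv_mul_of_mul_eq l' ▸ S.cz.symm.inv_right.mul_right l

omit S n

theorem loc (ha : Commute z a) (hb : Commute z b) (na : Nn (ρ a)) (nb : Nn (ρ b)) (aa : a * a = 1) (aQ : a ∉ Q)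
    (hs : Commute z s) (s3 : s * s * s = 1) (s1 : s ≠ 1) (hr : Commute z r) (r3 : r * r * r = 1) (r1 : r ≠ 1)
    (sr : Commute s r) (as : Commute a s) (ar : Commute a r) (bs : Commute b s) (br : b * r * b⁻¹ = r⁻¹) :
    ∃ δ0, Tr z ρ s s δ0 ∧ (∀ i, δ0 i ≠ 1) ∧ (∃ δ, Tr z ρ s r δ) ∧
      ∃ x δ, Tr z ρ s x δ ∧ x ≠ 1 ∧ Commute b x ∧ a * x * a⁻¹ = x⁻¹ := by
  obtain ⟨_, σ, e, k, m⟩ := na
  obtain ⟨_, τ, e', k', m'⟩ := nb
  obtain ⟨δ, hd, f⟩ := h.dia hr r3 hb m' (.inl br)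
  obtain ⟨l, l'⟩ := l1 σ k τ k' e e' δ hd (h.n1 r3 r1 hr f) (h.dcj' ha hr m f (by rwa [cjx ar])) (h.dcj' hb hr m' f fun v => by
    rw [br, inv_eq_of_mul_eq_one_left r3, h.rmul hr hr, f, f, mul_assoc])
  have n : σ ≠ 1 := by
    rintro rfl
    obtain rfl := l rfl
    exact aQ (by simpa [aa] using h.cub ha m.ne (Mo.dg m))
  obtain ⟨δ0, hd0, f0⟩ := h.dia hs s3 ha m (.inr ⟨k, n, as⟩)
  obtain ⟨n0, u, u1, u2, u3, u4⟩ := l' n δ0 hd0 (h.n1 s3 s1 hs f0) (h.dcj' ha hs m f0 (by rwa [cjx as]))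
    (h.dcj' hb hs m' f0 (by rwa [cjx bs]))
  have S : Tr z ρ s s δ0 := ⟨hs, .refl _, s3, hd0, f0⟩
  obtain ⟨x, X⟩ := h.exT S n0 u1
  exact ⟨δ0, S, n0, ⟨δ, hr, sr, r3, hd, f⟩, x, u, X, fun l => u2 (by simpa [l, h.r1] using (X.eq 1).symm),
    mul_inv_eq_iff_eq_mul.1 (h.tcj S n0 X X hb bs.symm m' u3), h.tcj S n0 X (h.tinv S n0 X) ha as.symm m u4⟩

theorem ev' (c : Commute (a * z * a⁻¹) (b * z * b⁻¹)) : Nn (ρ (a⁻¹ * (b * z * b⁻¹) * a)) := by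
  have e : a⁻¹ * (b * z * b⁻¹) * a = a⁻¹ * b * z * (a⁻¹ * b)⁻¹ := by group
  exact e ▸ h.ev (e ▸ cJ' c)

theorem td : ∃ D x, Td z ρ D x := by
  obtain ⟨a1, n, a3, a4, a5, a6, a7, a8⟩ := l2
  obtain ⟨c, hc, e⟩ := h.jd (a1 0).1
  have S : Tr z ρ (c ^ 4) (c ^ 4) (ax 0) := ⟨hc.pow_right 4, .refl _, (h.p4 hc (a1 0).1 e).1, (a1 0).1, (h.p4 hc (a1 0).1 e).2⟩
  generalize c ^ 4 = s at S
  obtain ⟨r, R⟩ := h.exT S n (a1 1).1
  obtain ⟨r', R'⟩ := h.exT S n (a1 2).1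
  obtain ⟨g, c1, c2, c3⟩ := h.exy S n true rfl
  obtain ⟨g', c1', c2', c3'⟩ := h.exy S n false rfl
  have m := (mo_pu _).congr c3
  have m' := (mo_pu _).congr c3'
  have ne : ∀ {a k}, Tr z ρ s a (ax k) → a ≠ 1 := fun {a k} T l => (a1 k).2 (by simpa [l, h.r1] using (T.eq 1).symm)
  have cm := c1.mul_right c1'
  have em : ∀ v, ρ (g * z * g⁻¹ * (g' * z * g'⁻¹)) v = pu (ty true * ty false) v := fun v => by
    rw [h.rmul c1 c1', c3, c3', pu_mul]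
  have yy : Commute (g * z * g⁻¹) (g' * z * g'⁻¹) := by
    obtain ⟨g0, T⟩ := h.ext
    obtain ⟨x, hx, xx, ex⟩ := h.exI T a6 a7
    have q := h.triv (cm.mul_right (cy hx).inv_right) fun v => by rw [h.rmul cm (cy hx).inv_right, em, ← ex, h.rinv' (cy hx)]
    obtain ⟨b, -, l⟩ := h.cos2 (cy hx) xx a6 a7 ex q (by
      rw [inv_mul_cancel_right]
      exact h.cq S n (h.triv (cm.mul_right cm) fun v => by
        rw [h.rmul cm cm, em, em, ← pu_mul, show _ * _ = (1 : Γ) from Prod.ext a6.1 (Int.units_mul_self _), pu_one])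
        ((c2.mul_right c2').mul_right (c2.mul_right c2')))
    rw [inv_mul_cancel_right] at l
    have : g * z * g⁻¹ * (g' * z * g'⁻¹) * (g * z * g⁻¹ * (g' * z * g'⁻¹)) = 1 := by
      rcases l with l | l <;> rw [← l, conj_mul]
      exacts [by rw [xx]; group, by rw [(cy hx).symm.mul_mul_mul_comm, h.zz, xx]; group]
    rw [Commute, SemiconjBy, eq_inv_of_mul_eq_one_left this, _root_.mul_inv_rev, inv_eq_of_mul_eq_one_left (h.J g).zz,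
      inv_eq_of_mul_eq_one_left (h.J g').zz]
  have nz : ∀ g k, Commute z (g * z * g⁻¹) → (∀ v, ρ (g * z * g⁻¹) v = pu (ty k) v) →
      Nn (ρ (g⁻¹ * z * g)) ∧ z ∉ cj g Q := fun g k c e => ⟨by simpa using h.ev' (a := g) (b := 1) (by simpa using c.symm),
    fun l => (a4 k).2.1 (pu_inj fun v => by rw [← e, h.rQ (sym' h.le l), pu_one])⟩
  have f1 := h.tcj S n R' R' c1 c2 m fun i => (a5 i).1
  have f2 := h.tcj S n R R c1' c2' m' fun i => (a5 i).2.1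
  have f3 := h.tcj S n R (h.tinv S n R) c1 c2 m fun i => (a5 i).2.2.1
  have f4 := h.tcj S n R' (h.tinv S n R') c1' c2' m' fun i => (a5 i).2.2.2
  obtain ⟨_, U, u, ⟨_, U'⟩, x, _, X, x1, x2, x3⟩ := (h.J g).loc c1.symm yy (nz g _ c1 c3).1 (h.ev' yy) h.zz (nz g _ c1 c3).2
    c2.symm S.a3 (ne S) (mul_inv_eq_iff_eq_mul.1 f1) R'.a3 (ne R') R'.cs S.cz R'.cz c2'.symm f4
  obtain ⟨_, W, w, ⟨_, W'⟩, -⟩ := (h.J g').loc c1'.symm yy.symm (nz g' _ c1' c3').1 (h.ev' yy.symm) h.zz (nz g' _ c1' c3').2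
    c2'.symm S.a3 (ne S) (mul_inv_eq_iff_eq_mul.1 f2) R.a3 (ne R) R.cs S.cz R.cz c2.symm f3
  obtain ⟨_, _, _, mz⟩ := (h.J g').mono c1'.symm
  obtain ⟨_, y1, y2⟩ := (h.J g').dia x2 X.a3 c1'.symm mz (.inl x3)
  have b1 := (h.J g').tcm W w W' ⟨x2, X.cs, X.a3, y1, y2⟩
  have b2 := (h.J g).tcm U u U' X
  let D : Subgroup G := ⟨⟨⟨{a | ∃ δ, Tr z ρ s a δ ∧ Commute a x}, fun ⟨_, a, b⟩ ⟨_, a', b'⟩ =>
    ⟨_, h.tmul S n a a', b.mul_left b'⟩⟩, _, h.tone S n, .one_left _⟩, fun ⟨_, a, b⟩ => ⟨_, h.tinv S n a, b.inv_left⟩⟩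
  refine ⟨D, x, fun a ⟨_, k, _⟩ => mem_cent1.2 k.cz.symm, pg_of_pow Nat.prime_three fun a ⟨_, k, _⟩ => pow_three' a ▸ k.a3,
    fun a ⟨_, k, _⟩ b ⟨_, k', _⟩ => h.tcm S n k' k, fun d hd => ?_, fun a ⟨_, _, k⟩ => k, X.a3, x1, x3⟩
  have A : ∀ {a k}, Tr z ρ s a (ax k) → Commute a x → ∀ u ∈ [1, ax k, ax k * ax k], ∃ a, Tr z ρ s a u ∧ Commute a x :=
    fun T c u hu => by
      simp only [List.mem_cons, List.not_mem_nil, or_false] at hu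
      rcases hu with rfl | rfl | rfl
      exacts [⟨1, h.tone S n, .one_left _⟩, ⟨_, T, c⟩, ⟨_, h.tinv S n T, c.inv_left⟩]
  obtain ⟨u1, l1, u2, l2, u3, l3, rfl⟩ := a3 d hd
  obtain ⟨p1, k1, j1⟩ := A S X.cs u1 l1
  obtain ⟨p2, k2, j2⟩ := A R b1 u2 l2
  obtain ⟨p3, k3, j3⟩ := A R' b2 u3 l3
  have T := h.tmul S n k1 (h.tmul S n k2 k3)
  exact ⟨_, ⟨_, T, j1.mul_left (j2.mul_left j3)⟩, T.eq⟩

theorem main : Nonempty (Cfsg.generalizedFittingSubgroup G ≃* Cfsg.POmega (ZMod 3) (Cfsg.quadFormPlus 4 (ZMod 3))) :=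
  let ⟨_, _, T⟩ := h.td; let ⟨_, T0⟩ := h.ext; h.fin T T0

end Lm

end H14.P9
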