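import Cfsg.Agent.H14.X90
import Cfsg.Agent.H10.Fusion

/-! Large extraspecial subgroups of order `2⁹`: the common kit. -/

set_option autoImplicit false
set_option linter.unusedSectionVars false

open Subgroup
namespace H14.X9
open H0 H19 H10.Y
open H10.R (N8 n8 A8 st st_eq BS ext8)
open scoped commutatorElement

theorem ap_eq (m v : ℕ) : ap m v = ((cl m v 0 ^^^ cl m v 1) ^^^ (cl m v 2 ^^^ cl m v 3)) ^^^
  ((cl m v 4 ^^^ cl m v 5) ^^^ (cl m v 6 ^^^ cl m v 7)) := st_eq _ _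
theorem and1 (n : ℕ) : n &&& 1 = 0 ∨ n &&& 1 = 1 := by rw [Nat.and_one_is_mod]; omega
theorem cl_lt (m v i : ℕ) : cl m v i < 2 ^ 8 := by
  have : m >>> (8 * i) &&& 255 ≤ 255 := Nat.and_le_right
  rcases and1 (v >>> i) with e | e <;> rw [cl, e] <;> omega
theorem ap_lt (m v : ℕ) : ap m v < 256 := by
  rw [ap_eq]; change _ < 2 ^ 8
  repeat first | exact cl_lt _ _ _ | apply Nat.xor_lt_two_pow
theorem cl_xor (m u v i : ℕ) : cl m (u ^^^ v) i = cl m u i ^^^ cl m v i := by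
  rw [cl, cl, cl, Nat.shiftRight_xor_distrib, Nat.and_xor_distrib_right]
  rcases and1 (u >>> i) with e | e <;> rcases and1 (v >>> i) with e' | e' <;> simp [e, e']
theorem ap_xor (m u v : ℕ) : ap m (u ^^^ v) = ap m u ^^^ ap m v := by
  simp only [ap_eq, cl_xor]; ac_rfl
/-- the additive map with a given matrix -/
def A (m : ℕ) : N8 →+ N8 := AddMonoidHom.mk' (fun v => ⟨ap m v.1, ap_lt _ _⟩) fun _ _ => Fin.ext (ap_xor _ _ _)
theorem A1 (m : ℕ) (v : N8) : (A m v).1 = ap m v.1 := rfl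
/-- a check on all numbers below 256 -/
def A256 (p : ℕ → Bool) : Bool := (List.range 256).all p
theorem A256.of {p : ℕ → Bool} (h : A256 p = true) {v : ℕ} (hv : v < 256) : p v = true :=
  List.all_eq_true.1 h v (List.mem_range.2 hv)
theorem ap_ID {v : ℕ} (hv : v < 256) : ap ID v = v :=
  beq_iff_eq.1 (A256.of (p := fun v => ap ID v == v) (by decide +kernel) hv)
theorem n81 {v : ℕ} (hv : v < 256) : (n8 v).1 = v := Nat.mod_eq_of_lt hv
/-- an additive map is given by its matrix -/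
theorem exA (f : N8 →+ N8) : ∃ m < 2 ^ 64, ∀ v, (f v).1 = ap m v.1 := by
  let c := fun i => (f (n8 i)).1
  have l : ∀ i, c i < 256 := fun i => (f (n8 i)).2
  refine ⟨c 1 + 2 ^ 8 * c 2 + 2 ^ 16 * c 4 + 2 ^ 24 * c 8 + 2 ^ 32 * c 16 + 2 ^ 40 * c 32 + 2 ^ 48 * c 64 + 2 ^ 56 * c 128,
    by have := l 1; have := l 2; have := l 4; have := l 8; have := l 16; have := l 32; have := l 64; have := l 128; omega,
    fun v => congrArg Fin.val (ext8 (f' := A _) (fun v hv => Fin.ext ?_) v)⟩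
  have := l 1; have := l 2; have := l 4; have := l 8; have := l 16; have := l 32; have := l 64; have := l 128
  have k : ∀ n, n &&& 255 = n % 256 := fun n => Nat.and_two_pow_sub_one_eq_mod n 8
  simp only [BS, List.mem_cons, List.not_mem_nil, or_false] at hv
  rcases hv with rfl | rfl | rfl | rfl | rfl | rfl | rfl | rfl <;>
    rw [A1, ap_eq] <;> refine (show _ = c _ from ?_).symm <;> rw [n81 (by decide)] <;>
    simp only [cl, k, Nat.shiftRight_eq_div_pow] <;> norm_num <;> omega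

theorem ev_nil (L : List ℕ) (v : ℕ) : ev L [] v = v := rfl
theorem ev_cons (L : List ℕ) (k : ℕ) (W : List ℕ) (v : ℕ) : ev L (k :: W) v = ev L W (ap (L.getD k ID) v) := rfl
theorem ev_append (L W W' : List ℕ) (v : ℕ) : ev L (W ++ W') v = ev L W' (ev L W v) := List.foldl_append ..
theorem ev_lt {L W : List ℕ} {v : ℕ} (hv : v < 256) : ev L W v < 256 := by
  induction W generalizing v with
  | nil => exact hv
  | cons k W ih => exact ih (ap_lt _ _)
theorem ev_xor (L W : List ℕ) (u v : ℕ) : ev L W (u ^^^ v) = ev L W u ^^^ ev L W v := by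
  induction W generalizing u v with
  | nil => rfl
  | cons k W ih => rw [ev_cons, ap_xor, ih]; rfl
theorem getD_cases (L : List ℕ) (k : ℕ) : L.getD k ID = ID ∨ L.getD k ID ∈ L := by
  rw [List.getD_eq_getElem?_getD]
  cases e : L[k]? with
  | none => exact .inl rfl
  | some a => exact .inr (List.mem_of_getElem? e)
/-- all matrices of the list are involutions -/
def Inv (L : List ℕ) : Bool := L.all fun m => A256 fun v => ap m (ap m v) == v
theorem ev_rev {L : List ℕ} (h : Inv L = true) (W : List ℕ) {v : ℕ} (hv : v < 256) : ev L W.reverse (ev L W v) = v := by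
  induction W generalizing v with
  | nil => rfl
  | cons k W ih =>
    rw [List.reverse_cons, ev_append, ev_cons, ev_cons, ih (ap_lt _ _), ev_nil]
    rcases getD_cases L k with e | e
    · rw [e, ap_ID hv, ap_ID hv]
    · exact beq_iff_eq.1 (A256.of (List.all_eq_true.1 h _ e) hv)
theorem ev_rev' {L : List ℕ} (h : Inv L = true) (W : List ℕ) {v : ℕ} (hv : v < 256) : ev L W (ev L W.reverse v) = v := by
  simpa using ev_rev h W.reverse hv
theorem inv_kg (k : ℕ) : Inv (kg k) = true := by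
  rcases lt_or_ge k 11 with h | h
  · revert k; decide +kernel
  · rw [kg, List.getD_eq_default _ _ h]; rfl
/-- the word with given hexadecimal digits, lowest first, each lowered by one -/
def dw : ℕ → ℕ → List ℕ
  | 0, _ => []
  | f + 1, n => bif n == 0 then [] else (n % 16 - 1) :: dw f (n / 16)
/-- words carrying the first point to the others -/
def WD : List (List (ℕ × ℕ)) := [
  [(1, 0x0), (4, 0x165), (5, 0x65), (16, 0x2654), (17, 0x654), (20, 0x14), (21, 0x4), (64, 0x354), (65, 0x54), (68, 0x164),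
   (69, 0x64), (80, 0x26), (81, 0x6), (84, 0x15), (85, 0x5)],
  [(1, 0x0), (2, 0x3252415), (4, 0x515), (5, 0x65), (6, 0x2415), (8, 0x32524154), (9, 0x241514), (10, 0x32624154), (15, 0x24154), (16, 0x254154),
   (17, 0x54154), (20, 0x14), (21, 0x4), (22, 0x21421514), (24, 0x2524154), (25, 0x2431514), (31, 0x2421514), (32, 0x3524215), (33, 0x142514), (34, 0x352415),
   (36, 0x524215), (37, 0x532154), (38, 0x415), (40, 0x3521421514), (42, 0x315242154), (55, 0x1421514), (59, 0x3254), (60, 0x521421514), (62, 0x514), (64, 0x35243154),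
   (65, 0x5243154), (66, 0x36242154), (68, 0x532514), (69, 0x42614), (72, 0x3524154), (73, 0x41514), (74, 0x362432154), (80, 0x26), (81, 0x6), (82, 0x3154),
   (86, 0x21514), (88, 0x431514), (89, 0x524154), (90, 0x354), (95, 0x2514), (96, 0x36243154), (97, 0x42514), (98, 0x35242154), (100, 0x432514), (101, 0x6243154),
   (104, 0x352432154), (106, 0x3624154), (111, 0x4154), (115, 0x32154), (119, 0x1514), (125, 0x52432154), (126, 0x421514), (128, 0x25415), (129, 0x6154), (130, 0x252415),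
   (132, 0x5415), (133, 0x5154), (134, 0x24215), (137, 0x2432154), (143, 0x24321514), (144, 0x264154), (145, 0x654), (148, 0x6514), (149, 0x64154), (150, 0x25432154),
   (153, 0x242154), (154, 0x2624154), (159, 0x243154), (160, 0x215), (162, 0x4215), (164, 0x15), (166, 0x52415), (168, 0x3614), (169, 0x264), (170, 0x3514),
   (175, 0x254), (179, 0x5432154), (188, 0x614), (189, 0x3264), (190, 0x15242154), (195, 0x6242154), (203, 0x54), (205, 0x432154), (206, 0x32514), (211, 0x154),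
   (215, 0x321514), (219, 0x62432154), (220, 0x42154), (231, 0x5242154), (235, 0x4321514), (236, 0x32614), (237, 0x64), (240, 0x25), (242, 0x31514), (245, 0x5),
   (246, 0x2154), (248, 0x364), (249, 0x2614), (250, 0x43154), (255, 0x624154)],
  [(1, 0x0), (2, 0x325314), (4, 0x414), (5, 0x65), (6, 0x314), (8, 0x32534), (9, 0x6534), (10, 0x32634), (15, 0x34), (16, 0x2434),
   (17, 0x434), (24, 0x2534), (25, 0x654), (32, 0x3514), (34, 0x35314), (36, 0x514), (38, 0x3214), (64, 0x354), (65, 0x54), (72, 0x3534),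
   (73, 0x3524), (80, 0x26), (81, 0x6), (88, 0x524), (89, 0x534), (96, 0x364), (101, 0x64), (106, 0x3634), (111, 0x324), (128, 0x24314),
   (130, 0x25314), (132, 0x4314), (134, 0x14), (144, 0x26324), (149, 0x6324), (154, 0x2634), (159, 0x4), (160, 0x215), (162, 0x214), (164, 0x15),
   (166, 0x5314), (240, 0x25), (245, 0x5), (250, 0x24), (255, 0x634)],
  [(1, 0x0), (2, 0x3215), (4, 0x414), (5, 0x65), (8, 0x326), (10, 0x325), (16, 0x424), (17, 0x654), (24, 0x26), (32, 0x3514),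
   (34, 0x315), (36, 0x514), (64, 0x354), (65, 0x54), (72, 0x36), (89, 0x6), (96, 0x364), (101, 0x64), (106, 0x35), (128, 0x214),
   (130, 0x215), (132, 0x14), (144, 0x24), (149, 0x4), (154, 0x25), (166, 0x15), (255, 0x5)],
  [(1, 0x0), (2, 0x3215), (4, 0x18), (5, 0x8), (8, 0x825), (10, 0x325), (16, 0x424), (17, 0x84), (22, 0x2918), (24, 0x26),
   (31, 0x329), (32, 0x3514), (34, 0x315), (36, 0x514), (41, 0x95), (47, 0x296), (55, 0x918), (59, 0x596), (61, 0x59), (62, 0x6219),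
   (64, 0x354), (65, 0x54), (70, 0x196), (72, 0x85), (79, 0x96), (82, 0x2964), (84, 0x194), (85, 0x94), (86, 0x9354), (89, 0x6),
   (90, 0x925), (95, 0x5914), (96, 0x854), (101, 0x64), (102, 0x915), (105, 0x195), (106, 0x35), (115, 0x964), (119, 0x629), (124, 0x935),
   (126, 0x39), (128, 0x214), (130, 0x215), (132, 0x14), (137, 0x924), (143, 0x29), (144, 0x24), (149, 0x4), (150, 0x219), (153, 0x298),
   (154, 0x25), (161, 0x914), (165, 0x419), (166, 0x15), (168, 0x9215), (169, 0x594), (170, 0x1926), (175, 0x694), (179, 0x19), (187, 0x69),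
   (188, 0x5219), (189, 0x954), (199, 0x519), (203, 0x2694), (205, 0x198), (206, 0x9514), (211, 0x529), (215, 0x595), (220, 0x98), (222, 0x396),
   (227, 0x619), (235, 0x9), (236, 0x1954), (237, 0x2594), (241, 0x1914), (242, 0x926), (244, 0x984), (246, 0x3964), (248, 0x2954), (249, 0x6914),
   (255, 0x5)],
  [(1, 0x0), (2, 0x3216), (8, 0x426), (10, 0x326), (16, 0x4214), (17, 0x6325), (18, 0x3524), (20, 0x414), (21, 0x1414), (24, 0x265),
   (26, 0x4265), (34, 0x316), (51, 0x32524), (68, 0x6154), (69, 0x51414), (72, 0x365), (80, 0x416), (81, 0x5325), (89, 0x65), (106, 0x36),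
   (123, 0x3415), (128, 0x214), (130, 0x216), (132, 0x14), (136, 0x2154), (138, 0x1524), (144, 0x24), (146, 0x524), (149, 0x4), (152, 0x254),
   (154, 0x26), (166, 0x16), (168, 0x215), (169, 0x35), (183, 0x2524), (188, 0x264), (189, 0x5), (204, 0x154), (221, 0x54), (236, 0x15),
   (237, 0x325), (238, 0x415), (248, 0x25), (249, 0x64), (255, 0x6)],
  [(1, 0x0), (2, 0x165), (4, 0x164), (5, 0x64), (15, 0x65), (34, 0x16), (111, 0x6), (130, 0x1624), (159, 0x624), (166, 0x316),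
   (169, 0x24), (189, 0x5), (237, 0x4), (248, 0x34), (250, 0x36)],
  [(1, 0x0), (2, 0x165), (4, 0x164), (5, 0x64), (6, 0x198), (10, 0x98), (15, 0x65), (20, 0x84), (21, 0x734), (32, 0x195),
   (34, 0x16), (36, 0x716), (38, 0x19), (68, 0x75), (69, 0x834), (80, 0x724), (81, 0x2724), (96, 0x95), (101, 0x395), (106, 0x9),
   (111, 0x6), (128, 0x186), (130, 0x1624), (132, 0x1934), (134, 0x7164), (144, 0x86), (149, 0x934), (154, 0x864), (159, 0x624), (160, 0x1924),
   (162, 0x319), (164, 0x4195), (166, 0x316), (168, 0x27), (169, 0x24), (188, 0x8), (189, 0x5), (236, 0x7), (237, 0x4), (240, 0x924),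
   (245, 0x2924), (248, 0x34), (249, 0x37), (250, 0x36), (255, 0x39)],
  [(1, 0x0), (2, 0x31634), (8, 0x3264), (10, 0x215), (24, 0x264), (26, 0x1514), (31, 0x4), (32, 0x165), (34, 0x2514), (36, 0x5214),
   (38, 0x214), (40, 0x5324), (41, 0x435), (42, 0x15), (51, 0x5), (59, 0x354), (60, 0x5424), (61, 0x534), (62, 0x24), (66, 0x514),
   (70, 0x14), (72, 0x364), (82, 0x25), (84, 0x16), (85, 0x6), (89, 0x64), (90, 0x3634), (97, 0x65), (98, 0x3635), (100, 0x365),
   (104, 0x1435), (105, 0x2435), (123, 0x6354), (124, 0x2534), (125, 0x1534), (128, 0x1434), (130, 0x1634), (133, 0x535), (136, 0x4254), (137, 0x5354),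
   (138, 0x254), (143, 0x34), (145, 0x434), (149, 0x2434), (152, 0x51514), (153, 0x5435), (154, 0x2524), (160, 0x53214), (161, 0x5434), (162, 0x3214),
   (164, 0x5154), (165, 0x4354), (166, 0x154), (168, 0x515), (170, 0x324), (175, 0x54), (183, 0x35), (188, 0x424), (190, 0x524), (195, 0x3514),
   (199, 0x314), (203, 0x634), (204, 0x5364), (205, 0x43514), (211, 0x325), (220, 0x53634), (221, 0x4325), (231, 0x635), (237, 0x654), (238, 0x2634),
   (240, 0x43635), (241, 0x5314), (244, 0x4365), (245, 0x25314), (248, 0x2424)],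
  [(1, 0x0), (2, 0x15), (95, 0x5), (111, 0x64), (115, 0x6), (143, 0x35), (183, 0x4), (187, 0x14), (195, 0x24)],
  [(1, 0x0), (2, 0x15), (4, 0x17), (5, 0x7), (6, 0x715), (8, 0x275), (9, 0x6914), (10, 0x4275), (15, 0x9814), (16, 0x6495),
   (17, 0x5767), (18, 0x595), (20, 0x4915), (21, 0x68714), (22, 0x915), (24, 0x3275), (25, 0x485), (26, 0x495), (31, 0x864), (32, 0x4986),
   (33, 0x5474), (34, 0x986), (36, 0x4874), (37, 0x14914), (38, 0x374), (40, 0x9714), (41, 0x957), (42, 0x176), (47, 0x85), (51, 0x86),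
   (55, 0x76), (59, 0x3174), (60, 0x764), (61, 0x2474), (62, 0x4764), (64, 0x675), (65, 0x576), (66, 0x815), (68, 0x5814), (69, 0x4375),
   (70, 0x276), (72, 0x75), (73, 0x175), (74, 0x935), (79, 0x6574), (80, 0x4714), (81, 0x5964), (82, 0x5974), (84, 0x684), (85, 0x1684),
   (86, 0x3274), (88, 0x4974), (89, 0x375), (90, 0x5714), (95, 0x5), (96, 0x475), (97, 0x2475), (98, 0x575), (100, 0x6814), (101, 0x4914),
   (102, 0x96), (104, 0x3474), (105, 0x5864), (106, 0x5815), (111, 0x64), (115, 0x6), (119, 0x876), (123, 0x914), (124, 0x875), (125, 0x474),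
   (126, 0x1575), (128, 0x5824), (129, 0x476), (130, 0x824), (132, 0x417), (133, 0x5914), (134, 0x9274), (136, 0x735), (137, 0x657), (138, 0x4735),
   (143, 0x35), (144, 0x8574), (145, 0x2574), (146, 0x695), (148, 0x6764), (149, 0x574), (150, 0x274), (152, 0x2484), (153, 0x674), (154, 0x95),
   (159, 0x1724), (160, 0x494), (161, 0x6724), (162, 0x94), (164, 0x617), (165, 0x1584), (166, 0x874), (168, 0x157), (169, 0x1714), (170, 0x1874),
   (175, 0x964), (179, 0x9874), (183, 0x4), (187, 0x14), (188, 0x257), (189, 0x2714), (190, 0x757), (195, 0x24), (199, 0x767), (203, 0x2685),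
   (204, 0x696), (205, 0x8714), (206, 0x814), (211, 0x724), (215, 0x67), (219, 0x2174), (220, 0x484), (221, 0x2674), (222, 0x9864), (227, 0x74),
   (231, 0x984), (235, 0x985), (236, 0x3714), (237, 0x676), (238, 0x174), (240, 0x6974), (241, 0x2584), (242, 0x974), (244, 0x584), (245, 0x8584),
   (246, 0x84), (248, 0x714), (249, 0x57), (250, 0x184), (255, 0x685)]]
theorem wd_ok : ((List.range 11).all fun k => A256 fun x => !ox k x || (k == 0 && !E0 x) ||
    (WD.getD k []).any fun p => p.1 == x && ev (kg k) (dw 16 p.2) 1 == x) = true := by decide +kernel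
theorem wd {k x : ℕ} (hk : k < 11) (hx : x < 256) (h : ox k x = true) (h0 : k = 0 → E0 x = true) : ∃ W, ev (kg k) W 1 = x := by
  have := A256.of (List.all_eq_true.1 wd_ok k (List.mem_range.2 hk)) hx
  simp only [h, Bool.not_true, Bool.false_or, Bool.or_eq_true, Bool.and_eq_true, beq_iff_eq, List.any_eq_true] at this
  rcases this with ⟨a, b⟩ | ⟨p, -, -, e⟩
  · simp [h0 a] at b
  · exact ⟨_, e⟩

instance : Module (ZMod 2) N8 := AddCommGroup.zmodModule fun x => (two_nsmul x).trans (neg_add_cancel x)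
theorem pol {V : Type*} [AddCommGroup V] {q : V → ZMod 2} {b : V → V → ZMod 2} (s : QS q b) (u v : V) :
    QuadraticMap.polar q u v = b u v := by rw [QuadraticMap.polar, s.qadd]; ring
/-- the quadratic form of a quadratic space -/
def QS.form {V : Type*} [AddCommGroup V] [Module (ZMod 2) V] {q : V → ZMod 2} {b : V → V → ZMod 2} (s : QS q b) :
    QuadraticForm (ZMod 2) V := QuadraticMap.ofPolar q (fun a x => by rcases z2 a with rfl | rfl <;> simp [s.q0])
  (fun x y w => by rw [pol s, pol s, pol s, s.badd])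
  (fun a x y => by rw [pol s, pol s]; rcases z2 a with rfl | rfl <;> simp [s.b0])
theorem QS.nd' {V : Type*} [AddCommGroup V] [Module (ZMod 2) V] {q : V → ZMod 2} {b : V → V → ZMod 2} (s : QS q b) :
    H12.QNondeg (QS.form s) := fun x h => s.nd x fun y => (pol s x y).symm.trans (h y)
theorem QS.rk {V : Type*} [AddCommGroup V] [Module (ZMod 2) V] {q : V → ZMod 2} {b : V → V → ZMod 2} (s : QS q b) :
    Module.finrank (ZMod 2) V = 2 * 4 := by
  have := s.fin
  have e := Module.natCard_eq_pow_finrank (K := ZMod 2) (V := V)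
  rw [s.card, Nat.card_zmod] at e
  exact Nat.pow_right_injective le_rfl (e.symm.trans rfl)
/-- the two forms on the coordinate space -/
def qF (e : Bool) : QuadraticForm (ZMod 2) N8 := QS.form (qs e)
theorem qF_eq (e : Bool) (v : N8) : qF e v = q e v := rfl

theorem co {V : Type*} [AddCommGroup V] {q' : V → ZMod 2} {b' : V → V → ZMod 2} (s : QS q' b') :
    ∃ e, ∃ φ : N8 ≃+ V, ∀ v, q' (φ v) = q e v := by
  let _ := AddCommGroup.zmodModule (n := 2) (G := V) fun x => by rw [two_nsmul, s.two]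
  have := s.fin
  have A : ∀ e, (H12.CForm.ofQuad (qF e)).HasTS 4 ↔ e = true := by
    have t : (H12.CForm.ofQuad (qF true)).HasTS 4 := H12.hasTS_of_family (ι := Fin 4) (v := ![n8 1, n8 4, n8 16, n8 64])
      (Fintype.linearIndependent_iff.2 (by
        intro g h i
        simp only [Fin.sum_univ_four] at h
        rcases z2 (g 0) with e0 | e0 <;> rcases z2 (g 1) with e1 | e1 <;> rcases z2 (g 2) with e2 | e2 <;>
          rcases z2 (g 3) with e3 | e3 <;> simp only [e0, e1, e2, e3, zero_smul, one_smul] at h <;>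
          first | exact absurd h (by decide) | (fin_cases i <;> assumption)))
      (by decide) fun i j => (pol (qs true) _ _).trans (by revert i j; decide)
    refine fun e => ⟨fun k => ?_, fun k => k ▸ t⟩
    obtain ⟨f, hf⟩ := H12.quad_iso_iff.1 (H12.quad_even_iso (QS.nd' (qs e)) (QS.nd' (qs true)) (QS.rk (qs e))
      (QS.rk (qs true)) (iff_of_true k t))
    have c := Fintype.card_congr (f.toEquiv.subtypeEquiv (p := fun v => q e v = 0) (q := fun v => q true v = 0) fun v =>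
      iff_of_eq (congrArg (· = 0) (hf v).symm))
    rw [Fintype.card_subtype, Fintype.card_subtype] at c
    clear hf f k; revert c e; decide +kernel
  obtain ⟨e, he⟩ : ∃ e, (H12.CForm.ofQuad (qF e)).HasTS 4 ↔ (H12.CForm.ofQuad (QS.form s)).HasTS 4 := by
    by_cases k : (H12.CForm.ofQuad (QS.form s)).HasTS 4
    exacts [⟨true, by simp [A, k]⟩, ⟨false, by simp [A, k]⟩]
  obtain ⟨f, hf⟩ := H12.quad_iso_iff.1 (H12.quad_even_iso (QS.nd' (qs e)) (QS.nd' s) (QS.rk (qs e)) (QS.rk s) he)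
  exact ⟨e, f.toAddEquiv, hf⟩

section
variable {G : Type*} [Group G] [Finite G] {V : Type*} [AddCommGroup V] {q : V → ZMod 2} {b : V → V → ZMod 2}
  {Q Q' K : Subgroup G} {z t g g' c p : G} {π : G → V} {ρ : G → V →+ V} {v : V}

theorem res [IsSimpleGroup G] (h : M Q z π ρ q b) : Cfsg.pResidual 2 G = ⊤ := H10.pResidual_eq_top_of_index fun H k => by
  rcases (H.normal_of_index_eq_two k).eq_bot_or_eq_top with rfl | rfl
  · have := Nat.le_of_dvd Nat.card_pos Q.card_subgroup_dvd_card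
    rw [index_bot] at k
    have := h.card
    omega
  · simp at k

/-- a subgroup of index two in the centralizer misses an element of some `Q' ⊓ C[z]` -/
theorem idx2 (h : M Q z π ρ q b) (hres : Cfsg.pResidual 2 G = ⊤) (hK : K.relIndex C[z] = 2) :
    ∃ g, Pt Q z g ∧ ∃ p ∈ cj g Q ⊓ C[z], p ∉ K := by
  obtain ⟨g, h1, h2, h3, h4, h5⟩ := h.le.exists_bad hres hK
  have k : g * z * g⁻¹ ∈ Q := by
    refine by_contra fun hn => h5 ⟨fun e => h4 ⟨e, hn⟩, ?_⟩
    have hz' : z ∉ cj g K := fun e => h4 ⟨e, hn⟩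
    have hab : Abelem 2 (Q ⊓ C[g * z * g⁻¹] : Subgroup G) := abelem2_iff.2 fun x hx =>
      (h.le.es.sq x hx.1).resolve_right fun e => hz' (by
        have hx' : g⁻¹ * x * g ∈ C[z] := mem_cj.1 (cj_cent1 g z ▸ hx.2)
        have : g⁻¹ * x * g * (g⁻¹ * x * g) ∈ K :=
          (mul_mem_iff_of_index_two hK (a := ⟨_, hx'⟩) (b := ⟨_, hx'⟩)).2 Iff.rfl
        rw [mem_cj, ← e]; convert this using 1; group)
    have e1 := h.le.es.card_le_of_not (h.le.es.not_hasEA (m := 4) h.card) inf_le_left hab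
    have e2 := card_mul_relIndex (inf_le_left : Q ⊓ C[g * z * g⁻¹] ≤ Q)
    rw [inf_relIndex_left, h.card] at e2
    by_contra e3
    have e4 := Nat.mul_le_mul e1 (not_lt.1 e3)
    omega
  obtain ⟨a, ha, n⟩ := SetLike.not_le_iff_exists.1 fun i => h3 ⟨i, k⟩
  refine ⟨g⁻¹, ⟨mem_cj_inv.1 (by simpa using h.le.symm k), fun i => h1 (by
      calc g * z * g⁻¹ = g * (g⁻¹ * z * g⁻¹⁻¹) * g⁻¹ := by rw [i]
        _ = z := by group)⟩, g⁻¹ * a * g,
    ⟨by simpa [mem_cj, mul_assoc] using ha.1, mem_cj.1 (cj_cent1 g z ▸ ha.2)⟩, mt mem_cj.2 n⟩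

/-- a property defining a subgroup of index at most two holds everywhere -/
theorem idx2' [IsSimpleGroup G] (h : M Q z π ρ q b) (hK : ∀ x y, Commute z x → Commute z y → x ∉ K → y ∉ K → x * y ∈ K)
    (H : ∀ g, Pt Q z g → cj g Q ⊓ C[z] ≤ K) (hc : Commute z c) : c ∈ K := by
  by_contra n
  obtain ⟨g, k, p, a, m⟩ := idx2 (K := K) h (res h) (relIndex_eq_two_iff_exists_notMem_and.2
    ⟨c, mem_cent1.2 hc.symm, n, fun y hy => or_iff_not_imp_right.2 fun k => hK _ _ (mem_cent1.1 hy).symm hc k n⟩)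
  exact m (H g k a)

theorem nw (h : M Q z π ρ q b) (k : Pt Q z g) : NW Q z π ρ q b (cj g Q) (g * z * g⁻¹) := ⟨h, h.le.lp k.1 k.2⟩

theorem Pt.J (h : M Q z π ρ q b) (k : Pt Q z g) (hc : Commute z c) : Pt Q z (c * g) ∧
    π (c * g * z * (c * g)⁻¹) = ρ c (π (g * z * g⁻¹)) := by
  rw [Pt, show c * g * z * (c * g)⁻¹ = c * (g * z * g⁻¹) * c⁻¹ by group]
  exact ⟨⟨h.nm hc k.1, fun e => k.2 (by
    rw [mul_inv_eq_iff_eq_mul, hc.eq] at e; exact mul_left_cancel e)⟩, h.conj c hc _ k.1⟩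
theorem EtJ (h : M Q z π ρ q b) (hc : Commute z c) : v ∈ Et Q (cj (c * g) Q) π ↔ ρ c⁻¹ v ∈ Et Q (cj g Q) π := by
  rw [cj_mul]
  refine ⟨fun ⟨e, a, k⟩ => ⟨c⁻¹ * e * c⁻¹⁻¹, ⟨h.nm hc.inv_right a.1, by simpa using mem_cj.1 a.2⟩, by
    rw [h.conj _ hc.inv_right _ a.1, k]⟩, fun ⟨e, a, k⟩ => ⟨c * e * c⁻¹, ⟨h.nm hc a.1, conj_mem_cj.2 a.2⟩, by
    rw [h.conj _ hc _ a.1, k, h.rinv' hc]⟩⟩
theorem rcj (h : M Q z π ρ q b) (hc : Commute z c) (hp : Commute z p) (v : V) : ρ (c * p * c⁻¹) v = ρ c (ρ p (ρ c⁻¹ v)) := by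
  rw [h.rmul (hc.mul_right hp) hc.inv_right, h.rmul hc hp]
theorem mJ (hc : Commute z c) (hp : p ∈ Q' ⊓ C[z]) : c * p * c⁻¹ ∈ cj c Q' ⊓ C[z] :=
  ⟨conj_mem_cj.2 hp.1, mem_cent1.2 ((hc.mul_right (cy hp)).mul_right hc.inv_right).symm⟩
/-- two points with the same vector -/
theorem same (h : M Q z π ρ q b) (k : Pt Q z g) (k' : Pt Q z g') (e : π (g' * z * g'⁻¹) = π (g * z * g⁻¹)) :
    ∃ a ∈ Q, cj g' Q = cj (a * g) Q := by
  rcases h.eq_of k'.1 k.1 e with e | e
  · exact ⟨1, one_mem _, h.le.cj_eq (by rw [one_mul, e])⟩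
  obtain ⟨a, ha, e'⟩ := h.le.es.exists_conj k.1 (nw h k).lp.notMem
  exact ⟨a, ha, h.le.cj_eq (by rw [e, (h.zc k.1).eq, ← e']; group)⟩

theorem sqQ (n : NW Q z π ρ q b Q' t) (hp : p ∈ Q') : p * p ∈ Q :=
  (n.lp.r.es.sq p hp).elim (fun e => e ▸ one_mem _) fun e => e ▸ n.tQ

/-- the element swapping the two extraspecial groups -/
theorem fus (n : NW Q z π ρ q b Q' t) (hv : b v (π t) ≠ 0) : ∃ g, g * z * g⁻¹ = t ∧ g * t * g⁻¹ = z * t ∧
    ∀ p ∈ Q, b (π p) (π t) = 0 → g * p * g⁻¹ ∈ Q' ⊓ C[z] ∧ ρ (g * p * g⁻¹) v + v + π p ∈ Et Q Q' π := by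
  have cc : ∀ y g a : G, y * (g * a * g⁻¹) * y⁻¹ = y * g * a * (y * g)⁻¹ := fun y g a => by group
  obtain ⟨a, ha, rfl⟩ := n.surj v
  obtain ⟨c, hc, ez⟩ := n.lp.r.es.exists_conj n.lp.zQ n.lp.symm.notMem
  have et := n.cjz ha n.tQ hv
  have e1 : a⁻¹ * c * z * (a⁻¹ * c)⁻¹ = t := by rw [← cc, ez, ← et]; group
  have ec : cj c Q = cj a Q' := by
    obtain ⟨g, e1, e2⟩ := n.lp.conj
    rw [← e2, cj_cj]
    exact n.le.cj_eq (by rw [ez, ← et, ← e1]; group)
  refine ⟨a⁻¹ * c, e1, ?_, fun p hp hu => ?_⟩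
  · rw [← cc, ← (n.yt hc).eq, mul_inv_cancel_right, n.cjz (inv_mem ha) n.tQ (by rwa [n.pinv ha])]
  have m1 := n.lp.symm.comm_P (c := p) ⟨mem_cent1.2 ((n.cm p hp t n.tQ).2 hu), mem_cent1.2 (n.zc hp).symm⟩ hc
  have m2 := mem_cj.1 (ec.le (conj_mem_cj.2 hp))
  have e : ⁅p, c⁆ * (c * p * c⁻¹) = p := by rw [commutatorElement_def]; group
  have z2 : Commute z (a⁻¹ * (c * p * c⁻¹) * a) := ((n.zc ha).inv_right.mul_right (by
    rw [← inv_mul_cancel_left ⁅p, c⁆ (c * p * c⁻¹), e]; exact (cy m1).inv_right.mul_right (n.zc hp))).mul_right (n.zc ha)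
  rw [← cc, inv_inv]
  set y := ⁅p, c⁆
  set y' := a⁻¹ * (c * p * c⁻¹) * a
  have e2 : y * y' = (y * (a * y' * a⁻¹ * y'⁻¹) * y⁻¹)⁻¹ * p := by rw [← e]; simp only [y']; group
  have m3 := n.nm (cy m1) (n.mcm z2 ha)
  have m4 : y * y' ∈ Q := e2 ▸ mul_mem (inv_mem m3) hp
  refine ⟨⟨m2, mem_cent1.2 z2.symm⟩, _, ⟨m4, Q'.mul_mem m1.1 m2⟩, ?_⟩
  rw [← n.rQ m4 (ρ y' (π a)), n.rmul (cy m1) z2, n.rsq z2 (sqQ n m2), e2, n.add _ (inv_mem m3) _ hp, n.pinv m3,
    n.conj _ (cy m1) _ (n.mcm z2 ha), n.pcm z2 ha, map_add, ← n.rmul (cy m1) z2, n.rQ m4, add_comm (π a)]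

end

section
variable {G : Type*} [Group G] [Finite G] {Q : Subgroup G} {z g g' c : G} {π : G → N8} {ρ : G → N8 →+ N8} {e : Bool}
  {f f' : ℕ → ℕ} {L W : List ℕ} {x k : ℕ} {E E' : ℕ → Bool} {l l' : ℕ → ℕ → ℕ}

theorem Hy.oc (h : Hy Q z π ρ e) : Oc {2} C[z] = Q := gf_eq_Oc h.le.es.extraspecial h.gf
theorem In.congr (i : In z ρ f) (e : ∀ v < 256, f v = f' v) : In z ρ f' :=
  let ⟨c, a, k⟩ := i; ⟨c, a, fun v => (k v).trans (e _ v.2)⟩
theorem In.id (h : M Q z π ρ (q e) b) : In z ρ id := ⟨1, .one_right z, fun v => by rw [h.r1]; rfl⟩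
theorem In.comp (h : M Q z π ρ (q e) b) (i : In z ρ f) (j : In z ρ f') : In z ρ fun v => f (f' v) :=
  let ⟨c, a, k⟩ := i; let ⟨c', a', k'⟩ := j; ⟨c * c', a.mul_right a', fun v => by rw [h.rmul a a', k, k']⟩
theorem In.ev (h : M Q z π ρ (q e) b) (H : ∀ m ∈ L, In z ρ (ap m)) (W : List ℕ) : In z ρ (ev L W) := by
  induction W with
  | nil => exact In.id h
  | cons k W ih =>
    refine In.comp (f := X9.ev L W) (f' := ap (L.getD k ID)) h ih ((getD_cases L k).elim (fun e => ?_) (H _))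
    exact e.symm ▸ (In.id h).congr fun v hv => (ap_ID hv).symm
theorem inv_ev (h : M Q z π ρ (q e) b) (i : Inv L = true) (hc : Commute z c) (k : ∀ v, (ρ c v).1 = ev L W v.1) (v : N8) :
    (ρ c⁻¹ v).1 = ev L W.reverse v.1 := by
  rw [← ev_rev i W (ρ c⁻¹ v).2, ← k, h.rinv' hc]

theorem Dt.congr (d : Dt Q z π ρ g x E l) (e1 : ∀ v < 256, E v = E' v) (e2 : ∀ u < 8, ∀ v < 256, l u v = l' u v) :
    Dt Q z π ρ g x E' l' :=
  ⟨d.pt, d.px, fun v => e1 _ v.2 ▸ d.et v, fun u hu => let ⟨y, a, k⟩ := d.ex u hu; ⟨y, a, fun v => e2 u hu _ v.2 ▸ k v⟩,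
    fun y hy => let ⟨u, a, k⟩ := d.all y hy; ⟨u, a, fun v => e2 u a _ v.2 ▸ k v⟩⟩
/-- transport of the data of a point -/
theorem Dt.J (h : M Q z π ρ (q e) b) (d : Dt Q z π ρ g x E l) (hc : Commute z c) (k : ∀ v, (ρ c v).1 = f v.1)
    (k' : ∀ v, (ρ c⁻¹ v).1 = f' v.1) : Dt Q z π ρ (c * g) (f x) (fun v => E (f' v)) fun u v => f (l u (f' v)) := by
  refine ⟨(d.pt.J h hc).1, by rw [(d.pt.J h hc).2, k, d.px], fun v => by rw [EtJ h hc, d.et, k'], fun u hu => ?_,
    fun y hy => ?_⟩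
  · obtain ⟨y, a, e⟩ := d.ex u hu
    exact ⟨_, cj_mul c g Q ▸ mJ hc a, fun v => by rw [rcj h hc (cy a), k, e, k']⟩
  · obtain ⟨u, a, e⟩ := d.all _ (by simpa only [cj_cj, inv_mul_cancel_left] using mJ hc.inv_right hy)
    exact ⟨u, a, fun v => by rw [← k', ← e, ← k, rcj h hc.inv_right (cy hy), inv_inv, h.rinv' hc, h.rinv' hc]⟩
/-- the data depend on the vector only -/
theorem Dt.same (h : M Q z π ρ (q e) b) (d : Dt Q z π ρ g x E l) (k : Pt Q z g') (e : (π (g' * z * g'⁻¹)).1 = x) :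
    Dt Q z π ρ g' x E l := by
  obtain ⟨a, ha, s⟩ := X9.same h d.pt k (Fin.ext (e.trans d.px.symm))
  have := d.J (f := id) (f' := id) h (h.zc ha) (fun v => by rw [h.rQ ha]; rfl) fun v => by rw [h.rQ (inv_mem ha)]; rfl
  exact ⟨k, e, s ▸ this.et, s ▸ this.ex, s ▸ this.all⟩
/-- an element carrying one point to another carries the data along -/
theorem Dt.tr {x' : ℕ} (h : M Q z π ρ (q e) b) (d : Dt Q z π ρ g x E l) (d' : Dt Q z π ρ g' x' E' l') (hc : Commute z c)
    (k : (ρ c (n8 x)).1 = x') : (∀ v : N8, E' (ρ c v).1 = E v.1) ∧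
      ∀ u < 8, ∃ u' < 8, ∀ v : N8, (ρ c (n8 (l u v.1))).1 = l' u' (ρ c v).1 := by
  have := (d.J (f := fun v => (ρ c (n8 v)).1) (f' := fun v => (ρ c⁻¹ (n8 v)).1) h hc (fun v => by rw [H10.R.n8v])
    fun v => by rw [H10.R.n8v]).same h d'.pt (d'.px.trans k.symm)
  refine ⟨fun v => Bool.eq_iff_iff.2 ((d'.et _).symm.trans ((this.et _).trans (by rw [H10.R.n8v, h.rinv hc]))),
    fun u hu => ?_⟩
  obtain ⟨y, a, e⟩ := this.ex u hu
  obtain ⟨u', a', e'⟩ := d'.all y a
  exact ⟨u', a', fun v => by rw [← e', e, H10.R.n8v, h.rinv hc]⟩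

theorem Cx.ev (h : Cx k Q z π ρ) (W : List ℕ) : In z ρ (ev (kg k) W) := In.ev h.toM h.gen W
/-- the data at the image of the first point -/
theorem Cx.at (h : Cx k Q z π ρ) (W : List ℕ) : ∃ g, Dt Q z π ρ g (X9.ev (kg k) W 1) (fun v => E0 (X9.ev (kg k) W.reverse v))
    fun u => X9.ev (kg k) (W.reverse ++ LW u ++ W) := by
  obtain ⟨g, d⟩ := h.dt
  obtain ⟨c, hc, e⟩ := h.ev W
  exact ⟨_, (d.J h.toM hc e (inv_ev h.toM (inv_kg k) hc e)).congr (fun _ _ => rfl) fun u _ v _ => by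
    simp only [ev_append]⟩
theorem Cx.pt (h : Cx k Q z π ρ) (hk : k < 11) (hx : x < 256) (o : ox k x = true) (h0 : k = 0 → E0 x = true) :
    ∃ g, Pt Q z g ∧ (π (g * z * g⁻¹)).1 = x :=
  let ⟨W, e⟩ := wd hk hx o h0; let ⟨g, d⟩ := h.at W; ⟨g, d.pt, d.px.trans e⟩
/-- the centralizer permutes the points -/
theorem Sy.ox (h : Sy k Q z π ρ) (hk : k < 11) (h0 : k ≠ 0) (hc : Commute z c) (v : N8) : ox k (ρ c v).1 = ox k v.1 := by
  have A : ∀ c, Commute z c → ∀ v : N8, X9.ox k v.1 = true → X9.ox k (ρ c v).1 = true := fun c hc v o => by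
    obtain ⟨g, p, e⟩ := h.toCx.pt hk v.2 o fun e => (h0 e).elim
    rw [← show π _ = v from Fin.ext e, ← (p.J h.toM hc).2]
    exact h.pts _ (p.J h.toM hc).1
  exact Bool.eq_iff_iff.2 ⟨fun o => h.rinv hc v ▸ A _ hc.inv_right _ o, A c hc v⟩
/-- the local groups act inside the group of the system -/
theorem Sy.loc (h : Sy k Q z π ρ) (hk : k < 11) (h0 : k ≠ 0) (p : Pt Q z g) (hc : c ∈ cj g Q ⊓ C[z]) :
    ∃ W, ∀ v, (ρ c v).1 = ev (kg k) W v.1 := by
  obtain ⟨W, e⟩ := wd hk (π _).2 (h.pts g p) fun e => (h0 e).elim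
  obtain ⟨g', d⟩ := h.toCx.at W
  obtain ⟨u, -, k⟩ := (d.same h.toM p e.symm).all c hc
  exact ⟨_, k⟩

end

end H14.X9
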