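import Cfsg.Agent.H14.P94
import Cfsg.Agent.H14.X91

/-! Large extraspecial subgroups of order `2⁹`: the system with eighty-one points. -/

set_option autoImplicit false
set_option linter.unusedSectionVars false
set_option synthInstance.maxSize 100000

open Subgroup
namespace H14.P9
open H10.Y (F4 w bar M Et)
open H10.R (N8 n8 A8)
open Equiv (Perm swap)
open H19 hiding eq_bot_mono
open H14.P8 H14.X9

/-- a bit -/
def tb (n k : ℕ) : ZMod 2 := bif n.testBit k then 1 else 0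
/-- decoding -/
def de (n : ℕ) : V := fun i => ⟨tb n (2 * i.1), tb n (2 * i.1 + 1)⟩
/-- encoding -/
def en (v : V) : ℕ := (v 0).re.val + 2 * (v 0).im.val + 4 * (v 1).re.val + 8 * (v 1).im.val + 16 * (v 2).re.val +
  32 * (v 2).im.val + 64 * (v 3).re.val + 128 * (v 3).im.val
/-- the new coordinates -/
def fw (n : ℕ) : V := de (ap 0x5efa9dbb6debf755 n)
/-- the old coordinates -/
def bw (v : V) : ℕ := ap 0xcfb9f3ad57fc3fe9 (en v)
theorem j1 : (∀ v, fw (bw v) = v ∧ (bif qN true (bw v) then 1 else 0) = qv v ∧ (E0 (bw v) = true ↔ RV v) ∧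
    (ox 4 (bw v) = true → W4 v)) ∧ A256 (fun n => bw (fw n) == n) = true ∧ fw 1 = t0 := by decide +kernel
theorem bf {n : ℕ} (h : n < 256) : bw (fw n) = n := beq_iff_eq.1 (A256.of j1.2.1 h)
/-- the change of coordinates -/
def co : N8 ≃+ V where
  toFun n := fw n.1
  invFun v := ⟨bw v, ap_lt _ _⟩
  left_inv n := Fin.ext (bf n.2)
  right_inv v := (j1.1 v).1
  map_add' a b := funext fun i => by
    rw [add1, fw, ap_xor]
    exact QuadraticAlgebra.ext (by simp only [de, tb, Nat.testBit_xor, bz_xor]; rfl) (by simp only [de, tb, Nat.testBit_xor, bz_xor]; rfl)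
/-- a map in the new coordinates -/
def cv (f : ℕ → ℕ) (v : V) : V := fw (f (bw v))
/-- monomial data -/
def MD : List (V × Perm (Fin 4) × (Fin 4 → ℤˣ)) :=
  let a := swap 0 1 * swap 2 3; let b := swap 0 2 * swap 1 3; let c := swap 0 3 * swap 1 2
  [(1, c, -1), (1, b, -1), (1, a, -1), (vec w (bar w) 1 1, a, 1), (vec w 1 w w, 1, -1), (vec 1 (bar w) w 1, c, 1),
    (vec (bar w) w w (bar w), b, 1), (vec w 1 (bar w) (bar w), 1, -1), (1, swap 0 2 * swap 0 3, 1), (1, 1, ![-1, 1, 1, -1]),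
    (1, 1, 1)]
/-- words for the diagonal maps -/
def DWd (i : Fin 4) : List ℕ := ![[0, 4, 8, 1, 3], [1, 5, 1, 8, 0], [1, 3, 0, 8, 4], [0, 1, 8, 1, 5]] i
theorem j2 : (∀ m ∈ ID :: bg 4, ∃ p ∈ MD, (∀ v i, cv (ap m) v (p.2.1 i) = p.1 i * bb (p.2.2 i) (v i)) ∧ W4 p.1 ∧
    Perm.sign p.2.1 = 1 ∧ Ev p.2.2) ∧ (∀ σ : Perm (Fin 4), ∀ a b, Ev a → Ev b → Ev fun i => a (σ i) * b i) ∧
    (∀ i v, cv (X9.ev (kg 4) (DWd i)) v = sd i w * v) ∧ (∀ γ : Γ, K4 γ.1 → ∃ u < 8, ∀ v, cv (X9.ev (kg 4) (LW u)) v = pu γ v) ∧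
    (∀ u < 8, ∃ γ : Γ, K4 γ.1 ∧ ∀ v, cv (X9.ev (kg 4) (LW u)) v = pu γ v) ∧
    ∀ d, W4 d → ∃ a ∈ [1, sd 0 w, sd 0 w * sd 0 w], ∃ b ∈ [1, sd 1 w, sd 1 w * sd 1 w], ∃ c ∈ [1, sd 2 w, sd 2 w * sd 2 w],
      ∃ e ∈ [1, sd 3 w, sd 3 w * sd 3 w], d = a * (b * (c * e)) := by decide +kernel

theorem mw (W : List ℕ) : ∃ d σ ε, Mo (cv (X9.ev (bg 4) W)) d σ ε ∧ Perm.sign σ = 1 ∧ Ev ε := by
  induction W with
  | nil => exact ⟨_, _, _, (mo_pu 1).congr fun v => (j1.1 v).1, by decide, by decide⟩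
  | cons k W ih =>
    obtain ⟨_, _, _, m, a, b⟩ := ih
    obtain ⟨p, -, e, c, a', b'⟩ := j2.1 ((bg 4).getD k ID) ((getD_cases _ k).elim (fun e => List.mem_cons.2 (.inl e)) (.tail _))
    exact ⟨_, _, _, m.mul ⟨c, e⟩ fun v => by rw [cv, cv, cv, bf (ap_lt _ _), ev_cons], by rw [map_mul, a, a', one_mul],
      j2.2.1 _ _ _ b b'⟩

theorem lm {G : Type*} [Group G] [Finite G] {Q : Subgroup G} {z : G} {π : G → N8} {ρ : G → N8 →+ N8} (h : Fn 4 Q z π ρ) :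
    ∃ π ρ, Lm Q z π ρ := by
  have m := h.toM.congr qsV co.symm fun v => (j1.1 v).2.1
  have r : ∀ {c f}, (∀ v, (ρ c v).1 = f v.1) → ∀ v, co (ρ c (co.symm v)) = cv f v := fun e v => congrArg fw (e _)
  refine ⟨_, _, m, fun c hc => ?_, fun {g} a b => (j1.1 _).2.2.2 ((bf (π _).2).symm ▸ h.pts g ⟨a, b⟩), fun {d} hd => ?_, ?_⟩
  · obtain ⟨W, e⟩ := h.all c hc
    obtain ⟨d, σ, ε, k, l⟩ := mw W
    exact ⟨d, σ, ε, k.congr (r e), l⟩
  · have A : ∀ {u u' : V}, (∃ g, Commute z g ∧ ∀ v, co (ρ g (co.symm v)) = u * v) →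
        (∃ g, Commute z g ∧ ∀ v, co (ρ g (co.symm v)) = u' * v) → ∃ g, Commute z g ∧ ∀ v, co (ρ g (co.symm v)) = u * u' * v :=
      fun ⟨a, ha, ea⟩ ⟨b, hb, eb⟩ => ⟨_, ha.mul_right hb, fun v => (m.rmul ha hb v).trans (by rw [mul_assoc, ← eb, ← ea]; rfl)⟩
    have B : ∀ i, ∀ u ∈ [1, sd i w, sd i w * sd i w], ∃ g, Commute z g ∧ ∀ v, co (ρ g (co.symm v)) = u * v := fun i u hu => by
      obtain ⟨c, hc, e⟩ := h.toCx.ev (DWd i)
      have := fun v => (r e v).trans (j2.2.2.1 i v)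
      simp only [List.mem_cons, List.not_mem_nil, or_false] at hu
      rcases hu with rfl | rfl | rfl
      exacts [⟨1, .one_right _, fun v => (m.r1 v).trans (one_mul _).symm⟩, ⟨c, hc, this⟩, A ⟨c, hc, this⟩ ⟨c, hc, this⟩]
    obtain ⟨a, ha, b, hb, c, hc, e, he, rfl⟩ := j2.2.2.2.2.2 d hd
    exact A (B 0 a ha) (A (B 1 b hb) (A (B 2 c hc) (B 3 e he)))
  obtain ⟨g, D⟩ := h.dt
  refine ⟨g, D.pt.1, (congrArg fw D.px).trans j1.2.2, fun γ k => ?_, fun y hy => ?_, fun v => ?_⟩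
  · obtain ⟨u, hu, e⟩ := j2.2.2.2.1 γ k
    obtain ⟨y, hy, l⟩ := D.ex u hu
    exact ⟨y, hy, fun v => (r l v).trans (e v)⟩
  · obtain ⟨u, hu, l⟩ := D.all y hy
    obtain ⟨γ, k, e⟩ := j2.2.2.2.2.1 u hu
    exact ⟨γ, k, fun v => (r l v).trans (e v)⟩
  · exact ((exists_congr fun x => and_congr_right fun _ => co.apply_eq_iff_symm_apply).trans (D.et _)).trans (j1.1 v).2.2.1

end H14.P9

universe u
theorem H14.X9.en4 : H14.X9.EN.{u} 4 := fun {G} _ _ _ _ _ _ _ h => by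
  obtain ⟨_, _, l⟩ := H14.P9.lm h
  obtain ⟨e⟩ := l.main
  rcases (inferInstance : (Cfsg.generalizedFittingSubgroup G).Normal).eq_bot_or_eq_top with k | k
  · exact (l.z1 (mem_bot.1 (k.le (H1.centralizer_gf_le fun x hx => by rw [mem_bot.1 (k.le hx), mul_one, one_mul])))).elim
  · exact .inr (.inr (.inr (.inl ⟨ZMod 3, inferInstance, inferInstance, rfl,
      ⟨(topEquiv.symm.trans (MulEquiv.subgroupCongr k.symm)).trans e⟩⟩)))
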