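/-
S5806, chunks [GI] [GG]: the Chevalley group of type `G₂` is the automorphism group of the split octonions.
-/
import Cfsg.Agent.H6.SP1
import Cfsg.Agent.H14.OmRep
import Cfsg.Agent.H14.Fld
import Cfsg.Agent.H14.Cen3
import Cfsg.Agent.H14.Aut3
import Cfsg.Agent.H22.GV3
import Cfsg.Agent.H11.Congr
import Cfsg.Agent.S1059

set_option autoImplicit false
set_option maxRecDepth 100000
set_option synthInstance.maxSize 10000

namespace H14.S6
open Matrix Cfsg Cfsg.Lie H14 H8

def e1 : ℕ := 0x888888888889888888888888888888888888888888888888888878888888888888888888889888888888888888888888888888888888788888888888888888888888988878888889888888888888888888888888888988888878888888887888888988888888898888887888888888888888888888888888788888898887888888988888888888788888888888889888888888887888888988888888887888888888888888888888888788888888888888888888888888888888898888888888888888888888888888888888887888888888888888888898888888888888888888888788888888889888888788888888888988888888888887888888888889888888887888888888888888889888888788788888898888888888888888888898878888888888888888888878888889889888888788888888888888888988888888888888888888888988888888888888888887888888888888888888888888888888888888888888888888888988888888888878888888888888888888888888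
def e2 : ℕ := 0x888888888888888888888888888888888888888888888888888888888888888888888888888888888888888888888888888888888888888888888888888888888888888888887888888888888888888888888888888888888888888888888888888888888888888888888888888888888888888888888888888788888888888888888888888888888888888888888888888888888878888888888888888888888888888888888888888888888888888888888888888888888888888888888888888888888888888888888888888888888888888888888888888888888888888888888888888888888888878888888888888888888888888888888888888888888888888888888888888888888888887888888888888888888888888888888888888888888888888888888888888888888788888888888888888888888888888888888888888888888888888888888888888888888888888888888888888888888888888888888888888888888888888888888888888888888888888888888888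

noncomputable def rep : Rep goodG2.C.toPreChev (Fin 8) where
  E1 r := tmat Fin.val e1 r
  E2 r := tmat Fin.val e2 r
  E3 _ := 0
  wt a := vec 0 (List.getD [[0, 0], [-1, 1], [2, -1], [-1, 0], [1, -1], [-2, 1], [1, 0], [0, 0]] a [])
  grade r a b h := by change sd4 _ _ ≠ 0 at h; revert r a b; decide +kernel
  dp2 := by decide +kernel
  dp3 := by decide +kernel
  dp4 r := Matrix.mul_zero _
  br r s h := by
    rw [goodG2.plus_val, ← goodG2.chainM_one]
    refine brChk_spec (L := [0, 1, 2, 3, 4, 5, 6, 7]) (by decide) (fun f => by simp [Fin.sum_univ_eight, add_assoc]) ?_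
    revert r s; decide +kernel
  br_neg := by decide +kernel

def bv (i : Fin 8) : Fin 8 → ℤ := fun j => if j = i then 1 else 0

def L8 : List (Fin 8) := [0, 1, 2, 3, 4, 5, 6, 7]
def zl : List ℤ → List ℤ → List ℤ
  | [a, b, c, d, e, f, g, h], [A, B, C, D, E, F, G, H] => [a * A + (b * E + c * F + d * G), a * B + H * b - (f * G - g * F),
    a * C + H * c - (g * E - e * G), a * D + H * d - (e * F - f * E), A * e + h * E + (c * D - d * C),
    A * f + h * F + (d * B - b * D), A * g + h * G + (b * C - c * B), e * B + f * C + g * D + h * H]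
  | _, _ => []
theorem zl_map (x y : Fin 8 → ℤ) : zl (L8.map x) (L8.map y) = L8.map (zornMul x y) := rfl
theorem ad_map (x y : Fin 8 → ℤ) : List.zipWith Int.add (L8.map x) (L8.map y) = L8.map (x + y) := rfl
theorem mv_map (A : Matrix (Fin 8) (Fin 8) ℤ) (x : Fin 8 → ℤ) :
    (L8.map fun i => L8.map (A i)).map (dotZ · (L8.map x)) = L8.map (A *ᵥ x) := by
  simp only [List.map_map, Function.comp_def, dotZ_map]
  exact List.map_congr_left fun i _ => by simp [L8, mulVec, dotProduct, Fin.sum_univ_eight, add_assoc]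
theorem l8 {x y : Fin 8 → ℤ} : L8.map x = L8.map y ↔ x = y :=
  ⟨fun h => funext fun i => List.map_inj_left.1 h i (by revert i; decide), fun h => h ▸ rfl⟩

noncomputable def dchk (A B : Matrix (Fin 8) (Fin 8) ℤ) : Bool :=
  forceM (L8.map fun i => L8.map (A i)) fun A1 => forceM (L8.map fun i => L8.map (B i)) fun B1 => L8.all fun i => L8.all fun j =>
  forceL forceZ (L8.map (bv i)) fun e => forceL forceZ (L8.map (Aᵀ i)) fun a => forceL forceZ (L8.map (Bᵀ i)) fun b =>
  forceL forceZ (L8.map (bv j)) fun f => forceL forceZ (L8.map (Aᵀ j)) fun c => forceL forceZ (L8.map (Bᵀ j)) fun d =>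
  forceL forceZ (zl e f) fun p => decide (A1.map (dotZ · p) = .zipWith Int.add (zl a f) (zl e c) ∧
    B1.map (dotZ · p) = .zipWith Int.add (.zipWith Int.add (zl b f) (zl a c)) (zl e d) ∧
    .zipWith Int.add (zl b c) (zl a d) = L8.map 0 ∧ zl b d = L8.map 0)

theorem der {A B : Matrix (Fin 8) (Fin 8) ℤ} (h : dchk A B = true) (i j : Fin 8) :
    A *ᵥ zornMul (bv i) (bv j) = zornMul (A *ᵥ bv i) (bv j) + zornMul (bv i) (A *ᵥ bv j) ∧
    B *ᵥ zornMul (bv i) (bv j) = zornMul (B *ᵥ bv i) (bv j) + zornMul (A *ᵥ bv i) (A *ᵥ bv j) + zornMul (bv i) (B *ᵥ bv j) ∧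
    zornMul (B *ᵥ bv i) (A *ᵥ bv j) + zornMul (A *ᵥ bv i) (B *ᵥ bv j) = 0 ∧ zornMul (B *ᵥ bv i) (B *ᵥ bv j) = 0 := by
  have : ∀ (A : Matrix (Fin 8) (Fin 8) ℤ) i, A *ᵥ bv i = Aᵀ i := fun A i => by ext; simp [mulVec, dotProduct, bv]
  simp only [dchk, forceM_eq, forceL_eq forceZ_eq, zl_map, ad_map, mv_map, l8, List.all_eq_true, decide_eq_true_eq] at h
  simp only [this]
  exact h i (by revert i; decide) j (by revert j; decide)

theorem dok : ∀ r < 12, dchk (tmat Fin.val e1 r) (tmat Fin.val e2 r) = true := by decide +kernel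

variable {K : Type*} [Field K]

theorem zm {R : Type*} [CommRing R] (x y : Fin 8 → R) : zornMul x y 0 = x 0 * y 0 + (x 1 * y 4 + x 2 * y 5 + x 3 * y 6) ∧
    zornMul x y 1 = x 0 * y 1 + y 7 * x 1 - (x 5 * y 6 - x 6 * y 5) ∧ zornMul x y 2 = x 0 * y 2 + y 7 * x 2 - (x 6 * y 4 - x 4 * y 6) ∧
    zornMul x y 3 = x 0 * y 3 + y 7 * x 3 - (x 4 * y 5 - x 5 * y 4) ∧ zornMul x y 4 = y 0 * x 4 + x 7 * y 4 + (x 2 * y 3 - x 3 * y 2) ∧
    zornMul x y 5 = y 0 * x 5 + x 7 * y 5 + (x 3 * y 1 - x 1 * y 3) ∧ zornMul x y 6 = y 0 * x 6 + x 7 * y 6 + (x 1 * y 2 - x 2 * y 1) ∧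
    zornMul x y 7 = x 4 * y 1 + x 5 * y 2 + x 6 * y 3 + x 7 * y 7 := ⟨rfl, rfl, rfl, rfl, rfl, rfl, rfl, rfl⟩

def zb : (Fin 8 → K) →ₗ[K] (Fin 8 → K) →ₗ[K] (Fin 8 → K) := by
  refine LinearMap.mk₂ K zornMul (fun _ _ _ => ?_) (fun _ _ _ => ?_) (fun _ _ _ => ?_) fun _ _ _ => ?_ <;>
    refine fin8_ext ?_ ?_ ?_ ?_ ?_ ?_ ?_ ?_ <;> simp only [zm, Pi.add_apply, Pi.smul_apply, smul_eq_mul] <;> ring

theorem zb_ap (x y : Fin 8 → K) : zb x y = zornMul x y := rfl

theorem zc (u v : Fin 8 → ℤ) : zb (fun i => (u i : K)) (fun i => (v i : K)) = fun i => ((zornMul u v i : ℤ) : K) := by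
  rw [zb_ap]
  refine fin8_ext ?_ ?_ ?_ ?_ ?_ ?_ ?_ ?_ <;> simp only [zm] <;> push_cast <;> rfl

theorem pres (r : Fin chevG2.nroots) (t : K) : (rep.st K).x r t ∈ G2 K := by
  have X : ∀ u : Fin 8 → ℤ, rep.X r t *ᵥ (fun i => (u i : K)) = (fun i => (u i : K)) +
      t • (fun i => ((tmat Fin.val e1 r *ᵥ u) i : K)) + t ^ 2 • fun i => ((tmat Fin.val e2 r *ᵥ u) i : K) := fun u => by
    simp only [Rep.X, xexp, rep, add_mulVec, smul_mulVec, one_mulVec, cm_mulVec, map_zero, smul_zero, add_zero]
  have : zb.compr₂ (toLin' (rep.X r t)) = zb.compl₁₂ (toLin' (rep.X r t)) (toLin' (rep.X r t)) :=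
    LinearMap.ext_basis (Pi.basisFun K _) (Pi.basisFun K _) fun i j => by
      have e : ∀ i, Pi.basisFun K (Fin 8) i = fun j => (bv i j : K) := fun i => by ext j; simp [bv, Pi.single_apply]
      obtain ⟨a, b, c, d⟩ := der (dok r r.2) i j
      simp only [LinearMap.compr₂_apply, LinearMap.compl₁₂_apply, toLin'_apply, e, zc, X, map_add, map_smul,
        LinearMap.add_apply, LinearMap.smul_apply, a, b]
      ext k
      replace c := congrArg (fun v => ((v k : ℤ) : K)) c
      replace d := congrArg (fun v => ((v k : ℤ) : K)) d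
      simp only [Pi.add_apply, Pi.smul_apply, smul_eq_mul, Int.cast_add, Pi.zero_apply, Int.cast_zero] at c d ⊢
      linear_combination (-t ^ 3) * c - t ^ 4 * d
  intro x y
  have := LinearMap.congr_fun₂ this x y
  simp only [LinearMap.compr₂_apply, LinearMap.compl₁₂_apply, toLin'_apply, zb_ap] at this
  exact this

theorem iso (K : Type*) [Field K] [Fintype K] : Nonempty (chevG2.group K ≃* G2 K) := by
  have l : (rep.st K).U Set.univ ≤ G2 K := PreSt.U_le.2 fun r _ t => pres r t
  obtain ⟨e⟩ := goodG2.equiv_of_rep rep (by decide +kernel) (K := K) ((rep.st K).U Set.univ).subtype_injective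
    (Subgroup.range_subtype _)
  have a := Agent.S1059.result (F := K) rfl
  have b : Nat.card (G2 K) ≤ Nat.card (chevG2.group K) := by
    rw [Nat.card_congr (g2Equiv K).toEquiv]
    refine Nat.le_of_dvd Nat.card_pos ((H22.GV.card_dvd (K := K)).trans (dvd_of_eq ?_))
    have : 1 ≤ Fintype.card K ^ 3 := Nat.one_le_pow _ _ Fintype.card_pos
    have : 1 ≤ Fintype.card K ^ 6 := Nat.one_le_pow _ _ Fintype.card_pos
    rw [a, mul_assoc, mul_assoc]; congr 2; zify [*]; ring
  have c := Nat.card_le_card_of_surjective _ (e.symm.surjective.comp (QuotientGroup.mk'_surjective _))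
  have d := Subgroup.card_le_of_le l
  exact ⟨((MulEquiv.ofBijective (e.symm.toMonoidHom.comp (QuotientGroup.mk' _))
    ((e.symm.surjective.comp (QuotientGroup.mk'_surjective _)).bijective_of_nat_card_le (d.trans b))).symm.trans
      (MulEquiv.subgroupCongr (Subgroup.eq_of_le_of_card_ge l (b.trans c))))⟩

theorem gi : H6.SP.GI := fun E F _ _ _ _ _ h _ =>
  let ⟨e⟩ := iso F
  ⟨(H11.mulEquivOfInjectiveOfCard _ (goodG2.mapG_inj (FiniteField.ringEquivOfCardEq h).toRingHom) (by
    rw [Agent.S1059.result rfl, Agent.S1059.result h])).trans e⟩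

open PreSt St in
theorem gg : H6.SP.GG := fun E _ _ _ => by
  obtain ⟨P, hP⟩ := (id_emb (goodG2.SG_sep E) (goodG2.SG_top E)).exists_sylow 2 (goodG2.SG_hmul E)
  replace hP : P.1 = (goodG2.SG E).U (fs chevG2.posRoots) := by rw [← goodG2.fs_pos, hP, Subgroup.comap_id]
  have m : ∀ r, goodG2.R.pos r → ∀ t, (goodG2.SG E).x r t ∈ P.1 := fun r h t => hP ▸ x_mem_U (goodG2.fs_pos ▸ h) t
  have e : P.1 ⊓ Subgroup.centralizer (P.1 : Set (chevG2.group E)) = (goodG2.SG E).U {11} := by
    refine le_antisymm (fun u hu => ?_) (U_le.2 fun r h t => ?_)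
    · have c : ∀ r, goodG2.R.pos r → Commute u.1 ((goodG2.S E).x r 1 * 1) := fun r h =>
        by rw [mul_one]; exact congrArg Subtype.val (hu.2 _ (m r h 1)).symm
      have h0 := goodG2.mem_SG_U.1 (hP ▸ hu.1)
      have h1 := goodG2.cent_step two_eq [10, 11] [9] 7 9 10 3 (odd_ne rfl) (by decide +kernel) (one_mem _) h0 (c 9 (by decide +kernel))
      have h2 := goodG2.cent_step two_eq [11] [10] 6 10 11 1 (odd_ne rfl) (by decide +kernel) (one_mem _) h1 (c 10 (by decide +kernel))
      have h3 := goodG2.cent_step two_eq [11] [9] 8 9 11 3 (odd_ne rfl) (by decide +kernel) (one_mem _) h2 (c 9 (by decide +kernel))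
      have h4 := goodG2.cent_step two_eq [11] [8] 9 8 11 (-3) (odd_ne rfl) (by decide +kernel) (one_mem _) h3 (c 8 (by decide +kernel))
      have h5 := goodG2.cent_step two_eq [11] [6] 10 6 11 (-1) (odd_ne rfl) (by decide +kernel) (one_mem _) h4 (c 6 (by decide +kernel))
      exact goodG2.mem_SG_U.2 (U_mono (by decide +kernel : ∀ r, _ → r = _) h5)
    · obtain rfl : r = 11 := h
      exact ⟨m _ (by decide +kernel) t, fun u hu => ((PreChev.idl_high (by decide +kernel)).commute
        (S := goodG2.SG E) (by rwa [goodG2.fs_pos, ← hP]) t).eq⟩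
  have k : ∀ r, goodG2.R.pair r 11 = 1 → ∀ t : E, t ≠ 0 →
      IsConj ((goodG2.SG E).x 11 t) ((goodG2.SG E).x (goodG2.R.refl r 11) 1) := fun r h t ht => by
    have η := eta_ne goodG2.C E r 11
    have := (goodG2.SG E).nconj r 11 _ (mul_ne_zero η ht) t
    rw [h, _root_.zpow_neg, zpow_one, _root_.mul_inv_rev, mul_comm t⁻¹, mul_inv_cancel_left₀ η, inv_mul_cancel₀ ht] at this
    exact isConj_iff.2 ⟨_, mul_inv_eq_iff_eq_mul.2 this⟩
  refine ⟨P, ?_, _, m 6 (by decide +kernel) 1, _, m 10 (by decide +kernel) 1, fun h => ?_, fun z hz z1 => ?_⟩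
  · rw [e, ← Nat.card_eq_fintype_card]
    exact (Nat.card_congr (Equiv.ofBijective (fun t => ⟨_, mem_U_singleton.2 ⟨t, rfl⟩⟩)
      ⟨fun _ _ h => (goodG2.SG_sep E).x_inj (congrArg Subtype.val h), fun g =>
        let ⟨t, h⟩ := mem_U_singleton.1 g.2; ⟨t, Subtype.ext h.symm⟩⟩)).symm
  · simpa using eq_zero_of_commute (goodG2.SG_sep E) (r := 6) (s := 10) (k := 11) (m := 1) (by decide +kernel)
      (goodG2.terms_eq (by decide +kernel)) h
  · obtain ⟨t, rfl⟩ := mem_U_singleton.1 (e ▸ hz)
    have ht : t ≠ 0 := by rintro rfl; exact z1 (x_zero _ _)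
    exact ⟨(show goodG2.R.refl 10 11 = 6 from goodG2.R.cf_inj (by rw [goodG2.R.cf_refl]; decide +kernel)) ▸ k 10 (by decide +kernel) t ht,
      (show goodG2.R.refl 6 11 = 10 from goodG2.R.cf_inj (by rw [goodG2.R.cf_refl]; decide +kernel)) ▸ k 6 (by decide +kernel) t ht⟩

end H14.S6
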