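/-
The group `³D₄(q)` inside `D₄`: coordinates on the Sylow `p`-subgroup, in every characteristic.
-/
import Cfsg.Agent.H29.TD2
import Cfsg.Agent.H14.AutTw1

set_option autoImplicit false
set_option linter.unusedSectionVars false
set_option linter.unusedSimpArgs false
set_option maxRecDepth 100000

namespace H14.TD
open Cfsg Subgroup Cfsg.Lie H14.St H29.TD H29.TD.Dc

/-- root indices -/
abbrev I : Type := Fin chevD4.nroots
universe v
variable {K : Type v} [Field K] (σ : K →+* K) [TV σ] {r s k : I} {g : chevD4.group K}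
local notation "𝐒" => goodD4.SG K
local notation "𝐗" => PreSt.x (St.toPreSt (goodD4.SG K))
local notation "𝐧" => PreSt.n (St.toPreSt (goodD4.SG K))
local notation "𝐓" => D4.T σ (s3 (σ := σ))
local notation "𝐜" => MulAut.conj (G := chevD4.group K)

/-- commuting roots -/
def Z0 (r s : I) : Prop := s.val ≠ chevD4.neg r ∧ nl 0 (chevD4.commTerms r s) = []
/-- roots with a sum -/
def Z1' (r s k : I) (c : ℤ) : Prop := s.val ≠ chevD4.neg r ∧ chevD4.commTerms r s = [(k.val, c, 1, 1)]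
instance : Decidable (Z0 r s) := inferInstanceAs (Decidable (_ ∧ _))
instance {c : ℤ} : Decidable (Z1' r s k c) := inferInstanceAs (Decidable (_ ∧ _))
theorem c0 (h : Z0 r s) (t u : K) : Commute (𝐗 r t) (𝐗 s u) := goodD4.commute_of_nl _ (p := 0) (by simp) h.1 h.2 t u
theorem c1 {c : ℤ} (h : Z1' r s k c) (t u : K) : 𝐗 s u * 𝐗 r t = 𝐗 r t * 𝐗 s u * 𝐗 k (c * -t * u) := by
  rw [PreSt.comm' _ (fun e => h.1 (by rw [e, goodD4.neg])), goodD4.terms_eq (L := [(k, c, 1, 1)]) h.2]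
  simp [PreChev.tval]

/-- out of order commuting pairs -/
def ok (o : List ℕ) (r s : I) : Bool := Nat.testBit
  0xfffc20ffb390ff6b48fed6c4fdcdc2fc3fc1f3f23cebe93adbd4b6bbcc6ee73b39d6b6b5ad6d6b9cdce77633dd6d2bdb5c97d73c4fcf83fc3f43b3bf236b7f12d6ff09cdff043fff
  (24 * r.val + s.val) && o.idxOf s.val < o.idxOf r.val
theorem sw0 (o : List ℕ) (h : ok o r s = true) (t u : K) (g) : 𝐗 r t * (𝐗 s u * g) = 𝐗 s u * (𝐗 r (id t) * g) := by
  have := (by decide +kernel : ∀ r s : I, ok [s, r] r s = true → Z0 r s) r s (by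
    by_cases e : r = s
    · simp [ok, e] at h
    · simp_all [ok, Fin.val_ne_of_ne (Ne.symm e)])
  exact (c0 this t u).left_comm g
theorem sw1 (r s k : I) (c : ℤ) (h : Z1' s r k c := by decide +kernel) (t u : K) (g) :
    𝐗 r t * (𝐗 s u * g) = 𝐗 s u * (𝐗 r t * (𝐗 k (c * -u * t) * g)) := by
  rw [← mul_assoc, c1 h, mul_assoc, mul_assoc]
theorem mg (r : I) (t u : K) (g) : 𝐗 r t * (𝐗 r u * g) = 𝐗 r (t + u) * g := by rw [PreSt.x_add, mul_assoc]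
/-- the order of the positive roots -/
def o1 : List ℕ := [18, 13, 12, 22, 17, 20, 21, 23, 19, 16, 15, 14]

theorem j0 (h : Z0 r s) (t u : K) : 𝐜 (𝐗 r t) (𝐗 s u) = 𝐗 s u := (c0 h t u).mul_inv_cancel
theorem j1 {c : ℤ} (h : Z1' r s k c) (t u : K) : 𝐜 (𝐗 r t) (𝐗 s u) = 𝐗 s u * 𝐗 k (c * t * u) := by
  rw [MulAut.conj_apply, PreSt.x_inv, mul_assoc, c1 h, ← mul_assoc, ← mul_assoc, ← PreSt.x_add]; simp
theorem nA {a b : I} {c c' : ℤ} (e : goodD4.R.neg a = b) (h1 : Z1' a s k c) (h2 : Z1' b k s c') (h3 : c * c' = 1) (h4 : Z0 a k)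
    (h5 : Z0 b s) (h6 : Z0 s k) {t : K} (ht : t ≠ 0) (u : K) : 𝐜 (𝐧 a t) (𝐗 s u) = 𝐗 k (c * t * u) := by
  have : (c' : K) * -t⁻¹ * (c * t * u) = -u := by
    have : (c : K) * c' = 1 := by exact_mod_cast congrArg (Int.cast : ℤ → K) h3
    field_simp; linear_combination -u * this
  rw [PreSt.n, e, map_mul, map_mul, MulAut.mul_apply, MulAut.mul_apply, j1 h1, map_mul (𝐜 (𝐗 b _)), j0 h5, j1 h2, this,
    ← mul_assoc, (c0 h6 _ _).eq, mul_assoc, ← PreSt.x_add, add_neg_cancel, PreSt.x_zero, mul_one, j0 h4]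
/-- the action of a reflection on a root element -/
def NC (a s k : I) (e : ℤ) : Prop := (k = s ∧ e = 1 ∧ Z0 a s ∧ Z0 (goodD4.R.neg a) s) ∨ Z0 s k ∧ e * e = 1 ∧
  (Z1' a s k e ∧ Z1' (goodD4.R.neg a) k s e ∧ Z0 a k ∧ Z0 (goodD4.R.neg a) s ∨
    Z1' (goodD4.R.neg a) s k (-e) ∧ Z1' a k s (-e) ∧ Z0 (goodD4.R.neg a) k ∧ Z0 a s)
noncomputable instance {a : I} {e : ℤ} : Decidable (NC a s k e) := inferInstanceAs (Decidable (_ ∨ _))
theorem nc (a s k : I) (e : ℤ) (h : NC a s k e := by decide +kernel) (u : K) : 𝐜 (𝐧 a 1) (𝐗 s u) = 𝐗 k (e * u) := by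
  obtain ⟨rfl, rfl, h1, h2⟩ | ⟨h0, he, ⟨h1, h2, h3, h4⟩ | ⟨h1, h2, h3, h4⟩⟩ := h
  · simp only [PreSt.n, map_mul, MulAut.mul_apply, j0 h1, j0 h2, Int.cast_one, one_mul]
  · rw [nA rfl h1 h2 he h3 h4 h0 one_ne_zero, mul_one]
  · have := nA (RootSys.neg_neg _ a) h1 h2 (by rw [neg_mul_neg, he]) h3 h4 h0 (t := (-1 : K)) (by simp) u
    rw [St.n_neg _ _ (by simp)] at this
    simpa using this

/-- twisted root elements -/
noncomputable def x3 (a : K) : chevD4.group K := 𝐗 18 a * (𝐗 13 (σ a) * 𝐗 12 (σ (σ a)))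
noncomputable def y3 (r s k : I) (a : K) : chevD4.group K := 𝐗 r a * (𝐗 s (-σ a) * 𝐗 k (-σ (σ a)))
/-- an element of `Q₁` -/
noncomputable def nD (u s r v z : K) : chevD4.group K :=
  𝐗 22 v * (y3 σ 17 20 21 r * (𝐗 23 z * (y3 σ 19 16 15 s * 𝐗 14 u)))

/-- collect -/
local macro "col" "[" ls:Lean.Parser.Tactic.simpLemma,* "]" : tactic => `(tactic| (
  refine mul_right_cancel (b := 1) ?_
  simp (disch := decide) only [x3, y3, nD, mul_assoc, id, mg, sw0 o1, sw1 17 18 22 (-1), sw1 20 13 22 1, sw1 21 12 22 1,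
    sw1 19 13 21 1, sw1 19 12 20 1, sw1 19 17 23 1, sw1 16 18 21 (-1), sw1 16 12 17 1, sw1 16 20 23 1, sw1 15 18 20 (-1),
    sw1 15 13 17 1, sw1 15 21 23 1, sw1 14 18 19 (-1), sw1 14 13 16 1, sw1 14 12 15 1, sw1 14 22 23 (-1)]
  repeat' refine congrArg₂ (· * ·) (congrArg (PreSt.x _ _) ?_) ?_
  all_goals (try fs [Int.cast_neg, Int.cast_one, $ls,*]); try ring))

theorem xaD (a b : K) : x3 σ (a + b) = x3 σ a * x3 σ b := by col []
theorem nmD (u s r v z u' s' r' v' z' : K) : nD σ u s r v z * nD σ u' s' r' v' z' =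
    nD σ (u + u') (s + s') (r + r') (v + v') (z + z' + u * v' - tr σ (s * r')) := by col []
theorem phD (a u s r v z : K) (h : σ u = u) : nD σ u s r v z * x3 σ a = x3 σ a * nD σ u (s + a * u) (r + cr σ a s + sh σ a * u)
    (v + tr σ (a * r) + tr σ (sh σ a * s) + H29.TD.nm σ a * u) (z - u * tr σ (sh σ a * s) - tr σ (a * sh σ s) - H29.TD.nm σ a * u ^ 2) := by
  col [h]

/-- the coordinates -/
noncomputable def e0 : Dc σ →* chevD4.group K := MonoidHom.mk' (fun c => x3 σ c.a * nD σ c.u c.s c.r c.v c.z) fun c d => by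
  rw [mul_assoc, ← mul_assoc (nD σ _ _ _ _ _), phD σ _ _ _ _ _ _ c.hu, mul_assoc, nmD, ← mul_assoc, ← xaD]
  simp only [mul_a, mul_u, mul_s, mul_r, mul_v, mul_z]
  congr 2 <;> ring
theorem e0_ap (c : Dc σ) : e0 σ c = x3 σ c.a * nD σ c.u c.s c.r c.v c.z := rfl

theorem inj0 : Function.Injective (e0 σ) := (injective_iff_map_eq_one _).2 fun c e => by
  have := (goodD4.SG_sep K).uniq (RootSys.htf _) [18, 13, 12, 22, 17, 20, 21, 23, 19, 16, 15, 14] (by decide)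
    (fun r hr => RootSys.htf_pos ((by decide +kernel : ∀ r : I, r ∈ [18, 13, 12, 22, 17, 20, 21, 23, 19, 16, 15, 14] →
      goodD4.R.pos r) r hr)) (vec 0 [0, 0, 0, 0, 0, 0, 0, 0, 0, 0, 0, 0, σ (σ c.a), σ c.a, c.u, -σ (σ c.s),
        -σ c.s, c.r, c.a, c.s, -σ c.r, -σ (σ c.r), c.v, c.z]) (fun _ => 0)
    (((mul_one _).symm.trans (by simp only [e0_ap, x3, y3, nD, mul_assoc]; rfl)).symm.trans (e.trans (by simp)))
  exact Dc.ext (this 18 (by decide)) (this 14 (by decide)) (this 19 (by decide)) (this 17 (by decide)) (this 22 (by decide))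
    (this 23 (by decide))

theorem σ1 (r s : I) (e : ℤ) (h : okgrD4.rho r = s ∧ grD4.gam r = e := by decide +kernel) (t : K) :
    (𝐓).σ (𝐗 r t) = 𝐗 s (e * σ t) := by
  rw [← h.1, ← h.2]
  refine ((𝐓).σ_x r t).trans (congrArg _ ?_)
  change σ _ = _
  rw [GrD.ex_eq_one rfl, pow_one, map_mul, map_intCast]
theorem pX (h : goodD4.R.pos r := by decide +kernel) (t : K) : 𝐗 r t ∈ (𝐒).U {r | goodD4.R.pos r} := PreSt.x_mem_U h t
theorem mU (c : Dc σ) : e0 σ c ∈ (𝐒).U {r | goodD4.R.pos r} ⊓ (𝐓).fix := by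
  refine ⟨?_, Tw.mem_fix.2 ?_⟩
  · simp only [e0_ap, nD, x3, y3, SetLike.mem_coe]
    repeat' refine mul_mem ?_ ?_
    all_goals exact pX (by decide +kernel) _
  simp only [e0_ap, nD, x3, y3, map_mul, σ1 σ 18 13 1, σ1 σ 13 12 1, σ1 σ 12 18 1, σ1 σ 22 22 1, σ1 σ 17 20 (-1), σ1 σ 20 21 1,
    σ1 σ 21 17 (-1), σ1 σ 23 23 1, σ1 σ 19 16 (-1), σ1 σ 16 15 1, σ1 σ 15 19 (-1), σ1 σ 14 14 1]
  col [c.hu, c.hv, c.hz]

theorem nX (r s : I) (h : goodD4.R.neg r = s := by decide +kernel) : 𝐧 r 1 = 𝐗 r 1 * (𝐗 s (-1) * 𝐗 r 1) := by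
  rw [PreSt.n, h, inv_one, mul_assoc]
theorem f1 : 𝐧 18 1 * (𝐧 13 1 * 𝐧 12 1) ∈ (𝐓).fix := Tw.mem_fix.2 (by
  refine mul_right_cancel (b := 1) ?_
  simp (disch := decide) only [nX 18 5, nX 13 10, nX 12 11, map_mul, σ1 σ 18 13 1, σ1 σ 13 12 1, σ1 σ 12 18 1, σ1 σ 5 10 1,
    σ1 σ 10 11 1, σ1 σ 11 5 1, Int.cast_one, one_mul, map_one, map_neg, mul_assoc, id, sw0 [18, 5, 13, 10, 12, 11]])
theorem f2 : 𝐧 14 1 ∈ (𝐓).fix := Tw.mem_fix.2 (by
  simp only [nX 14 9, map_mul, σ1 σ 14 14 1, σ1 σ 9 9 1, Int.cast_one, one_mul, map_one, map_neg])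
theorem w1 (c : Dc σ) (h : c.a = 0) : 𝐜 (𝐧 18 1 * (𝐧 13 1 * 𝐧 12 1)) (e0 σ c) = e0 σ (m1 c) := by
  simp only [e0_ap, h, m1_a, m1_u, m1_s, m1_r, m1_v, m1_z, x3, map_zero, PreSt.x_zero, one_mul, nD, y3, map_mul,
    MulAut.mul_apply, nc 12 22 21 (-1), nc 12 17 16 (-1), nc 12 20 19 (-1), nc 12 21 22 1, nc 12 23 23 1, nc 12 19 20 1,
    nc 12 16 17 1, nc 12 15 14 (-1), nc 12 14 15 1, nc 13 22 20 (-1), nc 13 17 15 (-1), nc 13 20 22 1, nc 13 21 19 (-1),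
    nc 13 23 23 1, nc 13 19 21 1, nc 13 16 14 (-1), nc 13 15 17 1, nc 13 14 16 1, nc 18 22 17 1, nc 18 17 22 (-1), nc 18 20 15 1,
    nc 18 21 16 1, nc 18 23 23 1, nc 18 19 14 1, nc 18 16 21 (-1), nc 18 15 20 (-1), nc 18 14 19 (-1)]
  col []
theorem w2 (c : Dc σ) (h : c.u = 0) : 𝐜 (𝐧 14 1) (e0 σ c) = e0 σ (m2 c) := by
  simp only [e0_ap, h, m2_a, m2_u, m2_s, m2_r, m2_v, m2_z, x3, PreSt.x_zero, mul_one, nD, y3, map_mul (𝐜 _),
    nc 14 18 19 1, nc 14 13 16 (-1), nc 14 12 15 (-1), nc 14 22 23 1, nc 14 17 17 1, nc 14 20 20 1, nc 14 21 21 1,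
    nc 14 23 22 (-1), nc 14 19 18 (-1), nc 14 16 13 1, nc 14 15 12 1]
  col []

end H14.TD
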