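/-
The group `³D₄(q)` inside `D₄`: the model for the fusion systems on its Sylow `p`-subgroup.
-/
import Cfsg.Agent.H14.TD1

set_option autoImplicit false
set_option linter.unusedSectionVars false
set_option linter.unusedSimpArgs false
set_option maxRecDepth 100000

namespace H14.TD
open Cfsg Subgroup Cfsg.Lie H14.St H29.TD H29.TD.Dc

universe v
variable {K : Type v} [Field K] (σ : K →+* K) [TV σ] {g : chevD4.group K}
local notation "𝐒" => goodD4.SG K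
local notation "𝐗" => PreSt.x (St.toPreSt (goodD4.SG K))
local notation "𝐧" => PreSt.n (St.toPreSt (goodD4.SG K))
local notation "𝐓" => D4.T σ (s3 (σ := σ))
local notation "𝐜" => MulAut.conj (G := chevD4.group K)
local notation "𝐝" => Ad.df (goodD4.ad K)
local notation "𝐅" => torFix okgrD4.pi (fun _ => RingHom.toMonoidHom σ)
set_option quotPrecheck false in
local notation "𝐔" => PreSt.U (St.toPreSt (goodD4.SG K)) {r | goodD4.R.pos r}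

theorem dx (r : I) (a b d e : ℕ) (h : goodD4.R.cf r = vec 0 [(a : ℤ), b, d, e] := by decide +kernel)
    (c : Fin chevD4.rank → Kˣ) (φ : K ≃+* K) (t : K) :
    𝐝 c φ (𝐗 r t) = 𝐗 r (c 0 ^ a * c 1 ^ b * c 2 ^ d * c 3 ^ e * φ t) := by
  rw [Ad.df_x, RootSys.chr, h]
  refine congrArg (fun v => 𝐗 r (v * φ t)) ?_
  change ((∏ j : Fin 4, _ : Kˣ) : K) = _
  rw [Fin.prod_univ_four]
  change ((c 0 ^ (a : ℤ) * c 1 ^ (b : ℤ) * c 2 ^ (d : ℤ) * c 3 ^ (e : ℤ) : Kˣ) : K) = _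
  simp
variable {σ} in
theorem l1 {c : Fin chevD4.rank → Kˣ} (h : c ∈ 𝐅) : σ (c 1) = c 1 := (D4.mem_tor.1 h).2.1.symm
theorem de {c : Fin chevD4.rank → Kˣ} (h : c ∈ 𝐅) (φ : K ≃+* K) (d : Dc σ) :
    𝐝 c φ (e0 σ d) = e0 σ (sc (c 0) (c 1) (l1 h) φ d) := by
  obtain ⟨h2, -, h3, -⟩ := D4.mem_tor.1 h
  simp only [e0_ap, sc_a, sc_u, sc_s, sc_r, sc_v, sc_z, x3, y3, nD, map_mul (𝐝 c φ), dx 18 1 0 0 0, dx 13 0 0 1 0, dx 12 0 0 0 1,
    dx 22 1 1 1 1, dx 17 0 1 1 1, dx 20 1 1 0 1, dx 21 1 1 1 0, dx 23 1 2 1 1, dx 19 1 1 0 0, dx 16 0 1 1 0, dx 15 0 1 0 1,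
    dx 14 0 1 0 0, h3, h2, mul_assoc]
  repeat' refine congrArg₂ (· * ·) (congrArg (PreSt.x _ _) ?_) ?_
  any_goals refine congrArg (PreSt.x _ _) ?_
  all_goals (try fs [l1 h]); ring

theorem tm (φ : K ≃+* K) {c : Fin chevD4.rank → Kˣ} (h : c ∈ 𝐅) : (fun j => Units.map φ.toMonoidHom (c j)) ∈ 𝐅 :=
  mem_torFix.2 fun i => (congrArg φ (mem_torFix.1 h i)).trans (H29.TD.cm φ _).symm
/-- the semilinear diagonal automorphisms -/
noncomputable def C0 : Subgroup (MulAut (chevD4.group K)) where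
  carrier := {τ | ∃ c ∈ 𝐅, ∃ φ, τ = 𝐝 c φ}
  one_mem' := ⟨1, one_mem _, 1, (Ad.df_one _).symm⟩
  mul_mem' := by
    rintro _ _ ⟨c, hc, φ, rfl⟩ ⟨c', hc', φ', rfl⟩
    exact ⟨_, mul_mem hc (tm σ φ hc'), _, Ad.df_mul ..⟩
  inv_mem' := by
    rintro _ ⟨c, hc, φ, rfl⟩
    refine ⟨_, tm σ φ⁻¹ (inv_mem hc), φ⁻¹, inv_eq_of_mul_eq_one_right ?_⟩
    rw [Ad.df_mul, mul_inv_cancel, ← Ad.df_one (goodD4.ad K)]
    exact congrArg (𝐝 · 1) (funext fun j => Units.ext (by simp))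

theorem cinj : Function.Injective 𝐜 := (injective_iff_map_eq_one _).2 fun g h => mem_bot.1 (goodD4.center_eq_bot K ▸
  mem_center_iff.2 fun a => (mul_inv_eq_iff_eq_mul.1 (DFunLike.congr_fun h a)).symm)
theorem cc (τ : MulAut (chevD4.group K)) (g : chevD4.group K) : τ * 𝐜 g * τ⁻¹ = 𝐜 (τ g) := MulEquiv.ext fun a => by simp
theorem wt {c : Fin chevD4.rank → Kˣ} (h : c ∈ 𝐅) (φ : K ≃+* K) : Wt ((𝐜).comp (e0 σ)) (𝐝 c φ) (c 0) (c 1) φ :=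
  ⟨(c 0).ne_zero, (c 1).ne_zero, l1 h, fun d => (cc _ _).trans (congrArg 𝐜 (de σ h φ d))⟩
theorem hd (hg : g ∈ (𝐒).H ⊓ (𝐓).fix) : ∃ c ∈ 𝐅, 𝐜 g = 𝐝 c 1 := by
  obtain ⟨c, rfl⟩ := (goodD4.SG_hmul K).range_tor.ge hg.1
  have e : ∀ r t, 𝐜 ((goodD4.SG_hmul K).tor c) (𝐗 r t) = 𝐝 (mpow Kˣ goodD4.R.A c) 1 (𝐗 r t) := fun r t => by
    rw [MulAut.conj_apply, mul_inv_eq_iff_eq_mul.2 ((goodD4.SG_hmul K).tor_mul_x c r t), prod_wt, Ad.df_x]; rfl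
  refine ⟨_, mem_torFix.2 fun i => ?_, aut_ext (goodD4.SG_top K) (fun _ => e _) fun _ => e _⟩
  have := congrArg (𝐓).σ (e (goodD4.R.simple i) 1)
  rw [MulAut.conj_apply, map_mul, map_mul, map_inv, Tw.mem_fix.1 hg.2, Tw.σ_x, Tw.ρ_simple, ← MulAut.conj_apply, e, Ad.df_x,
    Ad.df_x, Tw.σ_x, Tw.ρ_simple, D4.hψ, D4.hψ] at this
  simpa using! (goodD4.SG_sep K).x_inj this

variable [Finite K]
theorem cardD : Nat.card (Dc σ) = Nat.card (Fx σ) ^ 12 := by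
  rw [Nat.card_congr (show Dc σ ≃ K × K × K × Fx σ × Fx σ × Fx σ from
    ⟨fun c => (c.a, c.s, c.r, ⟨c.u, c.hu⟩, ⟨c.v, c.hv⟩, ⟨c.z, c.hz⟩),
      fun p => ⟨p.1, p.2.2.2.1, p.2.1, p.2.2.1, p.2.2.2.2.1, p.2.2.2.2.2, fx _, fx _, fx _⟩, fun _ => rfl, fun _ => rfl⟩)]
  simp only [Nat.card_prod, TV.cd (σ := σ)]; ring
instance : Finite (chevD4.group K) := have := Fintype.ofFinite K; inferInstance
theorem rg : (e0 σ).range = 𝐔 ⊓ (𝐓).fix := eq_of_le_of_card_ge (fun _ ⟨c, e⟩ => e ▸ mU σ c) (by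
  rw [← Nat.card_congr (MonoidHom.ofInjective (inj0 σ)).toEquiv, cardD, ← Tw.Up_univ, ← (D4.isTw TV.pw).card_U',
    (D4.isTw (h3 := s3 (σ := σ)) TV.pw).card_U one_pos (D4.card_Up TV.pw (one_lt σ) TV.cd)]
  rfl)

theorem md (p : ℕ) [Fact p.Prime] [CharP K p] : MD σ p := by
  have rg' : ((𝐜).comp (e0 σ)).range = (𝐔 ⊓ (𝐓).fix).map 𝐜 := by rw [← rg, MonoidHom.map_range]
  refine ⟨MulAut (chevD4.group K), inferInstance, inferInstance, (𝐜).comp (e0 σ), (𝐓).fix.map 𝐜, C0 σ,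
    𝐜 (𝐧 18 1 * (𝐧 13 1 * 𝐧 12 1)), 𝐜 (𝐧 14 1), ⟨cinj.comp (inj0 σ), fun w => exists_congr fun _ => eq_comm⟩,
    ⟨fun c h => (cc _ _).trans (congrArg 𝐜 (w1 σ c h)), fun c h => (cc _ _).trans (congrArg 𝐜 (w2 σ c h))⟩,
    rg' ▸ ((isPGroup_U p (goodD4.SG_sep K)).to_le inf_le_left).map _, ⟨rg' ▸ map_mono inf_le_right, ?_⟩, ?_, ?_, ?_, ?_, ?_,
    mem_map_of_mem _ (f1 σ), mem_map_of_mem _ (f2 σ)⟩
  · obtain ⟨P, e⟩ := Tw.Emb.exists_sylow (T := 𝐓) p ⟨subtype_injective _, range_subtype _, D4.ex⟩ (goodD4.SG_hmul K)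
    rw [rg', relIndex_map_map_of_injective _ _ cinj, inf_relIndex_right]
    have := P.not_dvd_index
    rwa [e] at this
  · rintro _ ⟨c, hc, φ, rfl⟩
    refine mem_normalizer_fintype ?_
    rintro _ ⟨g, hg, rfl⟩
    rw [cc]
    exact mem_map_of_mem _ (Tw.mem_fix.2 ((Tw.σ_df _ D4.hψ hc (fun _ t => (H29.TD.cm φ t).symm) g).trans
      (congrArg _ (Tw.mem_fix.1 hg))))
  · rintro _ ⟨c, hc, φ, rfl⟩
    exact ⟨_, _, _, wt σ hc φ⟩
  · intro k l φ hk hl h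
    lift k to Kˣ using hk.isUnit
    lift l to Kˣ using hl.isUnit
    have : vec 1 [k, l, Units.map σ.toMonoidHom k, Units.map σ.toMonoidHom (Units.map σ.toMonoidHom k)] ∈ 𝐅 :=
      D4.mem_tor.2 ⟨rfl, h.symm, rfl, (s3 _).symm⟩
    exact ⟨_, ⟨_, this, φ, rfl⟩, wt σ this φ⟩
  · rintro _ ⟨c, hc, φ, rfl⟩ h
    have e := fun d => (cinj.comp (inj0 σ)) (((wt σ hc φ).cj d).symm.trans (h.cj d))
    have e0 : (c 0 : K) = 1 := by simpa using congrArg Dc.a (e (xa 1))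
    have e1 : (c 1 : K) = 1 := by simpa using congrArg Dc.u (e (xu 1 (map_one σ)))
    obtain ⟨h2, -, h3, -⟩ := D4.mem_tor.1 hc
    rw [e0, map_one] at h2
    rw [h2, map_one] at h3
    obtain rfl : φ = 1 := RingEquiv.ext fun a => by simpa [e0] using congrArg Dc.a (e (xa a))
    obtain rfl : c = 1 := funext fun j : Fin 4 => Units.ext (by fin_cases j; exacts [e0, e1, h2, h3])
    exact Ad.df_one _
  · rintro _ ⟨g, hg, rfl⟩ n
    obtain ⟨u, hu, k, hk, rfl⟩ := Tw.mem_B_fix.1 ⟨D4.ex.mem_B_of_conj hg fun u hu => by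
      have := (mem_normalizer_iff.1 n _).1 (rg' ▸ mem_map_of_mem 𝐜 hu)
      rw [cc, rg', mem_map_iff_mem cinj] at this
      exact PreSt.U_le_B this.1, hg⟩
    obtain ⟨c, hc, e⟩ := hd σ hk
    exact ⟨_, rg' ▸ mem_map_of_mem 𝐜 hu, _, _, _, wt σ hc 1, by rw [map_mul, e]⟩

theorem sy : SY.{v} := by
  intro K _ _ p _ _ n hn hK
  have hq : IsPrimePow (p ^ n) := (Fact.out : p.Prime).isPrimePow.pow (by omega)
  have hK' := Nat.card_eq_fintype_card.trans hK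
  obtain ⟨σ, h3, hσ⟩ := D4.exists_hom hq hK
  have cF : Nat.card (Fx σ) = p ^ n := (Nat.card_congr (Equiv.subtypeEquivRight fun t => by
    rw [← hσ]; exact eq_comm)).trans (card_pow_eq hq.one_lt (hK' ▸ Nat.sub_one_dvd_pow_sub_one _ 3))
  have tv : TV σ := ⟨h3, cF ▸ hσ, cF ▸ hK'⟩
  refine ⟨σ, tv, fun T => ?_⟩
  have h := (D4.isTw (h3 := h3) hσ).emb
  obtain ⟨P, e⟩ := h.exists_sylow p (goodD4.SG_hmul K)
  refine ⟨((MonoidHom.ofInjective (inj0 σ)).trans (MulEquiv.subgroupCongr ?_)).trans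
    ((equivMapOfInjective _ _ h.inj).symm.trans (Sylow.equiv P T))⟩
  rw [rg, e, map_comap_eq, h.range, inf_comm]

end H14.TD
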