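import Cfsg.Agent.H14.UXT

/-!
# Tables of triality images: check
-/

set_option autoImplicit false
set_option maxRecDepth 100000

namespace H14.UM

noncomputable def PT : List (ℕ × Ins) := [(1, .tk 0),
  (5, .ei 0),
  (9, .tk 5),
  (527, .tz),
  (13, .tm 9 2),
  (27, .tm 13 1),
  (17, .tm 9 27),
  (43, .tm 17 1),
  (21, .tm 9 43),
  (75, .tm 21 1),
  (25, .tm 9 75),
  (139, .tm 25 1),
  (29, .tm 9 139),
  (267, .tm 29 1),
  (33, .tm 9 267),
  (523, .tm 33 1),
  (37, .tm 9 523),
  (31, .tm 37 1),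
  (41, .tm 9 31),
  (47, .tm 41 1),
  (45, .tm 9 47),
  (79, .tm 45 1),
  (49, .tm 9 79),
  (143, .tm 49 1),
  (53, .tm 9 143),
  (271, .tm 53 1),
  (19, .ty 2 [2]),
  (35, .ty 27 [27]),
  (67, .ty 43 [43]),
  (131, .ty 75 [75]),
  (259, .ty 139 [139]),
  (515, .ty 267 [267, 527]),
  (23, .ty 523 [523, 527]),
  (39, .ty 31 [31]),
  (71, .ty 47 [47]),
  (135, .ty 79 [79]),
  (263, .ty 143 [143, 527]),
  (51, .tm 35 19),
  (83, .tm 67 19),
  (99, .tm 67 35),
  (115, .tm 67 51),
  (147, .tm 131 19),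
  (163, .tm 131 35),
  (179, .tm 131 51),
  (195, .tm 131 67),
  (211, .tm 131 83),
  (227, .tm 131 99),
  (243, .tm 131 115),
  (275, .tm 259 19),
  (291, .tm 259 35),
  (307, .tm 259 51),
  (323, .tm 259 67),
  (339, .tm 259 83),
  (355, .tm 259 99),
  (371, .tm 259 115),
  (387, .tm 259 131),
  (403, .tm 259 147),
  (419, .tm 259 163),
  (435, .tm 259 179),
  (451, .tm 259 195),
  (467, .tm 259 211),
  (483, .tm 259 227),
  (499, .tm 259 243),
  (531, .tm 515 19),
  (547, .tm 515 35),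
  (563, .tm 515 51),
  (579, .tm 515 67),
  (595, .tm 515 83),
  (611, .tm 515 99),
  (627, .tm 515 115),
  (643, .tm 515 131),
  (659, .tm 515 147),
  (675, .tm 515 163),
  (691, .tm 515 179),
  (707, .tm 515 195),
  (723, .tm 515 211),
  (739, .tm 515 227),
  (755, .tm 515 243),
  (771, .tm 515 259),
  (787, .tm 515 275),
  (803, .tm 515 291),
  (819, .tm 515 307),
  (835, .tm 515 323),
  (851, .tm 515 339),
  (867, .tm 515 355),
  (883, .tm 515 371),
  (899, .tm 515 387),
  (915, .tm 515 403),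
  (931, .tm 515 419),
  (947, .tm 515 435),
  (963, .tm 515 451),
  (979, .tm 515 467),
  (995, .tm 515 483),
  (1011, .tm 515 499),
  (55, .tm 39 23),
  (87, .tm 71 23),
  (103, .tm 71 39),
  (119, .tm 71 55),
  (151, .tm 135 23),
  (167, .tm 135 39),
  (183, .tm 135 55),
  (199, .tm 135 71),
  (215, .tm 135 87),
  (231, .tm 135 103),
  (247, .tm 135 119),
  (279, .tm 263 23),
  (295, .tm 263 39),
  (311, .tm 263 55),
  (327, .tm 263 71),
  (343, .tm 263 87),
  (359, .tm 263 103),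
  (375, .tm 263 119),
  (391, .tm 263 135),
  (407, .tm 263 151),
  (423, .tm 263 167),
  (439, .tm 263 183),
  (455, .tm 263 199),
  (471, .tm 263 215),
  (487, .tm 263 231),
  (503, .tm 263 247),
  (535, .tm 2 23),
  (551, .tm 2 39),
  (567, .tm 2 55),
  (583, .tm 2 71),
  (599, .tm 2 87),
  (615, .tm 2 103),
  (631, .tm 2 119),
  (647, .tm 2 135),
  (663, .tm 2 151),
  (679, .tm 2 167),
  (695, .tm 2 183),
  (711, .tm 2 199),
  (727, .tm 2 215),
  (743, .tm 2 231),
  (759, .tm 2 247),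
  (775, .tm 2 263),
  (791, .tm 2 279),
  (807, .tm 2 295),
  (823, .tm 2 311),
  (839, .tm 2 327),
  (855, .tm 2 343),
  (871, .tm 2 359),
  (887, .tm 2 375),
  (903, .tm 2 391),
  (919, .tm 2 407),
  (935, .tm 2 423),
  (951, .tm 2 439),
  (967, .tm 2 455),
  (983, .tm 2 471),
  (999, .tm 2 487),
  (1015, .tm 2 503),
  (59, .tm 43 27),
  (91, .tm 75 27),
  (107, .tm 75 43),
  (123, .tm 75 59),
  (155, .tm 139 27),
  (171, .tm 139 43),
  (187, .tm 139 59),
  (203, .tm 139 75),
  (219, .tm 139 91),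
  (235, .tm 139 107),
  (251, .tm 139 123),
  (283, .tm 267 27),
  (299, .tm 267 43),
  (315, .tm 267 59),
  (331, .tm 267 75),
  (347, .tm 267 91),
  (363, .tm 267 107),
  (379, .tm 267 123),
  (395, .tm 267 139),
  (411, .tm 267 155),
  (427, .tm 267 171),
  (443, .tm 267 187),
  (459, .tm 267 203),
  (475, .tm 267 219),
  (491, .tm 267 235),
  (507, .tm 267 251),
  (539, .tm 523 27),
  (555, .tm 523 43),
  (571, .tm 523 59),
  (587, .tm 523 75),
  (603, .tm 523 91),
  (619, .tm 523 107),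
  (635, .tm 523 123),
  (651, .tm 523 139),
  (667, .tm 523 155),
  (683, .tm 523 171),
  (699, .tm 523 187),
  (715, .tm 523 203),
  (731, .tm 523 219),
  (747, .tm 523 235),
  (763, .tm 523 251),
  (779, .tm 523 267),
  (795, .tm 523 283),
  (811, .tm 523 299),
  (827, .tm 523 315),
  (843, .tm 523 331),
  (859, .tm 523 347),
  (875, .tm 523 363),
  (891, .tm 523 379),
  (907, .tm 523 395),
  (923, .tm 523 411),
  (939, .tm 523 427),
  (955, .tm 523 443),
  (971, .tm 523 459),
  (987, .tm 523 475),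
  (1003, .tm 523 491),
  (1019, .tm 523 507),
  (63, .tm 47 31),
  (95, .tm 79 31),
  (111, .tm 79 47),
  (127, .tm 79 63),
  (159, .tm 143 31),
  (175, .tm 143 47),
  (191, .tm 143 63),
  (207, .tm 143 79),
  (223, .tm 143 95),
  (239, .tm 143 111),
  (255, .tm 143 127),
  (287, .tm 271 31),
  (303, .tm 271 47),
  (319, .tm 271 63),
  (335, .tm 271 79),
  (351, .tm 271 95),
  (367, .tm 271 111),
  (383, .tm 271 127),
  (399, .tm 271 143),
  (415, .tm 271 159),
  (431, .tm 271 175),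
  (447, .tm 271 191),
  (463, .tm 271 207),
  (479, .tm 271 223),
  (495, .tm 271 239),
  (511, .tm 271 255),
  (543, .tm 527 31),
  (559, .tm 527 47),
  (575, .tm 527 63),
  (591, .tm 527 79),
  (607, .tm 527 95),
  (623, .tm 527 111),
  (639, .tm 527 127),
  (655, .tm 527 143),
  (671, .tm 527 159),
  (687, .tm 527 175),
  (703, .tm 527 191),
  (719, .tm 527 207),
  (735, .tm 527 223),
  (751, .tm 527 239),
  (767, .tm 527 255),
  (783, .tm 527 271),
  (799, .tm 527 287),
  (815, .tm 527 303),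
  (831, .tm 527 319),
  (847, .tm 527 335),
  (863, .tm 527 351),
  (879, .tm 527 367),
  (895, .tm 527 383),
  (911, .tm 527 399),
  (927, .tm 527 415),
  (943, .tm 527 431),
  (959, .tm 527 447),
  (975, .tm 527 463),
  (991, .tm 527 479),
  (1007, .tm 527 495),
  (1023, .tm 527 511)]
theorem kT : run PT (.nd (.nd BT (.lf (cT XF B3))) (.nd (mkT 4) (mkT 8))) (fun s => eqT XT (rt (rt s))) = true := by decide +kernel

end H14.UM
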