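import Cfsg.Agent.H14.UM0

/-!
# An interpreter for derivations about an action of an amalgam: programs
-/

set_option autoImplicit false

namespace H14.UM

open H26 (frc)
open H15 (band bor allTo)

/-- a claim: kind, two indices, three elements -/
structure Cl where
  k : ℕ
  j : ℕ
  l : ℕ
  d : Dt
  e : Dt
  f : Dt

/-- trees of claims -/
inductive Tr where
  | lf (c : Cl)
  | nd (l r : Tr)

def D0 : Dt := ⟨0, 0, 0, 0, 0, 0⟩
def D1 : Dt := ⟨ID, ID, 0, ID, 0, 1⟩
def PW : ℕ := 0x10000000000000000000000000000000000000000000000000000000000000000000000000000000000000000000000000000000000000000000000000000000000000000000000000000000000000000000000000000000000000000000000000000000000000000000000000000000000000000000000000000000000000000000000000000000000000000000000000000000000000000000000000000000000000000000000000000000000000000000000000000000000000000000000000000000000000000000000000000000000000000000000000000000000000000000000000000000000000000000000000000000000000000000000000000000000000000000000000000000000000000000000000000000000000000000000000000000000000000000000000000000000000000000000000000000000000000000000000000000000000000000000000000000000000000000000000000000000000000000000000000000000000000000000000000000000000000000000000000000000000000000000000000000000000000000000000000000000000000000000000000000000000000000000000000000000000000000000000000000000000000000000000000000000000000000000000000000000000000000000000000000000000000000000000000000000000000000000000000000000000000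
def ZD : Dt := ⟨ID, ID, 0, ID, 0, PW⟩
def SD : Dt := ⟨ID, ID, 0x800000000000000000000000000000000000000000000000000000000000000000000000000000000000000000000000000000000000000000000000000000000000000000000000, ID, 0, 0x100000000000000000000000000000000000000000000000000000000000000000000000000000000000000000000000000000000000000000000000000000000000000000000000000000000000000000000000000000000000000000000000000000000000000000000000000000000000000000000000000000000000000000000000000000000000000000000000000000000000000000000000000000000000000000000000000000000000000000000000000000000000000000000000000000000000000000000000000000000000000000000000000000000000000000000000000000000000000000000000000000000000000000000000000000000⟩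
def XD : Dt := ⟨ID, ID, 0x800000000000000000000000000000000000020000000000000000000000000000000, ID, 0, 1⟩
def nil : Cl := ⟨0, 0, 0, D0, D0, D0⟩

noncomputable def get (t : Tr) : ℕ → Cl :=
  Tr.rec (fun c _ => c) (fun _ _ gl gr i =>
    Bool.rec (gr (Nat.shiftRight i 1)) (gl (Nat.shiftRight i 1)) (Nat.beq (Nat.land i 1) 0)) t
noncomputable def put (c : Cl) (t : Tr) : ℕ → (Tr → Bool) → Bool :=
  Tr.rec (fun _ _ k => k (.lf c)) (fun l r sl sr i k =>
    Bool.rec (sr (Nat.shiftRight i 1) fun r' => k (.nd l r')) (sl (Nat.shiftRight i 1) fun l' => k (.nd l' r))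
      (Nat.beq (Nat.land i 1) 0)) t
noncomputable def mkT (n : ℕ) : Tr := Nat.rec (.lf nil) (fun _ t => .nd t t) n
noncomputable def lt (t : Tr) : Tr := Tr.rec (fun c => .lf c) (fun l _ _ _ => l) t
noncomputable def rt (t : Tr) : Tr := Tr.rec (fun c => .lf c) (fun _ r _ _ => r) t
noncomputable def eqC (c d : Cl) : Bool := bor (Nat.beq c.k 0) (band (Nat.beq c.k d.k) (band (Nat.beq c.j d.j)
  (band (Nat.beq c.l d.l) (band (eqD c.d d.d) (band (eqD c.e d.e) (eqD c.f d.f))))))
noncomputable def eqT (t : Tr) : Tr → Bool :=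
  Tr.rec (fun c s => eqC c (get s 0)) (fun _ _ fl fr s => band (fl (lt s)) (fr (rt s))) t

noncomputable def ld (s : Tr) (a n : ℕ) (k : ℕ → ℕ → Dt → Dt → Dt → Bool) : Bool :=
  Cl.rec (fun m j l d e f => band (Nat.beq m n) (k j l d e f)) (get s a)
noncomputable def le (s : Tr) (a : ℕ) (k : Dt → Bool) : Bool :=
  Cl.rec (fun m _ _ d _ _ => band (Nat.ble 1 m) (band (Nat.ble m 7) (k d))) (get s a)

noncomputable def qk (e : ℕ) (k : Dt → Bool) : Bool :=
  frc (qel e).g fun g => frc (qel e).w fun w => k ⟨ID, ID, g, ID, 0, w⟩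
noncomputable def pos (d : Dt) : Bool :=
  bor (band (Nat.beq d.n 0) (Nat.beq d.w 1)) (band (Nat.beq d.p 0) (Nat.beq d.w PW))
noncomputable def isK (d : Dt) : Bool := band (Nat.beq (app d 2048) 2048) (pos d)
noncomputable def isI (d : Dt) : Bool := band (allTo (fun k => Nat.beq (app d (cl ID k)) (cl ID k)) 24) (pos d)
noncomputable def fx (d : Dt) : Bool := Nat.beq (app d 4669440) 4669440

noncomputable def qch (s : Tr) (q : List ℕ) : ℕ → Dt → (ℕ → Dt → Bool) → Bool :=
  List.rec (fun j d k => k j d) (fun a _ ih j d k => ld s a 2 fun j' l e _ _ =>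
    band (Nat.beq j' j) (mul d e fun d' => ih l d' k)) q
noncomputable def tc (s : Tr) (h : List ℕ) : Dt → (Dt → Bool) → Bool :=
  List.rec (fun d k => band (isK d) (k d)) (fun a _ ih d k => ld s a 5 fun _ _ u v _ =>
    mul u d fun d' => ih d' fun r => mul v r k) h
noncomputable def ev (s : Tr) (j : ℕ) (d : Dt) (q : List ℕ) (a : ℕ) (h : List ℕ) (k : ℕ → Dt → Bool) : Bool :=
  qch s q j d fun j' d' => ld s a 4 fun i l u v _ => band (Nat.beq i j')
    (mul d' u fun x => tc s h x fun r => mul r v (k l))
noncomputable def cch (s : Tr) (j : ℕ) (q : List ℕ) : ℕ → (ℕ → Bool) → Bool :=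
  List.rec (fun c k => k c) (fun a _ ih c k => ld s a 2 fun i l d _ _ =>
    band (Nat.beq i j) (band (Nat.beq l j) (frc (app d c) fun c' => ih c' k))) q

/-- instructions -/
inductive Ins where
  | em (a b : ℕ) | ei (a : ℕ) | eq (e : ℕ) | s0 (b a : ℕ) | f0 (b : ℕ) | df (b a : ℕ) | qm (a b : ℕ) | qi (a : ℕ)
  | ev (a j : ℕ) (q : List ℕ) (b : ℕ) (h : List ℕ)
  | tr (r a j : ℕ) (q : List ℕ) (b : ℕ) (h : List ℕ) (q' : List ℕ) (b' : ℕ) (h' : List ℕ)
  | co (a b : ℕ) | rv (a : ℕ) | gh (a : ℕ) | sg (a q : ℕ) | sh (a q : ℕ) | ss (a q : ℕ)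
  | tz | tk (a : ℕ) | tm (a b : ℕ) | tn (a : ℕ) (h : List ℕ) | ty (a : ℕ) (h : List ℕ) | l0 | lr (a : ℕ)
  | gn (a : ℕ) | fr (a b : ℕ) (q : List ℕ)

def cE (d : Dt) : Cl := ⟨1, 0, 0, d, D0, D0⟩
def cQ (j l : ℕ) (d : Dt) : Cl := ⟨2, j, l, d, D0, D0⟩
def cG (j l : ℕ) (d e : Dt) : Cl := ⟨3, j, l, d, e, D0⟩
def cH (j l : ℕ) (d e : Dt) : Cl := ⟨4, j, l, d, e, D0⟩
def cT (d e : Dt) : Cl := ⟨5, 0, 0, d, e, D0⟩
def cM (k j l t : ℕ) : Cl := ⟨k, j, l, ⟨0, t, 0, 0, 0, 0⟩, D0, D0⟩

noncomputable def step (s : Tr) (i : Ins) (k : Cl → Bool) : Bool :=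
  match i with
  | .em a b => le s a fun d => le s b fun e => mul d e fun x => k (cE x)
  | .ei a => le s a fun d => inv d fun x => k (cE x)
  | .eq e => qk e fun x => k (cE x)
  | .s0 b a => ld s b 9 fun _ _ _ _ _ => le s a fun d => band (fx d) (k (cQ 0 0 d))
  | .f0 b => ld s b 9 fun _ _ _ _ _ => k (cG 0 0 D1 D1)
  | .df b a => ld s b 8 fun j l d _ _ => le s a fun e => band (eqD d e) (k (cG j l d D1))
  | .qm a b => ld s a 2 fun j l d _ _ => ld s b 2 fun j' l' e _ _ => band (Nat.beq j' l) (mul d e fun x => k (cQ j l' x))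
  | .qi a => ld s a 2 fun j l d _ _ => inv d fun x => k (cQ l j x)
  | .ev a j q b h => le s a fun d => ev s j d q b h fun l x => k (cG j l d x)
  | .tr r a j q b h q' b' h' => ld s r 7 fun _ _ u v w => le s a fun d => mul w d fun x => ev s j x q b h fun l y =>
      mul v y fun x' => ev s l x' q' b' h' fun l' y' => mul u y' fun z => k (cG j l' d z)
  | .co a b => ld s a 3 fun j l d e _ => ld s b 3 fun j' l' d' e' _ => band (Nat.beq j j') (band (eqD d d')
      (inv e' fun x => mul x e fun y => k (cQ l' l y)))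
  | .rv a => ld s a 3 fun j l d e _ => mul XD e fun x => mul XD d fun y => k (cG l j x y)
  | .gh a => ld s a 3 fun j l d e _ => inv d fun x => k (cH j l x e)
  | .sg a q => ld s a 3 fun j l d e _ => ld s q 2 fun j' l' u _ _ => band (Nat.beq j' l) (mul e u fun x => k (cG j l' d x))
  | .sh a q => ld s a 4 fun j l d e _ => ld s q 2 fun j' l' u _ _ => band (Nat.beq j' l) (mul e u fun x => k (cH j l' d x))
  | .ss a q => ld s a 3 fun j l d e _ => ld s q 2 fun j' l' u _ _ => band (Nat.beq j' j) (mul d u fun x => k (cG l' l x e))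
  | .tz => k (cT ZD SD)
  | .tk a => le s a fun d => band (isK d) (inv d fun x => k (cT x d))
  | .tm a b => ld s a 5 fun _ _ d e _ => ld s b 5 fun _ _ d' e' _ => mul d d' fun x => mul e' e fun y => k (cT x y)
  | .tn a h => le s a fun d => tc s h d fun r => inv d fun x => k (cT x r)
  | .ty a h => ld s a 5 fun _ _ d e _ => mul XD d fun x => mul x XD fun y => tc s h y fun r =>
      mul XD r fun u => mul u XD fun v => k (cT e v)
  | .l0 => k ⟨6, 0, 0, D1, D1, D1⟩
  | .lr a => ld s a 6 fun _ _ d e f => band (fx d) (band (fx e) (band (fx f)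
      (mul XD d fun x => inv f fun y => mul y XD fun z => k ⟨7, 0, 0, x, e, z⟩)))
  | .gn a => ld s a 2 fun j l d _ _ => band (Nat.beq l j) (Dt.rec (fun _ t _ _ _ _ => k (cM 10 j 0 t)) d)
  | .fr a b q => ld s a 4 fun j l d _ _ => ld s b 4 fun j' l' d' _ _ => band (Nat.beq j' j) (band (Nat.blt l 12)
      (band (Nat.blt l' 12) (frc (app d' 16779264) fun c => cch s j q c fun c' => band (Nat.beq c' (app d 2048))
        (Dt.rec (fun _ t _ _ _ _ => k (cM 11 j c' t)) d))))

noncomputable def run (P : List (ℕ × Ins)) : Tr → (Tr → Bool) → Bool :=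
  List.rec (fun s k => k s) (fun i _ ih s k => step s i.2 fun c => put c s i.1 fun s' => ih s' k) P

/-- conjugation by a product of three triality elements agrees with conjugation by `c` -/
noncomputable def lch (s : Tr) (x y c : Dt) (L : List (ℕ × List ℕ × List ℕ × List ℕ)) : Bool :=
  List.rec true (fun p _ ih => qk p.1 fun q => tc s p.2.1 q fun q => mul x q fun q => mul q y fun q =>
    tc s p.2.2.1 q fun q => mul x q fun q => mul q y fun q => tc s p.2.2.2 q fun q => inv q fun q =>
    qk (app c p.1) fun r => mul q r fun u => band (isI u) ih) L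

/-! bit planes -/

noncomputable def rx (P : List ℕ) : ℕ → ℕ :=
  List.rec (fun _ => 0) (fun a _ ih r => Bool.rec (Nat.xor a (ih (Nat.shiftRight r 1))) (ih (Nat.shiftRight r 1))
    (Nat.beq (Nat.land r 1) 0)) P
def mu2 (a b s : ℕ) : ℕ := Nat.xor a (Nat.land (Nat.xor a b) s)
noncomputable def mx (P : List ℕ) (i : ℕ) (t : Tr) : List ℕ → ℕ :=
  Tr.rec (fun c _ => frc (cl c.d.t i) (rx P)) (fun _ _ fl fr q => frc (fl q.tail) fun a => mu2 a (fr q.tail) (q.headD 0)) t
noncomputable def tab (f : ℕ → ℕ) (n : ℕ) : List ℕ → (List ℕ → Bool) → Bool :=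
  Nat.rec (fun l k => k l) (fun i ih l k => frc (f i) fun x => ih (x :: l) k) n
def V0 : List ℕ := [0, 0, 0, 0, 0, 0, 0, 0, 0, 0, 0, L11, L0, L1, L2, L3, L4, L5, L6, L7, L8, L9, L10, 0]
noncomputable def cat (f : ℕ → ℕ) (q : List ℕ) : ℕ :=
  List.rec 0 (fun a _ ih => Nat.lor (f a) (Nat.shiftLeft ih 4096)) q
noncomputable def mis (o : ℕ) (P : List ℕ) : ℕ → ℕ :=
  List.rec (fun _ => 0) (fun a _ ih r => Nat.lor (Bool.rec (Nat.xor a o) a (Nat.beq (Nat.land r 1) 0))
    (ih (Nat.shiftRight r 1))) P
noncomputable def walk (g : Tr) (q : List (List ℕ)) : List ℕ → (List ℕ → Bool) → Bool :=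
  List.rec (fun P k => k P) (fun a _ ih P k => tab (fun i => mx P i g a) 24 [] fun P' => ih P' k) q
noncomputable def allT (f : Cl → Bool) (t : Tr) : Bool := Tr.rec f (fun _ _ a b => band a b) t
def SP : ℕ := 0xc75a4ff68fb4bda9edab9f13dc6ee393ec9f800c00a00900880840820810808804802801
noncomputable def SH : ℕ := Nat.rec 0 (fun i ih => Nat.rec ih (fun j ih => Nat.lor ih (Nat.mul 0x100000000000000000000000000000000000000000000000000000000000000000000000000000000000000000000000000000000000000000000000000000000000000000000000000000000000000000000000000000000000000000000000000000000000000000000000000000000000000000000000000000000000000000000000000000000000000000000000000000000000000000000000000000000000000000000000000000000000000000000000000000000000000000000000000000000000000000000000000000000000000000000000000000000000000000000000000000000000000000000000000000000000000000000000000000001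
  (Nat.pow 2 (Nat.land (Nat.xor (Nat.shiftRight SP (Nat.mul 12 i)) (Nat.shiftRight SP (Nat.mul 12 j))) 2047)))) 24) 24
def NE : ℕ := 0xffeffef7dbffffbfef8e7fefffe7fdff7effe8fefff7fedfffe7fefff771bff7bff7f771fffeeff7fdeffff77ffffbdfffdffef7fdbf7ffffbffdfbfeff7fffef7ffdfbfffbdbf2bffeffbfd7effffbfffdbfeffeffff7bfbdffff7ffff7dffefedffff77ffffdbf7ffbefff177f7ffedf4dbfdffbdffffeffdff7fe7ffefee8fb7fdfffb2fbfbfdfdeffffbfbffef7ffffdfebffbef7fffbffff7dfdff7fffefdffffe7fbdf7fffd4fdbdfffdbffffeeffb7fff7fff177efd7ffffefffe7ee8dffe4ddffbffdfbfbff7dfffffdff7febfffdff7fd7ffffe2bbfbffebffefee8ffbfdbffeff7fffefdffff7e7ffefee8f7dffffefffe7ee8bffefee8fee8e880ffeffef7dbffffbfef8e7fefffe7fdff7effe8fefff7fedfffe7fefff771bff7bff7f771fffeeff7fdeffff77ffffbdfffdffef7fdbf7ffffbffdfbfeff7fffef7ffdfbfffbdbf2bffeffbfd7effffbfffdbfeffeffff7bfbdffff7ffff7dffefedffff77ffffdbf7ffbefff177f7ffedf4dbfdffbdffffeffdff7fe7ffefee8fb7fdfffb2fbfbfdfdeffffbfbffef7ffffdfebffbef7fffbffff7dfdff7fffefdffffe7fbdf7fffd4fdbdfffdbffffeeffb7fff7fff177efd7ffffefffe7ee8dffe4ddffbffdfbfbff7dfffffdff7febfffdff7fd7ffffe2bbfbffebffefee8ffbfdbffeff7fffefdffff7e7ffefee8f7dffffefffe7ee8bffefee8fee8e880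
/-- all neighbours of the frames `q` are moved to one of the frames `r` -/
noncomputable def exh (s g : Tr) (j : ℕ) (r q : List ℕ) (w : List (List ℕ)) : Bool :=
  band (allT (fun c => band (Nat.beq c.k 10) (Nat.beq c.j j)) g) (frc (cat (fun _ => ON) q) fun o =>
    tab (fun i => cat (fun a => frc (cl (get s a).d.t i) (rx V0)) q) 24 [] fun P => walk g w P fun P =>
      Nat.beq (List.rec (cat (fun _ => NE) q) (fun a _ ih => Nat.land ih (mis o P (get s a).l)) r) 0)

end H14.UM
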