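import Cfsg.Agent.H14.UM7

/-!
# Elements given by their matrices
-/

set_option autoImplicit false

namespace H14.UM

open Cfsg Finset H15 Matrix H19
open H14.Mn hiding bt St pv
open H26 (frc)
open H15.XM (bt)

attribute [-simp] Fintype.sum_option
attribute [local irreducible] Fintype.piFinset cπ mm prj

def bi (b : Bool) (a : ℤ) : ℤ := Bool.rec 0 a b
def pb (z i : ℕ) : ℤ := if zt z < 2 then bi ((za z).testBit i) (4 - 2 * zt z) + bi ((zb z).testBit i) (4 * zt z - 8)
  else 1 + bi ((za z).testBit i) (-2) + bi ((zb z).testBit i) (-4) + bi ((za z).testBit i && (zb z).testBit i) 8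
theorem pv_eq (z : ℕ) (p : P) : pv z p = pb z (ix p) := by
  rw [pv, pb]
  split_ifs <;> simp only [gv, mem_inter, mem_S] <;> cases (za z).testBit (ix p) <;> cases (zb z).testBit (ix p) <;>
    simp [bi]

def mbt (j i : ℕ) : ℤ := getT 0x666666666666666666666666646644466646464444444444466664664644446444444444446666466464444644444444444666646646444464444444666466446644444446444444646646644664444444644444866886886688266662686666688688866688226666668666886868668688262666666866686686688888266666266686886668886868266266666668555555555555155555555555666666666666226666666666666666666666262666666666666666666666266266666666666666666666266626666666666666666666266662666666666666666666266666266666666666666666266666626666666666666666266666662666666666666666266666666266666666666666266666666626666666666666266666666662 4 15 (24 * j + i) - 4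
def MZ : ℕ := 0xc750005fa1d4470b8a768017746ddc3480833e64235e4ef86dc02f6fa2533bbfbc5f41b356654b47400063a80031d8003c18007af8005988006cc8003668001b380029680054b8000ea8004758000758006758005758004f580043580045580046580047d800471800477800474800
def mz (z j : ℕ) : ZMod 2 := (((∑ i ∈ range 24, pb z i * mbt j i) / 8 : ℤ) : ZMod 2)

theorem th_pow : ∀ j : Fin 12, th (Pi.single j 1) = va (0x40400200020100 >>> (12 * j.1)) := by decide +kernel
theorem mu_lv {z : ℕ} (h : Mn z) (j : J) : toV (μ (lv z)) j = mz z (IJ.idx j) := by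
  have k : ∀ v : Lam, (∀ p, cf v p = mbt (IJ.idx j) (ix p)) → bl (lv z) v = mz z (IJ.idx j) := fun v e => by
    rw [bl, mz, dotInt, sum_pt_range, h.cf]
    exact congrArg (fun a : ℤ => ((a / 8 : ℤ) : ZMod 2)) (sum_congr rfl fun i hi => by
      rw [pv_eq, e, ix_pt (mem_range.1 hi)])
  rcases j with j | j
  · exact k _ (by clear k; revert j; decide +kernel)
  · refine k _ ?_
    rw [th_pow]; clear k; revert j; decide +kernel

theorem β_BM (e f : E) : β e f = toV e ⬝ᵥ mt BM *ᵥ toV f := by
  rw [show mt BM = fromBlocks 0 0 1 0 by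
    ext (i | i) (j | j) <;> simp only [mt_apply, fromBlocks_apply₁₁, fromBlocks_apply₁₂, fromBlocks_apply₂₁, fromBlocks_apply₂₂,
      one_apply, Matrix.zero_apply] <;> revert i j <;> decide +kernel, toV, toV, fromBlocks_mulVec,
    sumElim_dotProduct_sumElim, β, dotProduct_comm]
  simp

def cW (W j i : ℕ) : ℤ := bi (decide (j < 23)) (2 * (pb (gz W j) i - pb (gz W 0) i - pb (gz W 23) i)) +
  (pb (gz W 0) i + pb (gz W 23) i)

/-- the check for an element given by the images of the generators of the lattice -/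
def bOK (W y : ℕ) (D : Dt) : Prop := gramOK W = true ∧
  (∀ k < 37, ∀ j < 24, mz (gz W k) j = bz ((mm D.a (cl MZ k)).testBit j)) ∧ D.p &&& D.n = 0 ∧
  (∀ i < 24, ∀ j < 24, -(cW W j i : ZMod 3) = v3 D.p D.n (24 * j + i) ∧ D.t.testBit (24 * j + i) = D.a.testBit (24 * i + j) ∧
    (D.g.testBit (24 * j + i) ^^ D.g.testBit (24 * i + j)) = (mm D.t (mm BM D.a) ^^^ BM).testBit (24 * j + i)) ∧
  D.w &&& OW ≠ 0 ∧ y < 4096 ∧ prj D.a D.g (2 ^ y) = D.w

theorem mz_BZ : ∀ k < 37, ∀ j < 24, mz (gz BZ k) j = bz ((cl MZ k).testBit j) := by decide +kernel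

theorem rep_base {W y : ℕ} {D : Dt} (h : bOK W y D) : ∃ x, Rep D x := by
  obtain ⟨h1, h2, h3, h4, h5, hy, h6⟩ := h
  have m := (gramOK_sound h1).1
  have mb := (gramOK_sound gramOK_BZ).1
  have c := coM_spec h1
  generalize coM W = g at c
  have ha : ∀ e, toV (cπ g e) = mt D.a *ᵥ toV e := fun e => by
    induction e using E_ind with | h v => ?_
    let T : E →+ J → ZMod 2 := AddMonoidHom.mk' toV toV_add
    have := span_BZ ((T.comp (μ.comp (coHom g))).eqLocus (((mt D.a).mulVecLin.toAddMonoidHom.comp T).comp μ)) fun k hk => by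
      change toV (μ (g • _)) = mt D.a *ᵥ toV (μ _)
      rw [c k hk, funext (mu_lv (m k hk)), funext (mu_lv (mb k hk)), funext fun j => h2 k hk _ (IJ.ok.1 j).1,
        funext fun j => mz_BZ k hk _ (IJ.ok.1 j).1]
      exact vec_mm _ _
    rw [cπ_mu]
    exact (this ▸ AddSubgroup.mem_top v : v ∈ AddMonoidHom.eqLocus _ _)
  have ht : mt D.t = (mt D.a)ᵀ := by
    ext i j; rw [transpose_apply, mt_apply, mt_apply, (h4 _ (IJ.ok.1 i).1 _ (IJ.ok.1 j).1).2.1]
  have hg : mt D.g + (mt D.g)ᵀ = (mt D.a)ᵀ * (mt BM * mt D.a) + mt BM := by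
    rw [← ht, ← mt_mm, ← mt_mm, ← mt_xor]
    ext i j
    rw [Matrix.add_apply, transpose_apply, mt_apply, mt_apply, mt_apply, ← bz_xor, (h4 _ (IJ.ok.1 i).1 _ (IJ.ok.1 j).1).2.2]
  have hm : M3 D.p D.n (c3 g) := fun i j => ⟨fun d => by
    have := congrArg (Nat.testBit · (24 * ix j + ix i)) h3
    simp [d.1, d.2] at this, by
      have e0 : e8 none 1 = lv (gz BZ 0) + lv (gz BZ 23) := Subtype.ext (by
        change _ = cf _ + cf _
        rw [(mb 0 (by omega)).cf, (mb 23 (by omega)).cf, pv_BZ.1 0 (by omega), pv_BZ.2.1]; decide +kernel)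
      have e1 : cf (g • e8 none 1) i = pb (gz W 0) (ix i) + pb (gz W 23) (ix i) := by
        rw [e0, co_add, c 0 (by omega), c 23 (by omega), ← pv_eq, ← pv_eq, ← (m 0 (by omega)).cf, ← (m 23 (by omega)).cf]; rfl
      rw [← (h4 _ (ix_lt i) _ (ix_lt j)).1, c3, of_apply, cW]
      rcases j with _ | j
      · rw [e1]; simp [ix, bi]
      have l : ix (some j) < 23 := j.val_lt
      have e2 : e8 (some j) 1 = lv (gz BZ (ix (some j))) + lv (gz BZ (ix (some j))) - e8 none 1 := Subtype.ext (by
        change _ = cf _ + cf _ - cf _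
        rw [(mb _ (by omega)).cf, pv_BZ.1 _ l, pt_ix]; revert j; decide +kernel)
      rw [e2, co_sub, co_add, c _ (by omega), decide_eq_true l]
      change -(((cf (lv _) i + cf (lv _) i - cf (g • e8 none 1) i : ℤ)) : ZMod 3) = _
      rw [e1, (m _ (by omega)).cf, pv_eq, bi]; congr 2; ring⟩
  obtain ⟨M, hM⟩ := avg_ne g fun e => toV e ⬝ᵥ mt D.g *ᵥ toV e
  obtain ⟨h, H⟩ := lift_of hM (avg_X (fun e f => by
    rw [β_BM, β_BM, ha, ha, toV_add, mulVec_mulVec, dotProduct_comm (mt D.a *ᵥ _), dotProduct_mulVec _ (mt D.a), ← mulVec_transpose,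
      mulVec_mulVec, dotProduct_comm (_ *ᵥ _), ← dotProduct_add, ← add_mulVec, ← hg, add_mulVec, mulVec_transpose,
      dotProduct_add, dotProduct_comm (toV e) (_ ᵥ* _), ← dotProduct_mulVec]
    simp only [mulVec_add, add_dotProduct, dotProduct_add]; ring) M)
  have w := St_pow hy 0 two_pos
  rw [mul_zero, zero_add] at w
  have n : prj D.a D.g (2 ^ y) ≠ 0 := fun z => h5 (by rw [← h6, z, Nat.zero_and])
  rcases lt_trichotomy 0 ((hᵀ *ᵥ Pi.single (va y) (χ (sb 0))) 0) with p | p | p
  · exact ⟨_, _, _, _, ⟨H, ha, ht, fun _ => rfl, hm, h6 ▸ prj_pos H ha (fun _ => rfl) w n p⟩, rfl⟩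
  · obtain ⟨κ, p0, u⟩ := prj_spec H ha (fun _ => rfl) w n
    refine absurd (Nat.eq_of_testBit_eq fun x => ?_) h5
    have k : ∀ x < 4096, D.w.testBit x = false ∧ D.w.testBit (4096 + x) = false := fun x hx => by
      have := u x hx
      simp only [← p, h6, am, mul_zero, zero_mul] at this
      revert this
      cases D.w.testBit x <;> cases D.w.testBit (4096 + x) <;> simp [bt, p0.ne, p0.ne']
    rw [Nat.testBit_and, OW_eq, Nat.testBit_two_pow_sub_one, Nat.zero_testBit]
    rcases lt_or_ge x 4096 with a | a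
    · rw [(k x a).1]; rfl
    obtain ⟨x, rfl⟩ := Nat.exists_eq_add_of_le a
    rcases lt_or_ge x 4096 with a | a
    · rw [(k x a).2]; rfl
    · rw [decide_eq_false (by omega), Bool.and_false]
  · exact ⟨_, _, _, _, ⟨lneg H, ha, ht, fun _ => rfl, hm, h6 ▸ prj_pos (lneg H) ha (fun _ => rfl) w n (by
      rw [transpose_neg, neg_mulVec]; exact neg_pos.2 p)⟩, rfl⟩

end H14.UM
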