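import Cfsg.Agent.H10.R3
import Cfsg.Agent.H0.Coc
import Cfsg.Agent.H12.ClassifyQuad
import Cfsg.Prelude.Def_ClassificationK
import Cfsg.Prelude.Def_Transfer
import Cfsg.Prelude.Def_LieTwisted
import Cfsg.Prelude.Def_Spor_Conway
import Cfsg.Prelude.Def_Spor_Th
import Cfsg.Prelude.Def_Spor_HN

/-! Large extraspecial subgroups of order `2⁹`: coordinates, point systems and the chunks. -/

set_option autoImplicit false
set_option linter.unusedSectionVars false

open Subgroup
namespace H14.X9
open H0 H19 H10.Y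
open H10.R (N8 n8 A8 st st_eq)

/-- value tables of the two quadratic forms `x₀x₁+x₂x₃+x₄x₅+x₆x₇` and the same plus `x₆+x₇` -/
def tQ (e : Bool) : ℕ := bif e then 0x7888877787778777877778887888788887777888788878888777788878887888 else
  0x7888877787778777788887778777877778888777877787778777788878887888
/-- parity table -/
def tP : ℕ := 0x6996966996696996966969966996966996696996699696696996966996696996
def qN (e : Bool) (v : ℕ) : Bool := (tQ e).testBit v
def sw (v : ℕ) : ℕ := ((v &&& 85) <<< 1) ||| ((v >>> 1) &&& 85)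
def bN (u v : ℕ) : Bool := tP.testBit (u &&& sw v)
def q (e : Bool) (v : N8) : ZMod 2 := bif qN e v.1 then 1 else 0
def b (u v : N8) : ZMod 2 := bif bN u.1 v.1 then 1 else 0

def cl (m v i : ℕ) : ℕ := ((v >>> i) &&& 1) * ((m >>> (8 * i)) &&& 255)
/-- the linear map with matrix `m`: byte `i` of `m` is the image of the `i`-th basis vector -/
def ap (m v : ℕ) : ℕ := st v fun v => ((cl m v 0 ^^^ cl m v 1) ^^^ (cl m v 2 ^^^ cl m v 3)) ^^^
  ((cl m v 4 ^^^ cl m v 5) ^^^ (cl m v 6 ^^^ cl m v 7))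
/-- the identity matrix -/
def ID : ℕ := 0x8040201008040201
/-- a word in the matrices of a list; the first letter acts first -/
def ev (L W : List ℕ) (v : ℕ) : ℕ := W.foldl (fun v k => ap (L.getD k ID) v) v
/-- the standard totally singular subspace -/
def E0 (v : ℕ) : Bool := v &&& 170 == 0
/-- the eight products of the first three generators -/
def LW (u : ℕ) : List ℕ := (bif u.testBit 0 then [0] else []) ++ (bif u.testBit 1 then [1] else []) ++
  bif u.testBit 2 then [2] else []

/-- generators of the groups of the eleven systems: `A₈, S₇, S₃×S₅, S₃³, 3⁴:2³, (3×A₆).2, S₃×A₅, S₃×A₆, A₅≀2, L₂(8), A₉` -/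
def KG : List (List ℕ) := [
  [0x8040201008050a01, 0x8040201108042201, 0x8041201008048201, 0x804022100a040215, 0x824022100a040255, 0x8240221008040251],
  [0x9040601008050a01, 0x8440201148042201, 0x8041241018048201, 0x806822900a840215, 0x826a229a0aa402f5, 0x8248221808a40251],
  [0x9040601008050a01, 0x8440201148042201, 0x8041241018048201, 0x806a22900a86029f, 0x826a229a0aa402f5, 0x8248221808a40251],
  [0x9040601008050a01, 0x8440201148042201, 0x8041241018048201, 0x806a22900a840295, 0x826a229a0aa602ff, 0x8248221808a60259],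
  [0x9040601008050a01, 0x8440201148042201, 0x8041241018048201, 0x806a22900a840295, 0x826a229a0aa602ff, 0x8248221808a60259, 0x806a22900a840295, 0x806524909a048205, 0x9656f91fed373eeb],
  [0x9040601008050a01, 0x8440201148042201, 0x8041241018048201, 0x102646809a040295, 0x985ace0a12f202bd, 0x825aaa120a9602ff],
  [0x9040601009050f01, 0x8440201148042201, 0x8041241018048201, 0x63ea496f28202ed, 0xa46606cef22202bd, 0x618a4125282026f],
  [0x9040601009050f01, 0x8440201148042201, 0x8041241018048201, 0x63ea496f28202ed, 0xa46606cef22202bd, 0x618a4125282026f, 0x23ba4921a8680ec, 0xa46202cb4a2620bc, 0x219a4163c86806a],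
  [0x9140611008055a01, 0x8540201148046201, 0x8041241018048201, 0x8050a2100a06021f, 0x8044221288040233, 0x824026101a040255],
  [0x9140611009055f01, 0x8540211148047301, 0x814124101804c301, 0x806a22920a8402b7, 0x826822980aa6025f, 0x8248221a08a40273],
  [0x9140611009055f01, 0x8540211148047301, 0x814124101804c301, 0x806a22920a8402b7, 0x826822980aa6025f, 0x8248221a08a40273, 0x904064101f040605, 0x814024143c044201, 0x84442510dd041601]]
/-- the point sets of the systems -/
def OX : List ℕ := [
  0x5050000050500000000003300330000050500330536,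
  0x8765388018886808700887558673827760888537874707375880057783738776,
  0x8421000000000000000000558421005500008421030303030000005503038776,
  0x8000000000000000000000400421001500000421020001030000001501030536,
  0x8356380850886880380887620661821550880661867481436880821581430536,
  0x8300700020001000308003400525051508000400020301300008000405370506,
  0x500200000000000200002408000000400008000000000000000000400008036,
  0x8721300000000000300003558421005500008421000300300000005500308476,
  0x133608030083888508085770722872538000316063401447808075585000506,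
  0x8088000000000800000088000800000000000000000000006,
  0x8777788878887888788887778777877778888777877787777888877787778776]
/-- outer generators -/
def XG : List (List ℕ) := [[], [], [], [0x2010080480400201], [0x2010080480400201, 0x6910994008545201], [], [], [], [],
  [0x8040081428100201], []]
def kg (k : ℕ) : List ℕ := KG.getD k []
def ox (k v : ℕ) : Bool := (OX.getD k 0).testBit v
def bg (k : ℕ) : List ℕ := kg k ++ XG.getD k []

universe u
section
variable {G : Type u} [Group G]

/-- the map is induced by an element of the centralizer -/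
def In (z : G) (ρ : G → N8 →+ N8) (f : ℕ → ℕ) : Prop := ∃ c, Commute z c ∧ ∀ v, (ρ c v).1 = f v.1
/-- a conjugate inside `Q` -/
def Pt (Q : Subgroup G) (z g : G) : Prop := g * z * g⁻¹ ∈ Q ∧ g * z * g⁻¹ ≠ z

/-- the standing hypothesis -/
structure Hy (Q : Subgroup G) (z : G) (π : G → N8) (ρ : G → N8 →+ N8) (e : Bool) : Prop extends M Q z π ρ (q e) b where
  nab : ¬ IsMulCommutative G
  gf : (Cfsg.generalizedFittingSubgroup C[z]).map C[z].subtype = Q
  irr : ∀ S : AddSubgroup N8, (∀ c, Commute z c → ∀ v ∈ S, ρ c v ∈ S) → S = ⊥ ∨ S = ⊤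

/-- the data of a point: its vector, the image of `Q ⊓ Q'` and the eight maps induced by `Q' ⊓ C[z]` -/
structure Dt (Q : Subgroup G) (z : G) (π : G → N8) (ρ : G → N8 →+ N8) (g : G) (x : ℕ) (E : ℕ → Bool)
    (L : ℕ → ℕ → ℕ) : Prop where
  pt : Pt Q z g
  px : (π (g * z * g⁻¹)).1 = x
  et : ∀ v, v ∈ Et Q (cj g Q) π ↔ E v.1 = true
  ex : ∀ u < 8, ∃ y ∈ cj g Q ⊓ C[z], ∀ v, (ρ y v).1 = L u v.1
  all : ∀ y ∈ cj g Q ⊓ C[z], ∃ u < 8, ∀ v, (ρ y v).1 = L u v.1

/-- the system number `k` occurs -/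
structure Cx (k : ℕ) (Q : Subgroup G) (z : G) (π : G → N8) (ρ : G → N8 →+ N8) : Prop extends Hy Q z π ρ true where
  gen : ∀ m ∈ kg k, In z ρ (ap m)
  dt : ∃ g, Dt Q z π ρ g 1 E0 fun u => ev (kg k) (LW u)
/-- and contains all points -/
structure Sy (k : ℕ) (Q : Subgroup G) (z : G) (π : G → N8) (ρ : G → N8 →+ N8) : Prop extends Cx k Q z π ρ where
  pts : ∀ g, Pt Q z g → ox k (π (g * z * g⁻¹)).1 = true
/-- and the action of the centralizer is known -/
structure Fn (k : ℕ) (Q : Subgroup G) (z : G) (π : G → N8) (ρ : G → N8 →+ N8) : Prop extends Sy k Q z π ρ where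
  all : ∀ c, Commute z c → ∃ W, ∀ v, (ρ c v).1 = ev (bg k) W v.1

end

/-- the conclusion -/
def Con (G : Type u) [Group G] : Prop :=
  (∃ (F : Type) (_ : Field F) (_ : Fintype F), Fintype.card F = 2 ∧ (Nonempty (G ≃* Matrix.ProjectiveSpecialLinearGroup (Fin 6) F) ∨
      Nonempty (G ≃* Cfsg.POmega F (Cfsg.quadFormPlus 4 F)) ∨
      (∃ a b : F, (∀ z₁ z₂ : F, z₁ ^ 2 + a * z₁ * z₂ + b * z₂ ^ 2 = 0 → z₁ = 0 ∧ z₂ = 0) ∧
        Nonempty (G ≃* Cfsg.POmega F (Cfsg.quadFormMinus 3 F a b))))) ∨
    (∃ (F : Type) (_ : Field F) (_ : Fintype F), Fintype.card F = 4 ∧ Nonempty (G ≃* Cfsg.PSU 6 F 2)) ∨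
    (∃ (K : Type) (_ : Field K) (_ : Fintype K), Fintype.card K = 8 ∧ Nonempty (G ≃* ↥(Cfsg.Lie.twistedD4 K 2))) ∨
    (∃ (F : Type) (_ : Field F) (_ : Fintype F), Fintype.card F = 3 ∧ Nonempty (G ≃* Cfsg.POmega F (Cfsg.quadFormPlus 4 F))) ∨
    Cfsg.Spor.IsoCo1 G ∨ Cfsg.Spor.IsoCo2 G ∨ Cfsg.Spor.IsoTh G ∨ Cfsg.Spor.IsoHN G

/-- the weakly closed case -/
def WC : Prop := ∀ {G : Type u} [Group G] [Finite G] [IsSimpleGroup G] {Q : Subgroup G} {z : G} {π : G → N8}
  {ρ : G → N8 →+ N8} {e : Bool}, Hy Q z π ρ e → (∀ g, ¬ Pt Q z g) → Con G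
/-- intersections of order four -/
def D0 : Prop := ∀ {G : Type u} [Group G] [Finite G] [IsSimpleGroup G] {Q : Subgroup G} {z g : G} {π : G → N8}
  {ρ : G → N8 →+ N8} {e : Bool}, Hy Q z π ρ e → Pt Q z g → #(Q ⊓ cj g Q : Subgroup G) = 4 → Cfsg.Spor.IsoCo1 G
/-- intersections of order eight and sixteen -/
def D12 : Prop := ∀ {G : Type u} [Group G] [Finite G] {Q : Subgroup G} {z g : G} {π : G → N8}
  {ρ : G → N8 →+ N8} {e : Bool}, Hy Q z π ρ e → Pt Q z g →
    #(Q ⊓ cj g Q : Subgroup G) ≠ 8 ∧ #(Q ⊓ cj g Q : Subgroup G) ≠ 16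
/-- the classification of the point systems -/
def CORE : Prop := ∀ {G : Type u} [Group G] [Finite G] {Q : Subgroup G} {z : G} {π : G → N8}
  {ρ : G → N8 →+ N8} {e : Bool}, Hy Q z π ρ e → (∃ g, Pt Q z g) → (∀ g, Pt Q z g → #(Q ⊓ cj g Q : Subgroup G) = 32) →
    ∃ k < 11, ∃ π ρ, Sy k Q z π ρ
/-- the action of the centralizer -/
def AUT : Prop := ∀ {G : Type u} [Group G] [Finite G] [IsSimpleGroup G] {Q : Subgroup G} {z : G} {π : G → N8}
  {ρ : G → N8 →+ N8} {k : ℕ}, k < 11 → Sy k Q z π ρ → k ≠ 0 ∧ Fn k Q z π ρ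
/-- the system `k` does not occur -/
def NO (k : ℕ) : Prop := ∀ {G : Type u} [Group G] [Finite G] [IsSimpleGroup G] {Q : Subgroup G} {z : G} {π : G → N8}
  {ρ : G → N8 →+ N8}, ¬ Fn k Q z π ρ
/-- the system `k` gives one of the groups -/
def EN (k : ℕ) : Prop := ∀ {G : Type u} [Group G] [Finite G] [IsSimpleGroup G] {Q : Subgroup G} {z : G} {π : G → N8}
  {ρ : G → N8 →+ N8}, Fn k Q z π ρ → Con G

theorem par_xor : (List.range 256).all (fun u => (List.range 256).all fun v =>
    tP.testBit (u ^^^ v) == (tP.testBit u ^^ tP.testBit v)) = true := by decide +kernel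
theorem bN_xor {u v : ℕ} (hu : u < 256) (hv : v < 256) (w : ℕ) : bN (u ^^^ v) w = (bN u w ^^ bN v w) := by
  rw [bN, Nat.and_xor_distrib_right]
  exact beq_iff_eq.1 (List.all_eq_true.1 (List.all_eq_true.1 par_xor _ (List.mem_range.2 (Nat.and_le_left.trans_lt hu))) _
    (List.mem_range.2 (Nat.and_le_left.trans_lt hv)))
theorem qN_xor : ∀ e, (A8 fun u => A8 fun v => qN e (u.1 ^^^ v.1) == ((qN e u.1 ^^ qN e v.1) ^^ bN u.1 v.1)) = true := by
  decide +kernel
theorem bz_xor (a c : Bool) : (bif (a ^^ c) then 1 else 0 : ZMod 2) = (bif a then 1 else 0) + bif c then 1 else 0 := by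
  revert a c; decide
theorem bz0 {a : Bool} : (bif a then 1 else 0 : ZMod 2) = 0 ↔ a = false := by revert a; decide
theorem q0 {e : Bool} {v : N8} : q e v = 0 ↔ qN e v.1 = false := bz0
theorem b0 {u v : N8} : b u v = 0 ↔ bN u.1 v.1 = false := bz0
theorem add1 (u v : N8) : (u + v).1 = u.1 ^^^ v.1 := rfl
theorem qs (e : Bool) : QS (q e) b := by
  refine ⟨neg_add_cancel, fun u v => ?_, fun u v w => ?_, fun v h => ?_, Nat.card_fin 256⟩
  · rw [q, add1, beq_iff_eq.1 (A8.of (A8.of (qN_xor e) u) v), bz_xor, bz_xor]; rfl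
  · rw [b, add1, bN_xor u.2 v.2, bz_xor]; rfl
  · have := A8.of (p := fun v => v == 0 || !A8 fun w => !bN v.1 w.1) (by decide +kernel) v
    simp only [Bool.or_eq_true, beq_iff_eq, Bool.not_eq_true'] at this
    refine this.resolve_right fun k => ?_
    obtain ⟨w, k⟩ := H10.R.A8.ex k
    simp [b0.1 (h w)] at k

end H14.X9
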