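import Cfsg.Agent.H14.X91

/-! Large extraspecial subgroups of order `2⁹`: matrices, frames and the shape of a point. -/

set_option autoImplicit false
set_option linter.unusedSectionVars false

open Subgroup
namespace H14.X9
open H0 H19 H10.Y
open H10.R (N8 n8 A8 st st_eq BS ext8 n8v)

/-- a byte -/
def bt (c j : ℕ) : ℕ := Nat.land (Nat.shiftRight c j) 255
def pm (a c i j : ℕ) : ℕ := Nat.mul (Nat.land (Nat.shiftRight c i) 0x0101010101010101) (bt a j)
/-- the product of two matrices -/
def mu (a c : ℕ) : ℕ := st a fun a => st c fun c =>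
  Nat.xor (Nat.xor (Nat.xor (pm a c 0 0) (pm a c 1 8)) (Nat.xor (pm a c 2 16) (pm a c 3 24)))
    (Nat.xor (Nat.xor (pm a c 4 32) (pm a c 5 40)) (Nat.xor (pm a c 6 48) (pm a c 7 56)))
theorem bt_eq (c j : ℕ) : bt c j = c / 2 ^ j % 256 := by
  rw [← Nat.shiftRight_eq_div_pow]; exact Nat.and_two_pow_sub_one_eq_mod _ 8
theorem bt_lt (c j : ℕ) : bt c j < 256 := by rw [bt_eq]; omega
theorem msk1 (x M : ℕ) : x &&& (256 * M + 1) = 256 * (x / 256 &&& M) + x % 2 := by
  have a := Nat.and_div_two_pow (a := x) (b := 256 * M + 1) (n := 8)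
  have c := Nat.and_mod_two_pow (a := x) (b := 256 * M + 1) (n := 8)
  rw [show (256 * M + 1) / 2 ^ 8 = M by omega] at a
  rw [show (256 * M + 1) % 2 ^ 8 = 1 by omega, Nat.and_one_is_mod] at c
  norm_num at a c; omega
/-- the mask -/
def mk : ℕ → ℕ
  | 0 => 0
  | n + 1 => 256 * mk n + 1
theorem mkB (B : ℕ) (hB : B < 256) (n : ℕ) : ∀ x, (x &&& mk n) * B < 256 ^ n ∧
    ∀ k < n, (x &&& mk n) * B / 256 ^ k % 256 = x / 256 ^ k % 2 * B := by
  induction n with
  | zero => simp [mk]
  | succ n ih =>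
    intro x
    have l : x % 2 * B < 256 := by rcases Nat.mod_two_eq_zero_or_one x with e | e <;> rw [e] <;> omega
    obtain ⟨a, c⟩ := ih (x / 256)
    rw [mk, msk1, add_mul, mul_assoc]
    refine ⟨by rw [pow_succ]; omega, fun k hk => ?_⟩
    cases k with
    | zero => simp; omega
    | succ k => rw [pow_succ', ← Nat.div_div_eq_div_mul, ← Nat.div_div_eq_div_mul, ← c k (by omega)]; congr 2; omega
theorem pm_eq (a c i j : ℕ) : pm a c i j < 2 ^ 64 ∧ ∀ k < 8, bt (pm a c i j) (8 * k) = c / 2 ^ i / 2 ^ (8 * k) % 2 * bt a j := by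
  simp only [bt_eq (pm ..), pow_mul, ← Nat.shiftRight_eq_div_pow c]
  exact mkB _ (bt_lt a j) 8 (c >>> i)
theorem mu_eq (a c : ℕ) : mu a c = ((pm a c 0 0 ^^^ pm a c 1 8) ^^^ (pm a c 2 16 ^^^ pm a c 3 24)) ^^^
    ((pm a c 4 32 ^^^ pm a c 5 40) ^^^ (pm a c 6 48 ^^^ pm a c 7 56)) := by rw [mu, st_eq, st_eq]; rfl
theorem mu_lt (a c : ℕ) : mu a c < 2 ^ 64 := by
  rw [mu_eq]; repeat first | exact (pm_eq ..).1 | apply Nat.xor_lt_two_pow
theorem bt_xor (x y j : ℕ) : bt (x ^^^ y) j = bt x j ^^^ bt y j := by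
  change (x ^^^ y) >>> j &&& 255 = _; rw [Nat.shiftRight_xor_distrib, Nat.and_xor_distrib_right]; rfl
theorem bt_mu (a c : ℕ) {k : ℕ} (hk : k < 8) : bt (mu a c) (8 * k) = ap a (bt c (8 * k)) := by
  have : ∀ i < 8, bt (pm a c i (8 * i)) (8 * k) = cl a (bt c (8 * k)) i := fun i hi => by
    rw [(pm_eq ..).2 k hk, cl, Nat.and_one_is_mod, bt_eq c, Nat.shiftRight_eq_div_pow, Nat.div_div_eq_div_mul, mul_comm (2 ^ i),
      ← Nat.div_div_eq_div_mul]
    generalize c / 2 ^ (8 * k) = x
    congr 1; interval_cases i <;> omega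
  rw [mu_eq, ap_eq]; simp only [bt_xor]
  rw [this 0, this 1, this 2, this 3, this 4, this 5, this 6, this 7] <;> decide
theorem ap_bt (m : ℕ) {k : ℕ} (hk : k < 8) : ap m (2 ^ k) = bt m (8 * k) := by
  rw [ap_eq]; interval_cases k <;> simp [cl] <;> rfl
theorem ext2 {f f' : N8 →+ N8} (h : ∀ k < 8, (f (n8 (2 ^ k))).1 = (f' (n8 (2 ^ k))).1) {v : ℕ} (hv : v < 256) :
    (f ⟨v, hv⟩).1 = (f' ⟨v, hv⟩).1 := congrArg Fin.val (ext8 (fun v hv => Fin.ext (by
  simp only [BS, List.mem_cons, List.not_mem_nil, or_false] at hv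
  rcases hv with rfl | rfl | rfl | rfl | rfl | rfl | rfl | rfl
  exacts [h 0 (by decide), h 1 (by decide), h 2 (by decide), h 3 (by decide), h 4 (by decide), h 5 (by decide), h 6 (by decide),
    h 7 (by decide)])) _)
theorem p2 {k : ℕ} (hk : k < 8) : 2 ^ k < 256 := Nat.pow_lt_pow_right (a := 2) (n := 8) (by decide) hk
theorem ap_mu (a c : ℕ) {v : ℕ} (hv : v < 256) : ap (mu a c) v = ap a (ap c v) :=
  ext2 (f := A (mu a c)) (f' := (A a).comp (A c)) (fun k hk => by
    change ap _ (n8 _).1 = ap _ (ap _ (n8 _).1)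
    rw [n81 (p2 hk), ap_bt _ hk, ap_bt _ hk, bt_mu _ _ hk]) hv
theorem dig (n : ℕ) : ∀ a c, a < 256 ^ n → c < 256 ^ n → (∀ k < n, a / 256 ^ k % 256 = c / 256 ^ k % 256) → a = c := by
  induction n with
  | zero => omega
  | succ n ih =>
    intro a c ha hc h
    have := ih (a / 256) (c / 256) (by rw [pow_succ] at ha; omega) (by rw [pow_succ] at hc; omega) fun k hk => by
      simpa only [pow_succ', Nat.div_div_eq_div_mul] using h (k + 1) (by omega)
    have := h 0 (by omega)
    omega
theorem ap_inj {a c : ℕ} (ha : a < 2 ^ 64) (hc : c < 2 ^ 64) (h : ∀ v < 256, ap a v = ap c v) : a = c :=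
  dig 8 a c ha hc fun k hk => by
    have := h _ (p2 hk)
    rwa [ap_bt _ hk, ap_bt _ hk, bt_eq, bt_eq, pow_mul] at this
/-- the matrix of a word -/
def evm (L W : List ℕ) : ℕ := W.foldl (fun m k => mu (L.getD k ID) m) ID
theorem ap_evm (L W : List ℕ) {v : ℕ} (hv : v < 256) : ap (evm L W) v = ev L W v := by
  induction W using List.reverseRecOn with
  | nil => exact ap_ID hv
  | append_singleton W k ih => rw [evm, List.foldl_concat, ap_mu _ _ hv, ev_append, ← ih]; rfl


/-- an isometry with its inverse -/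
structure Iso (e : Bool) (F Fi : ℕ) : Prop where
  l : ∀ v < 256, ap Fi (ap F v) = v
  r : ∀ v < 256, ap F (ap Fi v) = v
  q : ∀ v < 256, qN e (ap F v) = qN e v
def isoB (F Fi : ℕ) : Bool := mu Fi F == ID && mu F Fi == ID && A256 fun v => qN true (ap F v) == qN true v
section
variable {e : Bool} {F Fi R Ri u u' x y : ℕ}
theorem Iso.of (h : isoB F Fi = true) : Iso true F Fi := by
  simp only [isoB, Bool.and_eq_true, beq_iff_eq] at h
  exact ⟨fun v hv => by rw [← ap_mu _ _ hv, h.1.1, ap_ID hv], fun v hv => by rw [← ap_mu _ _ hv, h.1.2, ap_ID hv],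
    fun v hv => beq_iff_eq.1 (A256.of h.2 hv)⟩
theorem Iso.symm (h : Iso e F Fi) : Iso e Fi F := ⟨h.r, h.l, fun v hv => by rw [← h.q _ (ap_lt _ _), h.r v hv]⟩
theorem Iso.mul (h : Iso e R Ri) (k : Iso e F Fi) : Iso e (mu R F) (mu Fi Ri) :=
  ⟨fun v hv => by rw [ap_mu _ _ hv, ap_mu _ _ (ap_lt _ _), h.l _ (ap_lt _ _), k.l v hv],
    fun v hv => by rw [ap_mu _ _ hv, ap_mu _ _ (ap_lt _ _), k.r _ (ap_lt _ _), h.r v hv],
    fun v hv => by rw [ap_mu _ _ hv, h.q _ (ap_lt _ _), k.q v hv]⟩
theorem Iso.id : Iso e ID ID := ⟨fun v hv => by rw [ap_ID hv, ap_ID hv], fun v hv => by rw [ap_ID hv, ap_ID hv],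
  fun v hv => by rw [ap_ID hv]⟩
/-- reflections -/
def rf (u v : ℕ) : ℕ := bif bN v u then v ^^^ u else v
theorem isoR (hu : u < 256) (k : qN e u = true) : ∃ m, Iso e m m ∧ ∀ v < 256, ap m v = rf u v := by
  have s := qs e
  let w : N8 := ⟨u, hu⟩
  have qw : q e w = 1 := by rw [q, k]; rfl
  let f : N8 →+ N8 := AddMonoidHom.mk' (fun v => v + b v w • w) fun v v' => by rw [s.badd, add_smul]; abel
  have ff : ∀ v, f (f v) = v ∧ q e (f v) = q e v := fun v => by
    change (v + b v w • w) + b (v + b v w • w) w • w = v ∧ q e (v + b v w • w) = _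
    rcases z2 (b v w) with h | h <;> simp [h, s.badd, s.bs, s.can, s.qadd, qw, add_assoc, z2_self, s.two]
  obtain ⟨m, -, hm⟩ := exA f
  have i : ∀ v < 256, ap m (ap m v) = v := fun v hv => by
    have := congrArg Fin.val (ff (n8 v)).1
    rwa [hm, hm, n81 hv] at this
  refine ⟨m, ⟨i, i, fun v hv => ?_⟩, fun v hv => ?_⟩
  · have := (ff (n8 v)).2
    simp only [q] at this
    rw [hm, n81 hv] at this
    exact (by decide : ∀ a c : Bool, (bif a then 1 else 0 : ZMod 2) = (bif c then 1 else 0) → a = c) _ _ this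
  · rw [← hm ⟨v, hv⟩, rf]
    change (v ^^^ ((bif bN v u then 1 else 0 : ZMod 2) • w).1) = _
    cases bN v u <;> simp <;> rfl
theorem mv (hx : x < 256) (hy : y < 256) (qx : qN e x = false) (qy : qN e y = false) (k : bN x y = true) :
    ∃ F Fi, Iso e F Fi ∧ ap F 1 = x ∧ ap F 2 = y := by
  have two : ∀ a c p, a < 256 → c < 256 → p < 256 → qN e (a ^^^ p) = true → qN e (p ^^^ c) = true →
      ∃ F Fi, Iso e F Fi ∧ ∀ v < 256, ap F v = rf (p ^^^ c) (rf (a ^^^ p) v) := fun a c p ha hc hp h1 h2 =>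
    let ⟨m, i, k⟩ := isoR (Nat.xor_lt_two_pow (n := 8) ha hp) h1
    let ⟨m', i', k'⟩ := isoR (Nat.xor_lt_two_pow (n := 8) hp hc) h2
    ⟨_, _, i'.mul i, fun v hv => by rw [ap_mu _ _ hv, k' _ (ap_lt _ _), k v hv]⟩
  have c1 : ∀ e, (A256 fun x => qN e x || x == 0 || (List.range 256).any fun p =>
    qN e (1 ^^^ p) && qN e (p ^^^ x) && rf (p ^^^ x) (rf (1 ^^^ p) 1) == x) = true := by decide +kernel
  have c2 : ∀ e, (A256 fun x => qN e x || !bN 1 x || (List.range 256).any fun p => qN e (2 ^^^ p) && qN e (p ^^^ x) &&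
    rf (p ^^^ x) (rf (2 ^^^ p) 1) == 1 && rf (p ^^^ x) (rf (2 ^^^ p) 2) == x) = true := by decide +kernel
  have a := A256.of (c1 e) hx
  simp only [qx, Bool.false_or, Bool.or_eq_true, Bool.and_eq_true, beq_iff_eq, List.any_eq_true, List.mem_range] at a
  obtain ⟨p, hp, ⟨h1, h2⟩, h3⟩ := a.resolve_left (by rintro rfl; simp [bN, tP] at k)
  obtain ⟨R, Ri, i, hR⟩ := two 1 x p (by decide) hx hp h1 h2
  have e1 : ap R 1 = x := (hR 1 (by decide)).trans h3
  have a := A256.of (c2 e) (ap_lt Ri y)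
  have kb : bN 1 (ap Ri y) = true := by
    have h1 := beq_iff_eq.1 (A8.of (A8.of (qN_xor e) ⟨x, hx⟩) ⟨y, hy⟩)
    have h2 := beq_iff_eq.1 (A8.of (A8.of (qN_xor e) ⟨1, by decide⟩) ⟨_, ap_lt Ri y⟩)
    rw [← i.q _ (Nat.xor_lt_two_pow (n := 8) (by decide) (ap_lt Ri y)), ap_xor, e1, i.r y hy, h1, ← i.q 1 (by decide), e1,
      i.symm.q y hy] at h2
    simpa [qx, qy, k] using h2
  simp only [i.symm.q y hy, qy, kb, Bool.not_true, Bool.false_or, Bool.and_eq_true, beq_iff_eq, List.any_eq_true,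
    List.mem_range] at a
  obtain ⟨p, hp, ⟨⟨h1, h2⟩, h3⟩, h4⟩ := a
  obtain ⟨S, Si, j, hS⟩ := two 2 _ p (by decide) (ap_lt Ri y) hp h1 h2
  exact ⟨_, _, i.mul j, by rw [ap_mu _ _ (by decide), hS 1 (by decide), h3, e1],
    by rw [ap_mu _ _ (by decide), hS 2 (by decide), h4, i.r y hy]⟩
end

/-- a field of a table -/
def g64 (T i : ℕ) : ℕ := Nat.land (Nat.shiftRight T (Nat.mul 64 i)) 0xffffffffffffffff
/-- the thirty frames -/
def FR : ℕ := 0x80cc203ca4a8020180cc203ca8a4020180f49488902802017cbcecdcf8f40201ccf8988468dc020180f8a89808bc020180cc10208884020180cc10208488020180f4bc909418020180f488a4a01802014080203c282402018040203c2824020180f898842490020180f898a808bc02014080203c242802018040203c2428020180cc20108884020180cc201084880201209080600408020180f884a814a00201502854a814a00201804014081028020140802010040802018040201004080201209080600804020180f494a4bc040201408014243c040201804014243c04020140802010080402018040201008040201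
def fr (j : ℕ) : ℕ := g64 FR j
/-- the standard generators -/
def SD : ℕ := 0x814125101904d701814125101804d301814124101904c701814124101804c3018041251019049601804125101804920180412410190486018041241018048201854021114904770185402111480473018540201149046601854020114804620184402111490437018440211148043301844020114904260184402011480422019140611009055f019140611008055a019140601009054f019140601008054a019040611009051f019040611008051a019040601009050f019040601008050a01814121100904d701814121100804d301814120100904c701814120100804c3018041211009049601804121100804920180412010090486018041201008048201814021110904770181402111080473018140201109046601814020110804620180402111090437018040211108043301804020110904260180402011080422018140211009055f018140211008055a018140201009054f018140201008054a018040211009051f018040211008051a018040201009050f018040201008050a01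
def sd (ε i l : ℕ) : ℕ := g64 SD (24 * ε + 8 * i + l)
def SG (ε a c d : ℕ) : List ℕ := [sd ε 0 a, sd ε 1 c, sd ε 2 d]
theorem iso_fr : ∀ j < 30, isoB (fr j) (fr j) = true ∧ ap (fr j) 1 = 1 := by decide +kernel
/-- the span of three vectors -/
def sp (a c d v : ℕ) : Bool := v.beq a || v.beq c || v.beq d || v.beq (a.xor c) || v.beq (a.xor d) || v.beq (c.xor d) ||
  v.beq ((a.xor c).xor d)
/-- singular vectors orthogonal to the first two basis vectors -/
def WS (e : Bool) : List ℕ := bif e then [4, 8, 16, 20, 24, 32, 36, 40, 60, 64, 68, 72, 80, 84, 88, 96, 100, 104, 124, 128, 132, 136, 144, 148, 152, 160, 164, 168, 188, 204, 220, 236, 240, 244, 248]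
  else [4, 8, 16, 20, 24, 32, 36, 40, 60, 76, 92, 108, 112, 116, 120, 140, 156, 172, 176, 180, 184, 204, 220, 236, 240, 244, 248]
/-- the frames through a vector -/
def ms (v : ℕ) : ℕ := Nat.land (Nat.shiftRight 0x3030c000c30003030000c3000f300000000000000000000000000000f00300000000000000000000000000030c03000000000000000000000000000051980000000000000000000000000000000000020418600109800180a00061800000000110818802400a022002208a200000000086012800282200a0008828a0a264000000000000000000000000000000000001082490020640024050009240000000022042440180050110011045100000000049021400141100500044145300cc000000000000000000000000000000000000c00c300030c000c00c0030c00000000003c00c00003c003000030c30000000000000fc00000003f3fffffff (Nat.mul 8 v)) 0x3fffffff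
theorem ws : ∀ e, (A256 fun v => qN e v || bN v 1 || v == 0 || v == 1 || (WS e).contains v || (WS e).contains (v ^^^ 1)) = true := by
  decide +kernel
theorem solid : ∀ e, ((WS e).all fun a => (WS e).all fun c => bN a c || c.beq a || (WS e).all fun d =>
    bN a d || bN c d || d.beq a || d.beq c || d.beq (a.xor c) || (e && st (((ms a).land (ms c)).land (ms d)).log2 fun j =>
      j.blt 30 && st (fr j) fun F => sp a c d (bt F 16) && sp a c d (bt F 32) && sp a c d (bt F 48))) = true := by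
  decide +kernel

/-- the totally singular subspace as a list -/
def EL : List ℕ := [0, 1, 4, 5, 16, 17, 20, 21, 64, 65, 68, 69, 80, 81, 84, 85]
theorem mEL : ∀ w < 256, E0 w = true → w ∈ EL := by decide +kernel
theorem shp : ∀ i < 3, (EL.all fun c1 => st (2 ^^^ 2 ^ (2 * i + 3) ^^^ c1) fun c1 => qN true c1 ||
    EL.all fun c3 => st (8 ^^^ c3) fun c3 => qN true c3 || bN c1 c3 ||
    EL.all fun c5 => st (32 ^^^ c5) fun c5 => qN true c5 || bN c1 c5 || bN c3 c5 ||
    EL.all fun c7 => st (128 ^^^ c7) fun c7 => qN true c7 || bN c1 c7 || bN c3 c7 || bN c5 c7 ||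
    EL.all fun c2 => st (4 ^^^ c2) fun c2 => bN c1 c2 || !bN c3 c2 || bN c5 c2 || bN c7 c2 ||
    EL.all fun c4 => st (16 ^^^ c4) fun c4 => bN c1 c4 || bN c3 c4 || !bN c5 c4 || bN c7 c4 ||
    EL.all fun c6 => st (64 ^^^ c6) fun c6 => bN c1 c6 || bN c3 c6 || bN c5 c6 || !bN c7 c6 ||
    st (1 + 256 * (c1 + 256 * (c2 + 256 * (c3 + 256 * (c4 + 256 * (c5 + 256 * (c6 + 256 * c7))))))) fun m =>
      ap m c1 != 2 || (List.range 16).any fun a => m == sd (a / 8) i (a % 8)) = true := by
  decide +kernel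
set_option synthInstance.maxSize 100000 in
theorem sd_cm : ∀ j < 3, ∀ a < 16, ∀ c < 16, ap (sd (a / 8) 0 (a % 8)) (ap (sd (c / 8) j (c % 8)) 2) =
    ap (sd (c / 8) j (c % 8)) (ap (sd (a / 8) 0 (a % 8)) 2) → j = 0 ∨ c / 8 = a / 8 := by decide +kernel
/-- the complement -/
def tF (u : ℕ) : ℕ := [0, 8, 32, 40, 128, 136, 160, 168].getD u 0
/-- the three generators are in standard position -/
def cov (S : List ℕ) : Bool := (List.range 8).all fun u => E0 (ev S (LW u) 2 ^^^ 2 ^^^ tF u)
theorem cov_sg : ∀ ε < 2, ∀ a < 8, ∀ c < 8, ∀ d < 8, cov (SG ε a c d) = true := by decide +kernel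

end H14.X9
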