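import Cfsg.Agent.H14.X93

/-! Large extraspecial subgroups of order `2⁹`: change of coordinates and the data of a point. -/

set_option autoImplicit false
set_option linter.unusedSectionVars false

open Subgroup
namespace H14.X9
open H0 H19 H10.Y
open H10.R (N8 n8 A8 st st_eq BS ext8 n8v)

variable {G : Type*} [Group G] [Finite G] {Q : Subgroup G} {z g g' c : G} {π : G → N8} {ρ : G → N8 →+ N8} {e : Bool}
  {S S' T T' : List ℕ} {x m n F Fi F' Fi' R Ri : ℕ} {E : ℕ → Bool} {l : ℕ → ℕ → ℕ}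

/-- new coordinates -/
def cπ (Fi : ℕ) (π : G → N8) : G → N8 := fun a => A Fi (π a)
def cρ (F Fi : ℕ) (ρ : G → N8 →+ N8) : G → N8 →+ N8 := fun c => (A Fi).comp ((ρ c).comp (A F))
theorem Iso.l' (i : Iso e F Fi) (v : N8) : A Fi (A F v) = v := Fin.ext (i.l _ v.2)
theorem Iso.qq (i : Iso e F Fi) (v : N8) : X9.q e (A F v) = X9.q e v := by rw [X9.q, A1, i.q _ v.2]; rfl
theorem Iso.bb (i : Iso e F Fi) (u v : N8) : b (A F u) (A F v) = b u v := by
  have k := i.qq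
  have := (qs e).qadd (A F u) (A F v)
  rw [← map_add, k, k, k, (qs e).qadd] at this
  exact (add_left_cancel this).symm
theorem Hy.fr (h : Hy Q z π ρ e) (i : Iso e F Fi) : Hy Q z (cπ Fi π) (cρ F Fi ρ) e :=
  ⟨h.toM.congr (qs e) ⟨⟨A F, A Fi, i.l', i.symm.l'⟩, (A F).map_add⟩ i.qq, h.nab, h.gf, fun S hS =>
    (h.irr (S.comap (A Fi)) fun c hc v hv => by
      simpa only [cρ, AddMonoidHom.comp_apply, i.symm.l', AddSubgroup.mem_comap] using hS c hc _ hv).imp
      (fun k => (AddSubgroup.eq_bot_iff_forall _).2 fun v hv => by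
        rw [← i.l' v, AddSubgroup.mem_bot.1 (k.le (show A Fi (A F v) ∈ S by rwa [i.l'])), map_zero])
      fun k => (AddSubgroup.eq_top_iff' _).2 fun v => i.l' v ▸ k.ge (AddSubgroup.mem_top (A F v))⟩
theorem Et_fr (i : Iso e F Fi) {Q' : Subgroup G} {v : N8} : v ∈ Et Q Q' (cπ Fi π) ↔ A F v ∈ Et Q Q' π :=
  ⟨fun ⟨a, h, k⟩ => ⟨a, h, by rw [← k, cπ, i.symm.l']⟩, fun ⟨a, h, k⟩ => ⟨a, h, by rw [cπ, k, i.l']⟩⟩
theorem Dt.fr (d : Dt Q z π ρ g x E l) (i : Iso e F Fi) :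
    Dt Q z (cπ Fi π) (cρ F Fi ρ) g (ap Fi x) (fun v => E (ap F v)) fun u v => ap Fi (l u (ap F v)) :=
  ⟨d.pt, congrArg (ap Fi) d.px, fun _ => (Et_fr i).trans (d.et _),
    fun u hu => let ⟨y, a, k⟩ := d.ex u hu; ⟨y, a, fun _ => congrArg (ap Fi) (k _)⟩,
    fun y hy => let ⟨u, a, k⟩ := d.all y hy; ⟨u, a, fun _ => congrArg (ap Fi) (k _)⟩⟩
theorem Dt.fr' (i : Iso e F Fi) (d : Dt Q z (cπ Fi π) (cρ F Fi ρ) g x E l) :
    Dt Q z π ρ g (ap F x) (fun v => E (ap Fi v)) fun u v => ap F (l u (ap Fi v)) := by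
  have := d.fr i.symm
  rwa [show cπ F (cπ Fi π) = π from funext fun _ => i.symm.l' _, show cρ Fi F (cρ F Fi ρ) = ρ from funext fun c =>
    AddMonoidHom.ext fun v => by simp only [cρ, AddMonoidHom.comp_apply, i.symm.l']] at this
theorem In.fr (k : In z ρ (ap m)) : In z (cρ F Fi ρ) (ap (mu Fi (mu m F))) :=
  let ⟨c, a, k⟩ := k; ⟨c, a, fun v => by rw [ap_mu _ _ v.2, ap_mu _ _ v.2]; exact congrArg (ap Fi) (k _)⟩

theorem exE (h : M Q z π ρ (q e) b) (hc : #(Q ⊓ cj g Q : Subgroup G) = 32) (L : List N8) (hL : L.length < 16) :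
    ∃ v ∈ Et Q (cj g Q) π, v ∉ L := by
  by_contra! k
  have := card_le_mul (A := Q ⊓ cj g Q) (B := zpowers z) π (S := L.toFinset) (Set.toFinite _)
    (fun a ha => by simpa using k _ ⟨a, ha, rfl⟩) fun a ha c hc e => h.le.es.mem_zp.2 ((h.ker _ (mul_mem (inv_mem ha.1) hc.1)).1 (by
      rw [h.add _ (inv_mem ha.1) _ hc.1, h.pinv ha.1, e, h.qs.two]))
  rw [hc, h.le.es.card_zp, Set.ncard_coe_finset] at this
  have := L.toFinset_card_le
  omega

/-- the subspace of a point is one of the thirty frames -/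
theorem std (h : M Q z π ρ (q e) b) (p : Pt Q z g) (hc : #(Q ⊓ cj g Q : Subgroup G) = 32) (px : (π (g * z * g⁻¹)).1 = 1) :
    e = true ∧ ∃ j < 30, ∀ w ∈ [4, 16, 64], A (fr j) (n8 w) ∈ Et Q (cj g Q) π := by
  have n := nw h p
  have e1 : π (g * z * g⁻¹) = n8 1 := Fin.ext px
  have ex : ∀ L : List N8, L.length ≤ 4 → 0 ∈ L → ∃ v ∈ Et Q (cj g Q) π, v ∉ L ∧ v.1 ∈ WS e := fun L hL h0 => by
    obtain ⟨v, hv, k⟩ := exE h hc (L ++ L.map (· + n8 1)) (by simp; omega)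
    simp only [List.mem_append, List.mem_map, not_or, not_exists, not_and] at k
    have := A256.of (ws e) v.2
    simp only [q0.1 (n.Eq0 hv), show bN v.1 1 = false from b0.1 (n.Eb hv (e1 ▸ n.Ex)), Bool.false_or, Bool.or_eq_true,
      beq_iff_eq, List.contains_iff_mem] at this
    rcases this with ((a | a) | a) | a
    · exact (k.1 ((show v = 0 from Fin.ext a) ▸ h0)).elim
    · exact (k.2 0 h0 (Fin.ext a.symm)).elim
    · exact ⟨v, hv, k.1, a⟩
    · exact ⟨v + n8 1, n.Eadd hv (e1 ▸ n.Ex), fun j => k.2 _ j (h.qs.can _ _), a⟩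
  obtain ⟨a, ha, -, a1⟩ := ex [0] (by simp) (by simp)
  obtain ⟨c, hc, nc, c1⟩ := ex [0, a] (by simp) (by simp)
  obtain ⟨d, hd, nd, d1⟩ := ex [0, a, c, a + c] (by simp) (by simp)
  simp only [List.mem_cons, not_or, List.not_mem_nil, not_false_eq_true, and_true] at nc nd
  have nb : ∀ {u v : N8}, u ≠ v → u.1.beq v.1 = false := fun k => Bool.eq_false_iff.2 fun j => k (Fin.ext (Nat.eq_of_beq_eq_true j))
  have := List.all_eq_true.1 (solid e) _ a1
  have := List.all_eq_true.1 this _ c1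
  rw [b0.1 (n.Eb ha hc), nb nc.2, Bool.false_or, Bool.false_or] at this
  have := List.all_eq_true.1 this _ d1
  rw [b0.1 (n.Eb ha hd), b0.1 (n.Eb hc hd), nb nd.2.1, nb nd.2.2.1, show d.1.beq (a.1.xor c.1) = false from nb nd.2.2.2] at this
  simp only [Bool.false_or, st_eq, Bool.and_eq_true, Nat.blt_eq] at this
  obtain ⟨he, hj, k⟩ := this
  have s : ∀ v : N8, sp a.1 c.1 d.1 v.1 = true → v ∈ Et Q (cj g Q) π := fun v k => by
    simp only [sp, Bool.or_eq_true, Nat.beq_eq] at k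
    rcases k with (((((k | k) | k) | k) | k) | k) | k
    exacts [Fin.ext k ▸ ha, Fin.ext k ▸ hc, Fin.ext k ▸ hd, (Fin.ext k : v = a + c) ▸ n.Eadd ha hc,
      (Fin.ext k : v = a + d) ▸ n.Eadd ha hd, (Fin.ext k : v = c + d) ▸ n.Eadd hc hd,
      (Fin.ext k : v = a + c + d) ▸ n.Eadd (n.Eadd ha hc) hd]
  refine ⟨he, _, hj, fun w hw => s _ ?_⟩
  simp only [List.mem_cons, List.not_mem_nil, or_false] at hw
  rcases hw with rfl | rfl | rfl
  exacts [(congrArg (sp _ _ _) (ap_bt _ (k := 2) (by decide))).trans k.1.1, (congrArg (sp _ _ _) (ap_bt _ (k := 4) (by decide))).trans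
    k.1.2, (congrArg (sp _ _ _) (ap_bt _ (k := 6) (by decide))).trans k.2]

theorem E0_xor : ∀ {u v : ℕ}, E0 u = true → E0 v = true → E0 (u ^^^ v) = true := fun hu hv => by
  simp only [E0, beq_iff_eq] at *; rw [Nat.and_xor_distrib_right, hu, hv]; rfl
/-- three generators determine the data -/
theorem mkDt (h : M Q z π ρ (q e) b) (p : Pt Q z g) (px : (π (g * z * g⁻¹)).1 = 1)
    (et : ∀ v, v ∈ Et Q (cj g Q) π ↔ E0 v.1 = true)
    (gen : ∀ i < 3, ∃ y ∈ cj g Q ⊓ C[z], ∀ v, (ρ y v).1 = ap (S.getD i ID) v.1) (cv : cov S = true) :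
    Dt Q z π ρ g 1 E0 fun u => ev S (LW u) := by
  have n := nw h p
  have e1 : π (g * z * g⁻¹) = n8 1 := Fin.ext px
  have ex : ∀ W : List ℕ, (∀ i ∈ W, i < 3) → ∃ y ∈ cj g Q ⊓ C[z], ∀ v, (ρ y v).1 = ev S W v.1 := fun W => by
    induction W with
    | nil => exact fun _ => ⟨1, one_mem _, fun v => by rw [h.r1]; rfl⟩
    | cons i W ih =>
      intro hW
      obtain ⟨y, a, k⟩ := gen i (hW i (by simp))
      obtain ⟨y', a', k'⟩ := ih fun j hj => hW j (by simp [hj])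
      exact ⟨y' * y, mul_mem a' a, fun v => by rw [h.rmul (cy a') (cy a), k', k]; rfl⟩
  replace ex := fun u (hu : u < 8) => ex (LW u) (by revert u; decide)
  refine ⟨p, px, et, ex, fun y hy => ?_⟩
  obtain ⟨u, hu, k⟩ := (show ∀ w : N8, b w (n8 1) = 0 → ∃ u < 8, E0 (w.1 ^^^ tF u) = true by decide +kernel) (ρ y (n8 2) + n8 2) (by
    rw [h.qs.badd, ← e1, ← h.rb (cy hy) (n8 2), n.yx hy, z2_self])
  obtain ⟨y', a, k'⟩ := ex u hu
  have c := cy (inv_mem a)
  refine ⟨u, hu, fun v => ?_⟩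
  have := n.F1 (v := n8 2) (mul_mem (inv_mem a) hy) (by rw [e1]; decide) (by
    rw [h.rmul c (cy hy), ← h.rinv (cy a) (n8 2), ← map_add, h.rinv (cy a)]
    refine n.Einv c (n.yx (inv_mem a)) ((et _).2 ?_)
    have := E0_xor k (List.all_eq_true.1 cv u (List.mem_range.2 hu))
    rw [add1, k']
    convert this using 2
    change _ = _ ^^^ 2 ^^^ _ ^^^ (ev S (LW u) 2 ^^^ 2 ^^^ _)
    rw [Nat.xor_assoc _ 2, Nat.xor_assoc _ 2, Nat.xor_comm (ev ..), Nat.xor_assoc, Nat.xor_xor_cancel_left]; rfl)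
  rw [← k', ← mul_inv_cancel_left y' y, h.rmul (cy a) (h.zc this), h.rQ this]

theorem shape1 (h : M Q z π ρ (q true) b) (p : Pt Q z g) (px : (π (g * z * g⁻¹)).1 = 1)
    (et : ∀ v, v ∈ Et Q (cj g Q) π ↔ E0 v.1 = true) (i : ℕ) (hi : i < 3) :
    ∃ a < 16, ∃ y ∈ cj g Q ⊓ C[z], ∀ v, (ρ y v).1 = ap (sd (a / 8) i (a % 8)) v.1 := by
  have n := nw h p
  have e1 : π (g * z * g⁻¹) = n8 1 := Fin.ext px
  have l : 2 ^ (2 * i + 3) < 256 := p2 (by omega)
  obtain ⟨y, hy, k⟩ := n.onto (v := n8 2) (u := n8 (2 ^ (2 * i + 3))) (by rw [e1]; decide) (by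
    rw [e1]; clear l; revert i; decide)
  obtain ⟨m, ml, hm⟩ := exA (ρ y)
  have hm' : ∀ v < 256, (ρ y (n8 v)).1 = ap m v := fun v hv => by rw [hm, n81 hv]
  have E : ∀ v < 256, bN v 1 = false → v ^^^ ap m v ∈ EL := fun v hv k => mEL _ (Nat.xor_lt_two_pow (n := 8) hv (ap_lt _ _)) (by
    have := (et _).1 (n.PE (v := n8 v) hy (by rw [e1, b0, n81 hv]; exact k))
    rwa [add1, hm' v hv, n81 hv, Nat.xor_comm] at this)
  have B : ∀ u < 256, ∀ v < 256, bN (ap m u) (ap m v) = bN u v := fun u hu v hv => by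
    have := h.rb (cy hy) (n8 u) (n8 v)
    simp only [b] at this
    rw [hm' u hu, hm' v hv, n81 hu, n81 hv] at this
    exact (by decide : ∀ a c : Bool, (bif a then 1 else 0 : ZMod 2) = (bif c then 1 else 0) → a = c) _ _ this
  have q1 : ∀ v < 256, qN true v = false → qN true (ap m v) = false := fun v hv k => by
    rw [← hm' v hv, ← q0, h.rq (cy hy), q0, n81 hv, k]
  have k1 : 2 ^^^ 2 ^ (2 * i + 3) ^^^ ap m 2 ∈ EL := mEL _ (Nat.xor_lt_two_pow (n := 8) (Nat.xor_lt_two_pow (by decide) l) (ap_lt _ _)) (by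
    have := (et _).1 k
    rwa [add1, add1, hm' 2 (by decide), n81 l, Nat.xor_assoc, Nat.xor_comm] at this)
  have s := List.all_eq_true.1 (shp i hi) _ k1
  rw [st_eq, Nat.xor_xor_cancel_left, q1 2 (by decide) (by decide), Bool.false_or] at s
  replace s := List.all_eq_true.1 s _ (E 8 (by decide) (by decide))
  rw [st_eq, Nat.xor_xor_cancel_left, q1 8 (by decide) (by decide), B _ (by decide) _ (by decide)] at s
  replace s := List.all_eq_true.1 s _ (E 32 (by decide) (by decide))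
  rw [st_eq, Nat.xor_xor_cancel_left, q1 32 (by decide) (by decide), B _ (by decide) _ (by decide), B _ (by decide) _ (by decide)] at s
  replace s := List.all_eq_true.1 s _ (E 128 (by decide) (by decide))
  rw [st_eq, Nat.xor_xor_cancel_left, q1 128 (by decide) (by decide), B _ (by decide) _ (by decide), B _ (by decide) _ (by decide),
    B _ (by decide) _ (by decide)] at s
  replace s := List.all_eq_true.1 s _ (E 4 (by decide) (by decide))
  rw [st_eq, Nat.xor_xor_cancel_left, B _ (by decide) _ (by decide), B _ (by decide) _ (by decide), B _ (by decide) _ (by decide),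
    B _ (by decide) _ (by decide)] at s
  replace s := List.all_eq_true.1 s _ (E 16 (by decide) (by decide))
  rw [st_eq, Nat.xor_xor_cancel_left, B _ (by decide) _ (by decide), B _ (by decide) _ (by decide), B _ (by decide) _ (by decide),
    B _ (by decide) _ (by decide)] at s
  replace s := List.all_eq_true.1 s _ (E 64 (by decide) (by decide))
  rw [st_eq, Nat.xor_xor_cancel_left, B _ (by decide) _ (by decide), B _ (by decide) _ (by decide), B _ (by decide) _ (by decide),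
    B _ (by decide) _ (by decide), st_eq] at s
  have em : 1 + 256 * (ap m 2 + 256 * (ap m 4 + 256 * (ap m 8 + 256 * (ap m 16 + 256 * (ap m 32 + 256 * (ap m 64 +
      256 * ap m 128)))))) = m := by
    have h0 := ap_bt m (k := 0) (by decide)
    rw [pow_zero, ← hm' 1 (by decide), ← e1, n.yx hy, px] at h0
    have h1 := ap_bt m (k := 1) (by decide); have h2 := ap_bt m (k := 2) (by decide); have h3 := ap_bt m (k := 3) (by decide)
    have h4 := ap_bt m (k := 4) (by decide); have h5 := ap_bt m (k := 5) (by decide); have h6 := ap_bt m (k := 6) (by decide)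
    have h7 := ap_bt m (k := 7) (by decide)
    simp only [bt_eq] at h0 h1 h2 h3 h4 h5 h6 h7
    norm_num at h0 h1 h2 h3 h4 h5 h6 h7
    omega
  have i2 : ap m (ap m 2) = 2 := by rw [← hm' 2 (by decide), ← hm, h.rsq (cy hy) (sqQ n hy.1)]; rfl
  rw [em, i2] at s
  obtain ⟨a, ha, s⟩ := List.any_eq_true.1 s
  exact ⟨a, List.mem_range.1 ha, y, hy, beq_iff_eq.1 s ▸ hm⟩

/-- the shape of the data of a point in standard position -/
theorem shape (h : M Q z π ρ (q true) b) (p : Pt Q z g) (px : (π (g * z * g⁻¹)).1 = 1)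
    (k : ∀ w ∈ [4, 16, 64], n8 w ∈ Et Q (cj g Q) π) :
    ∃ ε < 2, ∃ a < 8, ∃ c < 8, ∃ d < 8, Dt Q z π ρ g 1 E0 fun u => ev (SG ε a c d) (LW u) := by
  have n := nw h p
  have k1 : n8 1 ∈ Et Q (cj g Q) π := (Fin.ext px : _ = n8 1) ▸ n.Ex
  have k2 := k 4 (by simp); have k3 := k 16 (by simp); have k4 := k 64 (by simp)
  have et : ∀ v, v ∈ Et Q (cj g Q) π ↔ E0 v.1 = true := fun v => ⟨fun hv => (show ∀ v : N8, b v (n8 1) = 0 → b v (n8 4) = 0 →
    b v (n8 16) = 0 → b v (n8 64) = 0 → E0 v.1 = true by decide +kernel) v (n.Eb hv k1) (n.Eb hv k2) (n.Eb hv k3) (n.Eb hv k4),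
    fun hv => by
      have o : ∀ (w : N8) (t : Bool), w ∈ Et Q (cj g Q) π → (bif t then w else 0) ∈ Et Q (cj g Q) π := fun w t hw => by
        cases t; exacts [n.E0, hw]
      rw [(show ∀ v : N8, E0 v.1 = true → v = (bif v.1.testBit 0 then n8 1 else 0) + (bif v.1.testBit 2 then n8 4 else 0) +
        (bif v.1.testBit 4 then n8 16 else 0) + bif v.1.testBit 6 then n8 64 else 0 by decide +kernel) v hv]
      exact n.Eadd (n.Eadd (n.Eadd (o _ _ k1) (o _ _ k2)) (o _ _ k3)) (o _ _ k4)⟩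
  obtain ⟨a, ha, y, hy, e0⟩ := shape1 h p px et 0 (by decide)
  have : ∀ i < 3, i ≠ 0 → ∃ c < 8, ∃ y ∈ cj g Q ⊓ C[z], ∀ v, (ρ y v).1 = ap (sd (a / 8) i c) v.1 := fun i hi i0 => by
    obtain ⟨c, hc, y', hy', e1⟩ := shape1 h p px et i hi
    refine ⟨c % 8, by omega, y', hy', (sd_cm i hi a ha c hc ?_).resolve_left i0 ▸ e1⟩
    have : ρ y (ρ y' (n8 2)) = ρ y' (ρ y (n8 2)) := by
      have := n.lp.r.es.conj_cases hy.1 hy'.1
      rw [← h.rinv (cy hy) (n8 2), ← rcj h (cy hy) (cy hy'), h.rinv' (cy hy)]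
      rcases this with k | k <;> rw [k]
      rw [h.rmul (cy hy') (h.zc n.tQ), h.rQ n.tQ]
    simpa only [e0, e1, n81 (show 2 < 256 by decide)] using congrArg Fin.val this
  obtain ⟨c, hc, k1⟩ := this 1 (by decide) (by decide)
  obtain ⟨d, hd, k2⟩ := this 2 (by decide) (by decide)
  refine ⟨a / 8, by omega, a % 8, by omega, c, hc, d, hd, mkDt h p px et (fun i hi => ?_)
    (cov_sg _ (by omega) _ (by omega) _ hc _ hd)⟩
  interval_cases i
  exacts [⟨y, hy, e0⟩, k1, k2]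

/-- the data of a point in a frame -/
def FD (Q : Subgroup G) (z : G) (π : G → N8) (ρ : G → N8 →+ N8) (g : G) (F Fi : ℕ) (S : List ℕ) : Prop :=
  Dt Q z π ρ g (ap F 1) (fun v => E0 (ap Fi v)) fun u v => ap F (ev S (LW u) (ap Fi v))
theorem pt (h : Hy Q z π ρ e) (p : Pt Q z g) (hc : #(Q ⊓ cj g Q : Subgroup G) = 32) (i : Iso e R Ri)
    (px : (π (g * z * g⁻¹)).1 = ap R 1) : e = true ∧ ∃ j < 30, ∃ ε < 2, ∃ a < 8, ∃ c < 8, ∃ d < 8,
      FD Q z π ρ g (mu R (fr j)) (mu (fr j) Ri) (SG ε a c d) := by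
  obtain ⟨rfl, j, hj, k⟩ := std (h.fr i).toM p hc ((congrArg (ap Ri) px).trans (i.l 1 (by decide)))
  have i' := i.mul (Iso.of (iso_fr j hj).1)
  obtain ⟨ε, h0, a, ha, c, hc, d, hd, k⟩ := shape (h.fr i').toM p (by
    change ap _ _ = 1
    rw [px, ap_mu _ _ (ap_lt _ _), i.l 1 (by decide), (iso_fr j hj).2]) fun w hw => (Et_fr i').2 (by
      convert (Et_fr i).1 (k w hw) using 1
      exact Fin.ext (ap_mu _ _ (n8 w).2))
  exact ⟨rfl, j, hj, ε, h0, a, ha, c, hc, d, hd, k.fr' i'⟩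
theorem Dt.fd (d : Dt Q z π ρ g 1 E0 fun u => ev S (LW u)) : FD Q z π ρ g ID ID S := by
  rw [FD, ap_ID (by decide)]
  exact d.congr (fun v hv => by rw [ap_ID hv]) fun u _ v hv => by rw [ap_ID hv, ap_ID (ev_lt hv)]
theorem FD.gen (d : FD Q z π ρ g F Fi S) {i : ℕ} (hi : i < 3) : In z ρ (ap (mu F (mu (S.getD i ID) Fi))) := by
  obtain ⟨y, a, k⟩ := d.ex (2 ^ i) (Nat.pow_lt_pow_right (a := 2) (n := 3) (by decide) hi)
  refine ⟨y, cy a, fun v => by rw [k, ap_mu _ _ v.2, ap_mu _ _ v.2]; interval_cases i <;> rfl⟩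
/-- an element carrying one point to another, read in the frames -/
theorem tst (h : M Q z π ρ (q true) b) (d : FD Q z π ρ g F Fi S) (d' : FD Q z π ρ g' F' Fi' S') (i : Iso true F Fi)
    (i' : Iso true F' Fi') (k : In z ρ (ap m)) (hn : ∀ v < 256, ap n v = ap Fi' (ap m (ap F v))) (h1 : ap n 1 = 1) :
    (∀ v < 256, E0 (ap n v) = E0 v) ∧ ∀ l, (∃ u < 8, ∀ v < 256, ap l v = ev S (LW u) v) →
      ∃ u < 8, mu n l = mu (evm S' (LW u)) n := by
  obtain ⟨c, hc, k⟩ := k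
  obtain ⟨a, a'⟩ := Dt.tr h d d' hc (by rw [k, n81 (ap_lt _ _), ← i'.r _ (ap_lt m _), ← hn 1 (by decide), h1])
  refine ⟨fun v hv => by simpa only [k, A1, n81 hv, i.l v hv, ← hn v hv] using a (A F (n8 v)), fun l ⟨u, hu, hl⟩ => ?_⟩
  obtain ⟨u', hu', a⟩ := a' u hu
  refine ⟨u', hu', ap_inj (mu_lt ..) (mu_lt ..) fun v hv => ?_⟩
  have := congrArg (ap Fi') (a (A F (n8 v)))
  simp only [k, A1, n81 hv, i.l v hv, n81 (ap_lt _ _), i'.l _ (ev_lt (ap_lt _ _)), ← hn v hv, ← hn _ (ev_lt hv)] at this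
  rw [ap_mu _ _ hv, ap_mu _ _ hv, hl v hv, this, ap_evm _ _ (ap_lt _ _)]
/-- new coordinates fixing the first point -/
theorem Dt.re (h : Hy Q z π ρ true) (d : Dt Q z π ρ g 1 E0 fun u => ev S (LW u)) (i : Iso true F Fi) (f1 : ap F 1 = 1)
    (fE : ∀ v < 256, E0 (ap F v) = E0 v) (k : ∀ j < 3, ∃ u < 8, mu Fi (mu (evm S (LW u)) F) = T.getD j ID) (cv : cov T = true) :
    Dt Q z (cπ Fi π) (cρ F Fi ρ) g 1 E0 fun u => ev T (LW u) := by
  have d' := d.fr i
  refine mkDt (h.fr i).toM d.pt (d'.px.trans (by rw [← f1, i.l 1 (by decide), f1])) (fun v => fE _ v.2 ▸ d'.et v) (fun j hj => ?_) cv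
  obtain ⟨u, hu, k⟩ := k j hj
  obtain ⟨y, a, e⟩ := d'.ex u hu
  exact ⟨y, a, fun v => by rw [e, ← k, ap_mu _ _ v.2, ap_mu _ _ v.2, ap_evm _ _ (ap_lt _ _)]⟩

end H14.X9
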