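import Cfsg.Agent.H14.X95

/-! Large extraspecial subgroups of order `2⁹`: the chunk `CORE`. -/

set_option autoImplicit false
set_option linter.unusedSectionVars false

open Subgroup
namespace H14.X9
open H0 H19 H10.Y
open H10.R (N8 n8 A8 st st_eq BS ext8 n8v)

universe u
section
variable {G : Type u} [Group G] [Finite G] {Q : Subgroup G} {z g g' : G} {π : G → N8} {ρ : G → N8 →+ N8} {e full : Bool}
  {H S S' T P' W : List ℕ} {c t k F Fi R Ri : ℕ} {sv : List ℕ → ℕ → Bool}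

theorem In.evm (h : M Q z π ρ (q e) b) (H : ∀ m ∈ S, In z ρ (ap m)) (W : List ℕ) : In z ρ (ap (evm S W)) :=
  (In.ev h H W).congr fun _ hv => (ap_evm _ _ hv).symm
theorem pre (h : ∀ j < 3, S.getD j ID = ID ∨ S.getD j ID = T.getD j ID) :
    ∀ j < 3, ∃ u < 8, ∀ v < 256, ap (S.getD j ID) v = ev T (LW u) v := fun j hj => (h j hj).elim
  (fun k => ⟨0, by decide, fun v hv => by rw [k, ap_ID hv]; rfl⟩) fun k => ⟨2 ^ j, by interval_cases j <;> decide,
    fun v _ => by rw [k]; interval_cases j <;> rfl⟩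
theorem lf_ok (h : M Q z π ρ (q true) b) (d : FD Q z π ρ g ID ID S) (d' : FD Q z π ρ g' F Fi T) (i : Iso true F Fi)
    (hH : ∀ m ∈ H, In z ρ (ap m)) (hS : ∀ j < 3, S'.getD j ID = ID ∨ S'.getD j ID = T.getD j ID) (hP : full = true → P' = PL T)
    (k : lf H S (PL S) S' P' F Fi c full = true) : False := by
  have im := In.evm h hH (dw 16 (c / 16))
  have key : ∀ {g g' F Fi F' Fi' S S' n} {L P : List ℕ} {f : Bool}, FD Q z π ρ g F Fi S → FD Q z π ρ g' F' Fi' S' → Iso true F Fi →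
      Iso true F' Fi' → (∀ v < 256, ap n v = ap Fi' (ap (evm H (dw 16 (c / 16))) (ap F v))) →
      (∀ j < 3, L.getD j ID = ID ∨ L.getD j ID = S.getD j ID) → (f = true → P = PL S') → ((bt n 0).beq 1 &&
      bif (c / 4 % 4).beq 0 then !(E0 (bt n 16) && E0 (bt n 32) && E0 (bt n 48)) else f &&
        P.all fun p => !(mu n (L.getD (c / 4 % 4 - 1) ID)).beq (mu p n)) = true → False := by
    intro g g' F Fi F' Fi' S S' n L P f d d' i i' hn hL hP k
    rw [Bool.and_eq_true, Nat.beq_eq] at k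
    obtain ⟨a, a'⟩ := tst h d d' i i' im hn ((ap_bt n (k := 0) (by decide)).trans k.1)
    cases e : (c / 4 % 4).beq 0 <;> rw [e] at k
    · obtain ⟨u, hu, a⟩ := a' _ (pre hL (c / 4 % 4 - 1) (by omega))
      simp only [cond_false, Bool.and_eq_true, List.all_eq_true] at k
      have := k.2.2 (evm S' (LW u)) (hP k.2.1 ▸ List.mem_map.2 ⟨u, List.mem_range.2 hu, rfl⟩)
      rw [a, Nat.beq_refl] at this
      exact absurd this (by decide)
    · rw [← ap_bt n (k := 2) (by decide), ← ap_bt n (k := 4) (by decide), ← ap_bt n (k := 6) (by decide), a _ (by decide),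
        a _ (by decide), a _ (by decide)] at k
      exact absurd (show (!(E0 (2 ^ 2) && E0 (2 ^ 4) && E0 (2 ^ 6))) = true from k.2) (by decide)
  simp only [lf, st_eq] at k
  cases e0 : c.testBit 0 <;> cases e1 : c.testBit 1 <;> simp only [e0, e1, cond_true, cond_false] at k
  · exact key d d .id .id (fun v hv => by rw [ap_ID hv, ap_ID (ap_lt ..)]) (fun _ _ => .inr rfl) (fun _ => rfl) k
  · exact key d d' .id i (fun v hv => by rw [ap_ID hv, ap_mu _ _ hv]) (fun _ _ => .inr rfl) hP k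
  · exact key d' d i .id (fun v hv => by rw [ap_ID (ap_lt ..), ap_mu _ _ hv]) hS (fun _ => rfl) k
  · exact key d' d' i i (fun v hv => by rw [ap_mu _ _ hv, ap_mu _ _ hv]) hS hP k

theorem tr_ok (h : Hy Q z π ρ true) (d : Dt Q z π ρ g 1 E0 fun u => ev S (LW u)) (hS : ∀ m ∈ S, In z ρ (ap m))
    (p : Pt Q z g') (hc : #(Q ⊓ cj g' Q : Subgroup G) = 32) (i : Iso true R Ri) (px : (π (g' * z * g'⁻¹)).1 = ap R 1)
    (k : tr S R Ri t sv = true) : ∃ A c, (∀ m ∈ A, In z ρ (ap m)) ∧ sv A c = true := by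
  obtain ⟨-, j, hj, ε, h0, a, ha, c, hc, d', hd, D⟩ := pt h p hc i px
  have i' := i.mul (Iso.of (iso_fr j hj).1)
  have g0 := D.gen (i := 0) (by decide); have g1 := D.gen (i := 1) (by decide); have g2 := D.gen (i := 2) (by decide)
  have L := fun {H S' P' c full} => lf_ok (H := H) (S' := S') (P' := P') (c := c) (full := full) h.toM d.fd D i'
  have C : ∀ {x y w : Bool}, (bif x then y else w) = true → (y = true → False) → w = true := by decide
  have k := List.all_eq_true.1 k j (List.mem_range.2 hj)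
  simp only [st_eq] at k
  replace k := List.all_eq_true.1 (C k (L hS (fun _ _ => .inl rfl) nofun)) (8 * ε + a) (List.mem_range.2 (by omega))
  rw [show (8 * ε + a) / 8 = ε by omega, show (8 * ε + a) % 8 = a by omega] at k
  have cn : ∀ {m : ℕ} {L : List ℕ}, In z ρ (ap m) → (∀ m ∈ L, In z ρ (ap m)) → ∀ m' ∈ m :: L, In z ρ (ap m') :=
    fun a c => List.forall_mem_cons.2 ⟨a, c⟩
  have s1 := cn g0 hS
  have s2 := cn g1 s1
  replace k := List.all_eq_true.1 (C k (L s1 (fun j _ => by interval_cases j <;> simp [SG]) nofun)) c (List.mem_range.2 hc)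
  replace k := List.all_eq_true.1 (C k (L s2 (fun j _ => by interval_cases j <;> simp [SG]) nofun)) d' (List.mem_range.2 hd)
  exact ⟨_, _, cn g0 (cn g1 (cn g2 fun _ j => (List.not_mem_nil j).elim)), C k (L (cn g2 s2) (fun _ _ => .inr rfl) fun _ => rfl)⟩

theorem gwW (W : List ℕ) : Iso true (evm GW W) (evm GW W.reverse) ∧ ap (evm GW W) 1 = 1 ∧
    ∀ v < 256, E0 (ap (evm GW W) v) = E0 v := by
  have : ev GW W 1 = 1 ∧ ∀ v < 256, qN true (ev GW W v) = qN true v ∧ E0 (ev GW W v) = E0 v := by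
    induction W with
    | nil => exact ⟨rfl, fun _ _ => ⟨rfl, rfl⟩⟩
    | cons k W ih =>
      simp only [ev_cons]
      rcases getD_cases GW k with e | e
      · exact ⟨by rw [e, ap_ID (by decide), ih.1], fun v hv => by rw [e, ap_ID hv]; exact ih.2 v hv⟩
      refine ⟨by rw [(gw.2 _ e).1, ih.1], fun v hv => ?_⟩
      have := A256.of (gw.2 _ e).2 hv
      simp only [Bool.and_eq_true, beq_iff_eq] at this
      rw [(ih.2 _ (ap_lt ..)).1, (ih.2 _ (ap_lt ..)).2]; exact this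
  exact ⟨⟨fun v hv => by rw [ap_evm _ _ hv, ap_evm _ _ (ev_lt hv), ev_rev gw.1 W hv],
    fun v hv => by rw [ap_evm _ _ hv, ap_evm _ _ (ev_lt hv), ev_rev' gw.1 W hv], fun v hv => by rw [ap_evm _ _ hv, (this.2 v hv).1]⟩,
    by rw [ap_evm _ _ (by decide), this.1], fun v hv => by rw [ap_evm _ _ hv, (this.2 v hv).2]⟩
theorem Dt.rw (h : Hy Q z π ρ true) (d : Dt Q z π ρ g 1 E0 fun u => ev S (LW u))
    (k : reB S T (evm GW W) (evm GW W.reverse) c = true) (cv : cov T = true) :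
    Dt Q z (cπ (evm GW W.reverse) π) (cρ (evm GW W) (evm GW W.reverse) ρ) g 1 E0 fun u => ev T (LW u) :=
  d.re h (gwW W).1 (gwW W).2.1 (gwW W).2.2 (fun j hj => ⟨_, Nat.mod_lt _ (by decide),
    beq_iff_eq.1 (List.all_eq_true.1 k j (List.mem_range.2 hj))⟩) cv
theorem Dt.gen (d : Dt Q z π ρ g 1 E0 fun u => ev S (LW u)) : ∀ m ∈ S.take 3, In z ρ (ap m) := fun m hm => by
  obtain ⟨i, hi, rfl⟩ := List.getElem_of_mem hm
  rw [List.length_take] at hi
  rw [List.getElem_take, List.getElem_eq_getD ID]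
  exact (d.fd.gen (i := i) (by omega)).congr fun v hv => by rw [ap_mu _ _ hv, ap_mu _ _ hv, ap_ID hv, ap_ID (ap_lt ..)]

/-- two points which are not orthogonal -/
theorem two (h : Hy Q z π ρ e) (p : Pt Q z g) :
    ∃ g g', Pt Q z g ∧ Pt Q z g' ∧ b (π (g * z * g⁻¹)) (π (g' * z * g'⁻¹)) ≠ 0 := by
  by_contra! k
  let S : AddSubgroup N8 :=
    { carrier := {v | ∀ g, Pt Q z g → b v (π (g * z * g⁻¹)) = 0}
      zero_mem' := fun _ _ => h.qs.b0 _
      add_mem' := fun a c g p => by rw [h.qs.badd, a g p, c g p, add_zero]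
      neg_mem' := id }
  refine (nw h.toM p).x0 ((h.irr S fun c hc v hv g p => ?_).elim (fun j => AddSubgroup.mem_bot.1 (j.le fun g' p' => k g g' p p'))
    fun j => h.qs.nd _ fun w => (h.qs.symm _ _).trans (j.ge (AddSubgroup.mem_top w) g p))
  rw [← h.rinv' hc (π _), h.rb hc, ← (p.J h.toM hc.inv_right).2]
  exact hv _ (p.J h.toM hc.inv_right).1

theorem lv1 (h : Hy Q z π ρ e) (p : Pt Q z g) (a : ∀ g, Pt Q z g → #(Q ⊓ cj g Q : Subgroup G) = 32) :
    ∃ k < 11, ∃ π ρ, Cx k Q z π ρ := by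
  obtain ⟨g, g', p, p', k⟩ := two h p
  obtain ⟨R, Ri, i, e1, e2⟩ := mv (π _).2 (π _).2 (q0.1 ((nw h.toM p).Eq0 (nw h.toM p).Ex))
    (q0.1 ((nw h.toM p').Eq0 (nw h.toM p').Ex)) (Bool.not_eq_false _ ▸ mt b0.2 k)
  obtain ⟨rfl, j, hj, ε, h0, c1, h1, c2, h2, c3, h3, D⟩ := pt h p (a g p) i e1.symm
  have i' := i.mul (Iso.of (iso_fr j hj).1)
  have D := Dt.fr D i'
  rw [i'.l 1 (by decide)] at D
  replace D := D.congr (E' := E0) (l' := fun u => ev (SG ε c1 c2 c3) (LW u)) (fun v hv => by rw [i'.l v hv])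
    fun u _ v hv => by rw [i'.l v hv, i'.l _ (ev_lt hv)]
  have x2 : (cπ (mu (fr j) Ri) π (g' * z * g'⁻¹)).1 = 2 := by
    rw [cπ, A1, ← e2, ap_mu _ _ (ap_lt ..), i.l 2 (by decide)]
    exact (by decide +kernel : ∀ j < 30, ap (fr j) 2 = 2) j hj
  replace h := h.fr i'
  generalize cπ _ π = π, cρ _ _ ρ = ρ at D x2 h
  have w := wl ε h0 c1 h1 c2 h2 c3 h3
  simp only [st_eq, Bool.and_eq_true, Nat.blt_eq, beq_iff_eq] at w
  generalize WL / _ % _ = t at w
  obtain ⟨⟨hr, w2⟩, w⟩ := w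
  replace D := D.rw h w (covs.1 _ hr).1
  replace h := h.fr (gwW (dw 16 (t / 65536))).1
  obtain ⟨A, c, hA, s⟩ := tr_ok h D (fun m hm => D.gen m (by rwa [List.take_of_length_le (covs.1 _ hr).2.le])) p' (a g' p')
    (Iso.of (by decide +kernel)) (by rw [cπ, A1, x2, w2]; decide +kernel) (t1 _ hr)
  simp only [sv1, st_eq, Bool.and_eq_true, Nat.blt_eq, beq_iff_eq] at s
  obtain ⟨⟨hk, s1⟩, s2⟩ := s
  have D' := D.rw h s1 (covs.2 _ hk)
  refine ⟨_, hk, _, _, h.fr (gwW _).1, fun m hm => ?_, g, D'⟩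
  rw [← List.take_append_drop 3 (kg _), List.mem_append, ← s2, List.mem_map] at hm
  obtain hm | ⟨w, -, rfl⟩ := hm
  · exact D'.gen m hm
  · exact (In.evm h.toM (List.forall_mem_append.2 ⟨fun m hm => D.gen m (by
      rwa [List.take_of_length_le (covs.1 _ hr).2.le]), hA⟩) _).fr

theorem go_ev (L : List ℕ) (T n : ℕ) : ∀ v, ∃ W, ev L W v = go L T n v := by
  induction n with
  | zero => exact fun _ => ⟨[], rfl⟩
  | succ n ih => exact fun v => let ⟨W, k⟩ := ih _; ⟨_ :: W, k⟩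
theorem lv2 (h : Cx k Q z π ρ) (hk : k < 11) (a : ∀ g, Pt Q z g → #(Q ⊓ cj g Q : Subgroup G) = 32) :
    Sy k Q z π ρ ∨ (k = 3 ∨ k = 6 ∨ k = 9) ∧ Cx (k + 1) Q z π ρ := by
  refine or_iff_not_imp_left.2 fun n => ?_
  obtain ⟨g, p, o⟩ : ∃ g, Pt Q z g ∧ ox k (π (g * z * g⁻¹)).1 = false := by
    by_contra! j
    exact n ⟨h, fun g p => by simpa using j g p⟩
  have s := A256.of (t3 k hk) (π (g * z * g⁻¹)).2
  have N := nw h.toM p
  simp only [q0.1 (N.Eq0 N.Ex), o, st_eq, Bool.false_or, Bool.or_false, Bool.or_eq_true, beq_iff_eq, List.any_eq_true] at s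
  obtain ⟨t, ht, s⟩ := s.resolve_left fun j => N.x0 (Fin.ext j)
  obtain ⟨W, hW⟩ := go_ev (kg k) (NB.getD k 0) 7 (π (g * z * g⁻¹)).1
  obtain ⟨c, hc, ec⟩ := h.ev W
  obtain ⟨g0, D⟩ := h.dt
  have s2 := List.all_eq_true.1 (t2 k hk) t ht
  rw [Bool.and_eq_true] at s2
  obtain ⟨A, -, hA, s⟩ := tr_ok h.toHy D h.gen (p.J h.toM hc).1 (a _ (p.J h.toM hc).1) (Iso.of s2.1)
    (by rw [(p.J h.toM hc).2, ec, hW, s]) s2.2
  simp only [Bool.and_eq_true, Bool.or_eq_true, beq_iff_eq, or_assoc] at s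
  refine ⟨s.1, h.toHy, s.2 ▸ List.forall_mem_append.2 ⟨h.gen, hA⟩, g0, D.congr (fun _ _ => rfl) fun u hu v _ => ?_⟩
  rcases s.1 with rfl | rfl | rfl <;> interval_cases u <;> rfl
end

theorem core : CORE.{u} := fun h ⟨_, p⟩ a => by
  obtain ⟨k, hk, π, ρ, c⟩ := lv1 h p a
  obtain s | ⟨j, c⟩ := lv2 c hk a
  · exact ⟨k, hk, π, ρ, s⟩
  · exact ⟨k + 1, by omega, π, ρ, (lv2 c (by omega) a).resolve_right fun i => by omega⟩

end H14.X9
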