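import Cfsg.Agent.H14.X97

/-! Large extraspecial subgroups of order `2⁹`: the chunk `AUT`. -/

set_option autoImplicit false
set_option linter.unusedSectionVars false

open Subgroup
namespace H14.X9
open H0 H19 H10.Y
open H10.R (N8 n8 A8 st st_eq BS ext8 n8v)

/-- isometries preserving the standard subspace and fixing the first basis vectors -/
def St (i n : ℕ) : Prop := (∃ ni, Iso true n ni) ∧ (∀ v < 256, E0 (ap n v) = E0 v) ∧ ∀ v < 2 ^ i, ap n v = v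
theorem Iso.bn {F Fi u v : ℕ} {e : Bool} (i : Iso e F Fi) (hu : u < 256) (hv : v < 256) : bN (ap F u) (ap F v) = bN u v :=
  (by decide : ∀ a c : Bool, (bif a then 1 else 0 : ZMod 2) = (bif c then 1 else 0) → a = c) _ _ (i.bb ⟨u, hu⟩ ⟨v, hv⟩)
theorem ap0 (m : ℕ) : ap m 0 = 0 := congrArg Fin.val (A m).map_zero
theorem St.red {i n : ℕ} {W : List ℕ} (s : St i n) (hi : i < 8) (h1 : ∀ v < 2 ^ i, ap (evm GW W) v = v) (h2 : ap (evm GW W) (2 ^ i) = ap n (2 ^ i)) :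
    ∃ n', St (i + 1) n' ∧ ∀ v < 256, ap n v = ap (evm GW W) (ap n' v) := by
  obtain ⟨⟨ni, j⟩, s1, s2⟩ := s
  obtain ⟨w, -, w2⟩ := gwW W
  have l := p2 hi
  have k : ∀ v < 2 ^ i, ap (mu (evm GW W.reverse) n) v = v := fun v hv => by
    rw [ap_mu _ _ (by omega), s2 v hv, ← h1 v hv, w.l v (by omega), h1 v hv]
  refine ⟨mu (evm GW W.reverse) n, ⟨⟨_, w.symm.mul j⟩, fun v hv => by
    rw [ap_mu _ _ hv, ← w2 _ (ap_lt ..), w.r _ (ap_lt ..), s1 v hv], fun v hv => (lt_or_ge v (2 ^ i)).elim (k v) fun h => ?_⟩,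
    fun v hv => by rw [ap_mu _ _ hv, w.r _ (ap_lt ..)]⟩
  have : v ^^^ 2 ^ i < 2 ^ i := (by decide +kernel : ∀ i < 8, ∀ v < 2 ^ (i + 1), 2 ^ i ≤ v → v ^^^ 2 ^ i < 2 ^ i) i hi v hv h
  rw [← Nat.xor_xor_cancel_right v (2 ^ i), ap_xor, k _ this, ap_mu _ _ l, ← h2, w.l _ l]
theorem St.step {i n : ℕ} (s : St (i + 2) n) (hi : i < 6) : ∃ p ∈ tt i, ∃ n', St (i + 3) n' ∧ ∀ v < 256, ap n v = ap p.1 (ap n' v) := by
  have l : 2 ^ (i + 2) < 256 := p2 (by omega)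
  obtain ⟨ni, j⟩ := s.1
  have := A256.of (a1 i hi).2 (ap_lt n (2 ^ (i + 2)))
  simp only [j.q _ l, s.2.1 _ l, Bool.or_eq_true, beq_iff_eq, bne_iff_ne, List.any_eq_true, List.mem_range, ne_eq,
    not_true_eq_false, or_false] at this
  obtain ((k | k) | ⟨a, ha, k⟩) | ⟨p, hp, k⟩ := this
  · exact absurd k (by clear l j s; revert i; decide +kernel)
  · exact absurd ((j.l _ l).symm.trans (by rw [k, ap0] : ap ni (ap n _) = 0)) (by positivity)
  · exact (k (by rw [← j.bn l (p2 (by omega)), s.2.2 _ (Nat.pow_lt_pow_right (by decide) ha)])).elim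
  have e := List.all_eq_true.1 (a1 i hi).1 p hp
  simp only [Bool.and_eq_true, beq_iff_eq, List.all_eq_true, List.mem_range] at e
  rw [e.1] at k
  exact ⟨p, hp, e.1 ▸ s.red (by omega) (e.1 ▸ e.2) k⟩
theorem St.chain {n : ℕ} (s : St 2 n) (F : ℕ) : ∃ a ∈ tt 0, ∃ c ∈ tt 1, ∃ d ∈ tt 2, ∃ e ∈ tt 3,
    ∀ v < 256, ap F (ap n v) = ap (mu (mu (mu (mu F a.1) c.1) d.1) e.1) v := by
  obtain ⟨a, ha, n, s, e0⟩ := s.step (i := 0) (by decide)
  obtain ⟨c, hc, n, s, e1⟩ := s.step (i := 1) (by decide)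
  obtain ⟨d, hd, n, s, e2⟩ := s.step (i := 2) (by decide)
  obtain ⟨e, he, n, s, e3⟩ := s.step (i := 3) (by decide)
  obtain ⟨_, h4, n, s, e4⟩ := s.step (i := 4) (by decide)
  obtain ⟨_, h5, n, s, e5⟩ := s.step (i := 5) (by decide)
  obtain rfl := List.mem_singleton.1 h4
  obtain rfl := List.mem_singleton.1 h5
  exact ⟨a, ha, c, hc, d, hd, e, he, fun v hv => by
    rw [e0 v hv, e1 v hv, e2 v hv, e3 v hv, e4 v hv, e5 v hv, s.2.2 v hv, ap_ID hv, ap_ID hv, ap_mu _ _ hv, ap_mu _ _ (ap_lt ..),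
      ap_mu _ _ (ap_lt ..), ap_mu _ _ (ap_lt ..)]⟩

/-- maps given by words -/
def BW (L : List ℕ) (f : ℕ → ℕ) : Prop := ∃ W, ∀ v < 256, f v = ev L W v
section
variable {L L' : List ℕ} {f f' : ℕ → ℕ} {s m : ℕ}
theorem BW.comp (h : BW L f) (k : BW L f') : BW L fun v => f (f' v) :=
  let ⟨W, a⟩ := h; let ⟨W', c⟩ := k; ⟨W' ++ W, fun v hv => by simp only [ev_append, c v hv, a _ (ev_lt hv)]⟩
theorem BW.congr (h : BW L f) (k : ∀ v < 256, f v = f' v) : BW L f' := let ⟨W, a⟩ := h; ⟨W, fun v hv => k v hv ▸ a v hv⟩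
theorem BW.mem (h : m = ID ∨ m ∈ L) : BW L (ap m) := h.elim (fun e => ⟨[], fun _ hv => e ▸ ap_ID hv⟩) fun h =>
  let ⟨i, hi, e⟩ := List.getElem_of_mem h; ⟨[i], fun v _ => by rw [ev_cons, ← List.getElem_eq_getD (h := hi), e]; rfl⟩
theorem BW.ind {P : (ℕ → ℕ) → Prop} (h0 : P id) (h1 : ∀ f m, m = ID ∨ m ∈ L → P f → P fun v => f (ap m v)) (W : List ℕ) :
    P (ev L W) := by
  induction W with
  | nil => exact h0
  | cons k W ih => exact h1 _ _ (getD_cases L k) ih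
theorem BW.mono (h : BW L f) (k : ∀ m ∈ L, m ∈ L') : BW L' f :=
  let ⟨W, a⟩ := h; (BW.ind (P := BW L') ⟨[], fun _ _ => rfl⟩ (fun _ _ i j => j.comp (.mem (i.imp_right (k _)))) W).congr
    fun v hv => (a v hv).symm
variable (ss : mu s s = ID) (n : ∀ m ∈ L, BW L (ap (mu s (mu m s))))
include ss n
theorem BW.cj (h : BW L f) : BW L fun v => ap s (f (ap s v)) := by
  have s2 : ∀ v < 256, ap s (ap s v) = v := fun v hv => by rw [← ap_mu _ _ hv, ss, ap_ID hv]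
  obtain ⟨W, a⟩ := h
  refine (BW.ind (P := fun f => BW L fun v => ap s (f (ap s v))) ⟨[], s2⟩ (fun f m i j => ?_) W).congr fun v _ => by
    rw [a _ (ap_lt ..)]
  rcases i with rfl | i
  · exact j.congr fun v _ => by simp only [ap_ID (ap_lt ..)]
  · exact (j.comp (n m i)).congr fun v hv => by rw [ap_mu _ _ hv, ap_mu _ _ hv, s2 _ (ap_lt ..)]
theorem BW.nf (h : BW (L ++ [s]) f) : BW L f ∨ BW L fun v => f (ap s v) := by
  have s2 : ∀ v < 256, ap s (ap s v) = v := fun v hv => by rw [← ap_mu _ _ hv, ss, ap_ID hv]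
  obtain ⟨W, a⟩ := h
  refine (BW.ind (P := fun f => BW L f ∨ BW L fun v => f (ap s v)) (.inl ⟨[], fun _ _ => rfl⟩) (fun f m i j => ?_) W).imp
    (·.congr fun v hv => (a v hv).symm) (·.congr fun v _ => (a _ (ap_lt ..)).symm)
  rw [List.mem_append, List.mem_singleton, ← or_assoc] at i
  rcases i with i | rfl
  · exact j.imp (·.comp (.mem i)) fun j => (j.comp (cj ss n (.mem i))).congr fun v _ => by rw [s2 _ (ap_lt ..)]
  · exact j.symm.imp_right (·.congr fun v hv => by simp only [s2 v hv])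
end

universe u
section
variable {G : Type u} [Group G] [Finite G] {Q : Subgroup G} {z g c : G} {π : G → N8} {ρ : G → N8 →+ N8} {e : Bool}
  {L : List ℕ} {k : ℕ}

/-- the elements acting as words -/
def WG (h : M Q z π ρ (q e) b) (L : List ℕ) : Subgroup G :=
  let S : Submonoid G :=
    { carrier := {c | Commute z c ∧ BW L fun v => (ρ c (n8 v)).1}
      one_mem' := ⟨.one_right z, [], fun v hv => by simp only [h.r1, n81 hv]; rfl⟩
      mul_mem' := fun a c => ⟨a.1.mul_right c.1, (a.2.comp c.2).congr fun v _ => by rw [h.rmul a.1 c.1, n8v]⟩ }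
  { S with inv_mem' := fun hx => (Submonoid.powers_le (P := S)).2 hx (mem_powers_iff_mem_zpowers.2 (inv_mem (mem_zpowers _))) }
theorem mem_WG (h : M Q z π ρ (q e) b) {f : ℕ → ℕ} (hc : Commute z c) (k : ∀ v, (ρ c v).1 = f v.1) (w : BW L f) : c ∈ WG h L :=
  ⟨hc, w.congr fun v hv => by rw [k, n81 hv]⟩
theorem exI (h : M Q z π ρ (q e) b) (hc : Commute z c) : ∃ m mi, Iso e m mi ∧ ∀ v, (ρ c v).1 = ap m v.1 := by
  obtain ⟨m, -, a⟩ := exA (ρ c)
  obtain ⟨mi, -, a'⟩ := exA (ρ c⁻¹)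
  refine ⟨m, mi, ⟨fun v hv => by rw [← n81 hv, ← a, ← a', h.rinv hc], fun v hv => by rw [← n81 hv, ← a', ← a, h.rinv' hc],
    fun v hv => ?_⟩, a⟩
  have := h.rq hc (n8 v)
  simp only [q] at this
  rw [a, n81 hv] at this
  exact (by decide : ∀ a c : Bool, (bif a then 1 else 0 : ZMod 2) = (bif c then 1 else 0) → a = c) _ _ this
theorem Cx.fd (h : Cx k Q z π ρ) (W : List ℕ) : Iso true (evm (kg k) W) (evm (kg k) W.reverse) ∧
    ∃ g, FD Q z π ρ g (evm (kg k) W) (evm (kg k) W.reverse) (kg k) := by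
  obtain ⟨g, d⟩ := h.at W
  obtain ⟨c, hc, e⟩ := h.ev W
  obtain ⟨m, mi, i, a⟩ := exI h.toM hc
  refine ⟨⟨fun v hv => by rw [ap_evm _ _ hv, ap_evm _ _ (ev_lt hv), ev_rev (inv_kg k) W hv],
    fun v hv => by rw [ap_evm _ _ hv, ap_evm _ _ (ev_lt hv), ev_rev' (inv_kg k) W hv],
    fun v hv => by rw [ap_evm _ _ hv, ← i.q v hv, ← n81 hv, ← a, e]⟩, g, ?_⟩
  rw [FD, ap_evm _ _ (by decide)]
  exact d.congr (fun v hv => by rw [ap_evm _ _ hv]) fun u _ v hv => by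
    rw [ap_evm _ _ hv, ap_evm _ _ (ev_lt (ev_lt hv)), ev_append, ev_append]
theorem nLt {n : ℕ} (k : ∀ l, (∃ u < 8, ∀ v < 256, ap l v = ev L (LW u) v) → ∃ u < 8, mu n l = mu (evm L (LW u)) n) :
    Lt L n = false := Bool.eq_false_iff.2 fun j => by
  simp only [Lt, st_eq, List.any_eq_true, List.all_eq_true, List.mem_range] at j
  obtain ⟨i, hi, j⟩ := j
  obtain ⟨u, hu, a⟩ := k _ (pre (fun _ _ => .inr rfl) i hi)
  have := j _ (List.mem_map.2 ⟨u, List.mem_range.2 hu, rfl⟩)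
  rw [a, Nat.beq_refl] at this
  exact absurd this (by decide)

theorem Sy.ag (h : Sy k Q z π ρ) (hk : k < 11) (h0 : k ≠ 0) (hc : Commute z c) : c ∈ WG h.toM (ag k) := by
  have kw : ∀ W, ∃ c ∈ WG h.toM (X9.ag k), ∀ v, (ρ c v).1 = ev (kg k) W v.1 := fun W =>
    let ⟨c, hc, e⟩ := h.toCx.ev W; ⟨c, mem_WG _ hc e (BW.mono ⟨W, fun _ _ => rfl⟩ fun m hm => by simp [X9.ag, bg, hm]), e⟩
  obtain ⟨o1, o2, r⟩ := (a3 k hk).resolve_left h0
  have A1 : ∀ c, Commute z c → (ρ c (n8 1)).1 = 1 → ∀ t ∈ AT.getD k [], ev GW (dw 16 t.1) 2 = (ρ c (n8 2)).1 →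
      c ∈ WG h.toM (X9.ag k) := fun c hc c1 t ht c2 => by
    obtain ⟨m, mi, i, a⟩ := exI h.toM hc
    rw [a] at c1 c2
    obtain ⟨g0, d⟩ := h.dt
    have T := fun n (e : ∀ v < 256, ap m v = ap n v) => tst h.toM d.fd d.fd .id .id ⟨c, hc, a⟩ (n := n)
      (fun v hv => by rw [ap_ID hv, ap_ID (ap_lt ..), e v hv]) ((e 1 (by decide)).symm.trans c1)
    obtain ⟨n', s, e⟩ := St.red (i := 1) (W := dw 16 t.1) ⟨⟨mi, i⟩, (T m fun _ _ => rfl).1, fun v hv => by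
      interval_cases v; exacts [ap0 _, c1]⟩ (by decide) (fun v hv => by
      interval_cases v; exacts [ap0 _, (gwW _).2.1]) ((ap_evm _ _ (by decide)).trans c2)
    obtain ⟨t0, h0, t1, h1, t2, h2, t3, h3, e'⟩ := s.chain (evm GW (dw 16 t.1))
    have s := List.all_eq_true.1 (a2 k hk) t ht
    simp only [st_eq, Bool.and_eq_true, beq_iff_eq, List.all_eq_true] at s
    obtain ⟨s0, ⟨s1, s2⟩, s⟩ := s
    replace s := s t0 h0 t1 h1 t2 h2 t3 h3
    generalize mu (mu _ _) t3.1 = n at e' s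
    replace e := fun v hv => (e v hv).trans (e' v hv)
    obtain ⟨i2, g2, d2⟩ := h.toCx.fd (dw 16 (W2.getD k 0))
    obtain ⟨iy, gy, dy⟩ := h.toCx.fd (dw 16 t.2.1)
    obtain ⟨u1, u2⟩ := tst h.toM d2 dy i2 iy ⟨c, hc, a⟩ (n := mu (evm (kg k) (dw 16 t.2.1).reverse) (mu n (evm (kg k) (dw 16 (W2.getD k 0))))) (fun v hv => by
      rw [ap_mu _ _ hv, ap_mu _ _ hv, e _ (ap_lt ..)]) (by
      rw [ap_mu _ _ (by decide), ap_mu _ _ (by decide), s1, ← e 2 (by decide), ← s2, ap_evm GW _ (by decide), c2]; rfl)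
    rw [nLt u2, nLt (T n e).2, ← ap_bt _ (k := 2) (by decide), ← ap_bt _ (k := 4) (by decide), ← ap_bt _ (k := 6) (by decide),
      u1 _ (by decide), u1 _ (by decide), u1 _ (by decide)] at s
    obtain ⟨p, hp, s⟩ := List.any_eq_true.1 s
    exact mem_WG _ hc a ⟨_, fun v hv => by rw [e v hv, ← Nat.eq_of_beq_eq_true s, ← s0 p hp, ap_evm _ _ hv]⟩
  have A2 : ∀ c, Commute z c → (ρ c (n8 1)).1 = 1 → c ∈ WG h.toM (X9.ag k) := fun c hc c1 => by
    have := A256.of r (ρ c (n8 2)).2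
    have kb : bN (ρ c (n8 2)).1 1 = true := by
      rw [← c1, ← Bool.not_eq_false, ← b0, h.rb hc]; decide
    simp only [h.ox hk h0 hc, show X9.ox k (n8 2).1 = true from o2, kb, Bool.not_true, Bool.false_or, List.any_eq_true,
      Bool.and_eq_true, beq_iff_eq] at this
    obtain ⟨p, -, ⟨p1, p2⟩, t, ht, p3⟩ := this
    obtain ⟨w, hw, e⟩ := kw (dw 16 p.2)
    exact (Subgroup.mul_mem_cancel_left _ hw).1 (A1 _ (hw.1.mul_right hc) (by rw [h.rmul hw.1 hc, e, c1, p2]) t ht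
      (by rw [h.rmul hw.1 hc, e, p3]))
  obtain ⟨W, e⟩ := wd hk (ρ c (n8 1)).2 ((h.ox hk h0 hc _).trans o1) fun e => (h0 e).elim
  obtain ⟨w, hw, e'⟩ := kw W.reverse
  exact (Subgroup.mul_mem_cancel_left _ hw).1 (A2 _ (hw.1.mul_right hc) (by
    rw [h.rmul hw.1 hc, e', ← e, ev_rev (inv_kg k) W (by decide)]))

theorem no0 [IsSimpleGroup G] (h : Sy 0 Q z π ρ) : False := by
  let S : AddSubgroup N8 :=
    { carrier := {v | E0 v.1 = true}
      zero_mem' := rfl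
      add_mem' := E0_xor
      neg_mem' := id }
  have P : ∀ c, Commute z c → (∀ v ∈ S, ρ c v ∈ S) ∨ ∀ v ∈ S, (ρ c v).1 &&& 85 = 0 := fun c hc => by
    have o : ∀ v ∈ S, ρ c v = 0 ∨ ox 0 (ρ c v).1 = true := fun v hv => or_iff_not_imp_left.2 fun n => by
      obtain ⟨g, p, e⟩ := h.toCx.pt (by decide) v.2 ((by decide +kernel : ∀ v : N8, E0 v.1 = true → v ≠ 0 → ox 0 v.1 = true) v hv
        fun e => n (by rw [e, map_zero])) fun _ => hv
      rw [← show π _ = v from Fin.ext e, ← (p.J h.toM hc).2]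
      exact h.pts _ (p.J h.toM hc).1
    by_contra! k
    obtain ⟨⟨u, hu, a⟩, v, hv, a'⟩ := k
    have := o _ (S.add_mem hu hv)
    rw [map_add] at this
    exact a ((by decide +kernel : ∀ u : N8, u = 0 ∨ ox 0 u.1 = true → ∀ v : N8, v = 0 ∨ ox 0 v.1 = true →
      u + v = 0 ∨ ox 0 (u + v).1 = true → v.1 &&& 85 ≠ 0 → E0 u.1 = true) _ (o u hu) _ (o v hv) this a')
  let K : Subgroup G :=
    let T : Submonoid G :=
      { carrier := {c | Commute z c ∧ ∀ v ∈ S, ρ c v ∈ S}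
        one_mem' := ⟨.one_right z, fun v hv => by rwa [h.r1]⟩
        mul_mem' := fun a c => ⟨a.1.mul_right c.1, fun v hv => h.rmul a.1 c.1 v ▸ a.2 _ (c.2 v hv)⟩ }
    { T with inv_mem' := fun hx => (Submonoid.powers_le (P := T)).2 hx (mem_powers_iff_mem_zpowers.2 (inv_mem (mem_zpowers _))) }
  have P' : ∀ c, Commute z c → c ∉ K → ∀ v ∈ S, (ρ c v).1 &&& 85 = 0 := fun c hc n => (P c hc).resolve_left fun k => n ⟨hc, k⟩
  have f0 : ∀ u : N8, u.1 &&& 85 = 0 → ∀ v : N8, v.1 &&& 85 = 0 → b u v = 0 := by decide +kernel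
  have pe : ∀ v : N8, (∀ e ∈ S, b v e = 0) → v ∈ S := fun v k => (show ∀ v : N8, b v (n8 1) = 0 → b v (n8 4) = 0 →
    b v (n8 16) = 0 → b v (n8 64) = 0 → E0 v.1 = true by decide +kernel) v (k _ rfl) (k _ rfl) (k _ rfl) (k _ rfl)
  refine (h.irr S fun c hc => (idx2' (K := K) h.toM (fun x y hx hy nx ny => ⟨hx.mul_right hy, fun v hv => pe _ fun e he => ?_⟩)
    (fun g p y hy => by_contra fun n => ?_) hc).2).elim (fun j => absurd (AddSubgroup.mem_bot.1 (j.le (show n8 1 ∈ S from rfl))) (by decide))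
    fun j => absurd (show E0 2 = true from j.ge (AddSubgroup.mem_top (n8 2))) (by decide)
  · rw [h.rmul hx hy, ← h.rinv' hx e, h.rb hx]
    exact f0 _ (P' y hy ny v hv) _ (P' _ hx.inv_right (mt K.inv_mem_iff.1 nx) e he)
  have N := nw h.toM p
  have f := P' y (cy hy) n
  have := (by decide +kernel : ∀ v : N8, ox 0 v.1 = true → E0 v.1 = true ∨ v.1 &&& 85 = 0) _ (h.pts g p)
  have m : π (g * z * g⁻¹) ∈ S := this.elim id fun k => pe _ fun e he => by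
    rw [← h.rb (cy hy), N.yx hy]; exact f0 _ k _ (f e he)
  exact N.x0 ((by decide +kernel : ∀ v : N8, E0 v.1 = true → v.1 &&& 85 = 0 → v = 0) _ m (N.yx hy ▸ f _ m))
end

theorem aut : AUT.{u} := fun {G _ _ _ Q z π ρ k} hk h => by
  have h0 : k ≠ 0 := by rintro rfl; exact no0 h
  obtain ⟨ss, n⟩ := (a4 k hk).resolve_left h0
  replace n : ∀ m ∈ bg k, BW (bg k) (ap (mu (os k) (mu m (os k)))) := fun m hm =>
    let ⟨w, _, e⟩ := List.any_eq_true.1 (List.all_eq_true.1 n m hm); ⟨_, fun v hv => by rw [beq_iff_eq.1 e, ap_evm _ _ hv]⟩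
  refine ⟨h0, h, fun c hc => ?_⟩
  obtain ⟨-, W, e⟩ := idx2' (K := WG h.toM (bg k)) h.toM (fun x y hx hy nx ny => ⟨hx.mul_right hy,
    (((BW.nf ss n (h.ag hk h0 hx).2).resolve_left fun j => nx ⟨hx, j⟩).comp (BW.cj ss n
      ((BW.nf ss n (h.ag hk h0 hy).2).resolve_left fun j => ny ⟨hy, j⟩))).congr fun v hv => by
      rw [← ap_mu _ _ hv, ← ap_mu _ _ (ρ y _).2, ss, ap_ID hv, ap_ID (ρ y _).2, n8v, h.rmul hx hy]⟩)
    (fun g p y hy => let ⟨W, e⟩ := h.loc hk h0 p hy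
      mem_WG _ (cy hy) e (BW.mono ⟨W, fun _ _ => rfl⟩ fun m hm => by simp [bg, hm])) hc
  exact ⟨W, fun v => by simp only [← e _ v.2, n8v]⟩

end H14.X9
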